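import Cfsg.Prelude.Def_Solvable
import Cfsg.Agent.Lib.Char.Generalized
import Cfsg.Agent.Lib.Char.Orthogonality
import Cfsg.Agent.Lib.Char.Linear
import Mathlib.GroupTheory.GroupAction.Quotient
import Mathlib.GroupTheory.Complement

/-!
# Frobenius groups: kernel theorem and counting
-/

set_option autoImplicit false
set_option linter.style.haveILetI false

namespace Cfsg.Agent.Struct.Frobenius

open Subgroup Cfsg
open scoped Pointwise ComplexConjugate

universe u

variable {G : Type u} [Group G] {H : Subgroup G}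

theorem mem_conj_smul {g x : G} {K : Subgroup G} :
    x ∈ MulAut.conj g • K ↔ g⁻¹ * x * g ∈ K := by
  rw [mem_pointwise_smul_iff_inv_smul_mem]
  simp [MulAut.smul_def, mul_assoc]

/-- In a Frobenius complement, conjugating a nonidentity element into `H` needs an element of `H`. -/
theorem mem_of_conj_mem (hH : IsFrobeniusComplement H) {x g : G} (hx : x ∈ H) (hx1 : x ≠ 1)
    (hg : g⁻¹ * x * g ∈ H) : g ∈ H := by
  by_contra hgH
  have h := hH.2.2 g hgH
  have : x ∈ H ⊓ MulAut.conj g • H := Subgroup.mem_inf.2 ⟨hx, mem_conj_smul.2 hg⟩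
  rw [h] at this
  exact hx1 (mem_bot.1 this)

theorem mem_of_conj_mem' (hH : IsFrobeniusComplement H) {x g : G} (hx : x ∈ H) (hx1 : x ≠ 1)
    (hg : g * x * g⁻¹ ∈ H) : g ∈ H :=
  inv_mem_iff.1 (mem_of_conj_mem hH hx hx1 (g := g⁻¹) (by simpa using hg))

theorem centralizer_le (hH : IsFrobeniusComplement H) {x g : G} (hx : x ∈ H) (hx1 : x ≠ 1)
    (hg : g * x = x * g) : g ∈ H :=
  mem_of_conj_mem hH hx hx1 (g := g) (by rw [mul_assoc, ← hg]; simpa using hx)

theorem one_mem_kernel : (1 : G) ∈ frobeniusKernel H := Or.inl rfl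

theorem notMem_kernel {x : G} : x ∉ frobeniusKernel H ↔ x ≠ 1 ∧ ∃ g : G, g⁻¹ * x * g ∈ H := by
  simp [frobeniusKernel, mem_conj_smul]

theorem card_kernel [Finite G] (hH : IsFrobeniusComplement H) :
    Nat.card (frobeniusKernel H) = H.index := by
  classical
  haveI := Fintype.ofFinite G
  let f : (G ⧸ H) × {h : H // h ≠ 1} → {x : G // x ∉ frobeniusKernel H} := fun p =>
    ⟨p.1.out * (p.2.1 : G) * p.1.out⁻¹, notMem_kernel.2 ⟨fun e => p.2.2 (Subtype.ext
      (conj_eq_one_iff.1 e)), p.1.out, by simp [mul_assoc]⟩⟩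
  have hf : Function.Bijective f := by
    constructor
    · rintro ⟨q, h, hh⟩ ⟨q', h', hh'⟩ e
      have e : q.out * (h : G) * q.out⁻¹ = q'.out * (h' : G) * q'.out⁻¹ := congrArg Subtype.val e
      have e' : (q'.out⁻¹ * q.out) * (h : G) * (q'.out⁻¹ * q.out)⁻¹ = h' := by
        rw [show (q'.out⁻¹ * q.out) * (h : G) * (q'.out⁻¹ * q.out)⁻¹ =
          q'.out⁻¹ * (q.out * (h : G) * q.out⁻¹) * q'.out by group, e]; group
      have hm := mem_of_conj_mem' hH h.2 (fun c => hh (Subtype.ext c)) (e' ▸ h'.2)
      have hq : q = q' := by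
        rw [← q.out_eq', ← q'.out_eq']
        exact (QuotientGroup.eq.2 hm).symm
      subst hq
      have : (h : G) = h' := by simpa using e'
      simp [Subtype.ext this]
    · rintro ⟨x, hx⟩
      obtain ⟨hx1, g, hg⟩ := notMem_kernel.1 hx
      obtain ⟨h, hh⟩ := QuotientGroup.mk_out_eq_mul H g
      refine ⟨⟨(g : G ⧸ H), ⟨(h : G)⁻¹ * (g⁻¹ * x * g) * h,
        mul_mem (mul_mem (inv_mem h.2) hg) h.2⟩, fun e => hx1 ?_⟩, ?_⟩
      · have e' : (h : G)⁻¹ * (g⁻¹ * x * g) * h = 1 := congrArg Subtype.val e
        calc x = g * h * ((h : G)⁻¹ * (g⁻¹ * x * g) * h) * (g * h)⁻¹ := by group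
          _ = 1 := by rw [e']; group
      · refine Subtype.ext ?_
        show ((g : G ⧸ H)).out * ((h : G)⁻¹ * (g⁻¹ * x * g) * h) * ((g : G ⧸ H)).out⁻¹ = x
        rw [hh]; group
  have h1 := Nat.card_eq_of_bijective f hf
  have h2 : Nat.card (frobeniusKernel H) + Nat.card {x : G // x ∉ frobeniusKernel H} = Nat.card G := by
    rw [← Nat.card_sum]
    exact Nat.card_congr (Equiv.sumCompl (fun x : G => x ∈ frobeniusKernel H))
  have h3 : Nat.card {h : H // h ≠ 1} + 1 = Nat.card H := by
    rw [show (1 : ℕ) = Nat.card {h : H // h = 1} by simp, add_comm, ← Nat.card_sum]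
    exact Nat.card_congr (Equiv.sumCompl (fun h : H => h = 1))
  rw [← h1, Nat.card_prod, ← H.index_mul_card, ← Subgroup.index_eq_card, ← h3, mul_add,
    mul_one] at h2
  omega

theorem card_dvd_index_sub_one [Finite G] (hH : IsFrobeniusComplement H) :
    Nat.card H ∣ H.index - 1 := by
  classical
  haveI := Fintype.ofFinite G
  letI : MulAction H {q : G ⧸ H // q ≠ ((1 : G) : G ⧸ H)} :=
    { smul := fun h q => ⟨(h : G) • q.1, fun e => q.2 (by
        have := congrArg ((h : G)⁻¹ • ·) e
        simp only [inv_smul_smul] at this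
        rw [this, MulAction.Quotient.smul_coe]
        exact QuotientGroup.eq.2 (by simp))⟩
      one_smul := fun q => Subtype.ext (one_smul G q.1)
      mul_smul := fun a b q => Subtype.ext (mul_smul (a : G) (b : G) q.1) }
  have hst : ∀ q : {q : G ⧸ H // q ≠ ((1 : G) : G ⧸ H)}, MulAction.stabilizer H q = ⊥ := by
    rintro ⟨q, hq⟩
    rw [eq_bot_iff]
    intro h hh
    have e : (h : G) • q = q := by
      have := MulAction.mem_stabilizer_iff.1 hh
      exact congrArg Subtype.val this
    obtain ⟨g, rfl⟩ := QuotientGroup.mk_surjective q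
    rw [MulAction.Quotient.smul_coe, eq_comm, QuotientGroup.eq, smul_eq_mul, ← mul_assoc] at e
    rw [mem_bot]
    by_contra hh1
    have := mem_of_conj_mem hH h.2 (fun c => hh1 (Subtype.ext c)) e
    exact hq (QuotientGroup.eq.2 (by simpa using inv_mem this))
  have key := Nat.card_congr (MulAction.selfEquivSigmaOrbitsQuotientStabilizer H
    {q : G ⧸ H // q ≠ ((1 : G) : G ⧸ H)})
  rw [Nat.card_sigma] at key
  have h3 : Nat.card {q : G ⧸ H // q ≠ ((1 : G) : G ⧸ H)} + 1 = Nat.card (G ⧸ H) := by
    rw [show (1 : ℕ) = Nat.card {q : G ⧸ H // q = ((1 : G) : G ⧸ H)} by simp, add_comm,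
      ← Nat.card_sum]
    exact Nat.card_congr (Equiv.sumCompl _)
  rw [← Subgroup.index_eq_card] at h3
  rw [← h3, Nat.add_sub_cancel, key]
  refine Finset.dvd_sum fun q _ => ?_
  rw [← Subgroup.index_eq_card, hst, Subgroup.index_bot]

theorem coprime_card_index [Finite G] (hH : IsFrobeniusComplement H) :
    (Nat.card H).Coprime H.index := by
  refine Nat.Coprime.coprime_dvd_left (card_dvd_index_sub_one hH) ?_
  have : 0 < H.index := Nat.pos_of_ne_zero Subgroup.index_ne_zero_of_finite
  obtain ⟨k, hk⟩ : ∃ k, H.index = k + 1 := ⟨H.index - 1, by omega⟩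
  rw [hk, Nat.add_sub_cancel]
  simp

theorem indFun_apply_of_mem [Fintype G] (hH : IsFrobeniusComplement H) (f : H → ℂ)
    (hf : IsClassFunction H f) {h : G} (hh : h ∈ H) (h1 : h ≠ 1) :
    indFun H f h = f ⟨h, hh⟩ := by
  classical
  have key : ∀ x : G, extendByZero H f (x⁻¹ * h * x) = if x ∈ H then f ⟨h, hh⟩ else 0 := by
    intro x
    split
    · next hx =>
      rw [Char.extendByZero_of_mem _ _ (mul_mem (mul_mem (inv_mem hx) hh) hx)]
      have := hf ⟨h, hh⟩ ⟨x⁻¹, inv_mem hx⟩
      convert this using 2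
      exact Subtype.ext (by simp)
    · next hx => exact Char.extendByZero_of_notMem _ _ fun hm => hx (mem_of_conj_mem hH hh h1 hm)
  rw [Char.indFun_apply, Finset.sum_congr rfl fun x _ => key x, Finset.sum_ite, Finset.sum_const,
    Finset.sum_const_zero, add_zero, nsmul_eq_mul,
    show (Finset.univ.filter (· ∈ H)).card = Nat.card H by
      rw [Nat.card_eq_fintype_card, Fintype.card_subtype],
    ← mul_assoc, inv_mul_cancel₀ (Nat.cast_ne_zero.2 Nat.card_pos.ne'), one_mul]

theorem indFun_apply_kernel [Fintype G] (f : H → ℂ) (hf1 : f 1 = 0) {x : G}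
    (hx : x ∈ frobeniusKernel H) : indFun H f x = 0 := by
  rcases hx with rfl | hx
  · rw [Char.indFun_one_apply, hf1, mul_zero]
  · rw [Char.indFun_apply, Finset.sum_eq_zero, mul_zero]
    intro g _
    exact Char.extendByZero_of_notMem _ _ fun hm => hx g (mem_conj_smul.2 hm)

/-- An irreducible character of a Frobenius complement extends to one of the whole group that is
trivial on the kernel set. -/
theorem exists_extension [Finite G] (hH : IsFrobeniusComplement H) {φ : H → ℂ}
    (hφ : IsIrrCharacter H φ) : ∃ ψ : G → ℂ, IsIrrCharacter G ψ ∧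
      (∀ h : H, ψ h = φ h) ∧ ∀ x ∈ frobeniusKernel H, ψ x = ψ 1 := by
  classical
  haveI := Fintype.ofFinite G
  haveI := Fintype.ofFinite H
  obtain ⟨d, hd, hd1⟩ := Char.IsIrrCharacter.degree_pos hφ
  let f : H → ℂ := φ - (d : ℂ) • (1 : H → ℂ)
  have hf1 : f 1 = 0 := by simp [f, hd1]
  have hfg : IsGeneralizedCharacter H f :=
    Char.isGeneralizedCharacter_sub (Char.IsIrrCharacter.isGeneralized hφ)
      (Char.IsCharacter.isGeneralized
        (Char.isCharacter_natCast_smul Char.isCharacter_one d))
  have hfc : IsClassFunction H f := Char.IsGeneralizedCharacter.isClassFunction hfg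
  let ψ : G → ℂ := indFun H f + (d : ℂ) • (1 : G → ℂ)
  have hψg : IsGeneralizedCharacter G ψ :=
    Char.isGeneralizedCharacter_add (Char.isGeneralizedCharacter_indFun H hfg)
      (Char.IsCharacter.isGeneralized
        (Char.isCharacter_natCast_smul Char.isCharacter_one d))
  have hres : (fun h : H => indFun H f h) = f := by
    funext h
    by_cases h1 : h = 1
    · subst h1
      show indFun H f ((1 : H) : G) = f 1
      rw [OneMemClass.coe_one, indFun_apply_kernel f hf1 one_mem_kernel, hf1]
    · exact indFun_apply_of_mem hH f hfc h.2 fun c => h1 (Subtype.ext c)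
  have hψH : ∀ h : H, ψ h = φ h := fun h => by
    have := congrFun hres h
    simp only [ψ, Pi.add_apply, Pi.smul_apply, Pi.one_apply, this]
    simp [f]
  have hk : ∀ x ∈ frobeniusKernel H, ψ x = d := fun x hx => by
    simp [ψ, indFun_apply_kernel f hf1 hx]
  have hψ1 : ψ 1 = d := hk 1 one_mem_kernel
  have hcf : IsClassFunction G (indFun H f) := Char.isClassFunction_indFun H f
  have h1H : classInner (1 : H → ℂ) (1 : H → ℂ) = 1 :=
    Char.IsIrrCharacter.classInner_self Char.isIrrCharacter_one
  have h1G : classInner (1 : G → ℂ) (1 : G → ℂ) = 1 :=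
    Char.IsIrrCharacter.classInner_self Char.isIrrCharacter_one
  have e1 : classInner (indFun H f) (indFun H f) = classInner f f := by
    rw [Char.classInner_indFun H f hcf, hres]
  have e2 : classInner (indFun H f) (1 : G → ℂ) = classInner f (1 : H → ℂ) :=
    Char.classInner_indFun H f (fun _ _ => rfl)
  have e3 : classInner (1 : G → ℂ) (indFun H f) = classInner (1 : H → ℂ) f := by
    rw [← Char.classInner_conj_symm, e2, Char.classInner_conj_symm]
  have hnorm : classInner ψ ψ = 1 := by
    have hφ' : φ = f + (d : ℂ) • (1 : H → ℂ) := by simp [f]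
    have hn := Char.IsIrrCharacter.classInner_self hφ
    rw [hφ'] at hn
    simp only [Char.classInner_add_left, Char.classInner_add_right, Char.classInner_smul_left,
      Char.classInner_smul_right, h1H] at hn
    simp only [ψ, Char.classInner_add_left, Char.classInner_add_right, Char.classInner_smul_left,
      Char.classInner_smul_right, h1G, e1, e2, e3]
    exact hn
  rcases Char.IsGeneralizedCharacter.irr_or_neg hψg hnorm with h | h
  · exact ⟨ψ, h, hψH, fun x hx => (hk x hx).trans hψ1.symm⟩
  · exfalso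
    obtain ⟨m, hm, hm1⟩ := Char.IsIrrCharacter.degree_pos h
    rw [Pi.neg_apply, hψ1] at hm1
    have : ((d + m : ℕ) : ℂ) = 0 := by push_cast; rw [← hm1]; ring
    have := Nat.cast_eq_zero.1 this
    omega

/-- **Frobenius' theorem**: the kernel is a normal complement. -/
theorem exists_kernel [Finite G] (hH : IsFrobeniusComplement H) :
    ∃ N : Subgroup G, (N : Set G) = frobeniusKernel H ∧ N.Normal ∧ IsComplement' N H := by
  classical
  choose ψ hψ hψH hψK using fun φ : IrrCharacter H => exists_extension hH φ.2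
  let N : Subgroup G :=
    { carrier := {x | ∀ φ, ψ φ x = ψ φ 1}
      one_mem' := fun _ => rfl
      mul_mem' := fun {a b} ha hb φ => by
        rw [(Char.IsCharacter.apply_mul_of_eq_one (Char.IsIrrCharacter.isCharacter (hψ φ))
          (ha φ) b).1]
        exact hb φ
      inv_mem' := fun {a} ha φ => by
        have := (Char.IsCharacter.apply_mul_of_eq_one (Char.IsIrrCharacter.isCharacter (hψ φ))
          (ha φ) a⁻¹).1
        rw [mul_inv_cancel] at this
        exact this.symm }
  have hcl := fun φ => Char.IsCharacter.isClassFunction (Char.IsIrrCharacter.isCharacter (hψ φ))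
  have hNn : N.Normal := ⟨fun x hx g φ => by rw [hcl φ x g]; exact hx φ⟩
  have hNH : ∀ x ∈ N, x ∈ H → x = 1 := by
    intro x hx hxH
    have : IsConj (⟨x, hxH⟩ : H) 1 := (Char.isConj_iff_irr _ _).2 fun φ => by
      rw [← hψH φ, ← hψH φ]
      exact hx φ
    exact congrArg Subtype.val (isConj_one_left.1 this)
  have hset : (N : Set G) = frobeniusKernel H := by
    refine Set.Subset.antisymm (fun x hx => ?_) fun x hx φ => hψK φ x hx
    by_contra hxk
    obtain ⟨hx1, g, hg⟩ := notMem_kernel.1 hxk
    have := hNH _ (by simpa using hNn.conj_mem x hx g⁻¹) hg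
    exact hx1 (by
      calc x = g * (g⁻¹ * x * g) * g⁻¹ := by group
        _ = 1 := by rw [this]; group)
  refine ⟨N, hset, hNn, isComplement'_of_card_mul_and_disjoint ?_ ?_⟩
  · rw [show Nat.card N = H.index by rw [← card_kernel hH, ← hset]; rfl, index_mul_card]
  · exact Subgroup.disjoint_def.2 fun {x} hx hx' => hNH x hx hx'

/-- The complement acts fixed point freely on the kernel. -/
theorem fpf_of_complement {N : Subgroup G} (hH : IsFrobeniusComplement H)
    (hd : Disjoint N H) {h x : G} (hh : h ∈ H) (h1 : h ≠ 1) (hx : x ∈ N)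
    (hc : x * h = h * x) : x = 1 :=
  Subgroup.disjoint_def.1 hd hx (centralizer_le hH hh h1 hc)

end Cfsg.Agent.Struct.Frobenius
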