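import Cfsg.Agent.Lib.Solv.AbelianAction
import Cfsg.Agent.Lib.Solv.StructMisc

/-!
Coprime action with `[P,A] = P`: fixed points lie in the derived group; Frattini facts for `p`-groups.
-/

set_option autoImplicit false
set_option linter.style.haveILetI false

namespace Cfsg.Agent.Struct.CoprimeMinimal

open Subgroup Cfsg.Agent.Solv
open scoped commutatorElement

theorem pow_mem_frattini {Q : Type*} [Group Q] [Finite Q] {p : ℕ} [Fact p.Prime]
    (hQ : IsPGroup p Q) (x : Q) : x ^ p ∈ frattini Q := by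
  rw [frattini, Order.radical, mem_iInf]
  intro M
  rw [mem_iInf]
  intro hM
  haveI := hQ.isNilpotent
  haveI := coatom_normal_of_isNilpotent hQ.isNilpotent M hM
  obtain ⟨e, he⟩ := hQ.index M
  have hq := prime_index_of_coatom_normal M hM
  haveI : Group.IsSolvable Q := inferInstance
  rw [he] at hq
  rw [Nat.Prime.eq_one_of_pow hq, pow_one] at he
  rw [← he]
  exact pow_index_mem M x

theorem frattini_ne_top {Q : Type*} [Group Q] [Finite Q] [Nontrivial Q] : frattini Q ≠ ⊤ := by
  intro h
  exact bot_ne_top (frattini_nongenerating (K := (⊥ : Subgroup Q)) (by rw [h, sup_top_eq]))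

variable {X : Type*} [Group X] [Finite X]

/-- If `[P,A] = P` coprimely, then fixed points of `A` in `P` lie in every `N ⊇ P'`. -/
theorem fixed_mem (A P : Subgroup X) (hAP : A ≤ normalizer (P : Set X))
    (hcop : (Nat.card A).Coprime (Nat.card P)) (hPA : ⁅P, A⁆ = P) (N : Subgroup P) [N.Normal]
    (hN : commutator P ≤ N) (c : P) (hc : ∀ a ∈ A, a * (c : X) = c * a) : c ∈ N := by
  classical
  haveI := Fintype.ofFinite A
  haveI : IsMulCommutative (P ⧸ N) :=
    (Subgroup.Normal.quotient_commutative_iff_commutator_le).2 hN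
  letI : CommGroup (P ⧸ N) := { (inferInstance : Group (P ⧸ N)) with mul_comm := mul_comm' }
  let φ := conjHom A P hAP
  let θ : P →* P ⧸ N :=
    { toFun := fun x => ∏ b : A, (QuotientGroup.mk' N (φ b x))
      map_one' := by simp
      map_mul' := fun x y => by simp only [map_mul, Finset.prod_mul_distrib] }
  have hle : ⁅P, A⁆ ≤ θ.ker.map P.subtype := commutator_le.mpr fun x hx a ha => by
    refine ⟨⟨x, hx⟩ * (φ ⟨a, ha⟩ ⟨x, hx⟩)⁻¹, ?_, ?_⟩
    · rw [SetLike.mem_coe, MonoidHom.mem_ker, map_mul, map_inv, mul_inv_eq_one]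
      show ∏ b : A, _ = ∏ b : A, _
      refine Fintype.prod_equiv (Equiv.mulRight (⟨a, ha⟩ : A)⁻¹) _ _ fun b => ?_
      simp [← MulAut.mul_apply, ← map_mul]
    · change x * (a * x * a⁻¹)⁻¹ = ⁅x, a⁆
      rw [commutatorElement_def]; group
  rw [hPA] at hle
  obtain ⟨c', hc', hcc⟩ := hle c.2
  rw [Subtype.ext hcc] at hc'
  have h1 : QuotientGroup.mk' N c ^ Fintype.card A = 1 := by
    rw [← (hc' : θ c = 1)]
    show _ = ∏ b : A, _
    rw [Finset.prod_congr rfl fun b _ => congrArg (QuotientGroup.mk' N) (show φ b c = c from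
      Subtype.ext (by rw [conjHom_apply, hc b b.2, mul_inv_cancel_right])),
      Finset.prod_const, Finset.card_univ]
  rw [← QuotientGroup.eq_one_iff]
  refine orderOf_eq_one_iff.1 (Nat.eq_one_of_dvd_coprimes hcop
    (Nat.card_eq_fintype_card (α := A) ▸ orderOf_dvd_of_pow_eq_one h1) ?_)
  exact (orderOf_map_dvd (QuotientGroup.mk' N) c).trans (orderOf_dvd_natCard c)

/-- The normalizer of `P` normalizes every characteristic subgroup of `P`. -/
theorem le_normalizer_map_char (B P : Subgroup X) (hBP : B ≤ normalizer (P : Set X))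
    (K : Subgroup P) [hK : K.Characteristic] :
    B ≤ normalizer ((K.map P.subtype : Subgroup X) : Set X) := by
  refine le_normalizer_of_conj_mem fun b hb x hx => ?_
  obtain ⟨y, hy, rfl⟩ := hx
  exact ⟨conjHom B P hBP ⟨b, hb⟩ y,
    (Subgroup.characteristic_iff_map_eq.1 hK (conjHom B P hBP ⟨b, hb⟩)).le (mem_map_of_mem _ hy), rfl⟩

end Cfsg.Agent.Struct.CoprimeMinimal
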