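import Mathlib.GroupTheory.PGroup
import Mathlib.GroupTheory.Sylow
import Mathlib.GroupTheory.SpecificGroups.Cyclic
import Mathlib.Algebra.Group.Subgroup.Basic
import Mathlib.Algebra.Group.End

/-!
# Fixed point free action on an abelian group
-/

set_option autoImplicit false
set_option linter.style.haveILetI false

namespace Cfsg.Agent.Struct.Frobenius

open Subgroup

variable {A : Type*} [Group A] [Finite A] {V : Type*} [CommGroup V] [Finite V] [Nontrivial V]

omit [Nontrivial V] [Finite V] [Finite A] in
theorem prod_zpowers_eq_one {φ : A →* MulAut V}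
    (hfpf : ∀ a : A, a ≠ 1 → ∀ v : V, φ a v = v → v = 1) {a : A} (ha : a ≠ 1)
    [Fintype (zpowers a)] (v : V) : ∏ x : zpowers a, φ (x : A) v = 1 := by
  refine hfpf a ha _ ?_
  rw [map_prod]
  refine Fintype.prod_equiv (Equiv.mulLeft (⟨a, mem_zpowers a⟩ : zpowers a)) _ _ fun x => ?_
  simp [map_mul]

/-- In a fixed point free action on an abelian group there is no noncyclic subgroup of order `p q`. -/
theorem no_prime_pair {φ : A →* MulAut V}
    (hfpf : ∀ a : A, a ≠ 1 → ∀ v : V, φ a v = v → v = 1) {p q : ℕ} [hp : Fact p.Prime]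
    [hq : Fact q.Prime] {a b : A} (ha : orderOf a = q) (hb : b ∉ zpowers a)
    (hnorm : b * a * b⁻¹ ∈ zpowers a) (hord : ∀ x ∈ zpowers a, (x * b) ^ p = 1) : False := by
  classical
  haveI := Fintype.ofFinite A
  haveI := Fintype.ofFinite (zpowers a)
  have hb' : ∀ x ∈ zpowers a, b * x * b⁻¹ ∈ zpowers a := by
    rintro x ⟨k, rfl⟩
    have := zpow_mem hnorm k
    rwa [conj_zpow] at this
  have hbj : ∀ (j : ℕ), ∀ x ∈ zpowers a, b ^ j * x * (b ^ j)⁻¹ ∈ zpowers a := by
    intro j
    induction j with
    | zero => intro x hx; simpa using hx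
    | succ j ih =>
      intro x hx
      rw [show b ^ (j + 1) * x * (b ^ (j + 1))⁻¹ = b ^ j * (b * x * b⁻¹) * (b ^ j)⁻¹ by
        rw [pow_succ]; group]
      exact ih _ (hb' x hx)
  have hcos : ∀ (j : ℕ), ∀ x ∈ zpowers a, (x * b) ^ j * (b ^ j)⁻¹ ∈ zpowers a := by
    intro j
    induction j with
    | zero => intro x _; simp
    | succ j ih =>
      intro x hx
      have e : (x * b) ^ (j + 1) * (b ^ (j + 1))⁻¹ =
          (x * b) ^ j * (b ^ j)⁻¹ * (b ^ j * x * (b ^ j)⁻¹) := by
        rw [pow_succ, pow_succ]; group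
      rw [e]
      exact mul_mem (ih x hx) (hbj j x hx)
  have hqv : ∀ v : V, v ^ q = 1 := by
    intro v
    have hrow : ∀ x : zpowers a, ∏ j ∈ Finset.range p, φ (((x : A) * b) ^ j) v = 1 := by
      intro x
      have hx1 : (x : A) * b ≠ 1 := fun e => hb (by rw [eq_inv_of_mul_eq_one_right e]; exact inv_mem x.2)
      have hxo : orderOf ((x : A) * b) = p := orderOf_eq_prime (hord x x.2) hx1
      refine hfpf _ hx1 _ ?_
      rw [map_prod]
      have step : ∀ j : ℕ, φ ((x : A) * b) (φ (((x : A) * b) ^ j) v) = φ (((x : A) * b) ^ (j + 1)) v := by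
        intro j; rw [pow_succ', map_mul φ (_ * b), MulAut.mul_apply]
      simp only [step]
      obtain ⟨n, hn⟩ := Nat.exists_eq_succ_of_ne_zero hp.out.ne_zero
      rw [hn, Finset.prod_range_succ, Finset.prod_range_succ' (fun j => φ (((x : A) * b) ^ j) v)]
      congr 1
      rw [← Nat.succ_eq_add_one, ← hn, hord x x.2, pow_zero]
    have hcol : ∀ j ∈ Finset.range p, j ≠ 0 → ∏ x : zpowers a, φ (((x : A) * b) ^ j) v = 1 := by
      intro j hj hj0
      let f : zpowers a → zpowers a := fun x => ⟨_, hcos j x x.2⟩
      have hf : Function.Bijective f := by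
        refine Finite.injective_iff_bijective.1 fun x y e => ?_
        have e' : ((x : A) * b) ^ j = ((y : A) * b) ^ j :=
          mul_right_cancel (congrArg Subtype.val e)
        have hcop : Nat.Coprime j p := Nat.Coprime.symm ((Nat.Prime.coprime_iff_not_dvd hp.out).2
          fun hd => hj0 (Nat.eq_zero_of_dvd_of_lt hd (Finset.mem_range.1 hj)))
        have hz : ∀ z : A, z ^ p = 1 → (z ^ j) ^ (Nat.gcdA j p) = z := by
          intro z hz
          have e1 : (1 : ℤ) = (j : ℤ) * Nat.gcdA j p + (p : ℤ) * Nat.gcdB j p := by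
            rw [← Nat.gcd_eq_gcd_ab, hcop]; rfl
          calc (z ^ j) ^ (Nat.gcdA j p) = z ^ ((j : ℤ) * Nat.gcdA j p) := by
                rw [zpow_mul, zpow_natCast]
            _ = z ^ ((j : ℤ) * Nat.gcdA j p + (p : ℤ) * Nat.gcdB j p) := by
                rw [zpow_add, zpow_mul z (p : ℤ), zpow_natCast, hz, one_zpow, mul_one]
            _ = z := by rw [← e1, zpow_one]
        have := congrArg (· ^ (Nat.gcdA j p)) e'
        simp only [hz _ (hord x x.2), hz _ (hord y y.2)] at this
        exact Subtype.ext (mul_right_cancel this)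
      calc ∏ x : zpowers a, φ (((x : A) * b) ^ j) v
          = ∏ x : zpowers a, φ ((f x : A)) (φ (b ^ j) v) := Finset.prod_congr rfl fun x _ => by
            rw [← MulAut.mul_apply, ← map_mul]
            simp [f]
        _ = ∏ x : zpowers a, φ (x : A) (φ (b ^ j) v) :=
            hf.prod_comp (fun x : zpowers a => φ (x : A) (φ (b ^ j) v))
        _ = 1 := prod_zpowers_eq_one hfpf (fun e => hq.out.ne_one (by rw [← ha, e, orderOf_one])) _
    have := Finset.prod_eq_one (s := (Finset.univ : Finset (zpowers a))) fun x _ => hrow x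
    rw [Finset.prod_comm, Finset.prod_eq_single 0 (fun j hj h0 => hcol j hj h0)
      (fun h => absurd (Finset.mem_range.2 hp.out.pos) h)] at this
    simpa [Finset.card_univ, ← Nat.card_eq_fintype_card, Nat.card_zpowers, ha] using this
  letI : MulAction (zpowers a) V := MulAction.compHom V (φ.comp (zpowers a).subtype)
  have hPG : IsPGroup q (zpowers a) := IsPGroup.of_card (n := 1) (by rw [Nat.card_zpowers, ha, pow_one])
  have hV : IsPGroup q V := fun v => ⟨1, by rw [pow_one]; exact hqv v⟩
  obtain ⟨v, hv⟩ := exists_ne (1 : V)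
  have hdvd : q ∣ Nat.card V := by
    rw [← orderOf_eq_prime (hqv v) hv]; exact orderOf_dvd_natCard v
  have h1 : (1 : V) ∈ MulAction.fixedPoints (zpowers a) V := fun x => map_one (φ (x : A))
  obtain ⟨w, hw, hw1⟩ := hPG.exists_fixed_point_of_prime_dvd_card_of_fixed_point V hdvd h1
  have ha1 : a ≠ 1 := fun e => hq.out.ne_one (by rw [← ha, e, orderOf_one])
  exact hw1 (hfpf a ha1 w (hw ⟨a, mem_zpowers a⟩)).symm

/-- Commuting elements of the same prime order generate the same subgroup. -/
theorem mem_zpowers_of_commute {φ : A →* MulAut V}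
    (hfpf : ∀ a : A, a ≠ 1 → ∀ v : V, φ a v = v → v = 1) {p : ℕ} [hp : Fact p.Prime]
    {a b : A} (ha : orderOf a = p) (hb : b ^ p = 1) (hc : Commute a b) : b ∈ zpowers a := by
  by_contra hn
  refine no_prime_pair hfpf (p := p) ha hn ?_ ?_
  · rw [← hc.eq, mul_inv_cancel_right]; exact mem_zpowers a
  · rintro x ⟨k, rfl⟩
    rw [(hc.zpow_left k).mul_pow, hb, mul_one, ← zpow_natCast, ← zpow_mul, mul_comm, zpow_mul,
      zpow_natCast, ← ha, pow_orderOf_eq_one, one_zpow]

/-- An abelian group with at most one subgroup of each prime order is cyclic. -/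
theorem isCyclic_of_commute_of_unique {B : Type*} [Group B] [Finite B] (hcomm : ∀ x y : B, Commute x y)
    (h : ∀ p : ℕ, p.Prime → ∀ x y : B, orderOf x = p → y ^ p = 1 → y ∈ zpowers x) : IsCyclic B := by
  classical
  haveI := Fintype.ofFinite B
  letI : CommGroup B := { (inferInstance : Group B) with mul_comm := hcomm }
  have key : ∀ n : ℕ, 0 < n → Nat.card ((powMonoidHom n : B →* B).ker) ≤ n := by
    intro n
    induction n using Nat.recOnMul with
    | zero => intro h0; exact absurd h0 (lt_irrefl 0)
    | one =>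
      intro _
      have : (powMonoidHom 1 : B →* B).ker = ⊥ := by ext x; simp
      rw [this, card_bot]
    | prime p hp =>
      intro _
      by_cases he : (powMonoidHom p : B →* B).ker = ⊥
      · rw [he, card_bot]; exact hp.one_lt.le
      · obtain ⟨x, hx, hx1⟩ := (Subgroup.bot_or_exists_ne_one _).resolve_left he
        haveI := Fact.mk hp
        have hxo : orderOf x = p := orderOf_eq_prime (by simpa using hx) hx1
        calc Nat.card (powMonoidHom p : B →* B).ker ≤ Nat.card (zpowers x) :=
              Subgroup.card_le_of_le fun y hy => h p hp x y hxo (by simpa using hy)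
          _ = p := by rw [Nat.card_zpowers, hxo]
    | mul m k ihm ihk =>
      intro hmk
      obtain ⟨hm, hk⟩ := mul_ne_zero_iff.1 hmk.ne'
      let g : (powMonoidHom (m * k) : B →* B).ker →* (powMonoidHom k : B →* B).ker :=
        { toFun := fun x => ⟨(x : B) ^ m, by
            have : (x : B) ^ (m * k) = 1 := x.2
            show ((x : B) ^ m) ^ k = 1
            rw [← pow_mul]; exact this⟩
          map_one' := Subtype.ext (one_pow m)
          map_mul' := fun x y => Subtype.ext (mul_pow _ _ m) }
      have h1 : Nat.card g.ker ≤ m := by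
        refine le_trans ?_ (ihm (Nat.pos_of_ne_zero hm))
        refine Nat.card_le_card_of_injective (fun x => (⟨((x : (powMonoidHom (m * k) : B →* B).ker) : B),
          congrArg Subtype.val (show g x = 1 from x.2)⟩ : (powMonoidHom m : B →* B).ker)) ?_
        intro x y e
        have e' := congrArg Subtype.val e
        exact Subtype.ext (Subtype.ext e')
      have h2 : Nat.card g.range ≤ k :=
        le_trans (Finite.card_subtype_le _) (ihk (Nat.pos_of_ne_zero hk))
      calc Nat.card (powMonoidHom (m * k) : B →* B).ker = Nat.card g.ker * Nat.card g.range := by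
            rw [← Subgroup.index_ker, Subgroup.card_mul_index]
        _ ≤ m * k := Nat.mul_le_mul h1 h2
  refine isCyclic_of_card_pow_eq_one_le fun n hn => le_trans ?_ (key n hn)
  rw [Nat.card_eq_fintype_card, Fintype.card_subtype]
  exact le_of_eq (by congr 1; ext x; simp)

end Cfsg.Agent.Struct.Frobenius
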