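import Cfsg.Agent.Lib.Struct.FpfAbelian
import Mathlib.GroupTheory.Index
import Mathlib.GroupTheory.IndexNormal

/-!
# A subgroup acting fixed point freely by conjugation
-/

set_option autoImplicit false
set_option linter.style.haveILetI false

namespace Cfsg.Agent.Struct.Frobenius

open Subgroup
open scoped IsMulCommutative

variable {G : Type*} [Group G]

theorem exists_conj_hom (A V : Subgroup G) (hAV : A ≤ normalizer (V : Set G)) :
    ∃ φ : A →* MulAut V, ∀ (a : A) (v : V), ((φ a v : V) : G) = (a : G) * v * (a : G)⁻¹ :=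
  ⟨V.normalizerMonoidHom.comp (Subgroup.inclusion hAV), fun _ _ => rfl⟩

theorem fpf_hom_of_centralizer {A V : Subgroup G} {φ : A →* MulAut V}
    (hφ : ∀ (a : A) (v : V), ((φ a v : V) : G) = (a : G) * v * (a : G)⁻¹)
    (hfpf : ∀ a ∈ A, a ≠ 1 → V ⊓ centralizer {a} = ⊥) :
    ∀ a : A, a ≠ 1 → ∀ v : V, φ a v = v → v = 1 := by
  intro a ha v hv
  have e : (a : G) * v * (a : G)⁻¹ = v := by rw [← hφ, hv]
  exact Subtype.ext ((eq_bot_iff_forall _).1 (hfpf a a.2 fun c => ha (Subtype.ext c)) v
    (Subgroup.mem_inf.2 ⟨v.2, mem_centralizer_singleton_iff.2 (mul_inv_eq_iff_eq_mul.1 e).symm⟩))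

/-- Commuting elements of equal prime order in a fixed point free group generate the same subgroup. -/
theorem unique_order_prime [Finite G] {A V : Subgroup G} [IsMulCommutative V] (hV : V ≠ ⊥)
    (hAV : A ≤ normalizer (V : Set G)) (hfpf : ∀ a ∈ A, a ≠ 1 → V ⊓ centralizer {a} = ⊥)
    {p : ℕ} [Fact p.Prime] {a b : A} (ha : orderOf a = p) (hb : b ^ p = 1) (hc : Commute a b) :
    b ∈ zpowers a := by
  obtain ⟨φ, hφ⟩ := exists_conj_hom A V hAV
  haveI : Nontrivial V := (nontrivial_iff_ne_bot V).2 hV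
  exact mem_zpowers_of_commute (fpf_hom_of_centralizer hφ hfpf) ha hb hc

/-- An abelian fixed point free group is cyclic. -/
theorem isCyclic_of_fpf_of_commute [Finite G] {A V : Subgroup G} [IsMulCommutative V] (hV : V ≠ ⊥)
    (hAV : A ≤ normalizer (V : Set G)) (hfpf : ∀ a ∈ A, a ≠ 1 → V ⊓ centralizer {a} = ⊥)
    (hA : ∀ x y : A, Commute x y) : IsCyclic A :=
  isCyclic_of_commute_of_unique hA fun _ hp x y hx hy =>
    haveI := Fact.mk hp
    unique_order_prime hV hAV hfpf hx hy (hA x y)

/-- A fixed point free group of order `p * q` is cyclic. -/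
theorem isCyclic_of_fpf_of_card [Finite G] {A V : Subgroup G} [IsMulCommutative V] (hV : V ≠ ⊥)
    (hAV : A ≤ normalizer (V : Set G)) (hfpf : ∀ a ∈ A, a ≠ 1 → V ⊓ centralizer {a} = ⊥)
    {p q : ℕ} (hp : p.Prime) (hq : q.Prime) (hcard : Nat.card A = p * q) : IsCyclic A := by
  wlog hle : p ≤ q generalizing p q
  · exact this hq hp (hcard.trans (mul_comm _ _)) (le_of_not_ge hle)
  haveI := Fact.mk hp
  haveI := Fact.mk hq
  rcases eq_or_lt_of_le hle with rfl | hlt
  · exact isCyclic_of_fpf_of_commute hV hAV hfpf fun x y =>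
      haveI := IsPGroup.isMulCommutative_of_card_eq_prime_sq (G := A) (p := p) (by rw [hcard, sq]); mul_comm x y
  by_contra hnc
  obtain ⟨a, ha⟩ := exists_prime_orderOf_dvd_card' (G := A) q (hcard ▸ dvd_mul_left q p)
  have hQ : Nat.card (zpowers a) = q := by rw [Nat.card_zpowers, ha]
  have hidx : (zpowers a).index = p := by
    have := (zpowers a).index_mul_card
    rw [hQ, hcard] at this
    exact Nat.eq_of_mul_eq_mul_right hq.pos this
  haveI hn : (zpowers a).Normal := by
    refine normal_of_index_eq_minFac_card ?_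
    rw [hidx, hcard]
    refine le_antisymm ?_ (Nat.minFac_le_of_dvd hp.two_le (dvd_mul_right p q))
    have hne : p * q ≠ 1 := fun e => hp.ne_one (Nat.eq_one_of_mul_eq_one_right e)
    have hr := Nat.minFac_prime hne
    have hd := Nat.minFac_dvd (p * q)
    generalize (p * q).minFac = r at hr hd ⊢
    rcases (Nat.Prime.dvd_mul hr).1 hd with h | h
    · exact ((Nat.prime_dvd_prime_iff_eq hr hp).1 h).ge
    · exact le_trans hle ((Nat.prime_dvd_prime_iff_eq hr hq).1 h).ge
  obtain ⟨b, hb⟩ : ∃ b, b ∉ zpowers a := by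
    by_contra h
    push Not at h
    exact hnc ⟨⟨a, fun x => h x⟩⟩
  have hout : ∀ y : A, y ∉ zpowers a → y ^ p = 1 := by
    intro y hy
    have hd := orderOf_dvd_natCard y
    rw [hcard] at hd
    obtain ⟨d₁, d₂, h₁, h₂, e⟩ := (dvd_mul (α := ℕ)).1 hd
    rcases (Nat.dvd_prime hq).1 h₂ with h2 | h2
    · rw [h2, mul_one] at e
      exact orderOf_dvd_iff_pow_eq_one.1 (e ▸ h₁)
    · rcases (Nat.dvd_prime hp).1 h₁ with h1 | h1
      · exfalso
        rw [h1, h2, one_mul] at e
        refine hy ?_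
        have hyq : (QuotientGroup.mk' (zpowers a) y) ^ q = 1 := by
          rw [← map_pow, orderOf_dvd_iff_pow_eq_one.1 (dvd_of_eq e), map_one]
        have hyp : (QuotientGroup.mk' (zpowers a) y) ^ p = 1 := by
          have : Nat.card (A ⧸ zpowers a) = p := by rw [← hidx]; rfl
          rw [← this]; exact pow_card_eq_one'
        have := pow_gcd_eq_one.2 ⟨hyp, hyq⟩
        rw [(Nat.coprime_primes hp hq).2 hlt.ne, pow_one] at this
        exact (QuotientGroup.eq_one_iff y).1 this
      · rw [h1, h2] at e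
        exact (hnc (isCyclic_of_orderOf_eq_card y (e.trans hcard.symm))).elim
  obtain ⟨φ, hφ⟩ := exists_conj_hom A V hAV
  haveI : Nontrivial V := (nontrivial_iff_ne_bot V).2 hV
  refine no_prime_pair (p := p) (fpf_hom_of_centralizer hφ hfpf) ha hb
    (hn.conj_mem a (mem_zpowers a) b) fun x hx => hout _ fun hm => hb ?_
  have := mul_mem (inv_mem hx) hm
  rwa [inv_mul_cancel_left] at this

end Cfsg.Agent.Struct.Frobenius
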