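import Mathlib
import Cfsg.Agent.Lib.Perm.GeneratingTuples

/-!
# Groups of class two, and the Frattini subgroup of a `p`-group
-/

set_option autoImplicit false
set_option linter.style.haveILetI false
set_option linter.unusedSectionVars false

namespace Cfsg.Agent.Struct.ClassTwo

open Subgroup
open scoped commutatorElement

variable {G : Type*} [Group G]

theorem comm_mem_center [Group.IsNilpotent G] (h : Group.nilpotencyClass G ≤ 2) (a b : G) : ⁅a, b⁆ ∈ center G := by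
  have h2 : (⊤ : Subgroup G).lowerCentralSeries 2 = ⊥ := Subgroup.lowerCentralSeries_eq_bot_iff_nilpotencyClass_le.2 h
  rw [Subgroup.lowerCentralSeries_succ, Subgroup.top_lowerCentralSeries_one, eq_bot_iff, commutator_le] at h2
  rw [mem_center_iff]
  intro g
  have h3 := h2 ⁅a, b⁆ (commutator_mem_commutator (mem_top a) (mem_top b)) g (mem_top g)
  rw [mem_bot, commutatorElement_eq_one_iff_mul_comm] at h3
  exact h3.symm

theorem mul_left (hc : ∀ a b : G, ⁅a, b⁆ ∈ center G) (a b c : G) : ⁅a * b, c⁆ = ⁅a, c⁆ * ⁅b, c⁆ := by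
  have h := mem_center_iff.1 (hc b c) a
  calc ⁅a * b, c⁆ = a * ⁅b, c⁆ * (c * a⁻¹ * c⁻¹) := by simp only [commutatorElement_def]; group
    _ = ⁅b, c⁆ * ⁅a, c⁆ := by rw [h]; simp only [commutatorElement_def]; group
    _ = ⁅a, c⁆ * ⁅b, c⁆ := (mem_center_iff.1 (hc b c) _).symm

theorem pow_left (hc : ∀ a b : G, ⁅a, b⁆ ∈ center G) (a c : G) (n : ℕ) : ⁅a ^ n, c⁆ = ⁅a, c⁆ ^ n := by
  induction n with
  | zero => simp
  | succ n ih => rw [pow_succ, pow_succ, mul_left hc, ih]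

theorem pow_right (hc : ∀ a b : G, ⁅a, b⁆ ∈ center G) (a c : G) (n : ℕ) : ⁅a, c ^ n⁆ = ⁅a, c⁆ ^ n := by
  rw [← commutatorElement_inv (c ^ n) a, pow_left hc, ← inv_pow, commutatorElement_inv]

theorem mul_pow (hc : ∀ a b : G, ⁅a, b⁆ ∈ center G) (x y : G) (n : ℕ) :
    (x * y) ^ n = x ^ n * y ^ n * ⁅y, x⁆ ^ n.choose 2 := by
  induction n with
  | zero => simp
  | succ n ih =>
    have hz : ∀ g : G, Commute g (⁅y, x⁆ ^ n.choose 2) := fun g => mem_center_iff.1 (pow_mem (hc y x) _) g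
    have hz' : ∀ g : G, Commute g (⁅y, x⁆ ^ n) := fun g => mem_center_iff.1 (pow_mem (hc y x) _) g
    have hsw : y ^ n * x = ⁅y, x⁆ ^ n * (x * y ^ n) := by
      rw [← pow_left hc, commutatorElement_def]; group
    calc (x * y) ^ (n + 1) = x ^ n * y ^ n * ⁅y, x⁆ ^ n.choose 2 * (x * y) := by rw [pow_succ, ih]
      _ = x ^ n * (y ^ n * x) * y * ⁅y, x⁆ ^ n.choose 2 := by
          rw [mul_assoc _ (⁅y, x⁆ ^ _) (x * y), ← (hz (x * y)).eq]; group
      _ = x ^ n * x * y ^ n * y * (⁅y, x⁆ ^ n * ⁅y, x⁆ ^ n.choose 2) := by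
          rw [hsw, ← (hz' (x * y ^ n)).eq, mul_assoc (x ^ n), mul_assoc (x * y ^ n), ← (hz' y).eq]; group
      _ = x ^ (n + 1) * y ^ (n + 1) * ⁅y, x⁆ ^ (n + 1).choose 2 := by
          rw [← pow_add, Nat.choose_succ_succ, Nat.choose_one_right, pow_succ, pow_succ, mul_assoc (x ^ n * x)]

/-- Any subgroup containing the commutators and the `p`-th powers contains the Frattini subgroup. -/
theorem frattini_le [Finite G] {p : ℕ} (hp : p.Prime) {N : Subgroup G} (hc : commutator G ≤ N)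
    (hpow : ∀ x : G, x ^ p ∈ N) : frattini G ≤ N := by
  intro g hg
  by_contra hgN
  obtain ⟨M, ⟨hNM, hgM⟩, hmax⟩ := (Set.toFinite {K : Subgroup G | N ≤ K ∧ g ∉ K}).exists_maximal ⟨N, le_rfl, hgN⟩
  have hMn : M.Normal := ⟨fun m hm x => by
    have h1 : ⁅x, m⁆ ∈ M := hNM (hc (commutator_mem_commutator (mem_top x) (mem_top m)))
    simpa [commutatorElement_def] using mul_mem h1 hm⟩
  have hin : ∀ x : G, x ∉ M → g ∈ M ⊔ zpowers x := fun x hx => by
    by_contra h
    exact hx (hmax (y := M ⊔ zpowers x) ⟨hNM.trans le_sup_left, h⟩ le_sup_left (mem_sup_right (mem_zpowers x)))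
  have hco : IsCoatom M := by
    refine ⟨fun h => hgM (h ▸ mem_top g), fun K hK => eq_top_iff.2 fun x _ => ?_⟩
    obtain ⟨y, hyK, hyM⟩ := SetLike.exists_of_lt hK
    have hgK : g ∈ K := sup_le hK.le (zpowers_le.2 hyK) (hin y hyM)
    by_cases hx : x ∈ M
    · exact hK.le hx
    obtain ⟨m, hm, z, hz, hmz⟩ := mem_sup_of_normal_left.1 (hin x hx)
    obtain ⟨i, rfl⟩ := mem_zpowers_iff.1 hz
    have hpi : ¬ (p : ℤ) ∣ i := by
      rintro ⟨c, rfl⟩
      refine hgM (hmz ▸ mul_mem hm ?_)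
      rw [zpow_mul, zpow_natCast]
      exact zpow_mem (hNM (hpow x)) c
    obtain ⟨u, v, huv⟩ : IsCoprime i (p : ℤ) :=
      ((Nat.prime_iff_prime_int.1 hp).coprime_iff_not_dvd.2 hpi).symm
    have hxi : x ^ i ∈ K := by
      rw [show x ^ i = m⁻¹ * g by rw [← hmz]; group]
      exact mul_mem (inv_mem (hK.le hm)) hgK
    rw [← zpow_one x, ← huv, zpow_add, mul_comm u, zpow_mul, mul_comm v, zpow_mul, zpow_natCast]
    exact mul_mem (zpow_mem hxi u) (zpow_mem (hK.le (hNM (hpow x))) v)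
  exact hgM (frattini_le_coatom hco hg)

end Cfsg.Agent.Struct.ClassTwo
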