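import Cfsg.Agent.Lib.Solv.SchurZassenhaus
import Cfsg.Agent.Lib.Solv.Basic
import Cfsg.Agent.Lib.Inv.BaerSuzuki

/-!
# No real elements of odd order: the Sylow 2-subgroup is normal
-/

set_option autoImplicit false
set_option linter.style.haveILetI false

namespace Cfsg.Agent.Struct

open Subgroup Cfsg
open scoped Pointwise

universe u

variable {G : Type u} [Group G] [Finite G]

theorem odd_orderOf_pow {x : G} {a m : ℕ} (hm : orderOf x = 2 ^ a * m) (hmo : Odd m) :
    Odd (orderOf (x ^ 2 ^ a)) := by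
  rw [orderOf_pow, hm, Nat.gcd_eq_right (dvd_mul_right _ _),
    Nat.mul_div_cancel_left _ (pow_pos two_pos a)]
  exact hmo

theorem involution_mem_pCore_of_noReal
    (h : ∀ x : G, x ≠ 1 → Odd (orderOf x) → ¬ IsConj x x⁻¹) {t : G} (ht : t * t = 1) :
    t ∈ pCore 2 G := by
  haveI := Fact.mk Nat.prime_two
  have hti : t⁻¹ = t := inv_eq_of_mul_eq_one_right ht
  have hT : IsPGroup 2 (zpowers t) := by
    rintro ⟨_, k, rfl⟩
    refine ⟨1, Subtype.ext ?_⟩
    show (t ^ k) ^ (2 ^ 1) = 1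
    rw [pow_one, ← zpow_natCast, ← zpow_mul, mul_comm, zpow_mul]
    norm_num [sq, ht, pow_two]
  obtain ⟨N, hN, hNp, hle⟩ := Cfsg.Agent.Inv.baerSuzuki (p := 2) (zpowers t) hT fun g => by
    set u := g * t * g⁻¹ with hu
    set s := t * u with hs
    have hu2 : u * u = 1 := by
      rw [hu, show g * t * g⁻¹ * (g * t * g⁻¹) = g * (t * t) * g⁻¹ by group, ht]; group
    have hconj : t * s * t⁻¹ = s⁻¹ := by
      rw [hs, mul_inv_rev, hti, inv_eq_of_mul_eq_one_right hu2]
      calc t * (t * u) * t = t * t * u * t := by group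
        _ = u * t := by rw [ht, one_mul]
    obtain ⟨a, m, hmo, hm⟩ := Nat.exists_eq_two_pow_mul_odd (orderOf_pos s).ne'
    have hm1 : s ^ 2 ^ a = 1 := by
      by_contra hne
      refine h (s ^ 2 ^ a) hne (odd_orderOf_pow hm hmo) (isConj_iff.2 ⟨t, ?_⟩)
      rw [← conj_pow, hconj, inv_pow]
    have hS : IsPGroup 2 (zpowers s) := by
      rintro ⟨_, k, rfl⟩
      refine ⟨a, Subtype.ext ?_⟩
      show (s ^ k) ^ (2 ^ a) = 1
      rw [← zpow_natCast, ← zpow_mul, mul_comm, zpow_mul, zpow_natCast, hm1, one_zpow]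
    have hTS : zpowers t ≤ normalizer (zpowers s : Set G) := by
      rw [zpowers_le, mem_normalizer_iff_map_conj_eq, MonoidHom.map_zpowers]
      show zpowers (t * s * t⁻¹) = zpowers s
      rw [hconj, zpowers_inv]
    have hsup : IsPGroup 2 ↥(zpowers s ⊔ zpowers t) := hS.to_sup_of_normal_left' hT hTS
    refine hsup.to_le (sup_le le_sup_right ?_)
    intro y hy
    rw [Cfsg.Agent.Solv.mem_conj_smul] at hy
    obtain ⟨k, hk⟩ := mem_zpowers_iff.1 hy
    have hu' : u = t⁻¹ * s := by rw [hs]; group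
    have hmem : u ∈ zpowers s ⊔ zpowers t := by
      rw [hu']
      exact mul_mem (inv_mem (mem_sup_right (mem_zpowers t))) (mem_sup_left (mem_zpowers s))
    have : y = u ^ k := by rw [hu, conj_zpow, hk]; group
    rw [this]
    exact zpow_mem hmem k
  haveI := hN
  exact Cfsg.Agent.Solv.le_pCore hNp (hle (mem_zpowers t))

theorem noReal_quotient (N : Subgroup G) [N.Normal] (hN : IsPGroup 2 N)
    (h : ∀ x : G, x ≠ 1 → Odd (orderOf x) → ¬ IsConj x x⁻¹) :
    ∀ x : G ⧸ N, x ≠ 1 → Odd (orderOf x) → ¬ IsConj x x⁻¹ := by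
  intro q hq hodd hc
  obtain ⟨y, rfl⟩ := QuotientGroup.mk'_surjective N q
  obtain ⟨a, m, hmo, hm⟩ := Nat.exists_eq_two_pow_mul_odd (orderOf_pos y).ne'
  obtain ⟨r, hr⟩ : ∃ r, orderOf (QuotientGroup.mk' N y) = r := ⟨_, rfl⟩
  rw [hr] at hodd
  have hrm : r ∣ m := by
    refine (Nat.Coprime.dvd_of_dvd_mul_left ?_ (hm ▸ hr ▸ orderOf_map_dvd _ y))
    exact Nat.Coprime.pow_right a (Nat.coprime_two_right.2 hodd)
  obtain ⟨c, hc1, hc2⟩ := Nat.chineseRemainder
    (Nat.Coprime.pow_left a (Nat.coprime_two_left.2 hmo)) 0 1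
  set x := y ^ c with hx
  have hxm : x ^ m = 1 := by
    rw [hx, ← pow_mul]
    obtain ⟨d, hd⟩ := (Nat.modEq_zero_iff_dvd).1 hc1
    rw [hd, mul_right_comm, ← hm, pow_mul, pow_orderOf_eq_one, one_pow]
  have hxq : QuotientGroup.mk' N x = QuotientGroup.mk' N y := by
    rw [hx, map_pow]
    conv_rhs => rw [← pow_one (QuotientGroup.mk' N y)]
    rw [pow_eq_pow_iff_modEq, hr]
    exact hc2.of_dvd hrm
  rw [← hxq] at hc hq
  have hxo : Odd (orderOf x) := hmo.of_dvd_nat (orderOf_dvd_of_pow_eq_one hxm)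
  obtain ⟨g', hg'⟩ := isConj_iff.1 hc
  obtain ⟨g, rfl⟩ := QuotientGroup.mk'_surjective N g'
  have hcop : (Nat.card N).Coprime (Nat.card (zpowers x)) := by
    obtain ⟨k, hk⟩ := hN.exists_card_eq
    rw [hk, Nat.card_zpowers]
    exact Nat.Coprime.pow_left k (Nat.coprime_two_left.2 hxo)
  have hK : zpowers (g * x * g⁻¹) ≤ N ⊔ zpowers x := by
    rw [zpowers_le]
    have h1 : g * x * g⁻¹ * x ∈ N := by
      refine (QuotientGroup.eq_one_iff _).1 ?_
      show QuotientGroup.mk' N (g * x * g⁻¹ * x) = 1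
      rw [map_mul, map_mul, map_mul, map_inv, hg', inv_mul_cancel]
    have := mul_mem (mem_sup_left (T := zpowers x) h1) (inv_mem (mem_sup_right (S := N) (mem_zpowers x)))
    simpa [mul_assoc] using this
  obtain ⟨n, hn, hne⟩ := Cfsg.Agent.Solv.conj_of_card_eq N (zpowers x) (zpowers (g * x * g⁻¹))
    (Or.inr (Group.isSolvable_of_comm fun a b => mul_comm' a b)) le_normalizer_of_normal hK
    (by rw [Nat.card_zpowers, Nat.card_zpowers]
        exact orderOf_injective (MulAut.conj g : G ≃* G).toMonoidHom (MulAut.conj g).injective x)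
    hcop
  have hmem : g * x * g⁻¹ ∈ MulAut.conj n • zpowers x := hne ▸ mem_zpowers _
  rw [Cfsg.Agent.Solv.mem_conj_smul] at hmem
  obtain ⟨k, hk⟩ := mem_zpowers_iff.1 hmem
  have hq1 : QuotientGroup.mk' N n = 1 := (QuotientGroup.eq_one_iff n).2 hn
  have hk' : x ^ (k + 1) = 1 := by
    have h1 : x ^ (k + 1) ∈ N := by
      refine (QuotientGroup.eq_one_iff _).1 ?_
      show QuotientGroup.mk' N (x ^ (k + 1)) = 1
      rw [zpow_add_one, hk]
      simp only [map_mul, map_inv, hq1, inv_one, one_mul, mul_one]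
      rw [hg', inv_mul_cancel]
    have h2 : x ^ (k + 1) ∈ zpowers x := zpow_mem (mem_zpowers x) _
    have hd := Nat.eq_one_of_dvd_coprimes hcop (N.orderOf_dvd_natCard h1)
      ((zpowers x).orderOf_dvd_natCard h2)
    exact orderOf_eq_one_iff.1 hd
  refine h x (fun e => hq (by rw [e, map_one])) hxo (isConj_iff.2 ⟨n⁻¹ * g, ?_⟩)
  calc n⁻¹ * g * x * (n⁻¹ * g)⁻¹ = n⁻¹ * (g * x * g⁻¹) * n := by group
    _ = x ^ k := hk.symm
    _ = x⁻¹ := by rw [show k = (k + 1) + (-1) by ring, zpow_add, hk', one_mul, zpow_neg_one]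

/-- A group without nontrivial real elements of odd order has a normal Sylow `2`-subgroup. -/
theorem sylow_two_normal_of_noReal (P : Sylow 2 G)
    (h : ∀ x : G, x ≠ 1 → Odd (orderOf x) → ¬ IsConj x x⁻¹) : (P : Subgroup G).Normal := by
  haveI := Fact.mk Nat.prime_two
  have hp := Cfsg.Agent.Solv.isPGroup_pCore 2 G
  haveI : (pCore 2 G).Normal := by
    haveI := Cfsg.Agent.Solv.pCore_characteristic 2 G
    infer_instance
  suffices hidx : ¬ 2 ∣ (pCore 2 G).index by
    let Q : Sylow 2 G := hp.toSylow hidx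
    haveI : (Q : Subgroup G).Normal := inferInstanceAs (pCore 2 G).Normal
    have : P = Q := by
      haveI := Sylow.unique_of_normal Q inferInstance
      exact Subsingleton.elim P Q
    rw [this]; infer_instance
  intro hd
  rw [Subgroup.index_eq_card] at hd
  obtain ⟨t, ht⟩ := exists_prime_orderOf_dvd_card' (G := G ⧸ pCore 2 G) 2 hd
  have htm := involution_mem_pCore_of_noReal (noReal_quotient (pCore 2 G) hp h)
    (t := t) ((sq t).symm.trans (orderOf_dvd_iff_pow_eq_one.1 (dvd_of_eq ht)))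
  let M := (pCore 2 (G ⧸ pCore 2 G)).comap (QuotientGroup.mk' (pCore 2 G))
  haveI : (pCore 2 (G ⧸ pCore 2 G)).Normal := by
    haveI := Cfsg.Agent.Solv.pCore_characteristic 2 (G ⧸ pCore 2 G)
    infer_instance
  have hM : IsPGroup 2 M := (Cfsg.Agent.Solv.isPGroup_pCore 2 _).comap_of_ker_isPGroup _
    (by rw [QuotientGroup.ker_mk']; exact hp)
  obtain ⟨g, rfl⟩ := QuotientGroup.mk'_surjective _ t
  have hgp : g ∈ pCore 2 G := Cfsg.Agent.Solv.le_pCore hM (show g ∈ M from htm)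
  rw [show QuotientGroup.mk' (pCore 2 G) g = 1 from (QuotientGroup.eq_one_iff g).2 hgp,
    orderOf_one] at ht
  exact absurd ht (by norm_num)

theorem noReal_of_sylow_two_normal (P : Sylow 2 G) (hn : (P : Subgroup G).Normal) {x : G}
    (hx1 : x ≠ 1) (hx : Odd (orderOf x)) : ¬ IsConj x x⁻¹ := by
  haveI := Fact.mk Nat.prime_two
  haveI := hn
  intro hc
  obtain ⟨g', hg'⟩ := isConj_iff.1 hc
  set π := QuotientGroup.mk' (P : Subgroup G)
  have hodd : ¬ 2 ∣ Nat.card (G ⧸ (P : Subgroup G)) := by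
    rw [← Subgroup.index_eq_card]; exact P.not_dvd_index
  have hxP : π x ≠ 1 := fun e => hx1 (by
    obtain ⟨k, hk⟩ := P.isPGroup'.exists_card_eq
    have h1 : orderOf x ∣ 2 ^ k := hk ▸ (P : Subgroup G).orderOf_dvd_natCard ((QuotientGroup.eq_one_iff x).1 e)
    exact orderOf_eq_one_iff.1 (Nat.Coprime.eq_one_of_dvd
      (Nat.Coprime.pow_right k (Nat.coprime_two_right.2 hx)) h1))
  have e1 : π g' * π x * (π g')⁻¹ = (π x)⁻¹ := by rw [← map_inv, ← map_mul, ← map_mul, hg', map_inv]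
  generalize π g' = g at e1
  generalize π x = y at e1 hxP
  have hgo : Odd (orderOf g) := by
    rw [← Nat.not_even_iff_odd, even_iff_two_dvd]
    exact fun hd => hodd (hd.trans (orderOf_dvd_natCard g))
  have hyo : Odd (orderOf y) := by
    rw [← Nat.not_even_iff_odd, even_iff_two_dvd]
    exact fun hd => hodd (hd.trans (orderOf_dvd_natCard y))
  have key : ∀ k : ℕ, (Even k → g ^ k * y * (g ^ k)⁻¹ = y) ∧ (Odd k → g ^ k * y * (g ^ k)⁻¹ = y⁻¹) := by
    intro k
    induction k with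
    | zero => exact ⟨fun _ => by simp, fun h0 => by simp at h0⟩
    | succ k ih =>
      refine ⟨fun hk => ?_, fun hk => ?_⟩
      · rw [show g ^ (k + 1) * y * (g ^ (k + 1))⁻¹ = g * (g ^ k * y * (g ^ k)⁻¹) * g⁻¹ by
          rw [pow_succ']; group, ih.2 (by rcases k.even_or_odd with h | h <;> grind),
          show g * y⁻¹ * g⁻¹ = (g * y * g⁻¹)⁻¹ by group, e1, inv_inv]
      · rw [show g ^ (k + 1) * y * (g ^ (k + 1))⁻¹ = g * (g ^ k * y * (g ^ k)⁻¹) * g⁻¹ by
          rw [pow_succ']; group, ih.1 (by rcases k.even_or_odd with h | h <;> grind), e1]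
  have := (key (orderOf g)).2 hgo
  rw [pow_orderOf_eq_one] at this
  have hy2 : y ^ 2 = 1 := by
    rw [sq]
    calc y * y = 1 * y * 1⁻¹ * y := by group
      _ = 1 := by rw [this]; group
  exact hxP (orderOf_eq_one_iff.1 (Nat.Coprime.eq_one_of_dvd (Nat.coprime_two_right.2 hyo)
    (orderOf_dvd_of_pow_eq_one hy2)))

end Cfsg.Agent.Struct
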