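import Mathlib

/-!
# Counting solutions of `g ^ m = 1` by decomposition into commuting parts
-/

namespace Cfsg.Agent.Struct.FrobeniusCount

variable {G : Type*} [Group G] [Finite G]

/-- The number of solutions of `v ^ r = 1` commuting with `u`. -/
noncomputable def centSol (r : ℕ) (u : G) : ℕ :=
  Nat.card {v : Subgroup.centralizer ({u} : Set G) // v ^ r = 1}

/-- An element commuting with everything is determined by a coprime congruence. -/
theorem pow_eq_pow_of_mod {g : G} {n a b : ℕ} (hg : g ^ n = 1) (h : a ≡ b [MOD n]) : g ^ a = g ^ b :=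
  pow_eq_pow_iff_modEq.2 (h.of_dvd (orderOf_dvd_of_pow_eq_one hg))

/-- Sums of conjugation invariant counts are divisible once each centralizer count is. -/
theorem dvd_card_good (o r e : ℕ) (hor : o.Coprime r) (heo : e ≡ 1 [MOD o]) (her : e ≡ 0 [MOD r])
    (hr : r ∣ Nat.card G) (Good : G → Prop) (hGood : ∀ u g, Good u → Good (g * u * g⁻¹))
    (hGo : ∀ u, Good u → u ^ o = 1)
    (hN : ∀ u, Good u → Nat.gcd r (Nat.card (Subgroup.centralizer ({u} : Set G))) ∣ centSol r u) :
    r ∣ Nat.card {g : G // g ^ (o * r) = 1 ∧ Good (g ^ e)} := by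
  classical
  haveI := Fintype.ofFinite G
  haveI : Fintype (ConjClasses G) := Fintype.ofFinite _
  -- decomposition
  have hE : Nat.card {g : G // g ^ (o * r) = 1 ∧ Good (g ^ e)} = ∑ u : {u : G // Good u}, centSol r u.1 := by
    simp only [centSol]
    rw [← Nat.card_sigma]
    refine Nat.card_congr
      { toFun := fun g => ⟨⟨g.1 ^ e, g.2.2⟩, ⟨⟨g.1 * (g.1 ^ e)⁻¹, ?_⟩, ?_⟩⟩
        invFun := fun w => ⟨(w.1.1 : G) * (w.2.1 : G), ?_, ?_⟩
        left_inv := fun g => Subtype.ext ?_
        right_inv := fun w => ?_ }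
    · rw [Subgroup.mem_centralizer_singleton_iff]
      exact ((Commute.refl g.1).mul_left ((Commute.refl g.1).pow_left e).inv_left).pow_right e
    · refine Subtype.ext ?_
      show (g.1 * (g.1 ^ e)⁻¹) ^ r = 1
      rw [(((Commute.refl g.1).pow_right e).inv_right).mul_pow, inv_pow, ← pow_mul, mul_inv_eq_one]
      refine pow_eq_pow_of_mod g.2.1 ((Nat.modEq_and_modEq_iff_modEq_mul hor).1 ⟨?_, ?_⟩)
      · simpa using (heo.mul_right r).symm
      · exact (Nat.modEq_zero_iff_dvd.2 dvd_rfl).trans (Nat.modEq_zero_iff_dvd.2 (dvd_mul_left r e)).symm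
    · have hc : Commute w.1.1 (w.2.1 : G) := (Subgroup.mem_centralizer_singleton_iff.1 w.2.1.2).symm
      have hv : (w.2.1 : G) ^ r = 1 := (SubgroupClass.coe_pow w.2.1 r).symm.trans (congrArg Subtype.val w.2.2)
      rw [hc.mul_pow, pow_mul, hGo _ w.1.2, one_pow, one_mul, mul_comm, pow_mul, hv, one_pow]
    · have hc : Commute w.1.1 (w.2.1 : G) := (Subgroup.mem_centralizer_singleton_iff.1 w.2.1.2).symm
      have hv : (w.2.1 : G) ^ r = 1 := (SubgroupClass.coe_pow w.2.1 r).symm.trans (congrArg Subtype.val w.2.2)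
      rw [hc.mul_pow, pow_eq_pow_of_mod (hGo _ w.1.2) heo, pow_one, pow_eq_pow_of_mod hv her, pow_zero, mul_one]
      exact w.1.2
    · show g.1 ^ e * (g.1 * (g.1 ^ e)⁻¹) = g.1
      rw [← mul_assoc, (Commute.pow_left (Commute.refl g.1) e).eq, mul_inv_cancel_right]
    · obtain ⟨⟨u, hu⟩, ⟨v, hv⟩⟩ := w
      have hc : Commute u (v : G) := (Subgroup.mem_centralizer_singleton_iff.1 v.2).symm
      have hv' : (v : G) ^ r = 1 := (SubgroupClass.coe_pow v r).symm.trans (congrArg Subtype.val hv)
      have he : (u * (v : G)) ^ e = u := by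
        rw [hc.mul_pow, pow_eq_pow_of_mod (hGo _ hu) heo, pow_one, pow_eq_pow_of_mod hv' her, pow_zero, mul_one]
      have hinj : Function.Injective fun w : Σ u : {u : G // Good u}, {v : Subgroup.centralizer ({u.1} : Set G) // v ^ r = 1} =>
          ((w.1.1 : G), (w.2.1.1 : G)) := by
        rintro ⟨⟨a, ha⟩, ⟨⟨b, hb⟩, hb'⟩⟩ ⟨⟨a₂, ha₂⟩, ⟨⟨b₂, hb₂⟩, hb₂'⟩⟩ h
        simp only [Prod.mk.injEq] at h
        obtain ⟨rfl, rfl⟩ := h
        rfl
      refine hinj (Prod.ext he ?_)
      show u * (v : G) * ((u * (v : G)) ^ e)⁻¹ = v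
      rw [he, hc.eq, mul_inv_cancel_right]
  -- conjugation invariance
  have hconj : ∀ g u : G, centSol r (g * u * g⁻¹) = centSol r u := by
    intro g u
    have hmap : (Subgroup.centralizer ({u} : Set G)).map (MulAut.conj g).toMonoidHom =
        Subgroup.centralizer ({g * u * g⁻¹} : Set G) := by
      ext x
      rw [Subgroup.mem_map_equiv, MulAut.conj_symm_apply, Subgroup.mem_centralizer_singleton_iff,
        Subgroup.mem_centralizer_singleton_iff]
      constructor <;> intro h
      · calc x * (g * u * g⁻¹) = g * ((g⁻¹ * x * g) * u) * g⁻¹ := by group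
          _ = g * u * g⁻¹ * x := by rw [h]; group
      · calc g⁻¹ * x * g * u = g⁻¹ * (x * (g * u * g⁻¹)) * g := by group
          _ = u * (g⁻¹ * x * g) := by rw [h]; group
    unfold centSol
    refine Nat.card_congr (Equiv.subtypeEquiv
      (((MulAut.conj g).subgroupMap _).trans (MulEquiv.subgroupCongr hmap)).symm.toEquiv fun v => ?_)
    show _ ↔ ((((MulAut.conj g).subgroupMap _).trans (MulEquiv.subgroupCongr hmap)).symm v) ^ r = 1
    rw [← map_pow, MulEquiv.map_eq_one_iff]
  rw [hE, ← Finset.sum_fiberwise Finset.univ (fun u : {u : G // Good u} => ConjClasses.mk u.1)]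
  refine Finset.dvd_sum fun c _ => ?_
  by_cases hc : ∃ u : {u : G // Good u}, ConjClasses.mk u.1 = c
  swap
  · rw [Finset.filter_eq_empty_iff.2 (fun u _ h => hc ⟨u, h⟩), Finset.sum_empty]; exact dvd_zero r
  obtain ⟨⟨u, hu⟩, rfl⟩ := hc
  rw [Finset.sum_congr rfl (g := fun _ => centSol r u) fun x hx => by
    obtain ⟨g, hg⟩ := isConj_iff.1 (ConjClasses.mk_eq_mk_iff_isConj.1 (Finset.mem_filter.1 hx).2)
    rw [← hconj g x.1, hg]]
  rw [Finset.sum_const, smul_eq_mul]
  obtain ⟨k, hk⟩ : ∃ k, k = (Finset.univ.filter fun x : {u : G // Good u} =>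
      ConjClasses.mk x.1 = ConjClasses.mk u).card := ⟨_, rfl⟩
  rw [← hk]
  have hkc : k * Nat.card (Subgroup.centralizer ({u} : Set G)) = Nat.card G := by
    have h1 : k = Nat.card (MulAction.orbit (ConjAct G) u) := by
      rw [hk, ← Nat.card_eq_finsetCard]
      exact Nat.card_congr
        { toFun := fun x => ⟨x.1.1, by
            rw [ConjAct.mem_orbit_conjAct]
            exact ConjClasses.mk_eq_mk_iff_isConj.1 (Finset.mem_filter.1 x.2).2⟩
          invFun := fun y => ⟨⟨y.1, by
            obtain ⟨g, hg⟩ := isConj_iff.1 (ConjAct.mem_orbit_conjAct.1 y.2).symm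
            exact hg ▸ hGood u g hu⟩,
            Finset.mem_filter.2 ⟨Finset.mem_univ _, ConjClasses.mk_eq_mk_iff_isConj.2 (ConjAct.mem_orbit_conjAct.1 y.2)⟩⟩
          left_inv := fun x => rfl
          right_inv := fun y => rfl }
    have h2 : Nat.card (MulAction.stabilizer (ConjAct G) u) = Nat.card (Subgroup.centralizer ({u} : Set G)) := by
      refine Nat.card_congr (Equiv.subtypeEquiv ConjAct.ofConjAct.toEquiv fun g => ?_)
      rw [MulAction.mem_stabilizer_iff, ConjAct.smul_def, Subgroup.mem_centralizer_singleton_iff]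
      exact mul_inv_eq_iff_eq_mul
    rw [h1, ← h2, Nat.card_congr (MulAction.orbitEquivQuotientStabilizer (ConjAct G) u), ← Subgroup.index_eq_card,
      Subgroup.index_mul_card]
    exact Nat.card_congr ConjAct.ofConjAct.toEquiv
  refine dvd_trans ?_ (mul_dvd_mul_left k (hN u hu))
  rw [← Nat.gcd_mul_left, hkc]
  exact Nat.dvd_gcd (dvd_mul_left r k) hr

/-- Elements with a `d`-divisible order come in batches of size divisible by `φ d`. -/
theorem totient_dvd_card (P : G → Prop) (d : ℕ) (hP : ∀ g h, Subgroup.zpowers g = Subgroup.zpowers h → P g → P h)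
    (hd : ∀ g, P g → d ∣ orderOf g) : Nat.totient d ∣ Nat.card {g : G // P g} := by
  classical
  haveI := Fintype.ofFinite G
  haveI : Fintype (Subgroup G) := Fintype.ofFinite _
  rw [Nat.card_eq_fintype_card, Fintype.card_subtype,
    Finset.card_eq_sum_card_fiberwise (f := Subgroup.zpowers) (t := (Finset.univ : Finset (Subgroup G)))
      (fun _ _ => Finset.mem_coe.2 (Finset.mem_univ _))]
  refine Finset.dvd_sum fun H _ => ?_
  by_cases hH : ∃ g, P g ∧ Subgroup.zpowers g = H
  swap
  · rw [Finset.filter_eq_empty_iff.2 fun g hg h => hH ⟨g, (Finset.mem_filter.1 hg).2, h⟩, Finset.card_empty]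
    exact dvd_zero _
  obtain ⟨g, hg, rfl⟩ := hH
  haveI : Fintype (Subgroup.zpowers g) := Fintype.ofFinite _
  have e1 : ((Finset.univ.filter P).filter fun x => Subgroup.zpowers x = Subgroup.zpowers g).card =
      (Finset.univ.filter fun x : Subgroup.zpowers g => orderOf x = orderOf g).card := by
    refine (Finset.card_bij (fun (x : Subgroup.zpowers g) _ => (x : G)) ?_ ?_ ?_).symm
    · intro x hx
      have hx' : Subgroup.zpowers (x : G) = Subgroup.zpowers g := by
        refine Subgroup.eq_of_le_of_card_ge (Subgroup.zpowers_le.2 x.2) (le_of_eq ?_)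
        rw [Nat.card_zpowers, Nat.card_zpowers, Subgroup.orderOf_coe, (Finset.mem_filter.1 hx).2]
      exact Finset.mem_filter.2 ⟨Finset.mem_filter.2 ⟨Finset.mem_univ _, hP g x hx'.symm hg⟩, hx'⟩
    · exact fun a _ b _ h => Subtype.ext h
    · intro x hx
      have hx' := (Finset.mem_filter.1 hx).2
      refine ⟨⟨x, hx' ▸ Subgroup.mem_zpowers x⟩, Finset.mem_filter.2 ⟨Finset.mem_univ _, ?_⟩, rfl⟩
      rw [Subgroup.orderOf_mk, ← Nat.card_zpowers x, hx', Nat.card_zpowers]
  rw [e1, IsCyclic.card_orderOf_eq_totient (by rw [← Nat.card_eq_fintype_card, Nat.card_zpowers])]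
  exact Nat.totient_dvd_of_dvd (hd g hg)

universe u

/-- Passing to the quotient by a central element of order coprime to `r`. -/
theorem card_sol_quotient {C : Type u} [Group C] [Finite C] (z : C) (hz : ∀ x : C, x * z = z * x) {r : ℕ}
    (hzr : (orderOf z).Coprime r) [(Subgroup.zpowers z).Normal] :
    Nat.card {v : C // v ^ r = 1} = Nat.card {x : C ⧸ Subgroup.zpowers z // x ^ r = 1} := by
  refine Nat.card_congr (Equiv.ofBijective
    (fun v => ⟨(v.1 : C ⧸ Subgroup.zpowers z), by rw [← QuotientGroup.mk_pow, v.2]; rfl⟩) ⟨?_, ?_⟩)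
  · rintro ⟨v, hv⟩ ⟨w, hw⟩ h
    obtain ⟨i, hi⟩ := Subgroup.mem_zpowers_iff.1 (QuotientGroup.eq.1 (congrArg Subtype.val h))
    have hw' : w = v * z ^ i := by rw [hi, mul_inv_cancel_left]
    have h1 : (z ^ i) ^ r = 1 := by
      have e := hw
      rwa [hw', (show Commute v (z ^ i) from ((show Commute v z from hz v).zpow_right i)).mul_pow, hv, one_mul] at e
    have h2 : (z ^ i) ^ orderOf z = 1 := by
      rw [← zpow_natCast (z ^ i), ← zpow_mul, mul_comm, zpow_mul, zpow_natCast, pow_orderOf_eq_one, one_zpow]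
    have h3 := pow_gcd_eq_one.2 ⟨h2, h1⟩
    rw [hzr, pow_one] at h3
    rw [h3, mul_one] at hw'
    exact Subtype.ext hw'.symm
  · rintro ⟨x, hx⟩
    induction x using QuotientGroup.induction_on with
    | _ w =>
      rw [← QuotientGroup.mk_pow, QuotientGroup.eq_one_iff] at hx
      obtain ⟨i, hi⟩ := Subgroup.mem_zpowers_iff.1 hx
      obtain ⟨a, b, hab⟩ := (Int.isCoprime_iff_gcd_eq_one.2 (by simpa [Int.gcd_natCast_natCast] using hzr) :
        IsCoprime (orderOf z : ℤ) (r : ℤ))
      have hc : Commute w (z ^ (-(b * i))) := (show Commute w z from hz w).zpow_right _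
      refine ⟨⟨w * z ^ (-(b * i)), ?_⟩, ?_⟩
      · rw [hc.mul_pow, ← hi, ← zpow_natCast (z ^ (-(b * i))), ← zpow_mul, ← zpow_add,
          show i + -(b * i) * (r : ℤ) = i * (1 - b * r) by ring, show (1 : ℤ) - b * r = a * orderOf z by linarith,
          ← mul_assoc, mul_comm, zpow_mul, zpow_natCast, pow_orderOf_eq_one, one_zpow]
      · refine Subtype.ext (QuotientGroup.eq.2 ?_)
        rw [mul_inv_rev, mul_assoc, inv_mul_cancel, mul_one]
        exact inv_mem (Subgroup.zpow_mem_zpowers z _)

/-- **Frobenius' theorem**: `m ∣ |G|` divides the number of solutions of `g ^ m = 1`. -/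
theorem dvd_card_sol : ∀ (n : ℕ) (G : Type u) [Group G] [Finite G], Nat.card G = n → ∀ m, m ∣ n →
    m ∣ Nat.card {g : G // g ^ m = 1} := by
  intro n
  induction n using Nat.strong_induction_on with
  | _ n ih =>
    intro G _ _ hn m hm
    have hn0 : 0 < n := hn ▸ Nat.card_pos
    suffices key : ∀ q m, m * q = n → m ∣ Nat.card {g : G // g ^ m = 1} by
      obtain ⟨q, hq⟩ := hm
      exact key q m hq.symm
    intro q
    induction q using Nat.strong_induction_on with
    | _ q ihq =>
      intro m hmq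
      by_cases hq1 : q = 1
      · subst hq1
        rw [mul_one] at hmq
        rw [Nat.card_congr (Equiv.subtypeUnivEquiv fun g : G => by rw [hmq, ← hn]; exact pow_card_eq_one'), hn, hmq]
      obtain ⟨p, hp, q', rfl⟩ := Nat.exists_prime_and_dvd hq1
      have hq' : 0 < q' := Nat.pos_of_ne_zero fun h => by rw [h, mul_zero, mul_zero] at hmq; omega
      have h1 : m * p ∣ Nat.card {g : G // g ^ (m * p) = 1} :=
        ihq q' (lt_mul_of_one_lt_left hq' hp.one_lt) (m * p) (by rw [← hmq]; ring)
      have hm0 : m ≠ 0 := fun h => by rw [h, zero_mul] at hmq; omega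
      obtain ⟨a', r, hr, hmr⟩ := Nat.exists_eq_pow_mul_and_not_dvd hm0 p hp.ne_one
      haveI := Fact.mk hp
      have hcop : (p ^ (a' + 1)).Coprime r := ((hp.coprime_iff_not_dvd).2 hr).pow_left _
      have hpcop : p.Coprime r := hp.coprime_iff_not_dvd.2 hr
      obtain ⟨e, heo, her⟩ := Nat.chineseRemainder hcop 1 0
      let Good : G → Prop := fun u => u ^ p ^ (a' + 1) = 1 ∧ u ^ p ^ a' ≠ 1
      have hiff : ∀ g : G, (g ^ (p ^ (a' + 1) * r) = 1 ∧ Good (g ^ e)) ↔ (g ^ (m * p) = 1 ∧ g ^ m ≠ 1) := by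
        intro g
        have hmp : p ^ (a' + 1) * r = m * p := by rw [hmr, pow_succ]; ring
        rw [hmp]
        refine and_congr_right fun hg => ?_
        have hee : (g ^ e) ^ p ^ (a' + 1) = 1 := by
          rw [← pow_mul]
          obtain ⟨c, hc⟩ := Nat.modEq_zero_iff_dvd.1 her
          rw [hc, show r * c * p ^ (a' + 1) = m * p * c by rw [hmr, pow_succ]; ring, pow_mul, hg, one_pow]
        refine ⟨fun h hgm => h.2 ?_, fun h => ⟨hee, fun hgm => h ?_⟩⟩
        · obtain ⟨c, hc⟩ := Nat.modEq_zero_iff_dvd.1 her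
          rw [← pow_mul, hc, show r * c * p ^ a' = m * c by rw [hmr]; ring, pow_mul, hgm, one_pow]
        · rw [← pow_mul] at hgm
          have h3 := pow_gcd_eq_one.2 ⟨hgm, hg⟩
          have h4 : Nat.gcd (e * p ^ a') (m * p) ∣ m := by
            rw [show m * p = p * r * p ^ a' by rw [hmr]; ring, Nat.gcd_mul_right, hmr, mul_comm (p ^ a') r]
            refine mul_dvd_mul_right ?_ _
            have hep : Nat.Coprime e p := by
              have h5 : e ≡ 1 [MOD p] := heo.of_dvd (dvd_pow_self p (Nat.succ_ne_zero a'))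
              rw [Nat.Coprime, h5.gcd_eq, Nat.gcd_one_left]
            rw [hep.symm.gcd_mul_left_cancel_right]
            exact Nat.gcd_dvd_right _ _
          obtain ⟨c, hc⟩ := h4
          rw [hc, pow_mul, h3, one_pow]
      have hK1 : r ∣ Nat.card {g : G // g ^ (p ^ (a' + 1) * r) = 1 ∧ Good (g ^ e)} := by
        refine dvd_card_good (p ^ (a' + 1)) r e hcop heo her ?_ Good ?_ (fun u hu => hu.1) ?_
        · rw [hn, ← hmq, hmr]; exact ((dvd_mul_left r _).mul_right _)
        · rintro u g ⟨h1, h2⟩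
          refine ⟨by rw [conj_pow, h1, mul_one, mul_inv_cancel], fun h => h2 ?_⟩
          rwa [conj_pow, mul_inv_eq_one, mul_eq_left] at h
        · rintro u ⟨hu1, hu2⟩
          let C := Subgroup.centralizer ({u} : Set G)
          let z : C := ⟨u, Subgroup.mem_centralizer_singleton_iff.2 rfl⟩
          have hz : ∀ x : C, x * z = z * x := fun x => Subtype.ext (Subgroup.mem_centralizer_singleton_iff.1 x.2)
          haveI : (Subgroup.zpowers z).Normal := ⟨fun w hw x => by
            obtain ⟨i, rfl⟩ := Subgroup.mem_zpowers_iff.1 hw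
            rw [((show Commute x z from hz x).zpow_right i).eq, mul_inv_cancel_right]
            exact Subgroup.zpow_mem_zpowers z i⟩
          have hzo : orderOf z ∣ p ^ (a' + 1) := orderOf_dvd_of_pow_eq_one (Subtype.ext (by simpa [z] using hu1))
          have hzr : (orderOf z).Coprime r := hcop.coprime_dvd_left hzo
          rw [centSol, card_sol_quotient z hz hzr]
          have hlt : Nat.card (C ⧸ Subgroup.zpowers z) < n := by
            have h5 := (Subgroup.zpowers z).card_eq_card_quotient_mul_card_subgroup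
            have h6 : Nat.card C ≤ n := hn ▸ Nat.le_of_dvd Nat.card_pos (Subgroup.card_subgroup_dvd_card C)
            have h7 : 1 < Nat.card (Subgroup.zpowers z) := by
              rw [Subgroup.one_lt_card_iff_ne_bot, Ne, Subgroup.zpowers_eq_bot]
              exact fun h => hu2 (by rw [show u = 1 from congrArg Subtype.val h, one_pow])
            have h8 : 0 < Nat.card (C ⧸ Subgroup.zpowers z) := Nat.card_pos
            nlinarith
          have hg1 : Nat.gcd r (Nat.card C) ∣ Nat.card (C ⧸ Subgroup.zpowers z) := by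
            refine Nat.Coprime.dvd_of_dvd_mul_right (n := Nat.card (Subgroup.zpowers z)) ?_ ?_
            · rw [Nat.card_zpowers]; exact (hzr.coprime_dvd_right (Nat.gcd_dvd_left r (Nat.card C))).symm
            · rw [← (Subgroup.zpowers z).card_eq_card_quotient_mul_card_subgroup]; exact Nat.gcd_dvd_right _ _
          have h9 := ih _ hlt (C ⧸ Subgroup.zpowers z) rfl _ hg1
          rwa [show Nat.card {x : C ⧸ Subgroup.zpowers z // x ^ r = 1} =
            Nat.card {x : C ⧸ Subgroup.zpowers z // x ^ Nat.gcd r (Nat.card C) = 1} from Nat.card_congr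
              (Equiv.subtypeEquivRight fun x => ⟨fun h => by
                have hC : x ^ Nat.card C = 1 := orderOf_dvd_iff_pow_eq_one.1
                  ((orderOf_dvd_natCard x).trans (Subgroup.card_quotient_dvd_card _))
                exact pow_gcd_eq_one.2 ⟨h, hC⟩,
                fun h => (pow_gcd_eq_one.1 h).1⟩)]
      rw [Nat.card_congr (Equiv.subtypeEquivRight hiff)] at hK1
      have hK2 : p ^ a' ∣ Nat.card {g : G // g ^ (m * p) = 1 ∧ g ^ m ≠ 1} := by
        refine dvd_trans ?_ (totient_dvd_card _ (p ^ (a' + 1)) ?_ ?_)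
        · rw [Nat.totient_prime_pow hp (Nat.succ_pos a'), Nat.succ_sub_one]; exact dvd_mul_right _ _
        · intro g h hgh ⟨h1, h2⟩
          have ho : orderOf g = orderOf h := by rw [← Nat.card_zpowers, hgh, Nat.card_zpowers]
          rw [← orderOf_dvd_iff_pow_eq_one, ← ho, orderOf_dvd_iff_pow_eq_one]
          exact ⟨h1, fun h3 => h2 (by rwa [← orderOf_dvd_iff_pow_eq_one, ho, orderOf_dvd_iff_pow_eq_one])⟩
        · rintro g ⟨h1, h2⟩
          rw [hmr] at h1 h2
          rw [show p ^ a' * r * p = p ^ (a' + 1) * r by rw [pow_succ]; ring] at h1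
          rw [← orderOf_dvd_iff_pow_eq_one] at h1
          rw [ne_eq, ← orderOf_dvd_iff_pow_eq_one] at h2
          obtain ⟨x, y, hx, hy, hxy⟩ := exists_dvd_and_dvd_of_dvd_mul h1
          obtain ⟨i, hi, rfl⟩ := (Nat.dvd_prime_pow hp).1 hx
          rcases Nat.lt_or_ge i (a' + 1) with hlt | hge
          · exact absurd (hxy ▸ mul_dvd_mul (pow_dvd_pow p (by omega)) hy) h2
          · rw [hxy, show i = a' + 1 by omega]; exact dvd_mul_right _ _
      have hK : m ∣ Nat.card {g : G // g ^ (m * p) = 1 ∧ g ^ m ≠ 1} := by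
        rw [hmr] at hK1 hK2 ⊢
        exact (hpcop.pow_left a').mul_dvd_of_dvd_of_dvd hK2 hK1
      have hsplit : Nat.card {g : G // g ^ (m * p) = 1} =
          Nat.card {g : G // g ^ m = 1} + Nat.card {g : G // g ^ (m * p) = 1 ∧ g ^ m ≠ 1} := by
        classical
        rw [← Nat.card_sum]
        exact Nat.card_congr
          { toFun := fun g => if h : g.1 ^ m = 1 then Sum.inl ⟨g.1, h⟩ else Sum.inr ⟨g.1, g.2, h⟩
            invFun := Sum.elim (fun g => ⟨g.1, by rw [pow_mul, g.2, one_pow]⟩) (fun g => ⟨g.1, g.2.1⟩)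
            left_inv := fun g => by by_cases h : g.1 ^ m = 1 <;> simp [h]
            right_inv := by rintro (⟨g, hg⟩ | ⟨g, hg⟩) <;> simp [hg] }
      rw [hsplit] at h1
      exact (Nat.dvd_add_left hK).1 ((dvd_mul_right m p).trans h1)

end Cfsg.Agent.Struct.FrobeniusCount
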