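/-
Schur multipliers through free presentations: for a surjection `π : F →* Q` from a free group the
group `SchurC π = F ⧸ [ker π, F]` is the universal central extension over that presentation, and
`schurM π = ker ∩ commutator` is the Schur multiplier.
-/
import Cfsg.Prelude.Def_KGroupFacts
import Mathlib.GroupTheory.FreeGroup.IsFreeGroup
import Mathlib.GroupTheory.Schreier
import Mathlib.GroupTheory.Abelianization.Defs
import Mathlib.GroupTheory.Index
import Mathlib.LinearAlgebra.FreeModule.PID
import Mathlib.Algebra.Module.Projective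
import Mathlib.Data.Finsupp.Basic
import Mathlib.Algebra.EuclideanDomain.Int
import Mathlib.RingTheory.PrincipalIdealDomain
import Mathlib.GroupTheory.IndexNormal

set_option autoImplicit false

open scoped commutatorElement

namespace Cfsg.Agent.Struct.Schur

universe u v w x

section Central

variable {E : Type v} [Group E]

theorem commute_of_mem_center {z : E} (hz : z ∈ Subgroup.center E) (g : E) : z * g = g * z :=
  (Subgroup.mem_center_iff.1 hz g).symm

theorem comm_mul_center {a b z w : E} (hz : z ∈ Subgroup.center E) (hw : w ∈ Subgroup.center E) :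
    ⁅a * z, b * w⁆ = ⁅a, b⁆ := by
  have hz' := commute_of_mem_center hz
  have hw' := commute_of_mem_center hw
  simp only [commutatorElement_def, mul_inv_rev]
  calc a * z * (b * w) * (z⁻¹ * a⁻¹) * (w⁻¹ * b⁻¹)
      = a * (z * (b * w) * z⁻¹) * a⁻¹ * w⁻¹ * b⁻¹ := by group
    _ = a * (b * w) * a⁻¹ * w⁻¹ * b⁻¹ := by rw [hz', mul_inv_cancel_right]
    _ = a * b * (w * a⁻¹ * w⁻¹) * b⁻¹ := by group
    _ = a * b * a⁻¹ * b⁻¹ := by rw [hw', mul_inv_cancel_right]

/-- If `f` hits everything up to centre, it hits the commutator subgroup exactly. -/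
theorem commutator_eq_map_of_range_sup_center {C : Type w} [Group C] (f : C →* E)
    (h : f.range ⊔ Subgroup.center E = ⊤) : commutator E = (commutator C).map f := by
  refine le_antisymm ?_ ?_
  · rw [commutator_def, Subgroup.commutator_le]
    intro a _ b _
    have ha : a ∈ f.range ⊔ Subgroup.center E := h ▸ Subgroup.mem_top a
    have hb : b ∈ f.range ⊔ Subgroup.center E := h ▸ Subgroup.mem_top b
    rw [Subgroup.mem_sup_of_normal_right] at ha hb
    obtain ⟨_, ⟨a', rfl⟩, z, hz, rfl⟩ := ha
    obtain ⟨_, ⟨b', rfl⟩, w, hw, rfl⟩ := hb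
    rw [comm_mul_center hz hw, ← map_commutatorElement]
    exact Subgroup.mem_map_of_mem f (Subgroup.commutator_mem_commutator (Subgroup.mem_top _) (Subgroup.mem_top _))
  · rw [commutator_def, Subgroup.map_commutator, commutator_def]
    exact Subgroup.commutator_mono le_top le_top

/-- Schur's theorem. -/
theorem finite_commutator_of_central {Q : Type w} [Group Q] [Finite Q] (σ : E →* Q)
    (hc : σ.ker ≤ Subgroup.center E) : Finite (commutator E) := by
  classical
  let s : Q → E := Function.invFun σ
  have hinv : ∀ e : E, σ (s (σ e)) = σ e := fun e => Function.invFun_eq (f := σ) ⟨e, rfl⟩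
  have hs : ∀ e : E, ∃ z ∈ Subgroup.center E, e = s (σ e) * z := fun e =>
    ⟨(s (σ e))⁻¹ * e, hc (by
      rw [MonoidHom.mem_ker, map_mul, map_inv, hinv, inv_mul_cancel]), by group⟩
  have : Finite (commutatorSet E) := by
    refine Set.finite_coe_iff.2
      ((Set.finite_range (fun p : Q × Q => ⁅s p.1, s p.2⁆)).subset ?_)
    rintro _ ⟨a, b, rfl⟩
    obtain ⟨z, hz, ha⟩ := hs a
    obtain ⟨w, hw, hb⟩ := hs b
    refine ⟨(σ a, σ b), ?_⟩
    conv_rhs => rw [ha, hb, comm_mul_center hz hw]
  infer_instance

theorem range_sup_ker_eq_top {C : Type w} {Q : Type x} [Group C] [Group Q] (f : C →* E) (ξ : E →* Q)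
    (h : Function.Surjective (ξ.comp f)) : f.range ⊔ ξ.ker = ⊤ := by
  refine eq_top_iff.2 fun e _ => ?_
  obtain ⟨c, hc⟩ := h (ξ e)
  rw [Subgroup.mem_sup_of_normal_right]
  refine ⟨f c, ⟨c, rfl⟩, (f c)⁻¹ * e, ?_, by group⟩
  simp only [MonoidHom.comp_apply] at hc
  rw [MonoidHom.mem_ker, map_mul, map_inv, hc, inv_mul_cancel]

end Central

variable {F : Type u} [Group F] {Q : Type v} [Group Q]

/-- `[ker π, F]`. -/
def relComm (π : F →* Q) : Subgroup F := ⁅π.ker, (⊤ : Subgroup F)⁆

instance relComm_normal (π : F →* Q) : (relComm π).Normal :=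
  inferInstanceAs (⁅π.ker, (⊤ : Subgroup F)⁆).Normal

/-- The group `F ⧸ [ker π, F]`. -/
abbrev SchurC (π : F →* Q) : Type u := F ⧸ relComm π

theorem relComm_le_ker (π : F →* Q) : relComm π ≤ π.ker :=
  Subgroup.commutator_le_left _ _

/-- The projection to `Q`. -/
def cproj (π : F →* Q) : SchurC π →* Q :=
  QuotientGroup.lift (relComm π) π (relComm_le_ker π)

@[simp] theorem cproj_mk (π : F →* Q) (f : F) : cproj π (QuotientGroup.mk f) = π f := rfl

theorem cproj_surjective {π : F →* Q} (hπ : Function.Surjective π) :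
    Function.Surjective (cproj π) := fun q => by
  obtain ⟨f, rfl⟩ := hπ q; exact ⟨QuotientGroup.mk f, rfl⟩

theorem cproj_ker_le_center (π : F →* Q) : (cproj π).ker ≤ Subgroup.center (SchurC π) := by
  intro x hx
  induction x using QuotientGroup.induction_on with
  | _ r =>
    refine Subgroup.mem_center_iff.2 fun g => ?_
    induction g using QuotientGroup.induction_on with
    | _ f =>
      have h : ⁅r, f⁆ ∈ relComm π := Subgroup.commutator_mem_commutator hx (Subgroup.mem_top _)
      rw [← QuotientGroup.eq_one_iff, ← QuotientGroup.mk'_apply, map_commutatorElement,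
        commutatorElement_eq_one_iff_mul_comm] at h
      exact h.symm

/-- A homomorphism whose composite with a central projection factors through `π` descends. -/
theorem exists_hom_of_central {ι : Type w} (b : FreeGroupBasis ι F) (π : F →* Q)
    {E : Type x} {P : Type*} [Group E] [Group P] (p : E →* P) (hp : Function.Surjective p)
    (hc : p.ker ≤ Subgroup.center E) (γ : Q →* P) :
    ∃ φ : SchurC π →* E, p.comp φ = γ.comp (cproj π) := by
  let φ₀ : F →* E := b.lift (fun i => Function.surjInv hp (γ (π (b i))))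
  have hφ₀ : p.comp φ₀ = γ.comp π := by
    refine b.ext_hom _ _ fun i => ?_
    simp [φ₀, Function.surjInv_eq hp]
  have hk : relComm π ≤ φ₀.ker := by
    rw [relComm, Subgroup.commutator_le]
    intro r hr f _
    rw [MonoidHom.mem_ker, map_commutatorElement, commutatorElement_eq_one_iff_mul_comm]
    refine (Subgroup.mem_center_iff.1 (hc ?_) _).symm
    have := DFunLike.congr_fun hφ₀ r
    simp only [MonoidHom.comp_apply] at this
    rw [MonoidHom.mem_ker, this, MonoidHom.mem_ker.1 hr, map_one]
  exact ⟨QuotientGroup.lift _ φ₀ hk, MonoidHom.ext fun x => QuotientGroup.induction_on x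
    fun f => DFunLike.congr_fun hφ₀ f⟩

/-- The Schur multiplier as a subgroup of `SchurC π`. -/
def schurM (π : F →* Q) : Subgroup (SchurC π) := (cproj π).ker ⊓ commutator (SchurC π)

theorem schurM_finite [Finite Q] (π : F →* Q) : Finite (schurM π) := by
  have := finite_commutator_of_central (cproj π) (cproj_ker_le_center π)
  exact Finite.of_injective (Subgroup.inclusion inf_le_right)
    (Subgroup.inclusion_injective inf_le_right)

/-- Every central extension of `Q` is hit, on commutator subgroups. -/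
theorem exists_central_lift {ι : Type w} (b : FreeGroupBasis ι F) {π : F →* Q}
    (hπ : Function.Surjective π) {E : Type x} [Group E] (ξ : E →* Q) (hξ : Function.Surjective ξ)
    (hc : ξ.ker ≤ Subgroup.center E) :
    ∃ φ : SchurC π →* E, ξ.comp φ = cproj π ∧
      ((cproj π).ker ⊓ commutator (SchurC π)).map φ = ξ.ker ⊓ commutator E ∧
      φ.range ⊔ ξ.ker = ⊤ ∧ φ.ker ≤ (cproj π).ker := by
  obtain ⟨φ, hφ⟩ := exists_hom_of_central b π ξ hξ hc (MonoidHom.id Q)
  rw [MonoidHom.id_comp] at hφ
  have htop : φ.range ⊔ ξ.ker = ⊤ := range_sup_ker_eq_top φ ξ (hφ ▸ cproj_surjective hπ)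
  refine ⟨φ, hφ, ?_, htop, ?_⟩
  · have hcomm := commutator_eq_map_of_range_sup_center φ
      (eq_top_iff.2 (htop ▸ sup_le_sup_left hc _))
    rw [← hφ, ← MonoidHom.comap_ker, hcomm]
    ext e
    simp only [Subgroup.mem_map, Subgroup.mem_inf, Subgroup.mem_comap]
    constructor
    · rintro ⟨c, ⟨hck, hcc⟩, rfl⟩
      exact ⟨hck, c, hcc, rfl⟩
    · rintro ⟨hek, c, hcc, rfl⟩
      exact ⟨c, ⟨hek, hcc⟩, rfl⟩
  · intro c hc'
    rw [MonoidHom.mem_ker, ← hφ, MonoidHom.comp_apply, MonoidHom.mem_ker.1 hc', map_one]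

/-- Coordinates on the abelianization. -/
theorem exists_abelian_coords {ι : Type w} (b : FreeGroupBasis ι F) (π : F →* Q) :
    ∃ α : SchurC π →* Multiplicative (ι →₀ ℤ), α.ker = commutator (SchurC π) ∧
      ∀ i, α (QuotientGroup.mk (b i)) = Multiplicative.ofAdd (Finsupp.single i 1) := by
  let α₀ : F →* Multiplicative (ι →₀ ℤ) := b.lift fun i => Multiplicative.ofAdd (Finsupp.single i 1)
  have hk : relComm π ≤ α₀.ker := by
    rw [relComm, Subgroup.commutator_le]
    intro r _ f _
    rw [MonoidHom.mem_ker, map_commutatorElement, commutatorElement_eq_one_iff_mul_comm]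
    exact mul_comm _ _
  let α := QuotientGroup.lift _ α₀ hk
  refine ⟨α, le_antisymm ?_ (Abelianization.commutator_subset_ker α), fun i => ?_⟩
  rotate_left
  · show α₀ (b i) = _
    simp [α₀]
  let β : Multiplicative (ι →₀ ℤ) →* Abelianization (SchurC π) :=
    AddMonoidHom.toMultiplicativeLeft
      (Finsupp.linearCombination ℤ
        (fun i => Additive.ofMul (Abelianization.of (QuotientGroup.mk (b i) : SchurC π)))).toAddMonoidHom
  have hβ : (β.comp α).comp (QuotientGroup.mk' _) =
      Abelianization.of.comp (QuotientGroup.mk' (relComm π)) := by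
    refine b.ext_hom _ _ fun i => ?_
    show β (α₀ (b i)) = _
    simp [α₀, β]
  intro x hx
  induction x using QuotientGroup.induction_on with
  | _ f =>
    have h := DFunLike.congr_fun hβ f
    simp only [MonoidHom.comp_apply, QuotientGroup.mk'_apply] at h
    rw [MonoidHom.mem_ker.1 hx, map_one] at h
    rw [← Abelianization.ker_of, MonoidHom.mem_ker]
    exact h.symm

/-- The abelianization is torsion-free. -/
theorem mem_commutator_of_pow {ι : Type w} (b : FreeGroupBasis ι F) (π : F →* Q) {c : SchurC π}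
    {n : ℕ} (hn : n ≠ 0) (h : c ^ n ∈ commutator (SchurC π)) : c ∈ commutator (SchurC π) := by
  obtain ⟨α, hα, -⟩ := exists_abelian_coords b π
  rw [← hα, MonoidHom.mem_ker, map_pow, ← toAdd_eq_zero, toAdd_pow, smul_eq_zero] at h
  rw [← hα, MonoidHom.mem_ker, ← toAdd_eq_zero]
  exact h.resolve_left hn

/-- A complement of the multiplier inside the central kernel, inside the kernel of a given map. -/
theorem exists_complement {ι : Type w} [Finite ι] (b : FreeGroupBasis ι F) (π : F →* Q)
    {D : Type x} [CommGroup D] (φ : (cproj π).ker →* D)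
    (hφ : ∀ d, ∃ m : (cproj π).ker, (m : SchurC π) ∈ commutator (SchurC π) ∧ φ m = d) :
    ∃ K : Subgroup (SchurC π), K ≤ (cproj π).ker ∧ K ⊓ commutator (SchurC π) = ⊥ ∧
      K ⊔ schurM π = (cproj π).ker ∧ ∀ k : (cproj π).ker, (k : SchurC π) ∈ K → φ k = 1 := by
  classical
  obtain ⟨α, hα, -⟩ := exists_abelian_coords b π
  have hcc := cproj_ker_le_center π
  letI : CommGroup (cproj π).ker :=
    { (inferInstance : Group (cproj π).ker) with
      mul_comm := fun a c => Subtype.ext (commute_of_mem_center (hcc a.2) c) }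
  let a : Additive (cproj π).ker →ₗ[ℤ] (ι →₀ ℤ) :=
    (MonoidHom.toAdditiveLeft (α.comp (cproj π).ker.subtype)).toIntLinearMap
  let d : Additive (cproj π).ker →ₗ[ℤ] Additive D := (MonoidHom.toAdditive φ).toIntLinearMap
  let g : Additive (cproj π).ker →ₗ[ℤ] ↥(LinearMap.range a) × Additive D :=
    a.rangeRestrict.prod d
  have hg : Function.Surjective g := by
    rintro ⟨⟨_, y, rfl⟩, z⟩
    obtain ⟨m, hm, hm'⟩ := hφ ((Additive.toMul z) * (φ (Additive.toMul y))⁻¹)
    refine ⟨y + Additive.ofMul m, Prod.ext (Subtype.ext ?_) ?_⟩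
    · have h0 : a (Additive.ofMul m) = 0 := by
        rw [← hα, MonoidHom.mem_ker] at hm
        show Multiplicative.toAdd (α (m : SchurC π)) = 0
        rw [hm]; rfl
      show a (y + Additive.ofMul m) = a y
      rw [map_add, h0, add_zero]
    · show Additive.ofMul (φ (Additive.toMul y * m)) = z
      rw [map_mul, hm', mul_comm, inv_mul_cancel_right]
      rfl
  obtain ⟨n, bS⟩ := Submodule.basisOfPid (Finsupp.basisSingleOne (ι := ι) (R := ℤ)) (LinearMap.range a)
  have : Module.Projective ℤ ↥(LinearMap.range a) := Module.Projective.of_basis bS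
  obtain ⟨s, hs⟩ := Module.projective_lifting_property g
    (LinearMap.inl ℤ ↥(LinearMap.range a) (Additive D)) hg
  have hs1 : ∀ y, a (s y) = y := fun y =>
    congrArg (fun t => (t.1 : ι →₀ ℤ)) (LinearMap.congr_fun hs y)
  have hs2 : ∀ y, d (s y) = 0 := fun y => congrArg Prod.snd (LinearMap.congr_fun hs y)
  let t : Multiplicative ↥(LinearMap.range a) →* SchurC π :=
    (cproj π).ker.subtype.comp (AddMonoidHom.toMultiplicativeLeft s.toAddMonoidHom)
  refine ⟨t.range, ?_, ?_, ?_, ?_⟩
  · rintro _ ⟨y, rfl⟩; exact (Additive.toMul (s (Multiplicative.toAdd y))).2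
  · rw [eq_bot_iff]
    rintro _ ⟨⟨y, rfl⟩, hy⟩
    replace hy : t y ∈ commutator (SchurC π) := hy
    rw [← hα, MonoidHom.mem_ker] at hy
    have h1 : a (s (Multiplicative.toAdd y)) = 0 := congrArg Multiplicative.toAdd hy
    rw [hs1] at h1
    have : y = 1 := Subtype.ext h1
    rw [this, map_one]; exact Subgroup.mem_bot.2 rfl
  · refine le_antisymm (sup_le ?_ inf_le_left) fun c hc => ?_
    · rintro _ ⟨y, rfl⟩; exact (Additive.toMul (s (Multiplicative.toAdd y))).2
    have hck : c ∈ (cproj π).ker := hc
    set y : ↥(LinearMap.range a) := a.rangeRestrict (Additive.ofMul ⟨c, hck⟩) with hy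
    have htm : t (Multiplicative.ofAdd y) ∈ (cproj π).ker := (Additive.toMul (s y)).2
    have hMn : (schurM π).Normal := Subgroup.normal_inf_normal _ _
    refine Subgroup.mem_sup_of_normal_right.2 ⟨t (Multiplicative.ofAdd y), ⟨_, rfl⟩,
      (t (Multiplicative.ofAdd y))⁻¹ * c, Subgroup.mem_inf.2 ⟨mul_mem (inv_mem htm) hck, ?_⟩, by group⟩
    rw [← hα, MonoidHom.mem_ker, map_mul, map_inv, inv_mul_eq_one]
    exact Multiplicative.toAdd.injective (hs1 y)
  · rintro k ⟨y, hy⟩
    have h1 : Additive.toMul (s (Multiplicative.toAdd y)) = k := Subtype.ext hy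
    rw [← h1]
    exact hs2 _

end Cfsg.Agent.Struct.Schur
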