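/-
Existence and uniqueness of the Schur multiplier in the sense of `Cfsg.HasSchurMultiplier`.
-/
import Cfsg.Agent.Lib.Struct.Schur
import Mathlib.Data.ZMod.Basic
import Mathlib.GroupTheory.SpecificGroups.Cyclic

set_option autoImplicit false

open scoped commutatorElement

namespace Cfsg.Agent.Struct.Schur

universe u v w x

/-- The kernel of a homomorphism with central kernel, with its commutative group structure. -/
abbrev centralKerCommGroup {E : Type u} [Group E] {Q : Type v} [Group Q] {ξ : E →* Q}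
    (hc : ξ.ker ≤ Subgroup.center E) : CommGroup ξ.ker :=
  { (inferInstance : Group ξ.ker) with
    mul_comm := fun a c => Subtype.ext (commute_of_mem_center (hc a.2) c) }

instance schurM_commGroup {F : Type u} [Group F] {Q : Type v} [Group Q] (π : F →* Q) :
    CommGroup (schurM π) :=
  { (inferInstance : Group (schurM π)) with
    mul_comm := fun a c =>
      Subtype.ext (commute_of_mem_center (cproj_ker_le_center π a.2.1) c) }

section Cover

variable {F : Type u} [Group F] {Q : Type v} [Group Q] (π : F →* Q)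

/-- A complement gives a normal subgroup and a stem extension with kernel the multiplier. -/
theorem exists_cover_of_complement [Finite Q] (hπ : Function.Surjective π)
    (K : Subgroup (SchurC π)) (hK : K ≤ (cproj π).ker) (hKc : K ⊓ commutator (SchurC π) = ⊥)
    (hKM : K ⊔ schurM π = (cproj π).ker) :
    ∃ (_ : K.Normal) (σ : SchurC π ⧸ K →* Q), σ.comp (QuotientGroup.mk' K) = cproj π ∧
      Cfsg.IsStemExtension σ ∧ Finite (SchurC π ⧸ K) ∧ Nonempty (σ.ker ≃* schurM π) := by
  have hKn : K.Normal := ⟨fun k hk g => by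
    rw [← commute_of_mem_center (cproj_ker_le_center π (hK hk)) g, mul_inv_cancel_right]; exact hk⟩
  refine ⟨hKn, QuotientGroup.lift K (cproj π) hK, MonoidHom.ext fun _ => rfl, ?_⟩
  set σ := QuotientGroup.lift K (cproj π) hK
  have hker : σ.ker = (schurM π).map (QuotientGroup.mk' K) := by
    rw [QuotientGroup.ker_lift, ← hKM, Subgroup.map_sup]
    simp
  have hsurj : Function.Surjective σ := fun q => by
    obtain ⟨c, hc⟩ := cproj_surjective hπ q; exact ⟨QuotientGroup.mk c, hc⟩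
  have hinj : Function.Injective ((QuotientGroup.mk' K).comp (schurM π).subtype) := by
    rw [← MonoidHom.ker_eq_bot_iff, eq_bot_iff]
    rintro ⟨m, hm⟩ h
    have h1 : m ∈ K ⊓ commutator (SchurC π) := ⟨(QuotientGroup.eq_one_iff m).1 h, hm.2⟩
    rw [hKc, Subgroup.mem_bot] at h1
    exact Subgroup.mem_bot.2 (Subtype.ext h1)
  have hrange : ((QuotientGroup.mk' K).comp (schurM π).subtype).range = σ.ker := by
    rw [hker, MonoidHom.range_comp, Subgroup.range_subtype]
  have e : σ.ker ≃* schurM π :=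
    ((MulEquiv.subgroupCongr hrange.symm).trans (MonoidHom.ofInjective hinj).symm)
  have hMfin := schurM_finite π
  refine ⟨⟨hsurj, ?_, ?_⟩, ?_, ⟨e⟩⟩
  · rw [hker]
    refine le_trans (Subgroup.map_mono (inf_le_left.trans (cproj_ker_le_center π))) ?_
    rintro _ ⟨z, hz, rfl⟩
    refine Subgroup.mem_center_iff.2 fun g => ?_
    obtain ⟨c, rfl⟩ := QuotientGroup.mk'_surjective K g
    rw [← map_mul, Subgroup.mem_center_iff.1 hz c, map_mul]
  · rw [hker, commutator_eq_map_of_range_sup_center (QuotientGroup.mk' K)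
      (by rw [MonoidHom.range_eq_top.2 (QuotientGroup.mk'_surjective K), top_sup_eq])]
    exact Subgroup.map_mono inf_le_right
  · have : Finite σ.ker := Finite.of_equiv _ e.symm.toEquiv
    have : Finite ((SchurC π ⧸ K) ⧸ σ.ker) :=
      Finite.of_equiv Q (QuotientGroup.quotientKerEquivOfSurjective σ hsurj).symm.toEquiv
    exact Finite.of_subgroup_quotient σ.ker

/-- The induced surjection from the multiplier onto `ξ.ker ⊓ commutator E`. -/
theorem exists_surj_schurM {ι : Type w} (b : FreeGroupBasis ι F) (hπ : Function.Surjective π)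
    {E : Type x} [Group E] (ξ : E →* Q) (hξ : Function.Surjective ξ)
    (hc : ξ.ker ≤ Subgroup.center E) :
    ∃ q : schurM π →* ↥(ξ.ker ⊓ commutator E), Function.Surjective q := by
  obtain ⟨φ, -, hmap, -, -⟩ := exists_central_lift b hπ ξ hξ hc
  exact ⟨(MulEquiv.subgroupCongr hmap).toMonoidHom.comp (φ.subgroupMap (schurM π)),
    (MulEquiv.subgroupCongr hmap).surjective.comp (φ.subgroupMap_surjective _)⟩

theorem exists_surj_ker_of_stem {ι : Type w} (b : FreeGroupBasis ι F) (hπ : Function.Surjective π)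
    {E : Type x} [Group E] (ξ : E →* Q) (hξ : Cfsg.IsStemExtension ξ) :
    ∃ q : schurM π →* ξ.ker, Function.Surjective q := by
  obtain ⟨q, hq⟩ := exists_surj_schurM π b hπ ξ hξ.1 hξ.2.1
  exact ⟨(MulEquiv.subgroupCongr (inf_eq_left.2 hξ.2.2)).toMonoidHom.comp q,
    (MulEquiv.subgroupCongr (inf_eq_left.2 hξ.2.2)).surjective.comp hq⟩

theorem exists_cover {ι : Type w} [Finite ι] [Finite Q] (b : FreeGroupBasis ι F)
    (hπ : Function.Surjective π) :
    ∃ (K : Subgroup (SchurC π)) (_ : K.Normal) (σ : SchurC π ⧸ K →* Q),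
      K ≤ (cproj π).ker ∧ K ⊓ commutator (SchurC π) = ⊥ ∧
      σ.comp (QuotientGroup.mk' K) = cproj π ∧
      Cfsg.IsStemExtension σ ∧ Finite (SchurC π ⧸ K) ∧ Nonempty (σ.ker ≃* schurM π) := by
  obtain ⟨K, h1, h2, h3, -⟩ := exists_complement b π (1 : (cproj π).ker →* PUnit.{1})
    (fun _ => ⟨1, one_mem _, Subsingleton.elim _ _⟩)
  obtain ⟨hn, σ, h⟩ := exists_cover_of_complement π hπ K h1 h2 h3
  exact ⟨K, hn, σ, h1, h2, h⟩

end Cover

variable (Q : Type u) [Group Q]

/-- The canonical presentation. -/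
def fproj : FreeGroup Q →* Q := FreeGroup.lift id

theorem fproj_surjective : Function.Surjective (fproj Q) := fun q => ⟨FreeGroup.of q, by simp [fproj]⟩

/-- The Schur multiplier of `Q`. -/
abbrev schurMul : Type u := schurM (fproj Q)

variable [Finite Q]

instance schurMul_finite : Finite (schurMul Q) := schurM_finite _

theorem hasSchurMultiplier_schurMul : Cfsg.HasSchurMultiplier Q (schurMul Q) := by
  refine ⟨?_, fun Γ _ _ σ hσ => exists_surj_ker_of_stem _ (FreeGroupBasis.ofFreeGroup Q) (fproj_surjective Q) σ hσ⟩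
  obtain ⟨K, hn, σ, -, -, -, hs, hf, he⟩ := exists_cover (fproj Q) (FreeGroupBasis.ofFreeGroup Q) (fproj_surjective Q)
  exact ⟨_, inferInstance, hf, σ, hs, he⟩

omit [Finite Q] in
theorem finite_of_hasSchurMultiplier {A : Type v} [CommGroup A] (hA : Cfsg.HasSchurMultiplier Q A) :
    Finite A := by
  obtain ⟨Γ, _, _, σ, -, ⟨e⟩⟩ := hA.1
  exact Finite.of_equiv _ e.toEquiv

theorem equiv_schurMul {A : Type v} [CommGroup A] (hA : Cfsg.HasSchurMultiplier Q A) :
    Nonempty (A ≃* schurMul Q) := by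
  have := finite_of_hasSchurMultiplier Q hA
  obtain ⟨⟨Γ, _, _, σ, hσ, ⟨e⟩⟩, h2⟩ := hA
  obtain ⟨⟨Δ, _, _, τ, hτ, ⟨f⟩⟩, -⟩ := hasSchurMultiplier_schurMul Q
  obtain ⟨p, hp⟩ := h2 Δ τ hτ
  obtain ⟨q, hq⟩ := (hasSchurMultiplier_schurMul Q).2 Γ σ hσ
  have hcard : Nat.card (schurMul Q) = Nat.card A :=
    le_antisymm (Nat.card_le_card_of_surjective (f ∘ p) (f.surjective.comp hp))
      (Nat.card_le_card_of_surjective (e ∘ q) (e.surjective.comp hq))
  exact ⟨(MulEquiv.ofBijective (e.toMonoidHom.comp q)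
    ((Nat.bijective_iff_surjective_and_card _).2 ⟨e.surjective.comp hq, hcard⟩)).symm⟩

/-- Each central extension (in any universe) has `ker ⊓ commutator` a quotient of the multiplier. -/
theorem exists_surj_of_central {A : Type v} [CommGroup A] (hA : Cfsg.HasSchurMultiplier Q A)
    {E : Type x} [Group E] (ξ : E →* Q) (hξ : Function.Surjective ξ)
    (hc : ξ.ker ≤ Subgroup.center E) :
    ∃ q : A →* ↥(ξ.ker ⊓ commutator E), Function.Surjective q := by
  obtain ⟨e⟩ := equiv_schurMul Q hA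
  obtain ⟨q, hq⟩ := exists_surj_schurM _ (FreeGroupBasis.ofFreeGroup Q) (fproj_surjective Q) ξ hξ hc
  exact ⟨q.comp e.toMonoidHom, hq.comp e.surjective⟩

omit [Finite Q] in
theorem hasSchurMultiplier_congr {A : Type v} {B : Type w} [CommGroup A] [CommGroup B] (e : A ≃* B)
    (hA : Cfsg.HasSchurMultiplier Q A) : Cfsg.HasSchurMultiplier Q B := by
  obtain ⟨⟨Γ, i1, i2, σ, hσ, ⟨f⟩⟩, h2⟩ := hA
  refine ⟨⟨Γ, i1, i2, σ, hσ, ⟨f.trans e⟩⟩, fun Δ _ _ τ hτ => ?_⟩
  obtain ⟨p, hp⟩ := h2 Δ τ hτ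
  exact ⟨p.comp e.symm.toMonoidHom, hp.comp e.symm.surjective⟩

/-- A group with a trivial multiplier: the criterion. -/
theorem hasCyclic_one_iff :
    Cfsg.HasCyclicSchurMultiplier Q 1 ↔ Subsingleton (schurMul Q) := by
  have hsub : Subsingleton (Multiplicative (ZMod 1)) := Multiplicative.toAdd.subsingleton
  refine ⟨fun h => ?_, fun h => ?_⟩
  · obtain ⟨e⟩ := equiv_schurMul Q h
    exact e.symm.toEquiv.subsingleton
  · let e : schurMul Q ≃* Multiplicative (ZMod 1) :=
      { toFun := fun _ => 1, invFun := fun _ => 1, left_inv := fun _ => Subsingleton.elim _ _,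
        right_inv := fun _ => Subsingleton.elim _ _, map_mul' := fun _ _ => (one_mul _).symm }
    exact hasSchurMultiplier_congr Q e (hasSchurMultiplier_schurMul Q)

theorem hasCyclic_one_of_ker_bot
    (h : ∀ (Γ : Type u) [Group Γ] [Finite Γ] (σ : Γ →* Q), Cfsg.IsStemExtension σ → σ.ker = ⊥) :
    Cfsg.HasCyclicSchurMultiplier Q 1 := by
  rw [hasCyclic_one_iff]
  obtain ⟨⟨Δ, _, _, τ, hτ, ⟨f⟩⟩, -⟩ := hasSchurMultiplier_schurMul Q
  have : Subsingleton τ.ker := by rw [h Δ τ hτ]; infer_instance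
  exact f.symm.toEquiv.subsingleton

omit [Finite Q] in
/-- The criterion for a cyclic multiplier of order `n`. -/
theorem hasCyclic_of_bound {n : ℕ} [NeZero n]
    (hub : ∀ (Γ : Type u) [Group Γ] [Finite Γ] (σ : Γ →* Q), Cfsg.IsStemExtension σ →
      ∃ c ∈ σ.ker, c ^ n = 1 ∧ σ.ker ≤ Subgroup.zpowers c)
    (Γ₀ : Type u) [Group Γ₀] [Finite Γ₀] (σ₀ : Γ₀ →* Q) (hσ₀ : Cfsg.IsStemExtension σ₀)
    (hn : Nat.card σ₀.ker = n) : Cfsg.HasCyclicSchurMultiplier Q n := by
  refine ⟨⟨Γ₀, inferInstance, inferInstance, σ₀, hσ₀, ?_⟩, fun Γ _ _ σ hσ => ?_⟩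
  · obtain ⟨c, hc, -, hle⟩ := hub Γ₀ σ₀ hσ₀
    have hcyc : IsCyclic σ₀.ker := by
      have : σ₀.ker = Subgroup.zpowers c := le_antisymm hle (Subgroup.zpowers_le.2 hc)
      rw [this]; infer_instance
    exact ⟨(zmodMulEquivOfGenerator (fun x => (IsCyclic.exists_generator (α := σ₀.ker)).choose_spec x) hn).symm⟩
  · obtain ⟨c, hc, hcn, hle⟩ := hub Γ σ hσ
    have hord : (orderOf (⟨c, hc⟩ : σ.ker) : ℤ) ∣ (n : ℤ) := by
      rw [Int.natCast_dvd_natCast]
      exact orderOf_dvd_of_pow_eq_one (Subtype.ext hcn)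
    let f : ℤ →+ Additive σ.ker := zmultiplesHom _ (Additive.ofMul ⟨c, hc⟩)
    have hf : f n = 0 := by
      show (n : ℤ) • Additive.ofMul (⟨c, hc⟩ : σ.ker) = 0
      rw [natCast_zsmul, ← ofMul_pow, orderOf_dvd_iff_pow_eq_one.1 (Int.natCast_dvd_natCast.1 hord)]
      rfl
    refine ⟨AddMonoidHom.toMultiplicativeLeft (ZMod.lift n ⟨f, hf⟩), fun y => ?_⟩
    obtain ⟨k, hk⟩ := Subgroup.mem_zpowers_iff.1 (hle y.2)
    refine ⟨Multiplicative.ofAdd (k : ZMod n), ?_⟩
    apply Subtype.ext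
    rw [← hk]
    simp [f]

end Cfsg.Agent.Struct.Schur
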