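/-
Lifting projective representations to covering groups.
-/
import Cfsg.Agent.Lib.Struct.SchurMain
import Mathlib.Algebra.Category.Grp.Injective
import Mathlib.LinearAlgebra.Matrix.GeneralLinearGroup.Basic
import Mathlib.GroupTheory.FiniteAbelian.Duality
import Mathlib.RingTheory.RootsOfUnity.AlgebraicallyClosed
import Mathlib.Analysis.Complex.Polynomial.Basic
import Mathlib.FieldTheory.IsAlgClosed.Basic

set_option autoImplicit false

open scoped commutatorElement

namespace Cfsg.Agent.Struct.Schur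

universe u v w x

/-- Homomorphisms into a divisible commutative group extend along injective maps. -/
theorem exists_extend {A : Type u} {H : Type v} {Z : Type w} [CommGroup A] [CommGroup H]
    [CommGroup Z] (hZ : ∀ n : ℕ, n ≠ 0 → ∀ z : Z, ∃ y, y ^ n = z) (i : H →* A)
    (hi : Function.Injective i) (f : H →* Z) : ∃ g : A →* Z, g.comp i = f := by
  letI : DivisibleBy (Additive Z) ℕ := divisibleByOfSMulRightSurj _ _ fun {n} hn z => by
    obtain ⟨y, hy⟩ := hZ n hn (Additive.toMul z)
    exact ⟨Additive.ofMul y, show n • Additive.ofMul y = z by rw [← ofMul_pow, hy, ofMul_toMul]⟩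
  letI : DivisibleBy (Additive Z) ℤ := AddGroup.divisibleByIntOfDivisibleByNat _
  obtain ⟨g, hg⟩ := (Module.Baer.of_divisible (Additive Z)).extension_property_addMonoidHom
    (MonoidHom.toAdditive i) hi (MonoidHom.toAdditive f)
  exact ⟨MonoidHom.toAdditive.symm g, MonoidHom.ext fun h =>
    congrArg Additive.toMul (DFunLike.congr_fun hg (Additive.ofMul h))⟩

theorem complexUnits_divisible (n : ℕ) (hn : n ≠ 0) (z : ℂˣ) : ∃ y, y ^ n = z := by
  obtain ⟨w, hw⟩ := IsAlgClosed.exists_pow_nat_eq (z : ℂ) (Nat.pos_of_ne_zero hn)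
  have hw0 : w ≠ 0 := fun h => z.ne_zero (by rw [← hw, h, zero_pow hn])
  exact ⟨Units.mk0 w hw0, Units.ext (by rw [Units.val_pow_eq_pow_val]; exact hw)⟩

/-- A homomorphism on a subgroup meeting the commutator subgroup trivially extends. -/
theorem exists_extend_subgroup {C : Type u} [Group C] {Z : Type w} [CommGroup Z]
    (hZ : ∀ n : ℕ, n ≠ 0 → ∀ z : Z, ∃ y, y ^ n = z) (K : Subgroup C)
    (hK : K ⊓ commutator C = ⊥) (f : K →* Z) : ∃ μ : C →* Z, ∀ k : K, μ k = f k := by
  let i : K →* Abelianization C := Abelianization.of.comp K.subtype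
  have hi : Function.Injective i := by
    rw [← MonoidHom.ker_eq_bot_iff, eq_bot_iff]
    intro k hk
    have h1 : (k : C) ∈ K ⊓ commutator C := ⟨k.2, (Abelianization.ker_of C).le hk⟩
    rw [hK, Subgroup.mem_bot] at h1
    exact Subgroup.mem_bot.2 (Subtype.ext h1)
  letI : CommGroup K :=
    { (inferInstance : Group K) with mul_comm := fun a b => hi (by rw [map_mul, map_mul, mul_comm]) }
  obtain ⟨g, hg⟩ := exists_extend hZ i hi f
  exact ⟨g.comp Abelianization.of, fun k => DFunLike.congr_fun hg k⟩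

/-- Two homomorphisms agreeing modulo the centre agree on the commutator subgroup. -/
theorem eq_on_commutator {C : Type u} [Group C] {E : Type v} [Group E] (f g : C →* E)
    (h : ∀ c, (g c)⁻¹ * f c ∈ Subgroup.center E) {x : C} (hx : x ∈ commutator C) : f x = g x := by
  suffices commutator C ≤ f.eqLocus g from this hx
  rw [commutator_def, Subgroup.commutator_le]
  intro a _ b _
  show f ⁅a, b⁆ = g ⁅a, b⁆
  rw [map_commutatorElement, map_commutatorElement,
    ← comm_mul_center (h a) (h b) (a := g a) (b := g b), mul_inv_cancel_left, mul_inv_cancel_left]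

theorem center_GL_divisible (n : ℕ) (k : ℕ) (hk : k ≠ 0)
    (z : Subgroup.center (GL (Fin n) ℂ)) : ∃ y, y ^ k = z := by
  obtain ⟨z, hz⟩ := z
  have hz' := hz
  rw [Matrix.GeneralLinearGroup.center_eq_range_scalar] at hz'
  obtain ⟨u, rfl⟩ := hz'
  obtain ⟨y, rfl⟩ := complexUnits_divisible k hk u
  refine ⟨⟨Matrix.GeneralLinearGroup.scalar (Fin n) y, ?_⟩, Subtype.ext ?_⟩
  · rw [Matrix.GeneralLinearGroup.center_eq_range_scalar]
    exact MonoidHom.mem_range.2 ⟨y, rfl⟩
  · rw [SubmonoidClass.coe_pow]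
    exact (map_pow (Matrix.GeneralLinearGroup.scalar (Fin n)) y k).symm

/-- Maps into a central quotient with divisible centre lift to any covering group. -/
theorem exists_lift_of_cover {Q : Type u} [Group Q] [Finite Q] {A : Type v} [CommGroup A]
    (hA : Cfsg.HasSchurMultiplier Q A) {Γ : Type w} [Group Γ] [Finite Γ] (σ : Γ →* Q)
    (hσ : Cfsg.IsStemExtension σ) (hk : Nonempty (σ.ker ≃* A)) {E : Type x} [Group E]
    (hE : ∀ k : ℕ, k ≠ 0 → ∀ z : Subgroup.center E, ∃ y, y ^ k = z)
    (γ : Q →* E ⧸ Subgroup.center E) :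
    ∃ ρ : Γ →* E, (QuotientGroup.mk' (Subgroup.center E)).comp ρ = γ.comp σ := by
  have hs := fproj_surjective Q
  let b := FreeGroupBasis.ofFreeGroup Q
  obtain ⟨θ, hθ, hmap, htop, hkl⟩ := exists_central_lift b hs σ hσ.1 hσ.2.1
  rw [inf_eq_left.2 hσ.2.2] at hmap
  have hsurj : Function.Surjective θ := by
    rw [← MonoidHom.range_eq_top, eq_top_iff, ← htop]
    exact sup_le le_rfl (hmap ▸ Subgroup.map_le_range _ _)
  have hinj : θ.ker ⊓ commutator (SchurC (fproj Q)) = ⊥ := by
    obtain ⟨e⟩ := hk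
    obtain ⟨eA⟩ := equiv_schurMul Q hA
    have hs' : Function.Surjective
        ((MulEquiv.subgroupCongr hmap).toMonoidHom.comp (θ.subgroupMap (schurM (fproj Q)))) :=
      (MulEquiv.subgroupCongr hmap).surjective.comp (θ.subgroupMap_surjective _)
    have : Finite (schurM (fproj Q)) := schurM_finite _
    have hb := (Nat.bijective_iff_surjective_and_card _).2
      ⟨hs', Nat.card_congr (e.trans eA).symm.toEquiv⟩
    rw [eq_bot_iff]
    intro c hc
    have hcM : c ∈ schurM (fproj Q) := ⟨hkl hc.1, hc.2⟩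
    have := hb.1 (a₁ := ⟨c, hcM⟩) (a₂ := 1) (by rw [map_one]; exact Subtype.ext hc.1)
    exact Subgroup.mem_bot.2 (congrArg Subtype.val this)
  obtain ⟨ρ₀, hρ₀⟩ := exists_hom_of_central b (fproj Q) (QuotientGroup.mk' (Subgroup.center E))
    (QuotientGroup.mk'_surjective _) (le_of_eq (QuotientGroup.ker_mk' _)) γ
  letI : CommGroup (Subgroup.center E) :=
    { (inferInstance : Group (Subgroup.center E)) with
      mul_comm := fun a c => Subtype.ext (commute_of_mem_center a.2 c) }
  let f : θ.ker →* Subgroup.center E := (ρ₀.comp θ.ker.subtype).codRestrict _ fun k => by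
    rw [← QuotientGroup.eq_one_iff]
    show (QuotientGroup.mk' _) (ρ₀ k.1) = 1
    rw [← MonoidHom.comp_apply (QuotientGroup.mk' _) ρ₀, hρ₀, MonoidHom.comp_apply,
      MonoidHom.mem_ker.1 (hkl k.2), map_one]
  obtain ⟨μ, hμ⟩ := exists_extend_subgroup hE θ.ker hinj f
  let ρ₁ : SchurC (fproj Q) →* E :=
    { toFun := fun c => ρ₀ c * (((μ c)⁻¹ : Subgroup.center E) : E)
      map_one' := by simp
      map_mul' := fun a c => by
        have h := commute_of_mem_center ((μ a)⁻¹).2 (ρ₀ c)
        rw [map_mul, map_mul, mul_inv, Subgroup.coe_mul]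
        calc ρ₀ a * ρ₀ c * (((μ a)⁻¹ : Subgroup.center E) * ((μ c)⁻¹ : Subgroup.center E) : E)
            = ρ₀ a * (ρ₀ c * ((μ a)⁻¹ : Subgroup.center E)) * ((μ c)⁻¹ : Subgroup.center E) := by
              simp only [mul_assoc]
          _ = _ := by rw [← h]; simp only [mul_assoc] }
  have hle : θ.ker ≤ ρ₁.ker := fun k hk => by
    show ρ₀ k * (((μ k)⁻¹ : Subgroup.center E) : E) = 1
    rw [hμ ⟨k, hk⟩, Subgroup.coe_inv]
    exact mul_inv_cancel _
  refine ⟨θ.liftOfSurjective hsurj ⟨ρ₁, hle⟩, MonoidHom.ext fun g => ?_⟩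
  obtain ⟨c, rfl⟩ := hsurj g
  rw [MonoidHom.comp_apply, MonoidHom.comp_apply, MonoidHom.liftOfRightInverse_comp_apply]
  show QuotientGroup.mk' _ (ρ₀ c * (((μ c)⁻¹ : Subgroup.center E) : E)) = γ (σ (θ c))
  have h1 : σ (θ c) = cproj (fproj Q) c := DFunLike.congr_fun hθ c
  have h2 : QuotientGroup.mk' (Subgroup.center E) (((μ c)⁻¹ : Subgroup.center E) : E) = 1 :=
    (QuotientGroup.eq_one_iff _).2 (Subtype.prop _)
  rw [map_mul, h2, mul_one, h1]
  exact DFunLike.congr_fun hρ₀ c

open scoped Classical in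
/-- The monomial representation attached to a character of a central kernel of finite index. -/
theorem exists_monomial {C : Type u} [Group C] {Q : Type v} [Group Q] [Finite Q] (c : C →* Q)
    (hc : Function.Surjective c) (hcc : c.ker ≤ Subgroup.center C) (χ : c.ker →* ℂˣ) :
    ∃ (n : ℕ) (ρ : C →* GL (Fin n) ℂ), 0 < n ∧
      ∀ z : c.ker, ρ z = Matrix.GeneralLinearGroup.scalar (Fin n) (χ z) := by
  obtain ⟨n, ⟨e⟩⟩ := Finite.exists_equiv_fin Q
  let q := e.symm
  let s : Fin n → C := fun i => Function.surjInv hc (q i)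
  have hs : ∀ i, c (s i) = q i := fun i => Function.surjInv_eq hc _
  have hmem : ∀ a i j, c a * q j = q i → (s i)⁻¹ * a * s j ∈ c.ker := fun a i j h => by
    rw [MonoidHom.mem_ker, map_mul, map_mul, map_inv, hs, hs, mul_assoc, h, inv_mul_cancel]
  let M : C → Matrix (Fin n) (Fin n) ℂ := fun a i j =>
    if h : c a * q j = q i then (χ ⟨_, hmem a i j h⟩ : ℂ) else 0
  have hker : ∀ z : c.ker, M z = Matrix.scalar (Fin n) (χ z : ℂ) := by
    intro z
    funext i j
    rw [Matrix.scalar_apply]
    by_cases hij : i = j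
    · subst hij
      have h : c z.1 * q i = q i := by rw [MonoidHom.mem_ker.1 z.2, one_mul]
      rw [Matrix.diagonal_apply_eq]
      simp only [M, dif_pos h]
      congr 2
      refine Subtype.ext ?_
      show (s i)⁻¹ * z.1 * s i = z.1
      rw [mul_assoc, commute_of_mem_center (hcc z.2), inv_mul_cancel_left]
    · have h : ¬ c z.1 * q j = q i := by
        rw [MonoidHom.mem_ker.1 z.2, one_mul]
        exact fun hh => hij (q.injective hh).symm
      rw [Matrix.diagonal_apply_ne _ hij]
      simp only [M, dif_neg h]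
  let Mh : C →* Matrix (Fin n) (Fin n) ℂ :=
    { toFun := M
      map_one' := by
        have h := hker 1
        rw [map_one, Units.val_one, map_one] at h
        exact h
      map_mul' := fun a b => by
        funext i k
        let j₀ := q.symm (c b * q k)
        have hj₀ : c b * q k = q j₀ := (q.apply_symm_apply _).symm
        rw [Matrix.mul_apply, Finset.sum_eq_single j₀]
        · by_cases h : c a * q j₀ = q i
          · have h' : c (a * b) * q k = q i := by rw [map_mul, mul_assoc, hj₀, h]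
            simp only [M, dif_pos h, dif_pos h', dif_pos hj₀]
            rw [← Units.val_mul, ← map_mul]
            congr 2
            refine Subtype.ext ?_
            show (s i)⁻¹ * (a * b) * s k = (s i)⁻¹ * a * s j₀ * ((s j₀)⁻¹ * b * s k)
            group
          · have h' : ¬ c (a * b) * q k = q i := by rw [map_mul, mul_assoc, hj₀]; exact h
            simp only [M, dif_neg h, dif_neg h', zero_mul]
        · intro j _ hj
          have h : ¬ c b * q k = q j := fun h => hj (q.injective (hj₀.symm.trans h)).symm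
          simp only [M, dif_neg h, mul_zero]
        · exact fun h => absurd (Finset.mem_univ _) h }
  refine ⟨n, Mh.toHomUnits, Fin.pos_iff_nonempty.2 ⟨e 1⟩, fun z => Units.ext ?_⟩
  exact hker z

/-- If all projective representations lift, the kernel maps onto the multiplier. -/
theorem exists_surj_of_lifting {Q : Type u} [Group Q] [Finite Q] {Γ : Type v} [Group Γ] [Finite Γ]
    (σ : Γ →* Q) (hσ : Cfsg.IsStemExtension σ)
    (hlift : ∀ (n : ℕ) (γ : Q →* (GL (Fin n) ℂ ⧸ Subgroup.center (GL (Fin n) ℂ))),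
      ∃ ρ : Γ →* GL (Fin n) ℂ,
        (QuotientGroup.mk' (Subgroup.center (GL (Fin n) ℂ))).comp ρ = γ.comp σ) :
    ∃ π : σ.ker →* schurMul Q, Function.Surjective π := by
  have hs := fproj_surjective Q
  let b := FreeGroupBasis.ofFreeGroup Q
  set c := cproj (fproj Q) with hcdef
  have hc := cproj_surjective hs
  have hcc := cproj_ker_le_center (fproj Q)
  obtain ⟨θ, hθ, hmap, htop, hkl⟩ := exists_central_lift b hs σ hσ.1 hσ.2.1
  rw [inf_eq_left.2 hσ.2.2] at hmap
  have hinj : ∀ m : schurM (fproj Q), θ m.1 = 1 → m = 1 := by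
    intro m hm
    by_contra hne
    have : NeZero (Monoid.exponent (schurM (fproj Q))) :=
      ⟨Monoid.exponent_ne_zero_of_finite⟩
    obtain ⟨χ₀, hχ₀⟩ := CommGroup.exists_apply_ne_one_of_hasEnoughRootsOfUnity
      (schurM (fproj Q)) ℂ hne
    letI := centralKerCommGroup hcc
    obtain ⟨χ, hχ⟩ := exists_extend complexUnits_divisible
      (Subgroup.inclusion (inf_le_left : schurM (fproj Q) ≤ c.ker))
      (Subgroup.inclusion_injective _) χ₀
    obtain ⟨n, ρ, hn, hρ⟩ := exists_monomial c hc hcc χ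
    let g := (QuotientGroup.mk' (Subgroup.center (GL (Fin n) ℂ))).comp ρ
    have hg : c.ker ≤ g.ker := fun z hz => by
      show QuotientGroup.mk' _ (ρ z) = 1
      rw [QuotientGroup.mk'_apply, QuotientGroup.eq_one_iff, hρ ⟨z, hz⟩,
        Matrix.GeneralLinearGroup.center_eq_range_scalar]
      exact ⟨_, rfl⟩
    let γ := c.liftOfSurjective hc ⟨g, hg⟩
    obtain ⟨ρ', hρ'⟩ := hlift n γ
    have hagree : ∀ a, (ρ'.comp θ a)⁻¹ * ρ a ∈ Subgroup.center (GL (Fin n) ℂ) := fun a => by
      rw [← QuotientGroup.eq]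
      show QuotientGroup.mk' _ (ρ' (θ a)) = g a
      rw [← MonoidHom.comp_apply _ ρ', hρ', MonoidHom.comp_apply,
        show σ (θ a) = c a from DFunLike.congr_fun hθ a]
      exact MonoidHom.liftOfRightInverse_comp_apply c _ _ _ a
    have h1 := eq_on_commutator ρ (ρ'.comp θ) hagree m.2.2
    rw [MonoidHom.comp_apply, hm, map_one, show ρ m.1 = _ from hρ ⟨m.1, m.2.1⟩,
      show χ ⟨m.1, m.2.1⟩ = χ₀ m from DFunLike.congr_fun hχ m] at h1
    apply hχ₀
    have : Nonempty (Fin n) := ⟨⟨0, hn⟩⟩
    have h2 := congrArg (fun t : GL (Fin n) ℂ => (t : Matrix (Fin n) (Fin n) ℂ) ⟨0, hn⟩ ⟨0, hn⟩) h1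
    simp at h2
    exact h2
  let f : schurM (fproj Q) →* σ.ker :=
    (MulEquiv.subgroupCongr hmap).toMonoidHom.comp (θ.subgroupMap (schurM (fproj Q)))
  have hb : Function.Bijective f := by
    refine ⟨?_, (MulEquiv.subgroupCongr hmap).surjective.comp (θ.subgroupMap_surjective _)⟩
    rw [← MonoidHom.ker_eq_bot_iff, eq_bot_iff]
    exact fun m hm => Subgroup.mem_bot.2 (hinj m (congrArg Subtype.val hm))
  exact ⟨(MulEquiv.ofBijective f hb).symm.toMonoidHom, MulEquiv.surjective _⟩

end Cfsg.Agent.Struct.Schur
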