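import Cfsg.Agent.Lib.Struct.FpfAbelian
import Cfsg.Agent.Lib.Local.PGroup
import Mathlib.GroupTheory.SpecificGroups.Quaternion
import Mathlib.FieldTheory.Finite.Basic
import Mathlib.RingTheory.Int.Basic
import Mathlib.Tactic.LinearCombination

/-!
# `p`-groups with a unique subgroup of order `p`
-/

set_option autoImplicit false
set_option linter.style.haveILetI false

namespace Cfsg.Agent.Struct

open Subgroup

variable {P : Type*} [Group P] [Finite P] {p : ℕ} [hp : Fact p.Prime]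

/-- A maximal abelian normal subgroup of a `p`-group is self-centralizing. -/
theorem exists_selfCentralizing_normal (hP : IsPGroup p P) :
    ∃ A : Subgroup P, A.Normal ∧ (∀ x ∈ A, ∀ y ∈ A, Commute x y) ∧
      ∀ x : P, (∀ y ∈ A, Commute x y) → x ∈ A := by
  have hne : {A : Subgroup P | A.Normal ∧ ∀ x ∈ A, ∀ y ∈ A, Commute x y}.Nonempty :=
    ⟨⊥, inferInstance, fun x hx y _ => by rw [mem_bot.1 hx]; exact Commute.one_left y⟩
  obtain ⟨A, ⟨hAn, hAc⟩, hmax⟩ := Set.Finite.exists_maximalFor id _ (Set.toFinite _) hne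
  refine ⟨A, hAn, hAc, fun x hx => ?_⟩
  by_contra hxA
  haveI := hAn
  let C := centralizer (A : Set P)
  haveI : C.Normal := inferInstanceAs (centralizer (A : Set P)).Normal
  let M := C.map (QuotientGroup.mk' A)
  haveI : M.Normal := Subgroup.Normal.map inferInstance _ (QuotientGroup.mk'_surjective A)
  have hxC : x ∈ C := mem_centralizer_iff.2 fun y hy => (hx y hy).eq.symm
  have hM : M ≠ ⊥ := fun e => hxA ((QuotientGroup.eq_one_iff x).1 (mem_bot.1 (e ▸ mem_map_of_mem _ hxC)))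
  obtain ⟨q, hq, hq1⟩ := (Subgroup.bot_or_exists_ne_one _).resolve_left
    (Cfsg.Agent.Local.inf_center_ne_bot (hP.to_quotient A) M hM)
  obtain ⟨⟨c, hc, rfl⟩, hqz⟩ := Subgroup.mem_inf.1 hq
  have hcA : c ∉ A := fun h => hq1 ((QuotientGroup.eq_one_iff c).2 h)
  let B := (zpowers (QuotientGroup.mk' A c)).comap (QuotientGroup.mk' A)
  haveI : (zpowers (QuotientGroup.mk' A c)).Normal := ⟨fun y hy g => by
    have hle : zpowers (QuotientGroup.mk' A c) ≤ center (P ⧸ A) := zpowers_le.2 hqz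
    rw [mem_center_iff.1 (hle hy) g, mul_inv_cancel_right]; exact hy⟩
  have hB : ∀ y ∈ B, ∃ (k : ℤ) (b : P), b ∈ A ∧ y = c ^ k * b := by
    intro y hy
    obtain ⟨k, hk⟩ := mem_zpowers_iff.1 hy
    refine ⟨k, (c ^ k)⁻¹ * y, ?_, by group⟩
    rw [← map_zpow] at hk
    exact QuotientGroup.eq.1 hk
  have hle : A ≤ B := fun y hy => by
    show QuotientGroup.mk' A y ∈ zpowers (QuotientGroup.mk' A c)
    rw [(QuotientGroup.eq_one_iff y).2 hy |> fun h => (show QuotientGroup.mk' A y = 1 from h)]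
    exact one_mem _
  have hcc : ∀ (k : ℤ) (y : P), y ∈ A → Commute (c ^ k) y := fun k y hy =>
    Commute.zpow_left (mem_centralizer_iff.1 hc y hy).symm k
  have hBc : ∀ y ∈ B, ∀ z ∈ B, Commute y z := by
    intro y hy z hz
    obtain ⟨k, b, hb, rfl⟩ := hB y hy
    obtain ⟨l, d, hd, rfl⟩ := hB z hz
    refine Commute.mul_left (Commute.mul_right ?_ (hcc k d hd)) (Commute.mul_right (hcc l b hb).symm (hAc b hb d hd))
    exact Commute.zpow_zpow (Commute.refl c) k l
  have := hmax (j := B) ⟨inferInstance, hBc⟩ hle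
  exact hcA (this (show QuotientGroup.mk' A c ∈ zpowers _ from mem_zpowers _))

/-- Congruence for `∑ r^j` when `r ≡ 1 mod p`. -/
theorem geomSum_mod_sq {r : ℤ} (hr : (p : ℤ) ∣ r - 1) (hp2 : p ≠ 2) :
    (p : ℤ) ^ 2 ∣ (∑ j ∈ Finset.range p, r ^ j) - p := by
  obtain ⟨k, hk⟩ := hr
  have hj : ∀ j : ℕ, (p : ℤ) ^ 2 ∣ r ^ j - (1 + j * (p * k)) := by
    intro j
    induction j with
    | zero => simp
    | succ j ih =>
      obtain ⟨d, hd⟩ := ih
      refine ⟨d * r + j * k * k, ?_⟩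
      rw [pow_succ]
      push_cast
      linear_combination r * hd + (1 + (j : ℤ) * (p * k)) * hk
  have h1 : (p : ℤ) ^ 2 ∣ ∑ j ∈ Finset.range p, (r ^ j - (1 + j * (p * k))) :=
    Finset.dvd_sum fun j _ => hj j
  rw [Finset.sum_sub_distrib, Finset.sum_add_distrib, Finset.sum_const, Finset.card_range,
    nsmul_one, ← Finset.sum_mul] at h1
  obtain ⟨q, hq⟩ := (hp.out.eq_two_or_odd').resolve_left hp2
  have hs : (∑ j ∈ Finset.range p, (j : ℤ)) = p * q := by
    have e := Finset.sum_range_id_mul_two p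
    have e' : (∑ j ∈ Finset.range p, j) = p * q := by
      have : p - 1 = 2 * q := by omega
      rw [this] at e
      nlinarith
    have := congrArg (fun k : ℕ => (k : ℤ)) e'
    push_cast at this
    exact this
  rw [hs] at h1
  obtain ⟨d, hd⟩ := h1
  exact ⟨d + q * k, by linear_combination hd⟩

omit [Finite P] in
theorem pow_zpow_mul_conj {a x : P} {r : ℤ} (hr : x * a * x⁻¹ = a ^ r) (i : ℤ) (k : ℕ) :
    (a ^ i * x) ^ k = a ^ (i * ∑ j ∈ Finset.range k, r ^ j) * x ^ k := by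
  have hz : ∀ z : ℤ, x * a ^ z = a ^ (r * z) * x := fun z => by
    rw [← mul_inv_eq_iff_eq_mul, ← conj_zpow, hr, zpow_mul]
  induction k with
  | zero => simp
  | succ k ih =>
    rw [pow_succ', ih, mul_assoc (a ^ i), ← mul_assoc x, hz,
      mul_assoc _ x, ← mul_assoc (a ^ i), ← pow_succ', ← zpow_add]
    congr 2
    rw [Finset.sum_range_succ' , Finset.mul_sum, mul_add, Finset.mul_sum, Finset.mul_sum, add_comm]
    simp only [pow_zero, mul_one]
    congr 1
    exact Finset.sum_congr rfl fun j _ => by ring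

/-- A self-centralizing cyclic normal subgroup in a `p`-group with one subgroup of order `p`. -/
theorem outside_square (hP : IsPGroup p P)
    (huniq : ∀ x y : P, orderOf x = p → y ^ p = 1 → y ∈ zpowers x)
    {a : P} (hn : (zpowers a).Normal) (hsc : ∀ x : P, Commute x a → x ∈ zpowers a)
    {x : P} (hx : x ∉ zpowers a) (hxp : x ^ p ∈ zpowers a) :
    p = 2 ∧ 4 ∣ orderOf a ∧ x * a * x⁻¹ = a⁻¹ ∧ x ^ 2 = a ^ (orderOf a / 2) := by
  obtain ⟨n, hn'⟩ := IsPGroup.iff_orderOf.1 hP a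
  have hpZ : Prime (p : ℤ) := Nat.prime_iff_prime_int.1 hp.out
  have hzN : ∀ z : ℤ, a ^ z = 1 ↔ (p : ℤ) ^ n ∣ z := fun z => by
    rw [← orderOf_dvd_iff_zpow_eq_one, hn']; push_cast; rfl
  have hzeq : ∀ z w : ℤ, a ^ z = a ^ w ↔ (p : ℤ) ^ n ∣ z - w := fun z w => by
    rw [← hzN, zpow_sub, mul_inv_eq_one]
  obtain ⟨r, hr⟩ := mem_zpowers_iff.1 (hn.conj_mem a (mem_zpowers a) x)
  replace hr : x * a * x⁻¹ = a ^ r := hr.symm
  obtain ⟨m, hm⟩ := mem_zpowers_iff.1 hxp
  have hn1 : 1 ≤ n := by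
    by_contra h
    have : n = 0 := by omega
    rw [this, pow_zero, orderOf_eq_one_iff] at hn'
    exact hx (hsc x (hn' ▸ Commute.one_right x))
  obtain ⟨n', rfl⟩ : ∃ n', n = n' + 1 := ⟨n - 1, by omega⟩
  have hr1 : ¬ (p : ℤ) ^ (n' + 1) ∣ r - 1 := fun h => hx (hsc x (by
    show x * a = a * x
    rw [← mul_inv_eq_iff_eq_mul, hr, (hzeq r 1).2 h, zpow_one]))
  have hpow : ∀ k : ℕ, x ^ k * a * (x ^ k)⁻¹ = a ^ (r ^ k) := by
    intro k
    induction k with
    | zero => simp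
    | succ k ih =>
      rw [show x ^ (k + 1) * a * (x ^ (k + 1))⁻¹ = x * (x ^ k * a * (x ^ k)⁻¹) * x⁻¹ by
        rw [pow_succ']; group, ih, ← conj_zpow, hr, ← zpow_mul, pow_succ']
  have hrp : (p : ℤ) ^ (n' + 1) ∣ r ^ p - 1 := by
    rw [← hzeq, ← hpow, ← hm, zpow_one]; group
  have hpr : (p : ℤ) ∣ r - 1 := by
    have h1 : (p : ℤ) ∣ r ^ p - 1 := dvd_trans (dvd_pow_self _ (by omega)) hrp
    have h2 : (p : ℤ) ∣ r ^ p - r := by
      rw [← ZMod.intCast_zmod_eq_zero_iff_dvd]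
      push_cast
      rw [ZMod.pow_card, sub_self]
    have := dvd_sub h1 h2
    rwa [show r ^ p - 1 - (r ^ p - r) = r - 1 by ring] at this
  have hmr : (p : ℤ) ^ (n' + 1) ∣ m * (r - 1) := by
    have h1 : x * a ^ m * x⁻¹ = a ^ m := by rw [hm]; group
    rw [← conj_zpow, hr, ← zpow_mul, hzeq] at h1
    convert h1 using 1; ring
  have hpm : (p : ℤ) ∣ m := by
    by_contra h
    exact hr1 ((((hpZ.coprime_iff_not_dvd).2 h).pow_left).dvd_of_dvd_mul_left hmr)
  obtain ⟨m', hm'⟩ := hpm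
  have key : ∀ i : ℤ, ¬ (p : ℤ) ^ (n' + 1) ∣ i * (∑ j ∈ Finset.range p, r ^ j) + m := by
    intro i hi
    have hy : (a ^ i * x) ^ p = 1 := by
      rw [pow_zpow_mul_conj hr, ← hm, ← zpow_add]; exact (hzN _).2 hi
    have hz : orderOf (a ^ (p ^ n')) = p := by
      rw [orderOf_pow, hn', Nat.gcd_eq_right ⟨p, by rw [pow_succ]⟩, pow_succ,
        Nat.mul_div_cancel_left _ (pow_pos hp.out.pos _)]
    have := zpowers_le.2 (pow_mem (mem_zpowers a) (p ^ n')) (huniq _ _ hz hy)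
    exact hx ((mul_mem_cancel_left (zpow_mem (mem_zpowers a) i)).1 this)
  have solve : ∀ u : ℤ, ¬ (p : ℤ) ∣ u → (∑ j ∈ Finset.range p, r ^ j) = p * u → False := by
    intro u hu hS
    obtain ⟨s, t, hst⟩ : IsCoprime ((p : ℤ) ^ n') u := ((hpZ.coprime_iff_not_dvd).2 hu).pow_left
    refine key (-m' * t) ⟨m' * s, ?_⟩
    rw [hS, hm', pow_succ]
    linear_combination (-(p : ℤ) * m') * hst
  by_cases hp2 : p = 2
  · subst hp2
    have hS : (∑ j ∈ Finset.range 2, r ^ j) = 1 + r := by simp [Finset.sum_range_succ]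
    obtain ⟨k, hk⟩ := hpr
    push_cast at hk
    rcases Int.even_or_odd k with ⟨l, rfl⟩ | ⟨l, rfl⟩
    · exact (solve (1 + 2 * l) (by push_cast; omega) (by rw [hS]; push_cast; linarith)).elim
    · -- r ≡ 3 mod 4
      have hn2 : 1 ≤ n' := by
        by_contra h
        have : n' = 0 := by omega
        subst this
        exact hr1 ⟨2 * l + 1, by push_cast; linarith⟩
      have hodd : ¬ (2 : ℤ) ∣ 2 * l + 1 := by omega
      have hco : IsCoprime ((2 : ℤ) ^ n') (2 * l + 1) :=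
        ((Int.prime_two.coprime_iff_not_dvd).2 hodd).pow_left
      push_cast at hrp hmr hr1 key
      have hr1' : (2 : ℤ) ^ n' ∣ r + 1 := by
        refine hco.dvd_of_dvd_mul_right (Int.dvd_of_mul_dvd_mul_left two_ne_zero ?_)
        rw [← pow_succ', show (2 : ℤ) * ((r + 1) * (2 * l + 1)) = r ^ 2 - 1 by
          linear_combination -(r + 1) * hk]
        exact hrp
      have hm1 : (2 : ℤ) ^ n' ∣ m := by
        refine hco.dvd_of_dvd_mul_right (Int.dvd_of_mul_dvd_mul_left two_ne_zero ?_)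
        rw [← pow_succ', show (2 : ℤ) * (m * (2 * l + 1)) = m * (r - 1) by
          linear_combination -m * hk]
        exact hmr
      obtain ⟨c, hc⟩ := hr1'
      obtain ⟨d, hd⟩ := hm1
      rw [hS] at key
      rcases Int.even_or_odd d with ⟨e, rfl⟩ | ⟨e, rfl⟩
      · exact (key 0 ⟨e, by rw [hd, pow_succ]; ring⟩).elim
      rcases Int.even_or_odd c with ⟨e', rfl⟩ | ⟨e', rfl⟩
      · refine ⟨rfl, ?_, ?_, ?_⟩
        · rw [hn']; exact pow_dvd_pow 2 (show 2 ≤ n' + 1 by omega)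
        · rw [hr, ← zpow_neg_one, hzeq]
          exact ⟨e', by push_cast; rw [pow_succ]; linear_combination hc⟩
        · rw [← hm, hn', ← zpow_natCast, hzeq]
          refine ⟨e, ?_⟩
          rw [pow_succ, Nat.mul_div_cancel _ two_pos]
          push_cast
          rw [pow_succ]
          linear_combination hd
      · exact (key 1 ⟨e' + e + 1, by rw [hd, add_comm 1 r, hc, pow_succ]; ring⟩).elim
  · obtain ⟨d, hd⟩ := geomSum_mod_sq hpr hp2
    refine (solve (1 + p * d) ?_ (by linear_combination hd)).elim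
    intro h
    exact hpZ.not_dvd_one ((dvd_add_left (dvd_mul_right _ d)).1 h)

/-- **A `p`-group with only one subgroup of order `p` is cyclic or generalized quaternion.** -/
theorem cyclic_or_quaternion (hP : IsPGroup p P)
    (huniq : ∀ x y : P, orderOf x = p → y ^ p = 1 → y ∈ zpowers x) :
    IsCyclic P ∨ (p = 2 ∧ ∃ n : ℕ, 1 ≤ n ∧ Nonempty (P ≃* QuaternionGroup (2 ^ n))) := by
  obtain ⟨A, hAn, hAc, hAsc⟩ := exists_selfCentralizing_normal hP
  have hAcyc : IsCyclic A := by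
    refine Frobenius.isCyclic_of_commute_of_unique (fun x y => Subtype.ext (hAc x x.2 y y.2).eq) ?_
    intro q hq x y hx hy
    obtain ⟨k, hk⟩ := IsPGroup.iff_orderOf.1 hP (x : P)
    rw [Subgroup.orderOf_coe, hx] at hk
    have hk0 : k ≠ 0 := fun e => hq.ne_one (by rw [hk, e, pow_zero])
    obtain ⟨rfl, -⟩ := (Nat.Prime.pow_eq_iff hq).1 hk.symm
    obtain ⟨z, hz⟩ := mem_zpowers_iff.1 (huniq (x : P) (y : P) (by rw [Subgroup.orderOf_coe, hx])
      (congrArg Subtype.val hy))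
    exact mem_zpowers_iff.2 ⟨z, Subtype.ext (by simpa using hz)⟩
  obtain ⟨g, hg⟩ := IsCyclic.exists_generator (α := A)
  obtain ⟨a, rfl⟩ : ∃ a : P, zpowers a = A := ⟨g, le_antisymm (zpowers_le.2 g.2) fun y hy => by
    obtain ⟨k, hk⟩ := mem_zpowers_iff.1 (hg ⟨y, hy⟩)
    exact mem_zpowers_iff.2 ⟨k, by simpa using congrArg Subtype.val hk⟩⟩
  by_cases htop : zpowers a = ⊤
  · exact Or.inl (isCyclic_iff_exists_zpowers_eq_top.2 ⟨a, htop⟩)
  have hsc : ∀ x : P, Commute x a → x ∈ zpowers a := fun x hx => hAsc x fun y hy => by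
    obtain ⟨k, rfl⟩ := mem_zpowers_iff.1 hy
    exact hx.zpow_right k
  have out := fun (x : P) (hx : x ∉ zpowers a) (hxp : x ^ p ∈ zpowers a) =>
    outside_square hP huniq hAn hsc hx hxp
  obtain ⟨x₀, hx₀, hx₀p⟩ : ∃ x : P, x ∉ zpowers a ∧ x ^ p ∈ zpowers a := by
    haveI := hAn
    obtain ⟨k, hk⟩ := (hP.to_quotient (zpowers a)).exists_card_eq
    have hk0 : k ≠ 0 := fun e => htop (Subgroup.index_eq_one.1 (by
      rw [Subgroup.index_eq_card, hk, e, pow_zero]))
    obtain ⟨q, hq⟩ := exists_prime_orderOf_dvd_card' (G := P ⧸ zpowers a) p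
      (hk ▸ dvd_pow_self p hk0)
    obtain ⟨x, rfl⟩ := QuotientGroup.mk'_surjective _ q
    refine ⟨x, fun h => hp.out.ne_one ?_, ?_⟩
    · rw [← hq, orderOf_eq_one_iff]; exact (QuotientGroup.eq_one_iff x).2 h
    · refine (QuotientGroup.eq_one_iff _).1 ?_
      have : QuotientGroup.mk' (zpowers a) (x ^ p) = 1 := by
        rw [map_pow, ← hq, pow_orderOf_eq_one]
      exact this
  obtain ⟨rfl, h4, hinv₀, hsq₀⟩ := out x₀ hx₀ hx₀p
  obtain ⟨n, hn⟩ := IsPGroup.iff_orderOf.1 hP a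
  obtain ⟨n, rfl⟩ : ∃ n', n = n' + 2 := by
    refine ⟨n - 2, (Nat.sub_add_cancel ?_).symm⟩
    rw [hn] at h4
    exact (Nat.pow_dvd_pow_iff_le_right (by norm_num : 1 < 2)).1 (show 2 ^ 2 ∣ 2 ^ n from h4)
  have hinvz : ∀ x : P, x * a * x⁻¹ = a⁻¹ → ∀ z : ℤ, a ^ z * x = x * a ^ (-z) := fun x hx z => by
    have := conj_zpow (a := x) (b := a) (i := -z)
    rw [hx, inv_zpow, ← zpow_neg, neg_neg] at this
    rw [this]; group
  -- every element squares into `zpowers a`
  have hsq : ∀ y : P, y ^ 2 ∈ zpowers a := by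
    by_contra hcon
    push Not at hcon
    obtain ⟨y, hy⟩ := hcon
    have hex : ∃ k : ℕ, y ^ 2 ^ k ∈ zpowers a := by
      obtain ⟨k, hk⟩ := IsPGroup.iff_orderOf.1 hP y
      exact ⟨k, by rw [← hk, pow_orderOf_eq_one]; exact one_mem _⟩
    classical
    have hk2 : 2 ≤ Nat.find hex := by
      by_contra h
      have := Nat.find_spec hex
      rcases Nat.lt_or_ge (Nat.find hex) 1 with h0 | h0
      · rw [Nat.lt_one_iff.1 h0, pow_zero, pow_one] at this
        exact hy (pow_mem this 2)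
      · rw [show Nat.find hex = 1 by omega, pow_one] at this
        exact hy this
    obtain ⟨j, hj⟩ : ∃ j, Nat.find hex = j + 2 := ⟨Nat.find hex - 2, by omega⟩
    have hnot : (y ^ 2 ^ j) ^ 2 ∉ zpowers a := by
      rw [← pow_mul, ← pow_succ]; exact Nat.find_min hex (by omega)
    have hin : ((y ^ 2 ^ j) ^ 2) ^ 2 ∈ zpowers a := by
      have := Nat.find_spec hex
      rw [hj, pow_add, pow_mul] at this
      rw [← pow_mul (y ^ 2 ^ j)]
      exact this
    obtain ⟨-, -, hinv, -⟩ := out _ hnot hin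
    generalize y ^ 2 ^ j = u at hinv
    obtain ⟨s, hs⟩ := mem_zpowers_iff.1 (hAn.conj_mem a (mem_zpowers a) u)
    have h2 : u ^ 2 * a * (u ^ 2)⁻¹ = a ^ (s * s) := by
      rw [show u ^ 2 * a * (u ^ 2)⁻¹ = u * (u * a * u⁻¹) * u⁻¹ by rw [sq]; group, ← hs, ← conj_zpow,
        ← hs, zpow_mul]
    rw [hinv, ← zpow_neg_one, zpow_eq_zpow_iff_modEq, hn] at h2
    have h3 : (4 : ℤ) ∣ s * s + 1 := by
      have hd := Int.modEq_iff_dvd.1 h2
      have : (4 : ℤ) ∣ ((2 ^ (n + 2) : ℕ) : ℤ) := ⟨2 ^ n, by push_cast; ring⟩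
      have := dvd_trans this hd
      omega
    rcases Int.even_or_odd s with ⟨t, rfl⟩ | ⟨t, rfl⟩
    · obtain ⟨c, hc⟩ := h3
      have : (t + t) * (t + t) = 4 * (t * t) := by ring
      omega
    · obtain ⟨c, hc⟩ := h3
      have : (2 * t + 1) * (2 * t + 1) = 4 * (t * t + t) + 1 := by ring
      omega
  have hidx : (zpowers a).index = 2 := by
    refine index_eq_two_iff'.2 ⟨x₀, fun b => ?_⟩
    by_cases hb : b ∈ zpowers a
    · exact Or.inr ⟨hb, fun h => hx₀ ((mul_mem_cancel_right hb).1 h)⟩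
    · refine Or.inl ⟨?_, hb⟩
      obtain ⟨-, -, hb', -⟩ := out b hb (hsq b)
      refine hsc _ ?_
      show x₀ * b * a = a * (x₀ * b)
      rw [← mul_inv_eq_iff_eq_mul, mul_inv_rev,
        show x₀ * b * a * (b⁻¹ * x₀⁻¹) = x₀ * (b * a * b⁻¹) * x₀⁻¹ by group, hb',
        show x₀ * a⁻¹ * x₀⁻¹ = (x₀ * a * x₀⁻¹)⁻¹ by group, hinv₀, inv_inv]
  refine Or.inr ⟨rfl, n + 1, by omega, ⟨?_⟩⟩
  set h := 2 ^ (n + 1) with hh
  have hN : orderOf a = 2 * h := by rw [hn, hh, ← pow_succ']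
  have hsq' : x₀ ^ 2 = a ^ (h : ℤ) := by
    rw [hsq₀, hN, Nat.mul_div_cancel_left _ two_pos, zpow_natCast]
  have h0 : h ≠ 0 := by positivity
  haveI : NeZero h := ⟨h0⟩
  let e : ZMod (2 * h) → P := fun i => a ^ (i.val : ℤ)
  have he : ∀ z : ℤ, e (z : ZMod (2 * h)) = a ^ z := fun z => by
    show a ^ (((z : ZMod (2 * h)).val : ℤ)) = a ^ z
    rw [ZMod.val_intCast, ← hN, zpow_mod_orderOf]
  let f : QuaternionGroup h →* P :=
    MonoidHom.mk' (fun q => match q with
      | .a i => e i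
      | .xa i => x₀ * e i) (by
      rintro (i | i) (j | j) <;> obtain ⟨u, rfl⟩ := ZMod.intCast_surjective i <;>
        obtain ⟨v, rfl⟩ := ZMod.intCast_surjective j
      · simp only [QuaternionGroup.a_mul_a]
        rw [← Int.cast_add, he, he, he, zpow_add]
      · simp only [QuaternionGroup.a_mul_xa]
        rw [← Int.cast_sub, he, he, he, ← mul_assoc, hinvz x₀ hinv₀, mul_assoc, ← zpow_add,
          neg_add_eq_sub]
      · simp only [QuaternionGroup.xa_mul_a]
        rw [← Int.cast_add, he, he, he, zpow_add, mul_assoc]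
      · simp only [QuaternionGroup.xa_mul_xa]
        rw [show ((h : ℕ) : ZMod (2 * h)) = (((h : ℕ) : ℤ) : ZMod (2 * h)) by simp, ← Int.cast_add,
          ← Int.cast_sub, he, he, he, add_sub_assoc, zpow_add, ← hsq', sub_eq_neg_add, zpow_add,
          sq, mul_assoc x₀ (a ^ u), ← mul_assoc (a ^ u), hinvz x₀ hinv₀]
        group)
  have hsurj : Function.Surjective f := by
    intro y
    by_cases hy : y ∈ zpowers a
    · obtain ⟨z, rfl⟩ := mem_zpowers_iff.1 hy
      exact ⟨.a (z : ZMod (2 * h)), he z⟩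
    · have : x₀⁻¹ * y ∈ zpowers a := by
        rw [Subgroup.mul_mem_iff_of_index_two hidx]
        simp [hy, hx₀]
      obtain ⟨z, hz⟩ := mem_zpowers_iff.1 this
      refine ⟨.xa (z : ZMod (2 * h)), ?_⟩
      show x₀ * e (z : ZMod (2 * h)) = y
      rw [he, hz, mul_inv_cancel_left]
  refine (MulEquiv.ofBijective f ((Nat.bijective_iff_surjective_and_card f).2 ⟨hsurj, ?_⟩)).symm
  rw [← (zpowers a).card_mul_index, hidx, Nat.card_zpowers, hN, Nat.card_eq_fintype_card,
    QuaternionGroup.card]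
  ring

end Cfsg.Agent.Struct
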