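import Cfsg.Agent.Lib.Struct.Frobenius
import Cfsg.Agent.Lib.Struct.FpfSub
import Cfsg.Agent.Lib.Struct.UniqueOrderP
import Cfsg.Agent.Lib.Perm.Frobenius
import Cfsg.Agent.Lib.Solv.Coprime
import Mathlib.GroupTheory.Nilpotent

/-!
# Sylow subgroups of fixed point free complements
-/

set_option autoImplicit false
set_option linter.style.haveILetI false

namespace Cfsg.Agent.Struct.Frobenius

open Subgroup Cfsg

variable {G : Type*} [Group G] [Finite G]

theorem isFrobeniusComplement_of_fpf' {K H : Subgroup G} [K.Normal] (hc : IsComplement' K H)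
    (hK : K ≠ ⊥) (hH : H ≠ ⊥) (hfpf : ∀ h ∈ H, h ≠ 1 → K ⊓ centralizer {h} = ⊥) :
    IsFrobeniusComplement H :=
  (Cfsg.Agent.Perm.isFrobeniusComplement_of_fpf K H hc.sup_eq_top hK hH fun x hx n hn hcm => by
    by_cases hx1 : x = 1
    · exact Or.inl hx1
    · exact Or.inr ((eq_bot_iff_forall _).1 (hfpf x hx hx1) n
        (Subgroup.mem_inf.2 ⟨hn, mem_centralizer_singleton_iff.2 hcm.symm⟩))).1

theorem coprime_kernel_complement {K H : Subgroup G} [K.Normal] (hc : IsComplement' K H)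
    (hK : K ≠ ⊥) (hfpf : ∀ h ∈ H, h ≠ 1 → K ⊓ centralizer {h} = ⊥) :
    (Nat.card H).Coprime (Nat.card K) := by
  by_cases hH : H = ⊥
  · rw [hH, card_bot]; exact Nat.coprime_one_left _
  · have h1 := coprime_card_index (isFrobeniusComplement_of_fpf' hc hK hH hfpf)
    have h2 : H.index = Nat.card K := by
      refine Nat.eq_of_mul_eq_mul_right (Nat.card_pos (α := H)) ?_
      rw [H.index_mul_card, hc.card_mul_card]
    rwa [h2] at h1

/-- A `p`-group acting fixed point freely on a nontrivial coprime group normalises a nontrivial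
abelian subgroup of it. -/
theorem exists_invariant_abelian {A K : Subgroup G} (hK : K ≠ ⊥) (hAK : A ≤ normalizer (K : Set G))
    (hcop : (Nat.card A).Coprime (Nat.card K)) (hsolv : Group.IsSolvable A ∨ Group.IsSolvable K) :
    ∃ V : Subgroup G, V ≤ K ∧ V ≠ ⊥ ∧ IsMulCommutative V ∧ A ≤ normalizer (V : Set G) := by
  have hne : Nat.card K ≠ 1 := fun e => hK (card_eq_one.1 e)
  haveI := Fact.mk (Nat.minFac_prime hne)
  obtain ⟨Q, hQ⟩ := Cfsg.Agent.Solv.exists_invariant_sylow A K hAK hcop hsolv (Nat.card K).minFac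
  set S : Subgroup G := (Q : Subgroup K).map K.subtype with hS
  refine ⟨S ⊓ centralizer (S : Set G), inf_le_left.trans (map_subtype_le _), ?_, ?_, ?_⟩
  · intro e
    haveI : Nontrivial (Q : Subgroup K) := (nontrivial_iff_ne_bot _).2
      (Q.ne_bot_of_dvd_card (Nat.minFac_dvd _))
    haveI := Q.isPGroup'.center_nontrivial
    obtain ⟨z, hz⟩ := exists_ne (1 : center (Q : Subgroup K))
    apply hz
    have : ((z : (Q : Subgroup K)) : G) ∈ S ⊓ centralizer (S : Set G) := by
      refine Subgroup.mem_inf.2 ⟨mem_map_of_mem _ (z : (Q : Subgroup K)).2, mem_centralizer_iff.2 ?_⟩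
      rintro _ ⟨w, hw, rfl⟩
      exact congrArg (fun x : (Q : Subgroup K) => ((x : K) : G)) (mem_center_iff.1 z.2 ⟨w, hw⟩)
    rw [e, mem_bot] at this
    exact Subtype.ext (Subtype.ext (Subtype.ext this))
  · exact ⟨⟨fun x y => Subtype.ext
      (mem_centralizer_iff.1 (Subgroup.mem_inf.1 y.2).2 _ (Subgroup.mem_inf.1 x.2).1)⟩⟩
  · intro g hg
    have hn := mem_normalizer_iff.1 (hQ hg)
    refine mem_normalizer_iff.2 fun x => ?_
    constructor
    · intro hx
      obtain ⟨hx1, hx2⟩ := Subgroup.mem_inf.1 hx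
      refine Subgroup.mem_inf.2 ⟨(hn x).1 hx1, mem_centralizer_iff.2 fun y hy => ?_⟩
      have hy' : g⁻¹ * y * g ∈ S := (hn _).2 (by simpa [mul_assoc] using hy)
      have := mem_centralizer_iff.1 hx2 _ hy'
      calc y * (g * x * g⁻¹) = g * ((g⁻¹ * y * g) * x) * g⁻¹ := by group
        _ = g * (x * (g⁻¹ * y * g)) * g⁻¹ := by rw [this]
        _ = (g * x * g⁻¹) * y := by group
    · intro hx
      obtain ⟨hx1, hx2⟩ := Subgroup.mem_inf.1 hx
      refine Subgroup.mem_inf.2 ⟨(hn x).2 hx1, mem_centralizer_iff.2 fun y hy => ?_⟩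
      have := mem_centralizer_iff.1 hx2 _ ((hn y).1 hy)
      calc y * x = g⁻¹ * ((g * y * g⁻¹) * (g * x * g⁻¹)) * g := by group
        _ = g⁻¹ * ((g * x * g⁻¹) * (g * y * g⁻¹)) * g := by rw [this]
        _ = x * y := by group

/-- Sylow subgroups of a fixed point free complement are cyclic or generalized quaternion. -/
theorem sylow_cyclic_or_quaternion {A K : Subgroup G} (hK : K ≠ ⊥)
    (hAK : A ≤ normalizer (K : Set G)) (hcop : (Nat.card A).Coprime (Nat.card K))
    (hfpf : ∀ a ∈ A, a ≠ 1 → K ⊓ centralizer {a} = ⊥) {p : ℕ} [Fact p.Prime] (hA : IsPGroup p A) :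
    IsCyclic A ∨ (p = 2 ∧ ∃ n : ℕ, 1 ≤ n ∧ Nonempty (A ≃* QuaternionGroup (2 ^ n))) := by
  haveI := hA.isNilpotent
  obtain ⟨V, hVK, hV, hVc, hAV⟩ := exists_invariant_abelian hK hAK hcop (Or.inl inferInstance)
  have hfpf' : ∀ a ∈ A, a ≠ 1 → V ⊓ centralizer {a} = ⊥ := fun a ha ha1 =>
    eq_bot_iff.2 ((inf_le_inf_right _ hVK).trans (hfpf a ha ha1).le)
  obtain ⟨z₀, hz₀⟩ : ∃ z₀ : A, ∀ x : A, x ^ p = 1 → x ∈ zpowers z₀ := by
    by_cases ht : Nat.card A = 1
    · haveI := (Nat.card_eq_one_iff_unique.1 ht).1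
      exact ⟨1, fun x _ => by rw [Subsingleton.elim x 1]; exact one_mem _⟩
    haveI : Nontrivial A := (Finite.one_lt_card_iff_nontrivial).1 (by
      have := Nat.card_pos (α := A); omega)
    haveI := hA.center_nontrivial
    obtain ⟨n, hn, hcard⟩ := (hA.to_subgroup (center A)).nontrivial_iff_card.1 inferInstance
    obtain ⟨z, hz⟩ := exists_prime_orderOf_dvd_card' (G := center A) p
      (hcard ▸ dvd_pow_self p hn.ne')
    rw [← Subgroup.orderOf_coe] at hz
    exact ⟨z, fun x hx => unique_order_prime hV hAV hfpf' hz hx (mem_center_iff.1 z.2 x).symm⟩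
  refine cyclic_or_quaternion hA fun x y hx hy => ?_
  have hxz : x ∈ zpowers z₀ := hz₀ x (by rw [← hx, pow_orderOf_eq_one])
  have hyz := hz₀ y hy
  obtain ⟨i, rfl⟩ := mem_zpowers_iff.1 hxz
  obtain ⟨j, rfl⟩ := mem_zpowers_iff.1 hyz
  exact unique_order_prime hV hAV hfpf' hx hy ((Commute.refl z₀).zpow_zpow i j)

end Cfsg.Agent.Struct.Frobenius
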