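/-
Transfer and corestriction for Schur multipliers.
-/
import Cfsg.Agent.Lib.Struct.SchurMain
import Mathlib.GroupTheory.Transfer
import Mathlib.GroupTheory.FreeGroup.NielsenSchreier
import Mathlib.GroupTheory.FiniteAbelian.Duality
import Mathlib.RingTheory.RootsOfUnity.AlgebraicallyClosed
import Mathlib.Analysis.Complex.Polynomial.Basic

set_option autoImplicit false

open scoped commutatorElement

namespace Cfsg.Agent.Struct.Schur

universe u v w x

/-- The index power of a central commutator lies in the commutator subgroup of the subgroup. -/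
theorem pow_index_mem_commutator {E : Type u} [Group E] (H : Subgroup E) [H.FiniteIndex] {z : E}
    (hz : z ∈ Subgroup.center E) (hzc : z ∈ commutator E) :
    ∃ y ∈ commutator H, (y : E) = z ^ H.index := by
  have key : ∀ (k : ℕ) (g₀ : E), g₀⁻¹ * z ^ k * g₀ ∈ H → g₀⁻¹ * z ^ k * g₀ = z ^ k := fun k g₀ _ => by
    rw [mul_assoc, commute_of_mem_center (pow_mem hz k), inv_mul_cancel_left]
  have h1 : MonoidHom.transfer (Abelianization.of (G := H)) z = 1 :=
    Abelianization.commutator_subset_ker _ hzc
  rw [MonoidHom.transfer_eq_pow _ z key] at h1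
  exact ⟨⟨z ^ H.index, MonoidHom.transfer_eq_pow_aux z key⟩,
    (Abelianization.ker_of H).le h1, rfl⟩

/-- A quotient of a finite commutative group embeds into it. -/
theorem exists_injective_of_surjective {B : Type u} {I : Type v} [CommGroup B] [CommGroup I]
    [Finite B] (q : B →* I) (hq : Function.Surjective q) :
    ∃ j : I →* B, Function.Injective j := by
  have : Finite I := Finite.of_surjective q hq
  have : NeZero (Monoid.exponent B) := ⟨Monoid.exponent_ne_zero_of_finite⟩
  have : NeZero (Monoid.exponent I) := ⟨Monoid.exponent_ne_zero_of_finite⟩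
  obtain ⟨eB⟩ := CommGroup.monoidHom_mulEquiv_of_hasEnoughRootsOfUnity B ℂ
  obtain ⟨eI⟩ := CommGroup.monoidHom_mulEquiv_of_hasEnoughRootsOfUnity I ℂ
  let d : (I →* ℂˣ) →* (B →* ℂˣ) :=
    { toFun := fun χ => χ.comp q, map_one' := rfl, map_mul' := fun _ _ => rfl }
  have hd : Function.Injective d := fun χ χ' h => MonoidHom.ext fun i => by
    obtain ⟨b, rfl⟩ := hq i
    exact DFunLike.congr_fun h b
  exact ⟨eB.toMonoidHom.comp (d.comp eI.symm.toMonoidHom),
    eB.injective.comp (hd.comp eI.symm.injective)⟩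

/-- Index powers of the multiplier of `G` lie in a quotient of the multiplier of `U`. -/
theorem exists_pow_index_embedding {G : Type u} [Group G] [Finite G] (U : Subgroup G) {A : Type v}
    {B : Type w} [CommGroup A] [CommGroup B] (hA : Cfsg.HasSchurMultiplier G A)
    (hB : Cfsg.HasSchurMultiplier U B) :
    ∃ C : Subgroup B, Nonempty ((powMonoidHom U.index : A →* A).range ≃* C) := by
  obtain ⟨eA⟩ := equiv_schurMul G hA
  have hBfin := finite_of_hasSchurMultiplier U hB
  set c := cproj (fproj G)
  have hc := cproj_surjective (fproj_surjective G)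
  have hcc := cproj_ker_le_center (fproj G)
  let H := U.comap c
  have hidx : H.index = U.index := U.index_comap_of_surjective hc
  have : H.FiniteIndex := ⟨hidx ▸ Subgroup.index_ne_zero_of_finite⟩
  let ξ : H →* U := (c.comp H.subtype).codRestrict U fun h => h.2
  have hξ : Function.Surjective ξ := fun y => by
    obtain ⟨e, he⟩ := hc y.1
    exact ⟨⟨e, show c e ∈ U by rw [he]; exact y.2⟩, Subtype.ext he⟩
  have hξk : ∀ h : H, ξ h = 1 ↔ h.1 ∈ c.ker := fun h =>
    ⟨fun hh => congrArg Subtype.val hh, fun hh => Subtype.ext hh⟩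
  have hξc : ξ.ker ≤ Subgroup.center H := fun h hh =>
    Subgroup.mem_center_iff.2 fun y => Subtype.ext (Subgroup.mem_center_iff.1 (hcc ((hξk h).1 hh)) y.1)
  obtain ⟨q, hq⟩ := exists_surj_of_central U hB ξ hξ hξc
  letI : CommGroup ↥(ξ.ker ⊓ commutator H) :=
    { (inferInstance : Group ↥(ξ.ker ⊓ commutator H)) with
      mul_comm := fun a b => Subtype.ext (commute_of_mem_center (hξc a.2.1) b.1) }
  obtain ⟨j, hj⟩ := exists_injective_of_surjective q hq
  have hmem : ∀ a : A, ∃ y : ↥(ξ.ker ⊓ commutator H), ((y : H) : SchurC (fproj G)) = (eA (a ^ U.index) : schurMul G).1 := by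
    intro a
    have hz := hcc (eA a).2.1
    obtain ⟨y, hy, hy'⟩ := pow_index_mem_commutator H hz (eA a).2.2
    refine ⟨⟨y, (hξk y).2 ?_, hy⟩, ?_⟩
    · rw [hy']; exact pow_mem (eA a).2.1 _
    · show (y : SchurC (fproj G)) = _
      rw [hy', hidx, map_pow, SubmonoidClass.coe_pow]
  choose y hy using hmem
  let P := (powMonoidHom U.index : A →* A).range
  have hP : ∀ b : P, ∃ a : A, a ^ U.index = b.1 := fun b => b.2
  choose r hr using hP
  let f : P →* ↥(ξ.ker ⊓ commutator H) :=
    { toFun := fun b => y (r b)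
      map_one' := Subtype.ext (Subtype.ext (by
        rw [hy, hr, OneMemClass.coe_one, map_one, OneMemClass.coe_one, OneMemClass.coe_one,
          OneMemClass.coe_one]))
      map_mul' := fun b b' => Subtype.ext (Subtype.ext (by
        rw [Subgroup.coe_mul, Subgroup.coe_mul, hy, hy, hy, hr, hr, hr, Subgroup.coe_mul, map_mul,
          Subgroup.coe_mul])) }
  have hf : Function.Injective f := fun b b' h => by
    have h1 := congrArg (fun t : ↥(ξ.ker ⊓ commutator H) => ((t : H) : SchurC (fproj G))) h
    simp only [f, MonoidHom.coe_mk, OneHom.coe_mk, hy, hr] at h1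
    exact Subtype.ext (eA.injective (Subtype.ext h1))
  exact ⟨_, ⟨MonoidHom.ofInjective (f := j.comp f) (hj.comp hf)⟩⟩

/-- The order of the group annihilates its multiplier. -/
theorem pow_card_eq_one {G : Type u} [Group G] [Finite G] {A : Type v} [CommGroup A]
    (hA : Cfsg.HasSchurMultiplier G A) (a : A) : a ^ Nat.card G = 1 := by
  obtain ⟨eA⟩ := equiv_schurMul G hA
  apply eA.injective
  rw [map_pow, map_one]
  apply Subtype.ext
  set c := cproj (fproj G)
  have hidx : c.ker.index = Nat.card G := by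
    rw [Subgroup.index_ker, MonoidHom.range_eq_top.2 (cproj_surjective (fproj_surjective G)),
      Subgroup.card_top]
  have : c.ker.FiniteIndex := ⟨hidx ▸ Nat.card_pos.ne'⟩
  obtain ⟨y, hy, hy'⟩ := pow_index_mem_commutator c.ker
    (cproj_ker_le_center _ (eA a).2.1) (eA a).2.2
  have hbot : commutator c.ker = ⊥ := by
    rw [eq_bot_iff, commutator_def, Subgroup.commutator_le]
    intro a _ b _
    rw [Subgroup.mem_bot, commutatorElement_eq_one_iff_mul_comm]
    exact Subtype.ext (commute_of_mem_center (cproj_ker_le_center _ a.2) b.1)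
  rw [hbot, Subgroup.mem_bot] at hy
  rw [SubmonoidClass.coe_pow, OneMemClass.coe_one, ← hidx, ← hy', hy, OneMemClass.coe_one]

section Cores

/-- Corestriction: a map on multipliers whose composite with the natural map is the index power. -/
theorem exists_corestriction {G : Type u} [Group G] [Finite G] (P : Subgroup G) {A : Type v}
    {B : Type w} [CommGroup A] [CommGroup B] (hA : Cfsg.HasSchurMultiplier G A)
    (hB : Cfsg.HasSchurMultiplier P B) :
    ∃ (q : B →* A) (T : A →* B), ∀ a, q (T a) = a ^ P.index := by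
  classical
  obtain ⟨eA⟩ := equiv_schurMul G hA
  obtain ⟨eB⟩ := equiv_schurMul P hB
  set π := fproj G
  have hπ := fproj_surjective G
  let H := P.comap π
  have hidx : H.index = P.index := P.index_comap_of_surjective hπ
  have : H.FiniteIndex := ⟨hidx ▸ Subgroup.index_ne_zero_of_finite⟩
  letI : Fintype (FreeGroup G ⧸ H) := H.fintypeQuotientOfFiniteIndex
  let πH : H →* P := (π.comp H.subtype).codRestrict P fun h => h.2
  have hπH : Function.Surjective πH := fun y => by
    obtain ⟨e, he⟩ := hπ y.1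
    exact ⟨⟨e, show π e ∈ P by rw [he]; exact y.2⟩, Subtype.ext he⟩
  let bH := IsFreeGroup.basis H
  have hcH := cproj_ker_le_center πH
  have hMH := schurM_finite πH
  obtain ⟨q1, hq1⟩ := exists_surj_schurM πH bH hπH (cproj (fproj P))
    (cproj_surjective (fproj_surjective P)) (cproj_ker_le_center _)
  obtain ⟨q2, hq2⟩ := exists_surj_schurM (fproj P) (FreeGroupBasis.ofFreeGroup P)
    (fproj_surjective P) (cproj πH) (cproj_surjective hπH) hcH
  have hcard : Nat.card (schurM πH) = Nat.card (schurMul P) :=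
    le_antisymm (Nat.card_le_card_of_surjective q2 hq2) (Nat.card_le_card_of_surjective q1 hq1)
  obtain ⟨eH⟩ : Nonempty (schurM πH ≃* schurMul P) :=
    ⟨MulEquiv.ofBijective q1 ((Nat.bijective_iff_surjective_and_card _).2 ⟨hq1, hcard⟩)⟩
  -- the natural map
  have hres : relComm πH ≤ ((QuotientGroup.mk' (relComm π)).comp H.subtype).ker := by
    rw [relComm, Subgroup.commutator_le]
    intro r hr f _
    rw [MonoidHom.mem_ker, MonoidHom.comp_apply, map_commutatorElement, QuotientGroup.mk'_apply,
      QuotientGroup.eq_one_iff]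
    exact Subgroup.commutator_mem_commutator
      (show (r : FreeGroup G) ∈ π.ker from congrArg Subtype.val (MonoidHom.mem_ker.1 hr))
      (Subgroup.mem_top _)
  let res : SchurC πH →* SchurC π := QuotientGroup.lift (relComm πH) _ hres
  have hresc : ∀ x, cproj π (res x) = (cproj πH x : G) := fun x => by
    induction x using QuotientGroup.induction_on with
    | _ h => rfl
  let resM : schurM πH →* schurM π := (res.comp (schurM πH).subtype).codRestrict _ fun m => by
    refine ⟨?_, ?_⟩
    · show res m.1 ∈ (cproj π).ker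
      rw [MonoidHom.mem_ker, hresc, MonoidHom.mem_ker.1 m.2.1]
      rfl
    · have h1 : res m.1 ∈ (commutator (SchurC πH)).map res := ⟨m.1, m.2.2, rfl⟩
      rw [commutator_def, Subgroup.map_commutator] at h1
      exact Subgroup.commutator_mono le_top le_top h1
  -- the norm
  letI := centralKerCommGroup hcH
  have hR : ∀ (r : π.ker) (t : FreeGroup G), t⁻¹ * r * t ∈ H := fun r t =>
    show π (t⁻¹ * r * t) ∈ P by
      rw [map_mul, map_mul, MonoidHom.mem_ker.1 r.2, mul_one, map_inv, inv_mul_cancel]
      exact one_mem P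
  let f : π.ker → FreeGroup G → (cproj πH).ker := fun r t =>
    ⟨QuotientGroup.mk ⟨t⁻¹ * r * t, hR r t⟩, Subtype.ext (show π (t⁻¹ * r * t) = 1 by
      rw [map_mul, map_mul, MonoidHom.mem_ker.1 r.2, mul_one, map_inv, inv_mul_cancel])⟩
  have hfmul : ∀ r r' t, f (r * r') t = f r t * f r' t := fun r r' t => by
    refine Subtype.ext ?_
    show QuotientGroup.mk' (relComm πH) _ =
      QuotientGroup.mk' (relComm πH) _ * QuotientGroup.mk' (relComm πH) _
    rw [← map_mul]
    congr 1
    refine Subtype.ext ?_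
    show t⁻¹ * (r.1 * r'.1) * t = t⁻¹ * r.1 * t * (t⁻¹ * r'.1 * t)
    group
  have hfrep : ∀ r t (h : H), f r (t * h) = f r t := fun r t h => by
    refine Subtype.ext ?_
    have hy : QuotientGroup.mk (⟨t⁻¹ * r * t, hR r t⟩ : H) ∈ Subgroup.center (SchurC πH) :=
      hcH (f r t).2
    show QuotientGroup.mk' (relComm πH) _ = QuotientGroup.mk' (relComm πH) _
    rw [show (⟨(t * h)⁻¹ * r * (t * h), hR r _⟩ : H) = h⁻¹ * ⟨t⁻¹ * r * t, hR r t⟩ * h from
      Subtype.ext (show (t * h.1)⁻¹ * r.1 * (t * h.1) = h.1⁻¹ * (t⁻¹ * r.1 * t) * h.1 by group),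
      map_mul, map_mul, map_inv, mul_assoc]
    rw [show QuotientGroup.mk' (relComm πH) (⟨t⁻¹ * r * t, hR r t⟩ : H) * QuotientGroup.mk' _ h =
      QuotientGroup.mk' _ h * QuotientGroup.mk' _ ⟨t⁻¹ * r * t, hR r t⟩ from
      commute_of_mem_center hy _, inv_mul_cancel_left]
  have hfout : ∀ r t, f r (Quotient.out (QuotientGroup.mk t : FreeGroup G ⧸ H)) = f r t := by
    intro r t
    obtain ⟨h, hh⟩ := QuotientGroup.mk_out_eq_mul H t
    rw [hh]
    exact hfrep r t h
  let N : π.ker →* (cproj πH).ker :=
    MonoidHom.mk' (fun r => ∏ x : FreeGroup G ⧸ H, f r x.out)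
      fun r r' => by simp only [hfmul, Finset.prod_mul_distrib]
  have hconj : ∀ (r : π.ker) (g : FreeGroup G) (hg : g * r * g⁻¹ ∈ π.ker),
      N ⟨g * r * g⁻¹, hg⟩ = N r := by
    intro r g hg
    refine Fintype.prod_equiv (MulAction.toPerm g⁻¹) _ _ fun x => ?_
    have hx : (g⁻¹ • x : FreeGroup G ⧸ H) = QuotientGroup.mk (g⁻¹ * x.out) := by
      conv_lhs => rw [← QuotientGroup.out_eq' x]
      rfl
    rw [MulAction.toPerm_apply, hx, hfout]
    refine Subtype.ext (congrArg QuotientGroup.mk (Subtype.ext ?_))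
    show x.out⁻¹ * (g * r.1 * g⁻¹) * x.out = (g⁻¹ * x.out)⁻¹ * r.1 * (g⁻¹ * x.out)
    group
  have hker : relComm π ≤ N.ker.map π.ker.subtype := by
    rw [relComm, Subgroup.commutator_le]
    intro r hr g _
    have hg : g * (⟨r, hr⟩ : π.ker)⁻¹.1 * g⁻¹ ∈ π.ker :=
      (MonoidHom.normal_ker π).conj_mem _ (inv_mem hr) g
    refine ⟨⟨r, hr⟩ * ⟨_, hg⟩, ?_, ?_⟩
    · show N _ = 1
      rw [map_mul, hconj, ← map_mul, mul_inv_cancel, map_one]
    · show r * (g * r⁻¹ * g⁻¹) = ⁅r, g⁆
      rw [commutatorElement_def]; group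
  let mkR : π.ker →* (cproj π).ker :=
    ((QuotientGroup.mk' (relComm π)).comp π.ker.subtype).codRestrict _ fun r => r.2
  have hmkR : Function.Surjective mkR := fun z => by
    obtain ⟨g, hg⟩ := QuotientGroup.mk'_surjective _ z.1
    exact ⟨⟨g, show π g = 1 by
      have := MonoidHom.mem_ker.1 z.2
      rwa [← hg] at this⟩, Subtype.ext hg⟩
  have hkerle : mkR.ker ≤ N.ker := fun r hr => by
    have h1 : (r : FreeGroup G) ∈ relComm π :=
      (QuotientGroup.eq_one_iff _).1 (congrArg Subtype.val hr)
    obtain ⟨r', hr', he⟩ := hker h1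
    rwa [show r' = r from Subtype.ext he] at hr'
  let T₀ := mkR.liftOfSurjective hmkR ⟨N, hkerle⟩
  have hT₀ : ∀ r, T₀ (mkR r) = N r := MonoidHom.liftOfRightInverse_comp_apply _ _ _ _
  let T₁ : schurM π →* (cproj πH).ker := T₀.comp (Subgroup.inclusion inf_le_left)
  have hMfin := schurM_finite π
  have hT₁ : ∀ m, (T₁ m : SchurC πH) ∈ schurM πH := fun m => by
    refine ⟨(T₁ m).2, ?_⟩
    refine mem_commutator_of_pow bH πH (orderOf_pos m).ne' ?_
    rw [← SubmonoidClass.coe_pow, ← map_pow, pow_orderOf_eq_one, map_one]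
    exact one_mem _
  let T : schurM π →* schurM πH :=
    ((cproj πH).ker.subtype.comp T₁).codRestrict _ hT₁
  have hcomp : ∀ m, resM (T m) = m ^ P.index := by
    intro m
    apply Subtype.ext
    obtain ⟨r, hr⟩ := hmkR (Subgroup.inclusion inf_le_left m)
    show res (T₀ (Subgroup.inclusion inf_le_left m)).1 = _
    rw [← hr, hT₀, SubmonoidClass.coe_pow]
    show (res.comp (cproj πH).ker.subtype) (∏ x : FreeGroup G ⧸ H, f r x.out) = _
    letI := centralKerCommGroup (cproj_ker_le_center π)
    let res' : (cproj πH).ker →* (cproj π).ker :=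
      (res.comp (cproj πH).ker.subtype).codRestrict _ fun z => by
        rw [MonoidHom.mem_ker, MonoidHom.comp_apply, hresc,
          show cproj πH ((cproj πH).ker.subtype z) = 1 from z.2]
        rfl
    show (res' (∏ x : FreeGroup G ⧸ H, f r x.out)).1 = _
    rw [map_prod, Finset.prod_eq_pow_card (b := mkR r) (fun x _ => ?_)]
    · rw [SubmonoidClass.coe_pow, Finset.card_univ, ← Nat.card_eq_fintype_card, hr]
      show (m : SchurC π) ^ H.index = _
      rw [hidx]
    · refine Subtype.ext ?_
      show QuotientGroup.mk' (relComm π) (x.out⁻¹ * r.1 * x.out) = QuotientGroup.mk' _ r.1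
      have hc := commute_of_mem_center
        (cproj_ker_le_center π (mkR r).2) (QuotientGroup.mk' (relComm π) x.out)
      rw [map_mul, map_mul, map_inv, mul_assoc,
        show QuotientGroup.mk' (relComm π) r.1 * QuotientGroup.mk' _ x.out = _ from hc,
        inv_mul_cancel_left]
      rfl
  refine ⟨eA.symm.toMonoidHom.comp (resM.comp (eH.symm.toMonoidHom.comp eB.toMonoidHom)),
    eB.symm.toMonoidHom.comp (eH.toMonoidHom.comp (T.comp eA.toMonoidHom)), fun a => ?_⟩
  simp only [MonoidHom.comp_apply, MulEquiv.coe_toMonoidHom, MulEquiv.apply_symm_apply,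
    MulEquiv.symm_apply_apply]
  rw [hcomp]
  exact (map_pow eA.symm _ _).trans (by rw [MulEquiv.symm_apply_apply])

end Cores

end Cfsg.Agent.Struct.Schur
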