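/-
Central extensions of perfect groups.
-/
import Cfsg.Agent.Lib.Struct.SchurMain
import Mathlib.GroupTheory.IsPerfect

set_option autoImplicit false

open scoped commutatorElement

namespace Cfsg.Agent.Struct.Schur

universe u v w

variable {G : Type u} [Group G] {X : Type v} [Group X]

/-- Two homomorphisms out of a perfect group with the same composite to a central quotient agree. -/
theorem hom_ext_of_perfect (hG : Group.IsPerfect G) {P : Type w} [Group P] (ξ : X →* P)
    (hc : ξ.ker ≤ Subgroup.center X) (η η' : G →* X) (h : ξ.comp η = ξ.comp η') : η = η' := by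
  have hle : (⊤ : Subgroup G) ≤ η.eqLocus η' := by
    rw [← hG.commutator_eq_top, commutator_def, Subgroup.commutator_le]
    intro a _ b _
    show η ⁅a, b⁆ = η' ⁅a, b⁆
    have hz : ∀ g, (η' g)⁻¹ * η g ∈ Subgroup.center X := fun g => hc (by
      rw [MonoidHom.mem_ker, map_mul, map_inv, inv_mul_eq_one]
      exact (DFunLike.congr_fun h g).symm)
    rw [map_commutatorElement, map_commutatorElement,
      ← comm_mul_center (hz a) (hz b) (a := η' a) (b := η' b)]
    simp only [mul_inv_cancel_left]
  exact MonoidHom.ext fun g => hle (Subgroup.mem_top g)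

/-- For a perfect group an element commuting up to centre is central. -/
theorem mem_center_of_comm_mem_center (hG : Group.IsPerfect G) (g : G)
    (h : ∀ x : G, ⁅g, x⁆ ∈ Subgroup.center G) : g ∈ Subgroup.center G := by
  let f : G →* G :=
    { toFun := fun x => ⁅g, x⁆
      map_one' := commutatorElement_one_right g
      map_mul' := fun x y => by
        have hy := commute_of_mem_center (h y)
        calc ⁅g, x * y⁆ = ⁅g, x⁆ * (x * ⁅g, y⁆ * x⁻¹) := by
              simp only [commutatorElement_def]; group
          _ = ⁅g, x⁆ * ⁅g, y⁆ := by rw [← hy x, mul_inv_cancel_right] }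
  have hle : (⊤ : Subgroup G) ≤ f.ker := by
    rw [← hG.commutator_eq_top, commutator_def, Subgroup.commutator_le]
    intro a _ b _
    rw [MonoidHom.mem_ker, map_commutatorElement, commutatorElement_eq_one_iff_mul_comm]
    exact (Subgroup.mem_center_iff.1 (h a) _).symm
  refine Subgroup.mem_center_iff.2 fun x => ?_
  have hx : ⁅g, x⁆ = 1 := hle (Subgroup.mem_top x)
  exact (commutatorElement_eq_one_iff_mul_comm.1 hx).symm

end Cfsg.Agent.Struct.Schur
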