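import Mathlib

/-!
A group element lies in a subgroup as soon as its prime power parts do.
-/

set_option autoImplicit false

namespace Cfsg.Agent.Struct.PrimeParts

variable {G : Type*} [Group G]

theorem mem_of_coprime_pows {T : Subgroup G} {g : G} {a b : ℕ} (h : a.Coprime b) (ha : g ^ a ∈ T)
    (hb : g ^ b ∈ T) : g ∈ T := by
  have h2 : g = (g ^ a) ^ (Nat.gcdA a b) * (g ^ b) ^ (Nat.gcdB a b) := by
    rw [← zpow_natCast g a, ← zpow_natCast g b, ← zpow_mul, ← zpow_mul, ← zpow_add,
      ← Nat.gcd_eq_gcd_ab, h, Nat.cast_one, zpow_one]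
  rw [h2]
  exact mul_mem (zpow_mem ha _) (zpow_mem hb _)

/-- If every power of `g` of prime power order lies in `T`, so does `g`. -/
theorem mem_of_forall_primePow [Finite G] {T : Subgroup G} {g : G}
    (h : ∀ (i p a : ℕ), p.Prime → orderOf (g ^ i) = p ^ a → g ^ i ∈ T) : g ∈ T := by
  suffices ∀ n i, orderOf (g ^ i) = n → g ^ i ∈ T by simpa using this _ 1 rfl
  intro n
  induction n using Nat.strong_induction_on with
  | _ n ih =>
    intro i hn
    rcases eq_or_ne n 1 with rfl | hn1
    · rw [orderOf_eq_one_iff.1 hn]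
      exact one_mem T
    have hp := Nat.minFac_prime hn1
    set p := n.minFac
    have hn0 : n ≠ 0 := hn ▸ (orderOf_pos _).ne'
    by_cases hm : ordCompl[p] n = 1
    · refine h i p (n.factorization p) hp ?_
      rw [hn]
      conv_lhs => rw [← Nat.ordProj_mul_ordCompl_eq_self n p, hm, mul_one]
    have hcop : (ordProj[p] n).Coprime (ordCompl[p] n) :=
      Nat.Coprime.pow_left _ (hp.coprime_iff_not_dvd.2 (Nat.not_dvd_ordCompl hp hn0))
    have hk : n.factorization p ≠ 0 :=
      (hp.factorization_pos_of_dvd hn0 n.minFac_dvd).ne'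
    refine mem_of_coprime_pows hcop ?_ ?_
    · have ho : orderOf ((g ^ i) ^ ordProj[p] n) = ordCompl[p] n := by
        rw [orderOf_pow_of_dvd (pow_pos hp.pos _).ne' (by rw [hn]; exact Nat.ordProj_dvd n p), hn]
      rw [← pow_mul] at ho ⊢
      exact ih _ (Nat.div_lt_self (Nat.pos_of_ne_zero hn0) (Nat.one_lt_pow hk hp.one_lt)) _ ho
    · have ho : orderOf ((g ^ i) ^ ordCompl[p] n) = ordProj[p] n := by
        rw [orderOf_pow_of_dvd (Nat.ordCompl_pos p hn0).ne' (by rw [hn]; exact Nat.ordCompl_dvd n p),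
          hn, Nat.div_div_self (Nat.ordProj_dvd n p) hn0]
      rw [← pow_mul] at ho ⊢
      exact h _ p _ hp ho

end Cfsg.Agent.Struct.PrimeParts
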