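import Cfsg.Agent.Lib.Struct.FpfComplement

/-!
# A fixed point free group contains no Frobenius group; conjugacy of complements
-/

set_option autoImplicit false
set_option linter.style.haveILetI false

namespace Cfsg.Agent.Struct.Frobenius

open Subgroup Cfsg
open scoped Pointwise

variable {G : Type*} [Group G] [Finite G]

theorem isSolvable_of_normal_cyclic_sup {B : Type*} [Group B] (v t : B)
    (hn : (zpowers v).Normal) (hgen : ∀ b : B, ∃ i j : ℤ, b = v ^ i * t ^ j) :
    Group.IsSolvable B := by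
  haveI := hn
  haveI : IsMulCommutative (B ⧸ zpowers v) := ⟨⟨fun x y => by
    obtain ⟨x, rfl⟩ := QuotientGroup.mk'_surjective _ x
    obtain ⟨y, rfl⟩ := QuotientGroup.mk'_surjective _ y
    have h : ∀ b : B, ∃ j : ℤ, QuotientGroup.mk' (zpowers v) b = QuotientGroup.mk' (zpowers v) t ^ j :=
      fun b => by
        obtain ⟨i, j, rfl⟩ := hgen b
        refine ⟨j, ?_⟩
        rw [map_mul, map_zpow, map_zpow,
          show QuotientGroup.mk' (zpowers v) v = 1 from (QuotientGroup.eq_one_iff v).2 (mem_zpowers v),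
          one_zpow, one_mul]
    obtain ⟨j, hj⟩ := h x
    obtain ⟨k, hk⟩ := h y
    rw [hj, hk, ← zpow_add, ← zpow_add, add_comm]⟩⟩
  haveI : Group.IsSolvable (zpowers v) := Group.isSolvable_of_comm fun a b => mul_comm' a b
  haveI : Group.IsSolvable (B ⧸ zpowers v) := Group.isSolvable_of_comm fun a b => mul_comm' a b
  exact Group.isSolvable_of_ker_le_range (zpowers v).subtype (QuotientGroup.mk' (zpowers v))
    (by simp)

/-- A group acting fixed point freely and coprimely is not a Frobenius group. -/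
theorem not_frobenius_of_fpf {A K : Subgroup G} (hK : K ≠ ⊥)
    (hAK : A ≤ normalizer (K : Set G)) (hcop : (Nat.card A).Coprime (Nat.card K))
    (hfpf : ∀ a ∈ A, a ≠ 1 → K ⊓ centralizer {a} = ⊥) (T : Subgroup A) :
    ¬ IsFrobeniusComplement T := by
  intro hT
  obtain ⟨M, hMset, hMn, hMc⟩ := exists_kernel hT
  haveI := hMn
  have hM : M ≠ ⊥ := fun e => hT.2.1 (by
    have := hMc.sup_eq_top
    rwa [e, bot_sup_eq] at this)
  have hcardT : Nat.card T ≠ 1 := fun e => hT.1 (card_eq_one.1 e)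
  obtain ⟨p, hp, hpT⟩ := Nat.exists_prime_and_dvd hcardT
  haveI := Fact.mk hp
  obtain ⟨t, ht⟩ := exists_prime_orderOf_dvd_card' (G := T) p hpT
  rw [← Subgroup.orderOf_coe] at ht
  have ht1 : (t : A) ≠ 1 := fun e => hp.ne_one (by rw [← ht, e, orderOf_one])
  have hMidx : T.index = Nat.card M := by
    refine Nat.eq_of_mul_eq_mul_right (Nat.card_pos (α := T)) ?_
    rw [T.index_mul_card, hMc.card_mul_card]
  have hcopTM : p.Coprime (Nat.card M) :=
    Nat.Coprime.coprime_dvd_left hpT (hMidx ▸ coprime_card_index hT)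
  have htn : zpowers (t : A) ≤ normalizer (M : Set A) := fun x _ => by
    rw [normalizer_eq_top]; trivial
  obtain ⟨V, hVM, hV, hVc, htV⟩ := exists_invariant_abelian hM htn
    (by rw [Nat.card_zpowers, ht]; exact hcopTM) (Or.inl inferInstance)
  obtain ⟨r, hr, hrV⟩ := Nat.exists_prime_and_dvd (fun e => hV (card_eq_one.1 e) : Nat.card V ≠ 1)
  haveI := Fact.mk hr
  obtain ⟨v, hv⟩ := exists_prime_orderOf_dvd_card' (G := V) r hrV
  rw [← Subgroup.orderOf_coe] at hv
  have hpow : ∀ x ∈ zpowers (v : A), (x * (t : A)) ^ p = 1 := by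
    intro x hx
    have hxM : x ∈ M := hVM (zpowers_le.2 v.2 hx)
    have hxt : x * (t : A) ∉ M := fun h =>
      ht1 (Subgroup.disjoint_def.1 hMc.disjoint ((mul_mem_cancel_left hxM).1 h) t.2)
    rw [← SetLike.mem_coe, hMset, notMem_kernel] at hxt
    obtain ⟨-, g, hg⟩ := hxt
    have h1 : g⁻¹ * (x * (t : A)) ^ p * g ∈ T := by
      have : (g⁻¹ * (x * (t : A)) * g) ^ p = g⁻¹ * (x * (t : A)) ^ p * g := by
        have := conj_pow (i := p) (a := g⁻¹) (b := x * (t : A))
        simpa using this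
      rw [← this]; exact pow_mem hg p
    have h2 : (x * (t : A)) ^ p ∈ M := by
      refine (QuotientGroup.eq_one_iff _).1 ?_
      show QuotientGroup.mk' M ((x * (t : A)) ^ p) = 1
      rw [map_pow, map_mul, show QuotientGroup.mk' M x = 1 from (QuotientGroup.eq_one_iff x).2 hxM,
        one_mul, ← map_pow, ← ht, pow_orderOf_eq_one, map_one]
    have h3 := Subgroup.disjoint_def.1 hMc.disjoint (by simpa using hMn.conj_mem _ h2 g⁻¹) h1
    calc (x * (t : A)) ^ p = g * (g⁻¹ * (x * (t : A)) ^ p * g) * g⁻¹ := by group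
      _ = 1 := by rw [h3]; group
  have htv : (t : A) ∉ zpowers (v : A) := fun h =>
    ht1 (Subgroup.disjoint_def.1 hMc.disjoint (hVM (zpowers_le.2 v.2 h)) t.2)
  have conjV : ∀ x ∈ V, (t : A) * x * (t : A)⁻¹ ∈ V := fun x hx =>
    (mem_normalizer_iff.1 (htV (mem_zpowers (t : A))) x).1 hx
  -- work in an abelian invariant subgroup for a solvable subgroup of `A`
  let V' : Subgroup G := V.map A.subtype
  have hV'A : V' ≤ A := map_subtype_le V
  haveI hV'c : IsMulCommutative V' := by
    haveI := hVc; exact map_isMulCommutative V A.subtype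
  haveI : Group.IsSolvable V' := Group.isSolvable_of_comm fun a b => hV'c.is_comm.comm a b
  obtain ⟨W₀, hW₀K, hW₀, hW₀c, hW₀n⟩ := exists_invariant_abelian (A := V') hK (hV'A.trans hAK)
    (Nat.Coprime.coprime_dvd_left (card_dvd_of_le hV'A) hcop) (Or.inl inferInstance)
  haveI := hW₀c
  have hnorm : (t : A) * v * (t : A)⁻¹ ∈ zpowers (v : A) := by
    let v' : V' := ⟨((v : A) : G), mem_map_of_mem _ v.2⟩
    let w' : V' := ⟨(((t : A) * v * (t : A)⁻¹ : A) : G), mem_map_of_mem _ (conjV _ v.2)⟩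
    have ho : orderOf v' = r := by
      rw [← Subgroup.orderOf_coe]
      exact (Subgroup.orderOf_coe (v : A)).trans hv
    have hw : w' ^ r = 1 := by
      apply Subtype.ext
      show (((t : A) * v * (t : A)⁻¹ : A) : G) ^ r = 1
      rw [← SubgroupClass.coe_pow, conj_pow, ← hv, pow_orderOf_eq_one]
      simp
    obtain ⟨k, hk⟩ := mem_zpowers_iff.1 (unique_order_prime (V := W₀) hW₀ hW₀n
      (fun a ha ha1 => eq_bot_iff.2 ((inf_le_inf_right _ hW₀K).trans (hfpf a (hV'A ha) ha1).le))
      ho hw (hV'c.is_comm.comm v' w'))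
    refine mem_zpowers_iff.2 ⟨k, Subtype.ext ?_⟩
    have := congrArg Subtype.val hk
    simpa [v', w'] using this
  set B : Subgroup A := zpowers (v : A) ⊔ zpowers (t : A) with hB
  have htnv : zpowers (t : A) ≤ normalizer (zpowers (v : A) : Set A) := by
    rw [zpowers_le, mem_normalizer_iff_map_conj_eq, MonoidHom.map_zpowers]
    refine eq_of_le_of_card_ge (zpowers_le.2 hnorm) (le_of_eq ?_)
    rw [Nat.card_zpowers, Nat.card_zpowers]
    exact (orderOf_injective (MulAut.conj (t : A) : A ≃* A).toMonoidHom (MulAut.conj (t : A)).injective _).symm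
  let vB : B := ⟨v, mem_sup_left (mem_zpowers _)⟩
  let tB : B := ⟨t, mem_sup_right (mem_zpowers _)⟩
  have hvBn : (zpowers vB).Normal := by
    have e : zpowers vB = (zpowers (v : A)).subgroupOf B := by
      ext x
      simp only [mem_subgroupOf, mem_zpowers_iff, Subtype.ext_iff, SubgroupClass.coe_zpow, vB]
    rw [e, normal_subgroupOf_iff_le_normalizer le_sup_left]
    exact sup_le le_normalizer htnv
  have hgen : ∀ b : B, ∃ i j : ℤ, b = vB ^ i * tB ^ j := by
    intro b
    have hb : (b : A) ∈ (↑(zpowers (v : A) ⊔ zpowers (t : A)) : Set A) := b.2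
    rw [coe_mul_of_right_le_normalizer_left (zpowers (v : A)) (zpowers (t : A)) htnv] at hb
    obtain ⟨x, hx, y, hy, hxy⟩ := hb
    obtain ⟨i, rfl⟩ := mem_zpowers_iff.1 hx
    obtain ⟨j, rfl⟩ := mem_zpowers_iff.1 hy
    exact ⟨i, j, Subtype.ext (by simpa [vB, tB] using hxy.symm)⟩
  let B' : Subgroup G := B.map A.subtype
  haveI : Group.IsSolvable B := isSolvable_of_normal_cyclic_sup vB tB hvBn hgen
  let e : B ≃* B' := equivMapOfInjective B A.subtype A.subtype_injective
  have hB'A : B' ≤ A := map_subtype_le B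
  obtain ⟨W, hWK, hW, hWc, hWn⟩ := exists_invariant_abelian (A := B') hK (hB'A.trans hAK)
    (Nat.Coprime.coprime_dvd_left (card_dvd_of_le hB'A) hcop)
    (Or.inl (Group.isSolvable_of_surjective (f := e.toMonoidHom) e.surjective))
  haveI := hWc
  obtain ⟨φ, hφ⟩ := exists_conj_hom B' W hWn
  haveI : Nontrivial W := (nontrivial_iff_ne_bot W).2 hW
  open scoped IsMulCommutative in
  refine no_prime_pair (φ := φ.comp e.toMonoidHom) (p := p) (q := r) (a := vB) (b := tB) ?_ ?_ ?_
    ?_ ?_
  · intro b hb w hw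
    refine fpf_hom_of_centralizer hφ (fun a ha ha1 => eq_bot_iff.2
      ((inf_le_inf_right _ hWK).trans (hfpf a (hB'A ha) ha1).le)) (e b) ?_ w hw
    exact fun h => hb (e.injective (h.trans e.map_one.symm))
  · rw [← Subgroup.orderOf_coe]; exact hv
  · intro h
    obtain ⟨k, hk⟩ := mem_zpowers_iff.1 h
    exact htv (mem_zpowers_iff.2 ⟨k, by simpa [vB, tB] using congrArg Subtype.val hk⟩)
  · exact hvBn.conj_mem vB (mem_zpowers _) tB
  · intro x hx
    obtain ⟨k, rfl⟩ := mem_zpowers_iff.1 hx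
    exact Subtype.ext (by simpa [vB, tB] using hpow _ (zpow_mem (mem_zpowers (v : A)) k))

omit [Finite G] in
theorem fpf_of_conj_complement {H : Subgroup G} (hH : IsFrobeniusComplement H)
    {N : Subgroup G} (hN : N.Normal) (hd : Disjoint N H) {a g : G} (ha : g⁻¹ * a * g ∈ H)
    (ha1 : a ≠ 1) : N ⊓ centralizer {a} = ⊥ := by
  rw [eq_bot_iff_forall]
  intro x hx
  obtain ⟨hxN, hxc⟩ := Subgroup.mem_inf.1 hx
  have hc := mem_centralizer_singleton_iff.1 hxc
  have := fpf_of_complement hH hd ha (fun e => ha1 (by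
    calc a = g * (g⁻¹ * a * g) * g⁻¹ := by group
      _ = 1 := by rw [e]; group)) (x := g⁻¹ * x * g) (by simpa using hN.conj_mem x hxN g⁻¹)
    (by calc g⁻¹ * x * g * (g⁻¹ * a * g) = g⁻¹ * (x * a) * g := by group
        _ = g⁻¹ * (a * x) * g := by rw [hc]
        _ = g⁻¹ * a * g * (g⁻¹ * x * g) := by group)
  calc x = g * (g⁻¹ * x * g) * g⁻¹ := by group
    _ = 1 := by rw [this]; group

/-- A subgroup all of whose nontrivial elements lie in conjugates of the complement and whose
order is coprime to the kernel is contained in one conjugate, provided it meets that conjugate. -/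
theorem le_of_inf_ne_bot {H : Subgroup G} (hH : IsFrobeniusComplement H) {L : Subgroup G}
    (hL : ∀ a ∈ L, a ≠ 1 → ∃ g : G, g⁻¹ * a * g ∈ H) (hcop : (Nat.card L).Coprime H.index)
    (hne : H ⊓ L ≠ ⊥) : L ≤ H := by
  obtain ⟨N, hNset, hNn, hNc⟩ := exists_kernel hH
  have hN : N ≠ ⊥ := fun e => hH.2.1 (by
    have := hNc.sup_eq_top
    rwa [e, bot_sup_eq] at this)
  have hidx : H.index = Nat.card N := by
    refine Nat.eq_of_mul_eq_mul_right (Nat.card_pos (α := H)) ?_
    rw [H.index_mul_card, hNc.card_mul_card]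
  by_contra hle
  refine not_frobenius_of_fpf hN (A := L) (fun a _ => by rw [normalizer_eq_top]; trivial)
    (hidx ▸ hcop) (fun a ha ha1 => by
      obtain ⟨g, hg⟩ := hL a ha ha1
      exact fpf_of_conj_complement hH hNn hNc.disjoint hg ha1) (H.subgroupOf L) ⟨?_, ?_, ?_⟩
  · rw [Ne, subgroupOf_eq_bot, disjoint_iff]
    exact hne
  · rw [Ne, subgroupOf_eq_top]
    exact hle
  · intro g hg
    rw [eq_bot_iff_forall]
    intro x hx
    obtain ⟨hx1, hx2⟩ := Subgroup.mem_inf.1 hx
    rw [mem_conj_smul] at hx2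
    by_contra hne'
    exact hg (mem_of_conj_mem hH (x := (x : G)) (g := (g : G)) hx1
      (fun c => hne' (Subtype.ext c)) (by simpa [mem_subgroupOf] using hx2))

omit [Finite G] in
theorem isFrobeniusComplement_conj {H : Subgroup G} (hH : IsFrobeniusComplement H) (g : G) :
    IsFrobeniusComplement (MulAut.conj g • H) := by
  refine ⟨fun e => hH.1 ?_, fun e => hH.2.1 ?_, fun x hx => ?_⟩
  · rw [eq_bot_iff_forall] at e ⊢
    intro h hh
    have := e (g * h * g⁻¹) (mem_conj_smul.2 (by simpa [mul_assoc] using hh))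
    exact conj_eq_one_iff.1 this
  · rw [eq_top_iff'] at e ⊢
    intro h
    have := mem_conj_smul.1 (e (g * h * g⁻¹))
    simpa [mul_assoc] using this
  · rw [eq_bot_iff_forall]
    intro y hy
    obtain ⟨hy1, hy2⟩ := Subgroup.mem_inf.1 hy
    rw [mem_conj_smul] at hy1 hy2
    rw [mem_conj_smul] at hy2
    by_contra hne
    refine hx (mem_conj_smul.2 ?_)
    refine mem_of_conj_mem hH (x := g⁻¹ * y * g) hy1 (fun c => hne ?_) ?_
    · calc y = g * (g⁻¹ * y * g) * g⁻¹ := by group
        _ = 1 := by rw [c]; group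
    · convert hy2 using 1
      group

omit [Finite G] in
theorem index_conj (H : Subgroup G) (g : G) : (MulAut.conj g • H).index = H.index :=
  Subgroup.index_map_of_bijective (f := (MulAut.conj g : G ≃* G).toMonoidHom) (MulAut.conj g).bijective H

omit [Finite G] in
theorem conj_smul_le_iff {H L : Subgroup G} {g : G} :
    MulAut.conj g • H ≤ L ↔ H ≤ MulAut.conj g⁻¹ • L := by
  rw [pointwise_smul_subset_iff, ← map_inv]

/-- If the order of `L` divides that of a Frobenius complement, `L` lies in a conjugate of it. -/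
theorem exists_conj_le_of_dvd {H : Subgroup G} (hH : IsFrobeniusComplement H) {L : Subgroup G}
    (hL : Nat.card L ∣ Nat.card H) : ∃ x : G, L ≤ MulAut.conj x • H := by
  have hcop : (Nat.card L).Coprime H.index := Nat.Coprime.coprime_dvd_left hL (coprime_card_index hH)
  have hel : ∀ a ∈ L, a ≠ 1 → ∃ g : G, g⁻¹ * a * g ∈ H := by
    intro a ha ha1
    obtain ⟨N, hNset, hNn, hNc⟩ := exists_kernel hH
    have : a ∉ frobeniusKernel H := fun h => by
      rw [← hNset] at h
      have hidx : H.index = Nat.card N := by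
        refine Nat.eq_of_mul_eq_mul_right (Nat.card_pos (α := H)) ?_
        rw [H.index_mul_card, hNc.card_mul_card]
      have h1 : orderOf a ∣ Nat.card L := Subgroup.orderOf_dvd_natCard L ha
      have h2 : orderOf a ∣ Nat.card N := Subgroup.orderOf_dvd_natCard N h
      exact ha1 (orderOf_eq_one_iff.1 (Nat.eq_one_of_dvd_coprimes hcop h1 (hidx ▸ h2)))
    exact (notMem_kernel.1 this).2
  by_cases hbot : L = ⊥
  · exact ⟨1, hbot ▸ bot_le⟩
  obtain ⟨a, ha, ha1⟩ := (Subgroup.bot_or_exists_ne_one L).resolve_left hbot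
  obtain ⟨g, hg⟩ := hel a ha ha1
  refine ⟨g, le_of_inf_ne_bot (isFrobeniusComplement_conj hH g) (fun b hb hb1 => ?_)
    ((index_conj H g).symm ▸ hcop) fun e => ha1 ((eq_bot_iff_forall _).1 e a
      (Subgroup.mem_inf.2 ⟨mem_conj_smul.2 hg, ha⟩))⟩
  obtain ⟨k, hk⟩ := hel b hb hb1
  exact ⟨k * g⁻¹, mem_conj_smul.2 (by convert hk using 1; group)⟩

/-- All Frobenius complements are conjugate. -/
theorem exists_conj_eq {H H₀ : Subgroup G} (hH : IsFrobeniusComplement H)
    (hH₀ : IsFrobeniusComplement H₀) : ∃ g : G, MulAut.conj g • H₀ = H := by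
  obtain ⟨a, ha1, ⟨g, hg⟩, ⟨k, hk⟩⟩ : ∃ a : G, a ≠ 1 ∧ (∃ g, g⁻¹ * a * g ∈ H) ∧
      ∃ k, k⁻¹ * a * k ∈ H₀ := by
    by_contra hcon
    have hsub : ∀ x : G, x ∉ frobeniusKernel H → x ∈ frobeniusKernel H₀ := fun x hx => by
      by_contra h0
      exact hcon ⟨x, (notMem_kernel.1 hx).1, (notMem_kernel.1 hx).2, (notMem_kernel.1 h0).2⟩
    have h1 : (Set.univ : Set G).ncard < (frobeniusKernel H).ncard + (frobeniusKernel H₀).ncard := by
      have h2 : (frobeniusKernel H) ∪ (frobeniusKernel H₀) = Set.univ :=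
        Set.eq_univ_of_forall fun x => (em _).imp id (hsub x)
      have h3 := Set.ncard_union_add_ncard_inter (frobeniusKernel H) (frobeniusKernel H₀)
      have h4 : 0 < (frobeniusKernel H ∩ frobeniusKernel H₀).ncard :=
        (Set.ncard_pos (Set.toFinite _)).2 ⟨1, one_mem_kernel, one_mem_kernel⟩
      rw [h2] at h3
      omega
    rw [Set.ncard_univ, ← Nat.card_coe_set_eq, ← Nat.card_coe_set_eq, card_kernel hH,
      card_kernel hH₀] at h1
    have hh : ∀ T : Subgroup G, IsFrobeniusComplement T → 2 * T.index ≤ Nat.card G := fun T hT => by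
      rw [← T.index_mul_card, mul_comm]
      exact Nat.mul_le_mul_left _ ((Subgroup.one_lt_card_iff_ne_bot T).2 hT.1)
    have := hh H hH
    have := hh H₀ hH₀
    omega

  have hA := isFrobeniusComplement_conj hH g
  have hB := isFrobeniusComplement_conj hH₀ k
  have key : ∀ {S T : Subgroup G}, IsFrobeniusComplement S → IsFrobeniusComplement T →
      ∀ (x : G), x ≠ 1 → x ∈ S → x ∈ T → T ≤ S := by
    intro S T hS hT x hx1 hxS hxT
    obtain ⟨N, hNset, hNn, hNc⟩ := exists_kernel hS
    by_contra hle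
    obtain ⟨N₀, -, hN₀n, hN₀c⟩ := exists_kernel hT
    have hN₀ : N₀ ≠ ⊥ := fun e => hT.2.1 (by
      have := hN₀c.sup_eq_top
      rwa [e, bot_sup_eq] at this)
    have hidx : T.index = Nat.card N₀ := by
      refine Nat.eq_of_mul_eq_mul_right (Nat.card_pos (α := T)) ?_
      rw [T.index_mul_card, hN₀c.card_mul_card]
    refine not_frobenius_of_fpf hN₀ (A := T) (fun a _ => by rw [normalizer_eq_top]; trivial)
      (hidx ▸ coprime_card_index hT) (fun a ha ha1 => fpf_of_conj_complement hT hN₀n hN₀c.disjoint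
        (g := 1) (by simpa using ha) ha1) (S.subgroupOf T) ⟨?_, ?_, ?_⟩
    · rw [Ne, subgroupOf_eq_bot, disjoint_iff]
      exact fun e => hx1 ((eq_bot_iff_forall _).1 e x (Subgroup.mem_inf.2 ⟨hxS, hxT⟩))
    · rw [Ne, subgroupOf_eq_top]
      exact hle
    · intro y hy
      rw [eq_bot_iff_forall]
      intro z hz
      obtain ⟨hz1, hz2⟩ := Subgroup.mem_inf.1 hz
      rw [mem_conj_smul] at hz2
      by_contra hne'
      exact hy (mem_of_conj_mem hS (x := (z : G)) (g := (y : G)) hz1
        (fun c => hne' (Subtype.ext c)) (by simpa [mem_subgroupOf] using hz2))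
  have e : MulAut.conj k • H₀ = MulAut.conj g • H :=
    le_antisymm (key hA hB a ha1 (mem_conj_smul.2 hg) (mem_conj_smul.2 hk))
      (key hB hA a ha1 (mem_conj_smul.2 hk) (mem_conj_smul.2 hg))
  exact ⟨g⁻¹ * k, by rw [map_mul, mul_smul, e, ← mul_smul, ← map_mul, inv_mul_cancel, map_one, one_smul]⟩

end Cfsg.Agent.Struct.Frobenius
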