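import Cfsg.Agent.Lib.Struct.FrobeniusConj
import Cfsg.Agent.Lib.Solv.AbelianAction
import Mathlib.GroupTheory.Transfer
import Cfsg.Agent.S0068

/-!
# Fixed point free groups: elements of prime order and the centre
-/

set_option autoImplicit false
set_option linter.style.haveILetI false

namespace Cfsg.Agent.Struct.Frobenius

open Subgroup Cfsg
open scoped commutatorElement

variable {G : Type*} [Group G] [Finite G]

/-- In a fixed point free group an element of prime order normalising a subgroup of coprime prime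
order centralises it. -/
theorem commute_of_normalizes {A K : Subgroup G} (hK : K ≠ ⊥)
    (hAK : A ≤ normalizer (K : Set G)) (hcop : (Nat.card A).Coprime (Nat.card K))
    (hfpf : ∀ a ∈ A, a ≠ 1 → K ⊓ centralizer {a} = ⊥) {q r : ℕ} (hq : q.Prime) (hr : r.Prime)
    {x w : A} (hx : orderOf x = q) (hw : orderOf w = r) (_hne : q ≠ r)
    (hnorm : x * w * x⁻¹ ∈ zpowers w) : Commute x w := by
  haveI := Fact.mk hq
  haveI := Fact.mk hr
  by_contra hnc
  set B : Subgroup A := zpowers w ⊔ zpowers x with hB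
  have hxn : zpowers x ≤ normalizer (zpowers w : Set A) := by
    rw [zpowers_le, mem_normalizer_iff_map_conj_eq, MonoidHom.map_zpowers]
    refine eq_of_le_of_card_ge (zpowers_le.2 hnorm) (le_of_eq ?_)
    rw [Nat.card_zpowers, Nat.card_zpowers]
    exact (orderOf_injective (MulAut.conj x : A ≃* A).toMonoidHom (MulAut.conj x).injective _).symm
  have hNn : ((zpowers w).subgroupOf B).Normal := by
    rw [normal_subgroupOf_iff_le_normalizer le_sup_left]
    exact sup_le le_normalizer hxn
  haveI := hNn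
  let B' : Subgroup G := B.map A.subtype
  let e : B ≃* B' := equivMapOfInjective B A.subtype A.subtype_injective
  have hB'A : B' ≤ A := map_subtype_le B
  have hgenw : ∀ {z : A}, z ∈ zpowers w → z ≠ 1 → w ∈ zpowers z := fun {z} hz hz1 => by
    have hle := zpowers_le.2 hz
    have : zpowers z = zpowers w := eq_of_le_of_card_ge hle (le_of_eq (by
      have hd := card_dvd_of_le hle
      rw [Nat.card_zpowers, Nat.card_zpowers, hw] at hd ⊢
      exact (((Nat.dvd_prime hr).1 hd).resolve_left (fun c => hz1 (orderOf_eq_one_iff.1 c))).symm))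
    rw [this]; exact mem_zpowers w
  have hgenx : ∀ {z : A}, z ∈ zpowers x → z ≠ 1 → x ∈ zpowers z := fun {z} hz hz1 => by
    have hle := zpowers_le.2 hz
    have : zpowers z = zpowers x := eq_of_le_of_card_ge hle (le_of_eq (by
      have hd := card_dvd_of_le hle
      rw [Nat.card_zpowers, Nat.card_zpowers, hx] at hd ⊢
      exact (((Nat.dvd_prime hq).1 hd).resolve_left (fun c => hz1 (orderOf_eq_one_iff.1 c))).symm))
    rw [this]; exact mem_zpowers x
  have hT : IsFrobeniusComplement ((zpowers x).subgroupOf B) := by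
    refine (Cfsg.Agent.Perm.isFrobeniusComplement_of_fpf ((zpowers w).subgroupOf B)
      ((zpowers x).subgroupOf B) ?_ ?_ ?_ ?_).1
    · rw [← subgroupOf_sup le_sup_left le_sup_right]
      exact subgroupOf_self _
    · rw [Ne, subgroupOf_eq_bot, disjoint_iff, inf_eq_left.2 (le_sup_left : zpowers w ≤ B),
        zpowers_eq_bot]
      intro c
      exact hr.ne_one (by rw [← hw, c, orderOf_one])
    · rw [Ne, subgroupOf_eq_bot, disjoint_iff, inf_eq_left.2 (le_sup_right : zpowers x ≤ B),
        zpowers_eq_bot]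
      intro c
      exact hq.ne_one (by rw [← hx, c, orderOf_one])
    · intro h hh n hn hc
      rw [mem_subgroupOf] at hh hn
      by_contra hcon
      push Not at hcon
      obtain ⟨h1, h2⟩ := hcon
      have hc' : Commute (h : A) (n : A) := hc.map B.subtype
      obtain ⟨i, hi⟩ := mem_zpowers_iff.1 (hgenx hh fun c => h1 (Subtype.ext c))
      obtain ⟨j, hj⟩ := mem_zpowers_iff.1 (hgenw hn fun c => h2 (Subtype.ext c))
      exact hnc (hi ▸ hj ▸ hc'.zpow_zpow i j)
  refine not_frobenius_of_fpf (A := B') hK (hB'A.trans hAK)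
    (Nat.Coprime.coprime_dvd_left (card_dvd_of_le hB'A) hcop) (fun a ha => hfpf a (hB'A ha))
    (((zpowers x).subgroupOf B).map e.toMonoidHom) ?_
  obtain ⟨h1, h2, h3⟩ := hT
  refine ⟨fun c => h1 ((map_eq_bot_iff_of_injective _ e.injective).1 c), fun c => h2 ?_, fun g hg => ?_⟩
  · rw [eq_top_iff']
    intro b
    obtain ⟨b', hb', hbb⟩ := (show e b ∈ ((zpowers x).subgroupOf B).map e.toMonoidHom by
      rw [c]; trivial)
    exact e.injective hbb ▸ hb'
  · obtain ⟨b, rfl⟩ := e.surjective g
    rw [eq_bot_iff_forall]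
    intro y hy
    obtain ⟨⟨t, ht, rfl⟩, hy2⟩ := Subgroup.mem_inf.1 hy
    rw [mem_conj_smul] at hy2
    obtain ⟨t', ht', ht2⟩ := hy2
    have e1 : t' = b⁻¹ * t * b := e.injective (ht2.trans (by simp))
    have h4 := (eq_bot_iff_forall _).1 (h3 b fun hb => hg (mem_map_of_mem _ hb)) t
      (Subgroup.mem_inf.2 ⟨ht, mem_conj_smul.2 (e1 ▸ ht')⟩)
    rw [h4]; simp

/-- A nontrivial fixed point free group of odd order has a nontrivial centre. -/
theorem center_ne_bot_of_odd {A K : Subgroup G} (hK : K ≠ ⊥)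
    (hAK : A ≤ normalizer (K : Set G)) (hcop : (Nat.card A).Coprime (Nat.card K))
    (hfpf : ∀ a ∈ A, a ≠ 1 → K ⊓ centralizer {a} = ⊥) (hA : A ≠ ⊥) (hodd : ¬ 2 ∣ Nat.card A) :
    center A ≠ ⊥ := by
  classical
  have hne : Nat.card A ≠ 1 := fun e => hA (card_eq_one.1 e)
  set q := (Nat.card A).minFac with hqdef
  have hq : q.Prime := Nat.minFac_prime hne
  haveI := Fact.mk hq
  have hcyc : ∀ (r : ℕ) [Fact r.Prime] (S : Subgroup A), IsPGroup r S → IsCyclic S := by
    intro r _ S hS
    have hle : S.map A.subtype ≤ A := map_subtype_le S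
    rcases sylow_cyclic_or_quaternion (A := S.map A.subtype) hK (hle.trans hAK)
      (Nat.Coprime.coprime_dvd_left (card_dvd_of_le hle) hcop) (fun a ha => hfpf a (hle ha))
      (hS.map A.subtype) with h | ⟨-, n, -, ⟨f⟩⟩
    · exact (equivMapOfInjective S A.subtype A.subtype_injective).isCyclic.2 h
    · exfalso
      refine hodd (dvd_trans ⟨2 * 2 ^ n, ?_⟩ (card_dvd_of_le hle))
      rw [Nat.card_congr f.toEquiv, Nat.card_eq_fintype_card, QuaternionGroup.card]
      ring
  obtain ⟨Q⟩ := Sylow.nonempty (p := q) (G := A)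
  have hQc : IsCyclic (Q : Subgroup A) := hcyc q Q Q.isPGroup'
  let R : Subgroup A :=
    (MonoidHom.transferSylow Q (hQc.normalizer_le_centralizer hqdef.symm)).ker
  have hR : IsComplement' R (Q : Subgroup A) :=
    MonoidHom.ker_transferSylow_isComplement' Q (hQc.normalizer_le_centralizer hqdef.symm)
  haveI : R.Normal := MonoidHom.normal_ker _
  haveI : Nontrivial (Q : Subgroup A) := (nontrivial_iff_ne_bot _).2
    (Q.ne_bot_of_dvd_card (Nat.minFac_dvd _))
  obtain ⟨n, hn, hQcard⟩ := Q.isPGroup'.nontrivial_iff_card.1 inferInstance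
  obtain ⟨x, hx⟩ := exists_prime_orderOf_dvd_card' (G := (Q : Subgroup A)) q
    (hQcard ▸ dvd_pow_self q hn.ne')
  rw [← Subgroup.orderOf_coe] at hx
  have hRcop : Nat.Coprime q (Nat.card R) := by
    refine (Nat.Prime.coprime_iff_not_dvd hq).2 fun hd => Q.not_dvd_index ?_
    rw [hR.index_eq_card]
    exact hd
  set X := zpowers (x : A) with hX
  have hXcard : Nat.card X = q := by rw [Nat.card_zpowers, hx]
  have hXR : X ≤ normalizer (R : Set A) := fun _ _ => by rw [normalizer_eq_top]; trivial
  have hRle : R ≤ centralizer {(x : A)} := by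
    suffices R ⊓ centralizer {(x : A)} = R from inf_eq_left.1 this
    refine eq_of_le_of_card_ge inf_le_left (le_of_eq ?_)
    by_contra hne'
    have hidx : ((R ⊓ centralizer {(x : A)}).subgroupOf R).index ≠ 1 := fun c => hne' (by
      rw [index_eq_one, subgroupOf_eq_top] at c
      rw [le_antisymm inf_le_left c])
    obtain ⟨r, hr, hrd⟩ := Nat.exists_prime_and_dvd hidx
    haveI := Fact.mk hr
    obtain ⟨S, hS⟩ := Cfsg.Agent.Solv.exists_invariant_sylow X R hXR
      (by rw [hXcard]; exact hRcop) (Or.inl inferInstance) r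
    refine S.not_dvd_index (dvd_trans hrd (index_dvd_of_le ?_))
    set S' : Subgroup A := (S : Subgroup R).map R.subtype with hS'
    have hS'R : S' ≤ R := map_subtype_le _
    suffices S' ≤ centralizer {(x : A)} by
      intro s hs
      exact Subgroup.mem_inf.2 ⟨s.2, this (mem_map_of_mem _ hs)⟩
    have hS'p : IsPGroup r S' := S.isPGroup'.map R.subtype
    haveI := hcyc r S' hS'p
    haveI : IsMulCommutative S' := ⟨⟨fun a b => IsCyclic.commGroup.mul_comm a b⟩⟩
    by_cases hbot : S' = ⊥
    · rw [hbot]; exact bot_le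
    haveI : Nontrivial S' := (nontrivial_iff_ne_bot _).2 hbot
    obtain ⟨m, hm, hS'card⟩ := hS'p.nontrivial_iff_card.1 inferInstance
    obtain ⟨w, hw⟩ := exists_prime_orderOf_dvd_card' (G := S') r (hS'card ▸ dvd_pow_self r hm.ne')
    rw [← Subgroup.orderOf_coe] at hw
    have hrq : q ≠ r := fun c => by
      have h1 : r ∣ Nat.card R := hw ▸ Subgroup.orderOf_dvd_natCard R (hS'R w.2)
      exact hq.ne_one (Nat.eq_one_of_dvd_coprimes hRcop dvd_rfl (c ▸ h1))
    -- elements of order `r` in `S'` lie in `zpowers w`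
    have hone : ∀ z ∈ S', z ^ r = 1 → z ∈ zpowers (w : A) := by
      intro z hz hzr
      haveI := Fintype.ofFinite S'
      haveI := Fintype.ofFinite (zpowers (w : A))
      by_contra hzw
      have hsub : Finset.univ.map ⟨Subtype.val, Subtype.val_injective⟩ ⊂
          insert z (Finset.univ.map ⟨(Subtype.val : zpowers (w : A) → A), Subtype.val_injective⟩) :=
        Finset.ssubset_insert (by simpa [mem_zpowers_iff] using hzw)
      have h1 := Finset.card_lt_card hsub
      rw [Finset.card_map, Finset.card_univ, ← Nat.card_eq_fintype_card, Nat.card_zpowers, hw] at h1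
      have h2 := IsCyclic.card_pow_eq_one_le (α := S') hr.pos
      refine absurd (h1.trans_le (le_trans ?_ h2)) (lt_irrefl r)
      rw [← Finset.card_map ⟨(Subtype.val : S' → A), Subtype.val_injective⟩]
      refine Finset.card_le_card fun y hy => ?_
      simp only [Finset.mem_map, Finset.mem_filter, Finset.mem_univ, true_and,
        Function.Embedding.coeFn_mk]
      rcases Finset.mem_insert.1 hy with rfl | hy
      · exact ⟨⟨y, hz⟩, Subtype.ext hzr, rfl⟩
      · obtain ⟨y', -, rfl⟩ := Finset.mem_map.1 hy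
        refine ⟨⟨y', zpowers_le.2 w.2 y'.2⟩, Subtype.ext ?_, rfl⟩
        show (y' : A) ^ r = 1
        obtain ⟨i, hi⟩ := mem_zpowers_iff.1 y'.2
        rw [← hi, ← zpow_natCast, ← zpow_mul, mul_comm, zpow_mul, zpow_natCast, ← hw,
          pow_orderOf_eq_one, one_zpow]
    have hcw : Commute (x : A) w := by
      refine commute_of_normalizes hK hAK hcop hfpf hq hr hx hw hrq (hone _ ?_ ?_)
      · exact (mem_normalizer_iff.1 (hS (mem_zpowers (x : A))) w).1 w.2
      · rw [conj_pow, ← hw, pow_orderOf_eq_one]; simp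
    have hcopS : (Nat.card X).Coprime (Nat.card S') := by
      rw [hXcard, hS'card]
      exact ((Nat.coprime_primes hq hr).2 hrq).pow_right m
    have hdisj := Cfsg.Agent.Solv.commutator_inf_centralizer_eq_bot X S' hS hcopS
    have hbotc : ⁅S', X⁆ = ⊥ := by
      by_contra hne''
      obtain ⟨z, hz, hz1⟩ := (Subgroup.bot_or_exists_ne_one _).resolve_left hne''
      have hzS : z ∈ S' := Cfsg.Agent.Solv.commutator_normalizer_le X S' hS hz
      obtain ⟨k, hk⟩ := IsPGroup.iff_orderOf.1 hS'p ⟨z, hzS⟩
      rw [← Subgroup.orderOf_coe] at hk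
      have hk0 : k ≠ 0 := fun c => hz1 (orderOf_eq_one_iff.1 (by rw [hk, c, pow_zero]))
      obtain ⟨k', rfl⟩ := Nat.exists_eq_succ_of_ne_zero hk0
      have hzo : orderOf (z ^ r ^ k') = r := by
        rw [orderOf_pow, show orderOf z = r ^ (k' + 1) from hk, Nat.gcd_eq_right ⟨r, by rw [pow_succ]⟩,
          pow_succ, Nat.mul_div_cancel_left _ (pow_pos hr.pos _)]
      have h1 : z ^ r ^ k' ∈ zpowers (w : A) :=
        hone _ (pow_mem hzS _) ((congrArg ((z ^ r ^ k') ^ ·) hzo.symm).trans (pow_orderOf_eq_one _))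
      have h2 : z ^ r ^ k' ∈ centralizer (X : Set A) := by
        obtain ⟨i, hi⟩ := mem_zpowers_iff.1 h1
        rw [← hi]
        refine mem_centralizer_iff.2 fun g hg => ?_
        obtain ⟨j, rfl⟩ := mem_zpowers_iff.1 hg
        exact (hcw.zpow_zpow j i).eq
      have h3 := (eq_bot_iff_forall _).1 hdisj _ (Subgroup.mem_inf.2 ⟨pow_mem hz _, h2⟩)
      rw [h3, orderOf_one] at hzo
      exact hr.ne_one hzo.symm
    intro s hs
    refine mem_centralizer_singleton_iff.2 ?_
    have : ⁅s, (x : A)⁆ = 1 := mem_bot.1 (hbotc ▸ commutator_mem_commutator hs (mem_zpowers _))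
    exact commutatorElement_eq_one_iff_commute.1 this
  intro hbot
  have hxc : (x : A) ∈ center A := by
    refine mem_center_iff.2 fun g => ?_
    obtain ⟨⟨u, v⟩, hg, -⟩ := hR.existsUnique g
    have hg : (u : A) * (v : A) = g := hg
    have h1 : Commute (u : A) x := mem_centralizer_singleton_iff.1 (hRle u.2)
    have h2 : Commute (v : A) x := congrArg Subtype.val (hQc.commGroup.mul_comm v x)
    exact hg ▸ (h1.mul_left h2).eq
  rw [hbot, mem_bot] at hxc
  rw [hxc, orderOf_one] at hx
  exact hq.ne_one hx.symm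

end Cfsg.Agent.Struct.Frobenius
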