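import Mathlib

/-!
Three subgroup lemma modulo a normal subgroup, `[A, γ_(n+1)] ≤ [A, G, …, G]`, and consequences
for finite `p`-groups.
-/

set_option autoImplicit false
set_option linter.style.haveILetI false

namespace Cfsg.Agent.Struct.LowerCentralBounds

open Subgroup

variable {G : Type*} [Group G]

theorem rotate_le {N A B C : Subgroup G} [N.Normal] (h1 : ⁅⁅B, C⁆, A⁆ ≤ N)
    (h2 : ⁅⁅C, A⁆, B⁆ ≤ N) : ⁅⁅A, B⁆, C⁆ ≤ N := by
  rw [← QuotientGroup.ker_mk' N, ← Subgroup.map_eq_bot_iff, map_commutator, map_commutator]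
    at h1 h2 ⊢
  exact commutator_commutator_eq_bot_of_rotate h1 h2

/-- `A, [A,G], [A,G,G], …` -/
def iterComm (A : Subgroup G) : ℕ → Subgroup G
  | 0 => A
  | n + 1 => ⁅iterComm A n, ⊤⁆

theorem iterComm_normal (A : Subgroup G) [A.Normal] : ∀ n, (iterComm A n).Normal
  | 0 => inferInstanceAs A.Normal
  | n + 1 => by
    have := iterComm_normal A n
    exact inferInstanceAs (⁅iterComm A n, ⊤⁆ : Subgroup G).Normal

theorem iterComm_succ_le (A : Subgroup G) [A.Normal] (n : ℕ) :
    iterComm A (n + 1) ≤ iterComm A n := by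
  have := iterComm_normal A n
  exact commutator_le_left (iterComm A n) ⊤

theorem iterComm_shift (A : Subgroup G) : ∀ n, iterComm ⁅A, (⊤ : Subgroup G)⁆ n = iterComm A (n + 1)
  | 0 => rfl
  | n + 1 => by show ⁅iterComm ⁅A, (⊤ : Subgroup G)⁆ n, ⊤⁆ = _; rw [iterComm_shift A n]; rfl

theorem commutator_lcs_le : ∀ (n : ℕ) (A : Subgroup G) [A.Normal],
    ⁅A, (⊤ : Subgroup G).lowerCentralSeries n⁆ ≤ iterComm A (n + 1)
  | 0, A, _ => le_of_eq (by rw [Subgroup.lowerCentralSeries_zero]; rfl)
  | n + 1, A, hA => by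
    have := iterComm_normal A (n + 1 + 1)
    rw [Subgroup.lowerCentralSeries_succ, commutator_comm A]
    refine rotate_le ?_ ?_
    · calc ⁅⁅(⊤ : Subgroup G), A⁆, (⊤ : Subgroup G).lowerCentralSeries n⁆
          = ⁅⁅A, (⊤ : Subgroup G)⁆, (⊤ : Subgroup G).lowerCentralSeries n⁆ := by
            rw [commutator_comm A]
        _ ≤ iterComm ⁅A, (⊤ : Subgroup G)⁆ (n + 1) := commutator_lcs_le n _
        _ = iterComm A (n + 1 + 1) := iterComm_shift A (n + 1)
    · exact commutator_mono (commutator_lcs_le n A) le_rfl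

theorem eq_bot_of_le_commutator_top [Group.IsNilpotent G] {B : Subgroup G}
    (h : B ≤ ⁅B, (⊤ : Subgroup G)⁆) : B = ⊥ := by
  obtain ⟨c, hc⟩ := (Subgroup.nilpotent_iff_lowerCentralSeries (G := G)).mp ‹_›
  have key : ∀ k, B ≤ (⊤ : Subgroup G).lowerCentralSeries k := by
    intro k
    induction k with
    | zero => exact le_top
    | succ k ih => exact h.trans (by rw [Subgroup.lowerCentralSeries_succ]; exact commutator_mono ih le_rfl)
  exact le_bot_iff.mp ((key c).trans hc.le)

theorem relIndex_pow_of_le [Finite G] {p : ℕ} [Fact p.Prime] (hG : IsPGroup p G)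
    (H K : Subgroup G) : ∃ e, H.relIndex K = p ^ e :=
  (hG.to_subgroup K).index _

/-- `|γ_i N : γ_{i+1} N| ≥ p^n` -/
theorem pow_le_relIndex [Finite G] {p : ℕ} [Fact p.Prime] (hG : IsPGroup p G) (n : ℕ)
    (hn : 1 ≤ n) (A N : Subgroup G) [A.Normal] [N.Normal]
    (hN : N ≤ (⊤ : Subgroup G).lowerCentralSeries (n - 1)) (hne : ⁅A, N⁆ ≠ ⊥) :
    p ^ n ≤ (⁅A, N⁆).relIndex A := by
  haveI := hG.isNilpotent
  have hp : p.Prime := Fact.out
  by_contra hlt
  rw [not_le] at hlt
  set B := ⁅A, N⁆ with hB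
  have hBA : B ≤ A := commutator_le_left A N
  have step : ∀ j, iterComm A j ≤ B ∨ p ^ j * B.relIndex (iterComm A j ⊔ B) ≤ B.relIndex A := by
    intro j
    induction j with
    | zero => right; rw [pow_zero, one_mul, show iterComm A 0 = A from rfl, sup_eq_left.2 hBA]
    | succ j ih =>
      have := iterComm_normal A j
      rcases ih with ih | ih
      · exact Or.inl ((iterComm_succ_le A j).trans ih)
      by_cases hj : iterComm A j ≤ B
      · exact Or.inl ((iterComm_succ_le A j).trans hj)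
      right
      have hlt' : iterComm A (j + 1) ⊔ B < iterComm A j ⊔ B := by
        refine lt_of_le_of_ne (sup_le_sup_right (iterComm_succ_le A j) B) fun he => hj ?_
        rw [← QuotientGroup.ker_mk' B, ← Subgroup.map_eq_bot_iff]
        refine eq_bot_of_le_commutator_top ?_
        have h2 := congrArg (Subgroup.map (QuotientGroup.mk' B)) he
        rw [Subgroup.map_sup, Subgroup.map_sup] at h2
        have h3 : B.map (QuotientGroup.mk' B) = ⊥ := by
          rw [Subgroup.map_eq_bot_iff, QuotientGroup.ker_mk']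
        rw [h3, sup_bot_eq, sup_bot_eq] at h2
        conv_lhs => rw [← h2]
        change (⁅iterComm A j, ⊤⁆ : Subgroup G).map _ ≤ _
        rw [map_commutator]
        exact commutator_mono le_rfl le_top
      obtain ⟨e, he⟩ := relIndex_pow_of_le hG (iterComm A (j + 1) ⊔ B) (iterComm A j ⊔ B)
      have he0 : e ≠ 0 := by
        rintro rfl
        rw [pow_zero, relIndex_eq_one] at he
        exact hlt'.not_ge he
      have h4 := relIndex_mul_relIndex B (iterComm A (j + 1) ⊔ B) (iterComm A j ⊔ B) le_sup_right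
        hlt'.le
      refine le_trans ?_ ih
      rw [← h4, he, pow_succ, mul_assoc]
      refine Nat.mul_le_mul_left _ ?_
      rw [mul_comm]
      exact Nat.mul_le_mul_left _ (Nat.le_self_pow he0 p)
  have hA' : iterComm A (n - 1) ≤ B := by
    rcases step (n - 1) with h | h
    · exact h
    by_contra hcon
    obtain ⟨e, he⟩ := relIndex_pow_of_le hG B (iterComm A (n - 1) ⊔ B)
    have he0 : e ≠ 0 := by
      rintro rfl
      rw [pow_zero, relIndex_eq_one] at he
      exact hcon (le_sup_left.trans he)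
    refine absurd (lt_of_lt_of_le hlt (le_trans ?_ h)) (lt_irrefl _)
    rw [he, show p ^ n = p ^ (n - 1) * p by rw [← pow_succ, Nat.sub_add_cancel hn]]
    exact Nat.mul_le_mul_left _ (Nat.le_self_pow he0 p)
  refine hne (eq_bot_of_le_commutator_top ?_)
  calc B ≤ ⁅A, (⊤ : Subgroup G).lowerCentralSeries (n - 1)⁆ := commutator_mono le_rfl hN
    _ ≤ iterComm A (n - 1 + 1) := commutator_lcs_le (n - 1) A
    _ ≤ ⁅B, (⊤ : Subgroup G)⁆ := commutator_mono hA' le_rfl

theorem lcs_normal (N : Subgroup G) [N.Normal] : ∀ k, (N.lowerCentralSeries k).Normal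
  | 0 => by rw [Subgroup.lowerCentralSeries_zero]; infer_instance
  | k + 1 => by
    have := lcs_normal N k
    rw [Subgroup.lowerCentralSeries_succ]
    infer_instance

end Cfsg.Agent.Struct.LowerCentralBounds
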