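import Mathlib

/-!
The element orders of the affine group of the natural module of the special linear group of degree two over
the field with four elements.
-/

set_option autoImplicit false
set_option maxRecDepth 100000

namespace Cfsg.Agent.Struct.AffineSL2Four

open Matrix Polynomial

theorem a6_exponents : ∀ σ : Equiv.Perm (Fin 6), Equiv.Perm.sign σ = 1 → σ ^ 4 = 1 ∨ σ ^ 3 = 1 ∨ σ ^ 5 = 1 := by
  decide +kernel

theorem range_orderOf_a6 :
    Set.range (orderOf : alternatingGroup (Fin 6) → ℕ) = {1, 2, 3, 4, 5} := by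
  ext n
  constructor
  · rintro ⟨σ, rfl⟩
    rw [← Subgroup.orderOf_coe]
    rcases a6_exponents σ (Equiv.Perm.mem_alternatingGroup.1 σ.2) with h | h | h
    · have := Nat.divisors_prime_pow Nat.prime_two 2
      have hd := Nat.le_of_dvd (by norm_num) (orderOf_dvd_of_pow_eq_one h)
      have hp := orderOf_pos (σ : Equiv.Perm (Fin 6))
      simp only [Set.mem_insert_iff, Set.mem_singleton_iff]
      omega
    · have hd := Nat.le_of_dvd (by norm_num) (orderOf_dvd_of_pow_eq_one h)
      have hp := orderOf_pos (σ : Equiv.Perm (Fin 6))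
      simp only [Set.mem_insert_iff, Set.mem_singleton_iff]
      omega
    · have hd := Nat.le_of_dvd (by norm_num) (orderOf_dvd_of_pow_eq_one h)
      have hp := orderOf_pos (σ : Equiv.Perm (Fin 6))
      simp only [Set.mem_insert_iff, Set.mem_singleton_iff]
      omega
  · have key : ∀ (σ : Equiv.Perm (Fin 6)) (k : ℕ), Equiv.Perm.sign σ = 1 → 0 < k → σ ^ k = 1 →
        (∀ i < k, 0 < i → σ ^ i ≠ 1) → k ∈ Set.range (orderOf : alternatingGroup (Fin 6) → ℕ) :=
      fun σ k hs hk h1 h2 => ⟨⟨σ, Equiv.Perm.mem_alternatingGroup.2 hs⟩, by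
        rw [← Subgroup.orderOf_coe]
        exact (orderOf_eq_iff hk).2 ⟨h1, fun m hm hm0 => h2 m hm hm0⟩⟩
    rintro (rfl | rfl | rfl | rfl | rfl)
    · exact key 1 1 (by decide) one_pos (by decide) (by intro i hi hi0; omega)
    · exact key (Equiv.swap 0 1 * Equiv.swap 2 3) 2 (by decide) two_pos (by decide) (by decide)
    · exact key (Equiv.swap 0 1 * Equiv.swap 1 2) 3 (by decide) three_pos (by decide) (by decide)
    · exact key (Equiv.swap 0 1 * Equiv.swap 1 2 * Equiv.swap 2 3 * Equiv.swap 4 5) 4 (by decide)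
        (by norm_num) (by decide) (by decide)
    · exact key (Equiv.swap 0 1 * Equiv.swap 1 2 * Equiv.swap 2 3 * Equiv.swap 3 4) 5 (by decide)
        (by norm_num) (by decide) (by decide)

variable {F : Type*} [Field F] [Fintype F]

theorem two_eq_zero (hF : Fintype.card F = 4) : (2 : F) = 0 := by
  have h : ((Fintype.card F : ℕ) : F) = 0 := FiniteField.cast_card_eq_zero F
  rw [hF] at h
  have h' : (2 : F) * 2 = 0 := by norm_num; exact_mod_cast h
  exact mul_self_eq_zero.1 h'

theorem sq_add_self_add_one (hF : Fintype.card F = 4) {t : F} (h0 : t ≠ 0) (h1 : t ≠ 1) :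
    t ^ 2 + t + 1 = 0 := by
  have h := FiniteField.pow_card_sub_one_eq_one t h0
  rw [hF] at h
  have h' : (t - 1) * (t ^ 2 + t + 1) = 0 := by linear_combination h
  exact (mul_eq_zero.1 h').resolve_left (sub_ne_zero.2 h1)

/-- The affine group. -/
def affine (F : Type*) [Field F] : Subgroup (Matrix.SpecialLinearGroup (Fin 3) F) where
  carrier := {M | M.1 2 0 = 0 ∧ M.1 2 1 = 0 ∧ M.1 2 2 = 1}
  one_mem' := by simp
  mul_mem' := by
    rintro A B ⟨a0, a1, a2⟩ ⟨b0, b1, b2⟩
    simp [Matrix.mul_apply, Fin.sum_univ_three, a0, a1, a2, b0, b1, b2]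
  inv_mem' := by
    rintro A ⟨a0, a1, a2⟩
    have h : A.1 * (A⁻¹ : Matrix.SpecialLinearGroup (Fin 3) F).1 = 1 :=
      (Matrix.SpecialLinearGroup.coe_mul A A⁻¹).symm.trans (by rw [mul_inv_cancel]; rfl)
    have e : ∀ j, (A⁻¹ : Matrix.SpecialLinearGroup (Fin 3) F).1 2 j = (1 : Matrix (Fin 3) (Fin 3) F) 2 j := by
      intro j
      have h2 : (A.1 * (A⁻¹ : Matrix.SpecialLinearGroup (Fin 3) F).1) 2 j = (1 : Matrix (Fin 3) (Fin 3) F) 2 j := by
        rw [h]
      rwa [Matrix.mul_apply, Fin.sum_univ_three, a0, a1, a2, zero_mul, zero_mul, zero_add, zero_add,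
        one_mul] at h2
    exact ⟨by rw [e]; simp, by rw [e]; simp, by rw [e]; simp⟩

omit [Fintype F] in
theorem aeval_char_eq_zero (h2 : (2 : F) = 0) (M : Matrix.SpecialLinearGroup (Fin 3) F) (hM : M ∈ affine F) :
    aeval M.1 ((X + 1) * (X ^ 2 + C (M.1 0 0 + M.1 1 1) * X + 1) : F[X]) = 0 := by
  obtain ⟨h0, h1, h22⟩ := hM
  have hd : M.1 0 0 * M.1 1 1 - M.1 0 1 * M.1 1 0 = 1 := by
    have h := M.2
    rw [Matrix.det_fin_three, h0, h1, h22] at h
    linear_combination h
  simp only [map_mul, map_add, map_pow, aeval_X, map_one, aeval_C, Algebra.algebraMap_eq_smul_one,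
    smul_mul_assoc, one_mul]
  ext i j
  fin_cases i <;> fin_cases j <;>
    simp [Matrix.mul_apply, Fin.sum_univ_three, pow_two, h0, h1, h22] <;> grobner

theorem exponents (hF : Fintype.card F = 4) (M : Matrix.SpecialLinearGroup (Fin 3) F) (hM : M ∈ affine F) :
    M ^ 4 = 1 ∨ M ^ 3 = 1 ∨ M ^ 5 = 1 := by
  have h2 := two_eq_zero hF
  have h0 := aeval_char_eq_zero h2 M hM
  obtain ⟨t, ht'⟩ : ∃ t, t = M.1 0 0 + M.1 1 1 := ⟨_, rfl⟩
  rw [← ht'] at h0
  have key : ∀ (n : ℕ) (q : F[X]), (X : F[X]) ^ n - 1 = (X + 1) * (X ^ 2 + C t * X + 1) * q → M ^ n = 1 := by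
    intro n q h
    refine Subtype.ext ((Matrix.SpecialLinearGroup.coe_pow M n).trans ?_)
    show M.1 ^ n = 1
    have h3 := congrArg (aeval M.1) h
    rw [map_mul (aeval M.1) _ q, h0, zero_mul, map_sub, map_pow, aeval_X, map_one] at h3
    exact sub_eq_zero.1 h3
  have hC : (2 : F[X]) = 0 := by
    rw [← map_ofNat C 2, h2, map_zero]
  by_cases ht0 : t = 0
  · refine Or.inl (key 4 (X + 1) ?_)
    rw [ht0, map_zero]
    grobner
  by_cases ht1 : t = 1
  · refine Or.inr (Or.inl (key 3 1 ?_))
    rw [ht1, map_one]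
    grobner
  · refine Or.inr (Or.inr (key 5 (X ^ 2 + (C t + 1) * X + 1) ?_))
    have ht : C t ^ 2 + C t + 1 = (0 : F[X]) := by
      rw [← map_pow, ← map_add, ← map_one C, ← map_add, sq_add_self_add_one hF ht0 ht1, map_zero]
    linear_combination (-(X ^ 4 + X ^ 3 + X ^ 2 + X + 1) - (X + 1) * C t * (X ^ 3 + X)) * hC -
      (X + 1) * X ^ 2 * ht

theorem range_orderOf_affine (hF : Fintype.card F = 4) :
    Set.range (orderOf : affine F → ℕ) = {1, 2, 3, 4, 5} := by
  classical
  have h2 := two_eq_zero hF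
  ext n
  constructor
  · rintro ⟨M, rfl⟩
    rw [← Subgroup.orderOf_coe]
    have hp := orderOf_pos (M : Matrix.SpecialLinearGroup (Fin 3) F)
    rcases exponents hF M M.2 with h | h | h <;>
    · have hd := Nat.le_of_dvd (by norm_num) (orderOf_dvd_of_pow_eq_one h)
      simp only [Set.mem_insert_iff, Set.mem_singleton_iff]
      omega
  · have h10 : (1 : F) ≠ 0 := one_ne_zero
    obtain ⟨w, hw0, hw1⟩ : ∃ w : F, w ≠ 0 ∧ w ≠ 1 := by
      by_contra hcon
      push Not at hcon
      have : Fintype.card F ≤ ({0, 1} : Finset F).card := Finset.card_le_card fun x _ => by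
        by_cases hx : x = 0
        · simp [hx]
        · simp [hcon x hx]
      rw [hF] at this
      exact absurd (this.trans Finset.card_le_two) (by norm_num)
    have mk : ∀ (M : Matrix (Fin 3) (Fin 3) F) (hd : M.det = 1) (k : ℕ),
        M 2 0 = 0 → M 2 1 = 0 → M 2 2 = 1 → 0 < k → M ^ k = 1 → (∀ i < k, 0 < i → M ^ i ≠ 1) →
        k ∈ Set.range (orderOf : affine F → ℕ) := by
      intro M hd k a0 a1 a2 hk h1 h3
      refine ⟨⟨⟨M, hd⟩, a0, a1, a2⟩, ?_⟩
      rw [← Subgroup.orderOf_coe]
      refine (orderOf_eq_iff hk).2 ⟨Subtype.ext ((Matrix.SpecialLinearGroup.coe_pow _ k).trans h1),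
        fun m hm hm0 e => h3 m hm hm0 ?_⟩
      exact (Matrix.SpecialLinearGroup.coe_pow _ m).symm.trans (congrArg Subtype.val e)
    have pw : ∀ (M : Matrix (Fin 3) (Fin 3) F) (hd : M.det = 1), M 2 0 = 0 → M 2 1 = 0 → M 2 2 = 1 →
        M ^ 4 = 1 ∨ M ^ 3 = 1 ∨ M ^ 5 = 1 := by
      intro M hd a0 a1 a2
      rcases exponents hF ⟨M, hd⟩ ⟨a0, a1, a2⟩ with h | h | h
      · exact Or.inl (congrArg Subtype.val h)
      · exact Or.inr (Or.inl (congrArg Subtype.val h))
      · exact Or.inr (Or.inr (congrArg Subtype.val h))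
    rintro (rfl | rfl | rfl | rfl | rfl)
    · exact ⟨1, orderOf_one⟩
    · refine mk !![1, 0, 1; 0, 1, 0; 0, 0, 1] (by simp [det_fin_three]) 2 rfl rfl rfl two_pos ?_ ?_
      · ext i j
        fin_cases i <;> fin_cases j <;> simp [pow_two, Matrix.mul_apply, Fin.sum_univ_three]
        grobner
      · intro i hi hi0 e
        obtain rfl : i = 1 := by omega
        simpa using congrFun (congrFun e 0) 2
    · refine mk !![1, 1, 0; 1, 0, 0; 0, 0, 1] (by simp [det_fin_three]; grobner) 3 rfl rfl rfl three_pos ?_ ?_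
      · ext i j
        fin_cases i <;> fin_cases j <;> simp [pow_succ, Matrix.mul_apply, Fin.sum_univ_three] <;> grobner
      · intro i hi hi0 e
        obtain rfl | rfl : i = 1 ∨ i = 2 := by omega
        · simpa using congrFun (congrFun e 0) 1
        · simpa [pow_two, Matrix.mul_apply, Fin.sum_univ_three] using congrFun (congrFun e 0) 1
    · refine mk !![1, 1, 0; 0, 1, 1; 0, 0, 1] (by simp [det_fin_three]) 4 rfl rfl rfl (by norm_num) ?_ ?_
      · ext i j
        fin_cases i <;> fin_cases j <;> simp [pow_succ, Matrix.mul_apply, Fin.sum_univ_three] <;> grobner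
      · intro i hi hi0 e
        obtain rfl | rfl | rfl : i = 1 ∨ i = 2 ∨ i = 3 := by omega
        · simpa using congrFun (congrFun e 0) 1
        · simpa [pow_two, Matrix.mul_apply, Fin.sum_univ_three] using congrFun (congrFun e 0) 2
        · have h3 := congrFun (congrFun e 0) 1
          simp [pow_succ, Matrix.mul_apply, Fin.sum_univ_three] at h3
          exact h10 (by grobner)
    · refine mk !![w, 1, 0; 1, 0, 0; 0, 0, 1] (by simp [det_fin_three]; grobner) 5 rfl rfl rfl (by norm_num) ?_ ?_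
      · have hw := sq_add_self_add_one hF hw0 hw1
        ext i j
        fin_cases i <;> fin_cases j <;> simp [pow_succ, Matrix.mul_apply, Fin.sum_univ_three] <;> grobner
      · intro i hi hi0 e
        have hw := sq_add_self_add_one hF hw0 hw1
        obtain rfl | rfl | rfl | rfl : i = 1 ∨ i = 2 ∨ i = 3 ∨ i = 4 := by omega
        all_goals
          have h3 := congrFun (congrFun e 0) 1
          simp [pow_succ, Matrix.mul_apply, Fin.sum_univ_three] at h3 <;>
            first
              | exact h10 h3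
              | exact hw0 h3
              | exact h10 (by grobner)

end Cfsg.Agent.Struct.AffineSL2Four
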