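import Mathlib
import Cfsg.Agent.Lib.Solv.Misc

/-!
Groups acting on abelian `p`-groups with all `p`-elements of small degree: the conjugates of a Sylow
`p`-subgroup fix the `p^n`-multiples of its fixed points.
-/

set_option autoImplicit false

universe u v

namespace Cfsg.Agent.Struct.PowerFix

variable {p : ℕ}

/-- In a ring, if `(1 + D)^p = 1` and `D^(n(p-1)+1) = 0`, then `p^n D = 0`. -/
theorem pow_mul_eq_zero {R : Type v} [Ring R] (hp : p.Prime) {D : R} (h1 : (1 + D) ^ p = 1) (n : ℕ)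
    (hD : D ^ (n * (p - 1) + 1) = 0) : (p : R) ^ n * D = 0 := by
  obtain ⟨r, hr, hrD⟩ : ∃ r : R, (p : R) * D * r = -D ^ p ∧ IsUnit r ∧ Commute D r := by
    have h := (Commute.one_right D).add_pow_prime_eq hp
    set s := ∑ k ∈ Finset.Ioo 0 p, D ^ (k - 1) * (1 : R) ^ (p - k - 1) * ↑(p.choose k / p) with hs
    have hcom : Commute D s := by
      refine Commute.sum_right _ _ _ fun k _ => ?_
      rw [one_pow, mul_one]
      exact ((Commute.refl D).pow_right _).mul_right (Nat.commute_cast _ _)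
    refine ⟨s, ?_, ?_, hcom⟩
    · rw [add_comm D 1, h1, one_pow] at h
      rw [mul_one] at h
      rw [eq_neg_iff_add_eq_zero, add_comm]
      have h' : (1 : R) + (D ^ p + (p : R) * D * s) = 1 + 0 := by
        rw [add_zero]
        exact (h.trans (by abel)).symm
      exact add_left_cancel h'
    · have h1p : 1 ∈ Finset.Ioo 0 p := Finset.mem_Ioo.2 ⟨Nat.one_pos, hp.one_lt⟩
      rw [hs, ← Finset.add_sum_erase _ _ h1p, Nat.choose_one_right, Nat.div_self hp.pos]
      simp only [Nat.sub_self, pow_zero, one_pow, mul_one, Nat.cast_one]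
      have hnil : ∀ k ∈ (Finset.Ioo 0 p).erase 1, ∃ t : R, Commute D t ∧
          D ^ (k - 1) * (↑(p.choose k / p) : R) = D * t := by
        intro k hk
        simp only [Finset.mem_erase, Finset.mem_Ioo] at hk
        refine ⟨D ^ (k - 2) * ↑(p.choose k / p),
          ((Commute.refl D).pow_right _).mul_right (Nat.commute_cast _ _), ?_⟩
        rw [← mul_assoc, ← pow_succ', show k - 2 + 1 = k - 1 by omega]
      choose! t ht using hnil
      rw [Finset.sum_congr rfl (fun k hk => (ht k hk).2), ← Finset.mul_sum]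
      refine IsNilpotent.isUnit_one_add
        (Commute.isNilpotent_mul_right (Commute.sum_right _ _ _ fun k hk => (ht k hk).1) ⟨_, hD⟩)
  have key : ∀ k : ℕ, ∃ w : R, (p : R) ^ k * D = D ^ (k * (p - 1) + 1) * w := by
    intro k
    induction k with
    | zero => exact ⟨1, by simp⟩
    | succ k ih =>
      obtain ⟨w, hw⟩ := ih
      obtain ⟨⟨u, rfl⟩, hDu⟩ := hrD
      have hpD : (p : R) * D = -D ^ p * ↑u⁻¹ := by rw [← hr, Units.mul_inv_cancel_right]
      refine ⟨-↑u⁻¹ * w, ?_⟩
      rw [pow_succ', mul_assoc, hw, ← mul_assoc,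
        show k * (p - 1) + 1 = 1 + k * (p - 1) by omega, pow_add, pow_one, ← mul_assoc (p : R), hpD]
      have hc : Commute (↑u⁻¹ : R) (D ^ (k * (p - 1))) := (hDu.units_inv_right.pow_left _).symm
      rw [neg_mul, neg_mul, neg_mul, mul_assoc (D ^ p), hc.eq, ← mul_assoc (D ^ p), ← pow_add,
        neg_mul, mul_neg, ← mul_assoc]
      congr 3
      rw [Nat.succ_mul]
      have := hp.one_le
      congr 1
      omega
  obtain ⟨w, hw⟩ := key n
  rw [hw, hD, zero_mul]

variable [Fact p.Prime]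

/-- The main induction. -/
theorem conj_fix (n : ℕ) : ∀ {X : Type u} [Group X] [Finite X] {M : Type v} [AddCommGroup M]
    (ρ : X →* AddMonoid.End M),
    (∀ x : X, (∃ k, x ^ p ^ k = 1) → (ρ x - 1) ^ (n * (p - 1) + 1) = 0) →
    ∀ (P : Sylow p X) (v : M), (∀ u ∈ P, ρ u v = v) →
      ∀ g : X, ∀ u ∈ P, ρ (g * u * g⁻¹) (p ^ n • v) = p ^ n • v := by
  intro X
  induction hm : Nat.card X using Nat.strong_induction_on generalizing X with
  | _ m ih =>
  intro _ _ M _ ρ hnil P v hv g u hu
  subst hm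
  have hp : p.Prime := Fact.out
  by_cases hbot : (P : Subgroup X) = ⊥
  · have hu' : u ∈ (P : Subgroup X) := hu
    rw [hbot, Subgroup.mem_bot] at hu'
    subst hu'
    simp
  -- the elements fixing every `p^n`-multiple
  let R : Subgroup X :=
    { carrier := {x | ∀ y : M, ρ x (p ^ n • y) = p ^ n • y}
      one_mem' := fun y => by simp
      mul_mem' := fun {a b} ha hb y => by
        show ρ (a * b) _ = _
        rw [map_mul]
        show ρ a (ρ b _) = _
        rw [hb, ha]
      inv_mem' := fun {a} ha y => by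
        show ρ a⁻¹ _ = _
        conv_lhs => rw [← ha y]
        show (ρ a⁻¹ * ρ a) _ = _
        rw [← map_mul, inv_mul_cancel, map_one]
        rfl }
  have hR : R.Normal := ⟨fun x hx a y => by
    show ρ (a * x * a⁻¹) _ = _
    rw [map_mul, map_mul]
    show ρ a (ρ x (ρ a⁻¹ (p ^ n • y))) = _
    rw [map_nsmul (ρ a⁻¹) _ y, hx, map_nsmul]
    congr 1
    show (ρ a * ρ a⁻¹) _ = _
    rw [← map_mul, mul_inv_cancel, map_one]
    rfl⟩
  have hprime : ∀ x : X, x ^ p = 1 → x ∈ R := by
    intro x hx y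
    have h1 : (1 + (ρ x - 1)) ^ p = 1 := by
      rw [add_sub_cancel, ← map_pow, hx, map_one]
    have h2 := pow_mul_eq_zero hp h1 n (hnil x ⟨1, by rwa [pow_one]⟩)
    have h3 := DFunLike.congr_fun h2 y
    rw [← Nat.cast_pow] at h3
    change (p ^ n : ℕ) • (ρ x y - y) = 0 at h3
    rw [nsmul_sub, sub_eq_zero] at h3
    rw [map_nsmul, h3]
  -- the intersection with the Sylow subgroup
  set D := (P : Subgroup X) ⊓ R with hD
  have hDne : D ≠ ⊥ := by
    have : Nontrivial (P : Subgroup X) := (Subgroup.nontrivial_iff_ne_bot _).2 hbot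
    obtain ⟨k, hk, hk'⟩ := P.isPGroup'.nontrivial_iff_card.1 this
    obtain ⟨x, hx⟩ := exists_prime_orderOf_dvd_card' (G := (P : Subgroup X)) p
      (hk' ▸ dvd_pow_self p (by omega))
    intro h
    have hxD : (x : X) ∈ D := ⟨x.2, hprime _ (by
      have h1 := congrArg Subtype.val (pow_orderOf_eq_one x)
      rw [hx, Subgroup.coe_pow] at h1
      exact h1)⟩
    rw [h, Subgroup.mem_bot] at hxD
    rw [show x = 1 from Subtype.ext hxD, orderOf_one] at hx
    exact hp.one_lt.ne hx
  have hDp : IsPGroup p D := P.isPGroup'.to_le inf_le_left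
  -- Frattini
  have hfrat : Subgroup.normalizer (D : Set X) ⊔ R = ⊤ := by
    have hidx := Cfsg.Agent.Solv.index_sylow_inf_subnormal R (Subgroup.Normal.isSubnormal hR) P
    let Q : Sylow p R := (P.isPGroup'.comap_subtype (K := R)).toSylow hidx
    have hQ : (Q : Subgroup R).map R.subtype = D := by
      show ((P : Subgroup X).comap R.subtype).map R.subtype = D
      rw [Subgroup.map_comap_eq, Subgroup.range_subtype, inf_comm]
    have := Q.normalizer_sup_eq_top
    rwa [hQ] at this
  obtain ⟨g', hg', r, hr, rfl⟩ :=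
    Subgroup.mem_sup_of_normal_right.1 (hfrat.ge (Subgroup.mem_top g))
  set N := Subgroup.normalizer (D : Set X) with hN
  have hPN : (P : Subgroup X) ≤ N := fun a ha => Subgroup.mem_normalizer_iff.2 fun y => by
    show y ∈ (P : Subgroup X) ⊓ R ↔ a * y * a⁻¹ ∈ (P : Subgroup X) ⊓ R
    rw [Subgroup.mem_inf, Subgroup.mem_inf]
    exact and_congr ⟨fun h => mul_mem (mul_mem ha h) (inv_mem ha), fun h => by
      have := mul_mem (mul_mem (inv_mem ha) h) ha
      simpa [mul_assoc] using this⟩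
      ⟨fun h => hR.conj_mem y h a, fun h => by simpa [mul_assoc] using hR.conj_mem _ h a⁻¹⟩
  -- the fixed points of `D`
  let M' : AddSubgroup M :=
    { carrier := {y | ∀ d ∈ D, ρ d y = y}
      zero_mem' := fun d _ => map_zero _
      add_mem' := fun {a b} ha hb d hd => by rw [map_add, ha d hd, hb d hd]
      neg_mem' := fun {a} ha d hd => by rw [map_neg, ha d hd] }
  have hst : ∀ a ∈ N, ∀ y ∈ M', ρ a y ∈ M' := fun a ha y hy d hd => by
    have h := hy _ ((Subgroup.mem_normalizer_iff''.1 ha d).1 hd)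
    show ρ d (ρ a y) = ρ a y
    conv_rhs => rw [← h]
    show (ρ d * ρ a) y = (ρ a * ρ (a⁻¹ * d * a)) y
    rw [← map_mul, ← map_mul]
    congr 2
    group
  let ρN : N →* AddMonoid.End M' :=
    { toFun := fun a =>
        { toFun := fun y => ⟨ρ a y, hst a a.2 y y.2⟩
          map_zero' := Subtype.ext (map_zero _)
          map_add' := fun y z => Subtype.ext (map_add _ _ _) }
      map_one' := by
        refine DFunLike.ext _ _ fun y => Subtype.ext ?_
        show ρ (1 : N) y = y
        rw [Subgroup.coe_one, map_one]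
        rfl
      map_mul' := fun a b => by
        refine DFunLike.ext _ _ fun y => Subtype.ext ?_
        show ρ ↑(a * b) y = ρ a (ρ b y)
        rw [Subgroup.coe_mul, map_mul]
        rfl }
  set DN := D.subgroupOf N with hDN
  have : DN.Normal := Subgroup.normal_in_normalizer
  let ρ' : N ⧸ DN →* AddMonoid.End M' := QuotientGroup.lift DN ρN fun d hd =>
    DFunLike.ext _ _ fun y => Subtype.ext (y.2 d hd)
  have hρ' : ∀ (a : N) (y : M'), (ρ' (QuotientGroup.mk a) y : M) = ρ a y := fun a y => rfl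
  have hcard : Nat.card (N ⧸ DN) < Nat.card X := by
    have h1 := Subgroup.card_eq_card_quotient_mul_card_subgroup DN
    have h2 : 1 < Nat.card DN := by
      rw [Nat.card_congr (Subgroup.subgroupOfEquivOfLe (inf_le_left.trans hPN : D ≤ N)).toEquiv]
      exact (Subgroup.one_lt_card_iff_ne_bot D).2 hDne
    have h3 : Nat.card N ≤ Nat.card X := Nat.card_le_card_of_injective _ Subtype.val_injective
    have h4 : 0 < Nat.card (N ⧸ DN) := Nat.card_pos
    calc Nat.card (N ⧸ DN) < Nat.card (N ⧸ DN) * Nat.card DN := lt_mul_of_one_lt_right h4 h2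
      _ = Nat.card N := h1.symm
      _ ≤ _ := h3
  have hnil' : ∀ x : N ⧸ DN, (∃ k, x ^ p ^ k = 1) → (ρ' x - 1) ^ (n * (p - 1) + 1) = 0 := by
    intro x
    induction x using QuotientGroup.induction_on with
    | _ a =>
    rintro ⟨k, hk⟩
    rw [← QuotientGroup.mk_pow, QuotientGroup.eq_one_iff] at hk
    obtain ⟨l, hl⟩ := hDp ⟨_, hk⟩
    have ha : (a : X) ^ p ^ (k + l) = 1 := by
      rw [pow_add, pow_mul]
      exact congrArg Subtype.val hl
    have h0 := hnil a ⟨_, ha⟩
    have key : ∀ (j : ℕ) (y : M'),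
        (((ρ' (QuotientGroup.mk a) - 1) ^ j) y : M) = ((ρ a - 1) ^ j) (y : M) := by
      intro j
      induction j with
      | zero => intro y; rfl
      | succ j ih' =>
        intro y
        rw [pow_succ', pow_succ']
        show ((ρ' (QuotientGroup.mk a) - 1) (((ρ' (QuotientGroup.mk a) - 1) ^ j) y) : M) =
          (ρ a - 1) (((ρ a - 1) ^ j) (y : M))
        rw [← ih' y]
        rfl
    refine DFunLike.ext _ _ fun y => Subtype.ext ?_
    rw [key, h0]
    rfl
  let P' : Sylow p (N ⧸ DN) := (P.subtype hPN).mapSurjective (QuotientGroup.mk'_surjective DN)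
  have hvM : v ∈ M' := fun d hd => hv d hd.1
  have hv' : ∀ x ∈ P', ρ' x ⟨v, hvM⟩ = ⟨v, hvM⟩ := by
    intro x hx
    have hx' : x ∈ (P' : Subgroup (N ⧸ DN)) := hx
    obtain ⟨a, ha, rfl⟩ := hx'
    exact Subtype.ext (hv a ha)
  have hmain := ih _ hcard (X := N ⧸ DN) rfl ρ' hnil' P' ⟨v, hvM⟩ hv' (QuotientGroup.mk ⟨g', hg'⟩)
    (QuotientGroup.mk ⟨u, hPN hu⟩) ⟨⟨u, hPN hu⟩, hu, rfl⟩
  have h5 : ρ (g' * u * g'⁻¹) (p ^ n • v) = p ^ n • v := by
    have := congrArg Subtype.val hmain
    simpa [← QuotientGroup.mk_inv, ← QuotientGroup.mk_mul, hρ'] using this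
  -- move by the element of `R`
  have hr' : g' * r * g'⁻¹ ∈ R := hR.conj_mem r hr g'
  have e : g' * r * u * (g' * r)⁻¹ = (g' * r * g'⁻¹) * (g' * u * g'⁻¹) * (g' * r * g'⁻¹)⁻¹ := by group
  rw [e, map_mul, map_mul]
  show ρ _ (ρ _ (ρ _ (p ^ n • v))) = _
  rw [inv_mem hr' v, h5, hr' v]

end Cfsg.Agent.Struct.PowerFix
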