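import Mathlib
import Cfsg.Prelude.Def_PLocal
import Cfsg.Agent.Lib.Fusion.NormalCriteria
import Cfsg.Agent.Lib.Struct.PowerFix

/-!
In a saturated fusion system over a `p`-group of class at most `n(p-1)+1` the subgroup generated by the
`p^n`-th powers of the central elements is normal.
-/

set_option autoImplicit false

open scoped commutatorElement IsMulCommutative

namespace Cfsg.Agent.Struct.AgemoFusion

open Cfsg Cfsg.FusionSystem Cfsg.Agent.Fusion

variable {Ω : Type*} [Group Ω] {S : Subgroup Ω} [Finite S] {F : FusionSystem S} {p : ℕ} [Fact p.Prime]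
  {R T : Subgroup Ω} {f : Ω → Ω}

omit [Fact p.Prime] in
theorem mem_agemo_of_gen {n : ℕ} {z : Ω} (hz : z ∈ S ⊓ Subgroup.centralizer (S : Set Ω)) :
    z ^ p ^ n ∈ powerClosure p n (S ⊓ Subgroup.centralizer (S : Set Ω)) :=
  Subgroup.subset_closure ⟨z, hz, rfl⟩

omit [Fact p.Prime] [Finite S] in
theorem agemo_le (n : ℕ) :
    powerClosure p n (S ⊓ Subgroup.centralizer (S : Set Ω)) ≤ S ⊓ Subgroup.centralizer (S : Set Ω) :=
  (Subgroup.closure_le _).2 (by rintro _ ⟨z, hz, rfl⟩; exact Subgroup.pow_mem _ hz _)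

omit [Fact p.Prime] in
theorem center_le_centric (hR : F.IsCentric R) : S ⊓ Subgroup.centralizer (S : Set Ω) ≤ R :=
  fun _ hx => centralizerIn_le_of_isCentric hR
    (mem_centralizerIn.2 ⟨hx.1, fun y hy => hx.2 y (hR.1 hy)⟩)

omit [Fact p.Prime] in
theorem isCentric_over (hR : F.IsCentric R) (hRT : R ≤ T) (hT : T ≤ S) : F.IsCentric T := by
  refine ⟨hT, fun Q hQ => ?_⟩
  obtain ⟨g, hg⟩ := isConj_iff_exists_isIso.1 hQ
  intro c hc
  obtain ⟨hcS, hc⟩ := mem_centralizerIn.1 hc
  refine hg.image_le hRT (hR.2 _ (hg.restrict hRT).isConj (mem_centralizerIn.2 ⟨hcS, fun y hy => ?_⟩))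
  exact hc y (hg.image_le hRT hy)

omit [Fact p.Prime] in
theorem isCentric_top (F : FusionSystem S) : F.IsCentric S := by
  refine ⟨le_rfl, fun Q hQ => ?_⟩
  obtain ⟨g, hg⟩ := isConj_iff_exists_isIso.1 hQ
  rw [eq_of_le_of_card_le' le_rfl hg.le' hg.card_eq.ge]
  exact centralizerIn_le

omit [Finite S] [Fact p.Prime] in
/-- The kernel of a commutator descent. -/
theorem comm_mem_lowerCentralSeries {a w : Ω} (ha : a ∈ S) {j : ℕ}
    (hw : w ∈ Subgroup.lowerCentralSeries S j) :
    a * w * a⁻¹ * w⁻¹ ∈ Subgroup.lowerCentralSeries S (j + 1) := by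
  rw [Subgroup.lowerCentralSeries_succ, Subgroup.commutator_comm, ← commutatorElement_def]
  exact Subgroup.commutator_mem_commutator ha hw

theorem conj_pow_eq {A : Type*} [Ring A] {a b : A} (hab : a * b = 1) (E : A) (j : ℕ) :
    (b * E * a) ^ (j + 1) = b * E ^ (j + 1) * a := by
  induction j with
  | zero => simp
  | succ j ih =>
    rw [pow_succ, ih, pow_succ E (j + 1)]
    calc b * E ^ (j + 1) * a * (b * E * a) = b * E ^ (j + 1) * (a * b) * E * a := by noncomm_ring
      _ = _ := by rw [hab]; noncomm_ring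

/-- The restriction of an automorphism to the centre, additively. -/
def centerEnd (R : Subgroup Ω) : MulAut R →* AddMonoid.End (Additive ↥(Subgroup.center R)) where
  toFun α :=
    { toFun := fun z => Additive.ofMul
        ⟨α (Additive.toMul z : ↥(Subgroup.center R)), Subgroup.mem_center_iff.2 fun y => by
          have h := congrArg α (Subgroup.mem_center_iff.1 (Additive.toMul z).2 (α⁻¹ y))
          rwa [map_mul, map_mul, MulAut.apply_inv_self] at h⟩
      map_zero' := congrArg Additive.ofMul (Subtype.ext (map_one α))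
      map_add' := fun y z => congrArg Additive.ofMul (Subtype.ext (map_mul α _ _)) }
  map_one' := rfl
  map_mul' _ _ := rfl

omit [Finite S] [Fact p.Prime] in
theorem centerEnd_coe (α : MulAut R) (z : Additive ↥(Subgroup.center R)) :
    ((Additive.toMul (centerEnd R α z) : ↥(Subgroup.center R)) : R) =
      α ((Additive.toMul z : ↥(Subgroup.center R)) : R) := rfl

section

variable (hS : IsPGroup p S) (hF : F.IsSaturated p) {n : ℕ}
  (hcl : Subgroup.lowerCentralSeries S (n * (p - 1) + 1) = ⊥)
include hS hF hcl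

/-- The automorphisms of a fully normalized centric subgroup, up to maps of its normalizer, fix the
powers of the central elements. -/
theorem exists_extension_agrees (hRc : F.IsCentric R) (hR : F.IsFullyNormalized R) {α : MulAut R}
    (hα : α ∈ F.autGroup R) :
    ∃ g, IsMor F (normalizerIn S R) g ∧ ∀ z ∈ S ⊓ Subgroup.centralizer (S : Set Ω),
      autFun α (z ^ p ^ n) = g (z ^ p ^ n) := by
  obtain ⟨hA, hrec⟩ := fullyNormalized_receptive hS hF hR
  have := finite_autGroup (F := F) hR.1
  obtain ⟨R0, hR0⟩ := hA.2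
  let ρ : F.autGroup R →* AddMonoid.End (Additive ↥(Subgroup.center R)) :=
    (centerEnd R).comp (F.autGroup R).subtype
  have hind : ∀ β ∈ autInducedBy S R, (centerEnd R β - 1) ^ (n * (p - 1) + 1) = 0 := by
    intro β hβ
    obtain ⟨a, ha, -, hx⟩ := mem_autInducedBy.1 hβ
    have key : ∀ (j : ℕ) (z : Additive ↥(Subgroup.center R)),
        (((Additive.toMul (((centerEnd R β - 1) ^ j) z) : ↥(Subgroup.center R)) : R) : Ω) ∈
          Subgroup.lowerCentralSeries S j := by
      intro j
      induction j with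
      | zero => intro z; exact hR.1 ((Additive.toMul z : ↥(Subgroup.center R)) : R).2
      | succ j ih =>
        intro z
        rw [pow_succ']
        have h := comm_mem_lowerCentralSeries ha (ih z)
        rw [← hx] at h
        convert h using 1
        show (((Additive.toMul (centerEnd R β _ - _) : ↥(Subgroup.center R)) : R) : Ω) = _
        simp only [toMul_sub, div_eq_mul_inv, Subgroup.coe_mul, Subgroup.coe_inv, centerEnd_coe]
        rfl
    refine DFunLike.ext _ _ fun z => ?_
    have h := key (n * (p - 1) + 1) z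
    rw [hcl, Subgroup.mem_bot] at h
    apply Additive.toMul.injective
    exact Subtype.ext (Subtype.ext h)
  have hnil : ∀ x : F.autGroup R, (∃ k, x ^ p ^ k = 1) → (ρ x - 1) ^ (n * (p - 1) + 1) = 0 := by
    rintro x ⟨k, hk⟩
    have hk' : (x : MulAut R) ^ p ^ k = 1 := congrArg Subtype.val hk
    obtain ⟨γ, hγ, hγx⟩ := exists_conj_le_autInducedBy hA (T := Subgroup.zpowers (x : MulAut R))
      (Subgroup.zpowers_le.2 x.2) (fun y => by
        obtain ⟨y, hy⟩ := y
        obtain ⟨i, rfl⟩ := Subgroup.mem_zpowers_iff.1 hy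
        refine ⟨k, Subtype.ext ?_⟩
        show ((x : MulAut R) ^ i) ^ p ^ k = 1
        rw [← zpow_natCast, zpow_comm, zpow_natCast, hk', one_zpow])
    have hab : centerEnd R γ * centerEnd R γ⁻¹ = 1 := by rw [← map_mul, mul_inv_cancel, map_one]
    have hba : centerEnd R γ⁻¹ * centerEnd R γ = 1 := by rw [← map_mul, inv_mul_cancel, map_one]
    have e : ρ x - 1 =
        centerEnd R γ⁻¹ * (centerEnd R (γ * x * γ⁻¹) - 1) * centerEnd R γ := by
      rw [mul_sub, sub_mul, mul_one, hba, ← map_mul, ← map_mul,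
        show γ⁻¹ * (γ * (x : MulAut R) * γ⁻¹) * γ = x by group]
      rfl
    rw [e, conj_pow_eq hab, hind _ (hγx _ (Subgroup.mem_zpowers _)), mul_zero, zero_mul]
  -- the subgroup fixing the powers
  let K : Subgroup (F.autGroup R) :=
    { carrier := {x | ∀ z ∈ S ⊓ Subgroup.centralizer (S : Set Ω),
        autFun (x : MulAut R) (z ^ p ^ n) = z ^ p ^ n}
      one_mem' := fun z hz => autFun_one (center_le_centric hRc (Subgroup.pow_mem _ hz _))
      mul_mem' := fun {a b} ha hb z hz => by
        rw [Subgroup.coe_mul, autFun_mul _ _ (center_le_centric hRc (Subgroup.pow_mem _ hz _)), hb z hz]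
        exact ha z hz
      inv_mem' := fun {a} ha z hz => by
        conv_lhs => rw [← ha z hz]
        rw [← autFun_mul _ _ (center_le_centric hRc (Subgroup.pow_mem _ hz _)), ← Subgroup.coe_mul,
          inv_mul_cancel, Subgroup.coe_one, autFun_one (center_le_centric hRc (Subgroup.pow_mem _ hz _))] }
  set L := Subgroup.normalClosure ((R0 : Subgroup (F.autGroup R)) : Set (F.autGroup R)) with hL
  have hLK : L ≤ K := by
    refine (Subgroup.closure_le _).2 fun x hx => ?_
    obtain ⟨u, hu, hux⟩ := Group.mem_conjugatesOfSet_iff.1 hx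
    obtain ⟨g, rfl⟩ := isConj_iff.1 hux
    intro z hz
    have hzR : z ∈ R := center_le_centric hRc hz
    have hzc : (⟨z, hzR⟩ : R) ∈ Subgroup.center R :=
      Subgroup.mem_center_iff.2 fun y => Subtype.ext (hz.2 y (hR.1 y.2))
    have h := PowerFix.conj_fix (p := p) n ρ hnil R0 (Additive.ofMul ⟨⟨z, hzR⟩, hzc⟩)
      (fun b hb => by
        have hb' : b ∈ (R0 : Subgroup (F.autGroup R)) := hb
        rw [hR0] at hb'
        obtain ⟨a, ha, -, hx⟩ := mem_autInducedBy.1 (Subgroup.mem_subgroupOf.1 hb')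
        apply Additive.toMul.injective
        refine Subtype.ext (Subtype.ext ?_)
        show (((b : MulAut R) ⟨z, hzR⟩ : R) : Ω) = z
        rw [hx, hz.2 a ha, mul_inv_cancel_right]) g u hu
    have h' := congrArg (fun w : Additive ↥(Subgroup.center R) =>
      (((Additive.toMul w : ↥(Subgroup.center R)) : R) : Ω)) h
    simp only [ρ, MonoidHom.comp_apply, Subgroup.coe_subtype, centerEnd_coe, toMul_nsmul,
      toMul_ofMul, Subgroup.coe_pow] at h'
    rw [autFun_apply _ (Subgroup.pow_mem _ hzR _)]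
    exact h'
  have hfrat := Sylow.normalizer_sup_eq_top' R0 (N := L) Subgroup.subset_normalClosure
  obtain ⟨β, hβ, l, hl, hβl⟩ :=
    Subgroup.mem_sup_of_normal_right.1 (hfrat.ge (Subgroup.mem_top (⟨α, hα⟩ : F.autGroup R)))
  have hext : ∀ a ∈ normalizerIn S R, ExtCond S R (autFun (β : MulAut R)) a := by
    intro a ha
    obtain ⟨h1, h2⟩ := conjAut_mem (F := F) hR.1 ha
    have h3 : (⟨_, h2⟩ : F.autGroup R) ∈ (R0 : Subgroup (F.autGroup R)) := by
      rw [hR0]
      exact h1
    have h4 := (Subgroup.mem_normalizer_iff.1 hβ _).1 h3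
    rw [← SetLike.mem_coe, SetLike.mem_coe, hR0] at h4
    obtain ⟨b, hb, -, hy⟩ := mem_autInducedBy.1 (Subgroup.mem_subgroupOf.1 h4)
    refine ⟨ha.1, ha.2, b, hb, fun x hx => ?_⟩
    have h5 := hy ((β : MulAut R) ⟨x, hx⟩)
    simp only [Subgroup.coe_mul, Subgroup.coe_inv, MulAut.mul_apply, MulAut.inv_apply_self] at h5
    rw [autFun_apply _ (conj_mem_of_mem_normalizer ha.2 hx), autFun_apply _ hx, ← h5]
    rfl
  obtain ⟨g, hg, hge⟩ := exists_extension hrec (isIso_autFun hR.1 β.2) hext
  refine ⟨g, hg, fun z hz => ?_⟩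
  have hzR : z ^ p ^ n ∈ R := center_le_centric hRc (Subgroup.pow_mem _ hz _)
  have hαe : α = (β : MulAut R) * (l : MulAut R) := (congrArg Subtype.val hβl).symm
  rw [hαe, autFun_mul _ _ hzR, hLK hl z hz, hge _ hzR (le_normalizerIn hR.1 hzR)]

/-- Maps on centric subgroups stabilize the subgroup of powers. -/
theorem apply_mem_agemo (hRc : F.IsCentric R) (hf : IsMor F R f) {a : Ω}
    (ha : a ∈ powerClosure p n (S ⊓ Subgroup.centralizer (S : Set Ω))) :
    f a ∈ powerClosure p n (S ⊓ Subgroup.centralizer (S : Set Ω)) := by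
  induction hm : Nat.card S - Nat.card R using Nat.strong_induction_on generalizing R f a with
  | _ m ih =>
  subst hm
  set A := powerClosure p n (S ⊓ Subgroup.centralizer (S : Set Ω)) with hAdef
  have hAR : ∀ {Q : Subgroup Ω}, F.IsCentric Q → A ≤ Q := fun hQ => (agemo_le n).trans (center_le_centric hQ)
  -- it is enough to look at the generators
  suffices hgen : ∀ z ∈ S ⊓ Subgroup.centralizer (S : Set Ω), f (z ^ p ^ n) ∈ A by
    have hmem : a ∈ R ∧ f a ∈ A := by
      induction ha using Subgroup.closure_induction with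
      | mem x hx =>
        obtain ⟨z, hz, rfl⟩ := hx
        exact ⟨hAR hRc (mem_agemo_of_gen hz), hgen z hz⟩
      | one => exact ⟨one_mem _, by rw [hf.map_one]; exact one_mem _⟩
      | mul x y _ _ hx hy => exact ⟨mul_mem hx.1 hy.1, hf.map_mul hx.1 hy.1 ▸ mul_mem hx.2 hy.2⟩
      | inv x _ hx => exact ⟨inv_mem hx.1, hf.map_inv hx.1 ▸ inv_mem hx.2⟩
    exact hmem.2
  intro z hz
  rcases eq_or_lt_of_le hf.le with hRS | hRS
  · subst hRS
    have hi := hf.isIso_self fun x hx => hf.mem hx
    rw [show f (z ^ p ^ n) = (f z) ^ p ^ n by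
      have : ∀ j : ℕ, f (z ^ j) = f z ^ j := fun j => by
        induction j with
        | zero => simp [hf.map_one]
        | succ j ihj => rw [pow_succ, hf.map_mul (pow_mem hz.1 _) hz.1, ihj, pow_succ]
      exact this _]
    refine mem_agemo_of_gen ⟨hf.mem hz.1, fun y hy => ?_⟩
    obtain ⟨x, hx, rfl⟩ := hi.exists_apply hy
    rw [← hf.map_mul hx hz.1, ← hf.map_mul hz.1 hx, hz.2 x hx]
  have hbig : ∀ {Q : Subgroup Ω} {g : Ω → Ω}, Nat.card R < Nat.card Q → F.IsCentric Q →
      IsMor F Q g → ∀ a ∈ A, g a ∈ A := by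
    intro Q g hQ hQc hg a ha
    have := Nat.card_le_card_of_injective (Subgroup.inclusion hg.le) (Subgroup.inclusion_injective _)
    exact ih _ (by omega) hQc hg ha rfl
  have hi := hf.isIso
  have hlt : ∀ {Q : Subgroup Ω}, F.IsConj R Q →
      Nat.card R < Nat.card (normalizerIn S Q) ∧ F.IsCentric (normalizerIn S Q) := by
    intro Q hQ
    obtain ⟨g, hg⟩ := isConj_iff_exists_isIso.1 hQ
    have hQS : Q < S := lt_of_le_of_ne hg.le' fun h0 => by
      have := card_lt_of_lt le_rfl hRS
      rw [← hg.card_eq, h0] at this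
      exact this.false
    exact ⟨hg.card_eq ▸ card_lt_of_lt normalizerIn_le (normalizerIn_self_lt hS hQS),
      isCentric_over (isCentric_of_isConj hRc hQ) (le_normalizerIn hg.le') normalizerIn_le⟩
  obtain ⟨U, hcU, hU⟩ := exists_fullyNormalized (F := F) hf.le
  obtain ⟨g, g', hg, hg', hge, -⟩ := exists_iso_to_fullyNormalized hS hF hcU hU
  obtain ⟨k, k', hk, hk', hke, -⟩ :=
    exists_iso_to_fullyNormalized hS hF (isConj_trans (isConj_symm hi.isConj) hcU) hU
  obtain ⟨gi, hgi, hgl, -⟩ := hg.exists_symm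
  have hα : IsIso F U U (k ∘ f ∘ gi) := (hgi.trans hi).trans hk
  obtain ⟨e, he, hee⟩ := exists_extension_agrees hS hF hcl (isCentric_of_isConj hRc hcU) hU (autOf_mem hα)
  have hUc := hlt hcU
  -- the automorphism stabilizes the subgroup
  have hαA : ∀ a ∈ A, k (f (gi a)) ∈ A := by
    intro a ha
    have hcl' : a ∈ U ∧ autFun (autOf hα) a ∈ A := by
      induction ha using Subgroup.closure_induction with
      | mem x hx =>
        obtain ⟨w, hw, rfl⟩ := hx
        exact ⟨hAR (isCentric_of_isConj hRc hcU) (mem_agemo_of_gen hw),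
          hee w hw ▸ hbig hUc.1 hUc.2 he _ (mem_agemo_of_gen hw)⟩
      | one => exact ⟨one_mem _, by rw [(isMor_of_mem_autGroup hU.1 (autOf_mem hα)).map_one]; exact one_mem _⟩
      | mul x y _ _ hx hy =>
        exact ⟨mul_mem hx.1 hy.1,
          (isMor_of_mem_autGroup hU.1 (autOf_mem hα)).map_mul hx.1 hy.1 ▸ mul_mem hx.2 hy.2⟩
      | inv x _ hx =>
        exact ⟨inv_mem hx.1, (isMor_of_mem_autGroup hU.1 (autOf_mem hα)).map_inv hx.1 ▸ inv_mem hx.2⟩
    have h := hcl'.2
    rwa [autFun_apply _ hcl'.1, autOf_apply] at h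
  set w := z ^ p ^ n with hwdef
  have hwA : w ∈ A := mem_agemo_of_gen hz
  have hwR : w ∈ R := hAR hRc hwA
  have hgw : g w ∈ A := hge w hwR ▸ hbig (hlt (isConj_refl hf.le)).1 (hlt (isConj_refl hf.le)).2 hg' w hwA
  have hkfw : k (f w) ∈ A := by
    have := hαA _ hgw
    rwa [hgl w hwR] at this
  -- the second comparison map is onto on the subgroup
  have hImc : F.IsCentric (hf.image R le_rfl) := isCentric_of_isConj hRc hi.isConj
  have hkA : ∀ a ∈ A, k a ∈ A := fun a ha =>
    hke a (hAR hImc ha) ▸ hbig (hlt hi.isConj).1 (hlt hi.isConj).2 hk' a ha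
  have : Finite A := finite_of_le ((agemo_le n).trans inf_le_left)
  have hinj : Function.Injective (fun x : A => (⟨k x, hkA x x.2⟩ : A)) := fun x y hxy =>
    Subtype.ext (hk.1.injOn (hAR hImc x.2) (hAR hImc y.2) (congrArg Subtype.val hxy))
  obtain ⟨x, hx⟩ := Finite.surjective_of_injective hinj ⟨k (f w), hkfw⟩
  have := hk.1.injOn (hAR hImc x.2) (hi.apply_mem hwR) (congrArg Subtype.val hx)
  exact this ▸ x.2

/-- The subgroup of `p^n`-th powers of the centre is normal. -/
theorem agemo_isNormal : F.IsNormal (powerClosure p n (S ⊓ Subgroup.centralizer (S : Set Ω))) := by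
  refine isNormal_of_essential hS hF fun P hP => ?_
  have hPc : F.IsCentric P := by
    rcases hP with rfl | hP
    · exact isCentric_top F
    · exact hP.1
  exact ⟨(agemo_le n).trans (center_le_centric hPc), fun α hα x hx =>
    apply_mem_agemo hS hF hcl hPc (isMor_of_mem_autGroup hPc.1 hα) hx⟩

end

/-- A group with central exponent dividing `e` and class at most `c` has exponent dividing `e^c`. -/
theorem pow_eq_one_of_class (e c : ℕ) {G : Type*} [Group G]
    (hc : Subgroup.lowerCentralSeries (⊤ : Subgroup G) c = ⊥)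
    (hz : ∀ z ∈ Subgroup.center G, z ^ e = 1) (x : G) : x ^ e ^ c = 1 := by
  induction c generalizing G with
  | zero =>
    have hx : x ∈ (⊥ : Subgroup G) := hc ▸ Subgroup.mem_top x
    rw [Subgroup.mem_bot.1 hx, one_pow]
  | succ c ih =>
    have hle : Subgroup.lowerCentralSeries (⊤ : Subgroup G) c ≤ Subgroup.center G := fun y hy => by
      refine Subgroup.mem_center_iff.2 fun w => ?_
      have h := Subgroup.commutator_mem_commutator hy (Subgroup.mem_top w)
      rw [← Subgroup.lowerCentralSeries_succ, hc, Subgroup.mem_bot, commutatorElement_eq_one_iff_mul_comm] at h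
      exact h.symm
    have hc' : Subgroup.lowerCentralSeries (⊤ : Subgroup (G ⧸ Subgroup.center G)) c = ⊥ := by
      rw [← Subgroup.map_top_of_surjective _ (QuotientGroup.mk'_surjective (Subgroup.center G)),
        ← Subgroup.map_lowerCentralSeries, Subgroup.map_eq_bot_iff, QuotientGroup.ker_mk']
      exact hle
    have hz' : ∀ z ∈ Subgroup.center (G ⧸ Subgroup.center G), z ^ e = 1 := by
      intro z hzc
      induction z using QuotientGroup.induction_on with
      | _ y =>
      rw [← QuotientGroup.mk_pow, QuotientGroup.eq_one_iff, Subgroup.mem_center_iff]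
      intro w
      have hd : (y * w * y⁻¹ * w⁻¹) ∈ Subgroup.center G := by
        rw [← QuotientGroup.eq_one_iff, QuotientGroup.mk_mul, QuotientGroup.mk_mul, QuotientGroup.mk_mul,
          ← Subgroup.mem_center_iff.1 hzc (w : G ⧸ Subgroup.center G), QuotientGroup.mk_inv,
          QuotientGroup.mk_inv, mul_inv_cancel_right, mul_inv_cancel]
      set d := y * w * y⁻¹ * w⁻¹
      have hdc : ∀ g : G, g * d = d * g := Subgroup.mem_center_iff.1 hd
      have h1 : w⁻¹ * y * w = d * y := by
        calc w⁻¹ * y * w = w⁻¹ * (d * w * y) := by simp only [d]; group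
          _ = d * y := by rw [← hdc w, mul_assoc w, inv_mul_cancel_left]
      have h2 : w⁻¹ * y ^ e * w = y ^ e := by
        have h3 : (w⁻¹ * y * w) ^ e = w⁻¹ * y ^ e * w := by simpa using conj_pow (a := w⁻¹) (b := y) (i := e)
        rw [← h3, h1, (show Commute d y from (hdc y).symm).mul_pow, hz d hd, one_mul]
      calc w * y ^ e = w * (w⁻¹ * y ^ e * w) := by rw [h2]
        _ = y ^ e * w := by group
    have h := ih hc' hz' (x : G ⧸ Subgroup.center G)
    rw [← QuotientGroup.mk_pow, QuotientGroup.eq_one_iff] at h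
    rw [pow_succ, pow_mul]
    exact hz _ h

theorem exponent_dvd_of_core_eq_bot (hS : IsPGroup p S) (hF : F.IsSaturated p) (n : ℕ)
    (hcl : Subgroup.lowerCentralSeries S (n * (p - 1) + 1) = ⊥) (hcore : F.core = ⊥) :
    Monoid.exponent ↥S ∣ p ^ (n ^ 2 * (p - 1) + n) := by
  have hz : ∀ z ∈ Subgroup.center S, z ^ p ^ n = 1 := by
    intro z hzc
    have hmem : (z : Ω) ^ p ^ n ∈ F.core := by
      refine (le_sSup (agemo_isNormal hS hF hcl) : _ ≤ F.core) (mem_agemo_of_gen ⟨z.2, fun y hy => ?_⟩)
      exact congrArg Subtype.val (Subgroup.mem_center_iff.1 hzc ⟨y, hy⟩)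
    rw [hcore, Subgroup.mem_bot] at hmem
    exact Subtype.ext hmem
  have hc : Subgroup.lowerCentralSeries (⊤ : Subgroup S) (n * (p - 1) + 1) = ⊥ := by
    rw [← Subgroup.map_eq_bot_iff_of_injective _ S.subtype_injective,
      Subgroup.top_subtype_lowerCentralSeries, hcl]
  refine Monoid.exponent_dvd_of_forall_pow_eq_one fun x => ?_
  have h := pow_eq_one_of_class (p ^ n) _ hc hz x
  rw [← pow_mul, show n * (n * (p - 1) + 1) = n ^ 2 * (p - 1) + n by ring] at h
  exact h

end Cfsg.Agent.Struct.AgemoFusion
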