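import Mathlib

/-!
Element orders in the alternating group of degree five.
-/

set_option autoImplicit false

namespace Cfsg.Agent.Struct.AltFiveOrders

open Equiv

abbrev A5 := alternatingGroup (Fin 5)

def w2 : A5 := ⟨swap 0 1 * swap 2 3, Equiv.Perm.mem_alternatingGroup.2 (by decide)⟩

def w3 : A5 := ⟨swap 0 1 * swap 1 2, Equiv.Perm.mem_alternatingGroup.2 (by decide)⟩

def w5 : A5 := ⟨swap 0 1 * swap 1 2 * swap 2 3 * swap 3 4, Equiv.Perm.mem_alternatingGroup.2 (by decide)⟩

set_option maxRecDepth 100000 in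
set_option maxHeartbeats 4000000 in
theorem cases_perm : ∀ g : Perm (Fin 5), Perm.sign g = 1 → g = 1 ∨ g ^ 2 = 1 ∨ g ^ 3 = 1 ∨ g ^ 5 = 1 := by
  decide

theorem range_eq : Set.range (orderOf : A5 → ℕ) = {1, 2, 3, 5} := by
  haveI := Fact.mk (Nat.prime_two)
  haveI := Fact.mk (Nat.prime_three)
  haveI := Fact.mk (show Nat.Prime 5 by norm_num)
  ext n
  constructor
  · rintro ⟨g, rfl⟩
    have h := cases_perm g g.2
    simp only [Set.mem_insert_iff, Set.mem_singleton_iff]
    by_cases h1 : g = 1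
    · exact Or.inl (orderOf_eq_one_iff.2 h1)
    rcases h with h | h | h | h
    · exact absurd (Subtype.ext h) h1
    · exact Or.inr (Or.inl (orderOf_eq_prime (Subtype.ext h) h1))
    · exact Or.inr (Or.inr (Or.inl (orderOf_eq_prime (Subtype.ext h) h1)))
    · exact Or.inr (Or.inr (Or.inr (orderOf_eq_prime (Subtype.ext h) h1)))
  · intro h
    simp only [Set.mem_insert_iff, Set.mem_singleton_iff] at h
    rcases h with rfl | rfl | rfl | rfl
    · exact ⟨1, orderOf_one⟩
    · exact ⟨w2, orderOf_eq_prime (by decide) (by decide)⟩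
    · exact ⟨w3, orderOf_eq_prime (by decide) (by decide)⟩
    · exact ⟨w5, orderOf_eq_prime (by decide) (by decide)⟩

theorem range_prod {G H : Type*} [Monoid G] [Monoid H] :
    Set.range (orderOf : G × H → ℕ) = Set.image2 Nat.lcm (Set.range (orderOf : G → ℕ)) (Set.range (orderOf : H → ℕ)) := by
  ext n
  simp only [Set.mem_range, Set.mem_image2, exists_exists_eq_and]
  constructor
  · rintro ⟨⟨a, b⟩, rfl⟩
    exact ⟨a, b, (Prod.orderOf_mk).symm⟩
  · rintro ⟨a, b, rfl⟩
    exact ⟨(a, b), Prod.orderOf_mk⟩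

end Cfsg.Agent.Struct.AltFiveOrders
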