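/-
Small tools: conjugates of a proper subgroup do not cover, prime-power class sizes and solvability,
decomposition of an element into parts.
-/
import Cfsg.Agent.Lib.Char.Burnside
import Mathlib.GroupTheory.QuotientGroup.Basic
import Mathlib.GroupTheory.Index
import Mathlib.GroupTheory.Subgroup.Centralizer

set_option autoImplicit false

namespace Cfsg.Agent.Struct

universe u

variable {G : Type u} [Group G]

theorem exists_forall_conj_notMem [Finite G] {H : Subgroup G} (hH : H ≠ ⊤) :
    ∃ x : G, ∀ g : G, g * x * g⁻¹ ∉ H := by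
  classical
  by_contra hcon
  push Not at hcon
  have hlt : 1 < H.index := by
    rcases Nat.lt_or_ge 1 H.index with h | h
    · exact h
    · have := H.index_ne_zero_of_finite
      exact absurd (Subgroup.index_eq_one.1 (by omega)) hH
  let f : (G ⧸ H) × {h : H // h ≠ 1} → {x : G // x ≠ 1} := fun z =>
    ⟨z.1.out * (z.2.1 : G) * z.1.out⁻¹, fun e => z.2.2 (Subtype.ext (by simpa using conj_eq_one_iff.1 e))⟩
  have hf : Function.Surjective f := by
    rintro ⟨x, hx⟩
    obtain ⟨g, hg⟩ := hcon x
    obtain ⟨h', hh'⟩ := QuotientGroup.mk_out_eq_mul H g⁻¹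
    refine ⟨((g⁻¹ : G), ⟨⟨(h' : G)⁻¹ * (g * x * g⁻¹) * h',
      mul_mem (mul_mem (inv_mem h'.2) hg) h'.2⟩, fun e => hx ?_⟩), Subtype.ext ?_⟩
    · have e' : (h' : G)⁻¹ * (g * x * g⁻¹) * h' = 1 := congrArg Subtype.val e
      calc x = g⁻¹ * ((h' : G) * ((h' : G)⁻¹ * (g * x * g⁻¹) * h') * (h' : G)⁻¹) * g := by group
        _ = 1 := by rw [e']; group
    · show (QuotientGroup.mk g⁻¹ : G ⧸ H).out * ((h' : G)⁻¹ * (g * x * g⁻¹) * h') *
        (QuotientGroup.mk g⁻¹ : G ⧸ H).out⁻¹ = x
      rw [hh']; group
  have h1 := Nat.card_le_card_of_surjective f hf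
  have e1 : Nat.card {x : G // x ≠ 1} = Nat.card G - 1 := by
    haveI := Fintype.ofFinite G
    simp
  have e2 : Nat.card {h : H // h ≠ 1} = Nat.card H - 1 := by
    haveI := Fintype.ofFinite H
    simp
  rw [Nat.card_prod, e1, e2, ← Subgroup.index_eq_card, Nat.mul_sub, mul_one, H.index_mul_card] at h1
  have h2 : H.index ≤ Nat.card G := by
    rw [← H.index_mul_card]; exact Nat.le_mul_of_pos_right _ Nat.card_pos
  have := Nat.card_pos (α := G)
  omega

/-- The index of a centralizer of an element of a normal subgroup divides the index in the group. -/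
theorem index_centralizer_subtype_dvd [Finite G] (N : Subgroup G) [N.Normal] (x : N) :
    (Subgroup.centralizer ({x} : Set N)).index ∣ (Subgroup.centralizer ({(x : G)} : Set G)).index := by
  set C := Subgroup.centralizer ({(x : G)} : Set G)
  have h : Subgroup.centralizer ({x} : Set N) = C.subgroupOf N := by
    ext y
    simp [C, Subgroup.mem_subgroupOf, Subgroup.mem_centralizer_singleton_iff, Subtype.ext_iff]
  rw [h]
  show C.relIndex N ∣ C.index
  have e1 := Subgroup.relIndex_mul_index (inf_le_left : C ⊓ N ≤ C)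
  have e2 := Subgroup.relIndex_mul_index (inf_le_right : C ⊓ N ≤ N)
  rw [Subgroup.inf_relIndex_left] at e1
  rw [Subgroup.inf_relIndex_right] at e2
  obtain ⟨e, he⟩ := (Subgroup.relIndex_dvd_index_of_normal N C : N.relIndex C ∣ N.index)
  have h0 : N.relIndex C ≠ 0 := fun h0 => N.index_ne_zero_of_finite (by rw [he, h0, zero_mul])
  refine ⟨e, Nat.eq_of_mul_eq_mul_left (Nat.pos_of_ne_zero h0) ?_⟩
  rw [e1, ← e2, he]; ring

/-- The index of a centralizer can only drop in a homomorphic image. -/
theorem index_centralizer_map_dvd {H : Type*} [Group H] (f : G →* H) (hf : Function.Surjective f)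
    (x : G) :
    (Subgroup.centralizer ({f x} : Set H)).index ∣ (Subgroup.centralizer ({x} : Set G)).index := by
  rw [← Subgroup.index_comap_of_surjective (Subgroup.centralizer ({f x} : Set H)) hf]
  refine Subgroup.index_dvd_of_le fun y hy => ?_
  rw [Subgroup.mem_comap, Subgroup.mem_centralizer_singleton_iff, ← map_mul, ← map_mul,
    Subgroup.mem_centralizer_singleton_iff.1 hy]

/-- Burnside: a simple group with a non-identity element with class size a prime power is solvable. -/
theorem solvable_of_simple_class_prime_pow [Finite G] [IsSimpleGroup G] {p : ℕ} (hp : p.Prime) {g : G}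
    (hg : g ≠ 1) (h : ∃ k, (Subgroup.centralizer ({g} : Set G)).index ∣ p ^ k) : Group.IsSolvable G := by
  obtain ⟨k, hk⟩ := h
  obtain ⟨j, -, hj⟩ := (Nat.dvd_prime_pow hp).1 hk
  have hprime := Cfsg.Agent.Char.burnside_class_size p j hp g hg hj
  haveI := Fact.mk hprime
  haveI : IsCyclic G := isCyclic_of_prime_card rfl
  exact Group.isSolvable_of_comm fun a b => IsCyclic.commGroup.mul_comm a b

theorem solvable_of_normal_quotient (N : Subgroup G) [N.Normal] (hN : Group.IsSolvable N)
    (hQ : Group.IsSolvable (G ⧸ N)) : Group.IsSolvable G :=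
  Group.isSolvable_of_ker_le_range N.subtype (QuotientGroup.mk' N) (by simp)

/-- A power of `x` which is a lift, with order prime to `p`, of a given `p'`-element. -/
theorem exists_regular_lift [Finite G] {H : Type*} [Group H] (f : G →* H) (hf : Function.Surjective f)
    {p : ℕ} (hp : p.Prime) {y : H} (hy : (orderOf y).Coprime p) :
    ∃ x : G, f x = y ∧ (orderOf x).Coprime p := by
  obtain ⟨x₀, rfl⟩ := hf y
  set a := (orderOf x₀).factorization p
  have hcop : Nat.Coprime (p ^ a) (orderOf (f x₀)) := hy.symm.pow_left a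
  obtain ⟨k, hk⟩ := exists_pow_eq_self_of_coprime hcop
  refine ⟨(x₀ ^ p ^ a) ^ k, by rw [map_pow, map_pow, hk], ?_⟩
  refine Nat.Coprime.coprime_dvd_left (orderOf_pow_dvd k) ?_
  rw [orderOf_pow_of_dvd (pow_ne_zero _ hp.ne_zero) (Nat.ordProj_dvd _ _)]
  exact (Nat.coprime_ordCompl hp (orderOf_pos x₀).ne').symm

end Cfsg.Agent.Struct
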