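import Cfsg.Agent.Lib.Solv.Coprime
import Cfsg.Agent.Lib.Solv.PSolvable
import Cfsg.Agent.Lib.Solv.Basic
import Mathlib.GroupTheory.Sylow

/-!
# Sylow normalisers when class sizes of `q`-elements are prime to `p`
-/

set_option autoImplicit false
set_option linter.style.haveILetI false

namespace Cfsg.Agent.Struct.ClassSizeNorm

open Cfsg Cfsg.Agent.Solv

universe u

variable {G : Type u} [Group G] [Finite G] {p q : ℕ} [hp : Fact p.Prime] [hq : Fact q.Prime]

theorem relIndex_dvd_index_of_normal_right (C N : Subgroup G) [N.Normal] : C.relIndex N ∣ C.index := by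
  obtain ⟨k, hk⟩ := Subgroup.relIndex_dvd_index_of_normal (H := N) (K := C)
  have h1 : N.relIndex C * C.index = C.relIndex N * N.index := by
    rw [← Subgroup.inf_relIndex_left C N, Subgroup.relIndex_mul_index inf_le_left,
      ← Subgroup.inf_relIndex_right C N, Subgroup.relIndex_mul_index inf_le_right]
  refine ⟨k, Nat.eq_of_mul_eq_mul_left (Nat.pos_of_ne_zero Subgroup.index_ne_zero_of_finite : 0 < N.relIndex C) ?_⟩
  rw [h1, hk]; ring

/-- A subgroup of index prime to `q` containing a `q`-subgroup of `q`-power index. -/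
theorem sylow_of_le (Q : Sylow q G) {L : Subgroup G} (hQL : (Q : Subgroup G) ≤ L) (S : Sylow q L) :
    ∃ Q' : Sylow q G, (Q' : Subgroup G) = (S : Subgroup L).map L.subtype := by
  obtain ⟨l, hl⟩ := MulAction.exists_smul_eq L (Q.subtype hQL) S
  refine ⟨(l : G) • Q, ?_⟩
  rw [← hl, Sylow.coe_subgroup_smul, Sylow.coe_subgroup_smul, map_conj_smul, Subgroup.coe_subtype,
    Sylow.coe_subtype, Subgroup.map_subgroupOf_eq_of_le hQL]

theorem main : ∀ (n : ℕ) (G : Type u) [Group G] [Finite G], Nat.card G = n → p ≠ q →
    (IsPSolvable p G ∨ IsPSolvable q G) →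
    (∀ y : G, (∃ k : ℕ, orderOf y = q ^ k) → ¬ p ∣ (Subgroup.centralizer ({y} : Set G)).index) →
    ∃ (P : Sylow p G) (Q : Sylow q G), (P : Subgroup G) ≤ Subgroup.normalizer ((Q : Subgroup G) : Set G) := by
  intro n
  induction n using Nat.strong_induction_on with
  | _ n ih =>
    intro G _ _ hn hpq hsolv h
    rcases subsingleton_or_nontrivial G with hsub | hnt
    · obtain ⟨P⟩ : Nonempty (Sylow p G) := inferInstance
      obtain ⟨Q⟩ : Nonempty (Sylow q G) := inferInstance
      refine ⟨P, Q, fun x _ => ?_⟩
      rw [Subsingleton.elim x 1]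
      exact one_mem _
    obtain ⟨N, hNn, hN, hcases⟩ : ∃ N : Subgroup G, N.Normal ∧ N ≠ ⊥ ∧
        (IsPGroup q N ∨ (Nat.card N).Coprime q ∨ (Nat.card N).Coprime p) := by
      rcases hsolv with hs | hs
      · rcases core_ne_bot_of_isPSolvable hs with hc | hc
        · refine ⟨_, inferInstance, hc, Or.inr (Or.inl ?_)⟩
          obtain ⟨k, hk⟩ := IsPGroup.iff_card.1 (isPGroup_pCore p G)
          rw [hk]
          exact ((Nat.coprime_primes hp.out hq.out).2 hpq).pow_left k
        · exact ⟨_, inferInstance, hc, Or.inr (Or.inr (card_pPrimeCore_coprime p G))⟩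
      · rcases core_ne_bot_of_isPSolvable hs with hc | hc
        · exact ⟨_, inferInstance, hc, Or.inl (isPGroup_pCore q G)⟩
        · exact ⟨_, inferInstance, hc, Or.inr (Or.inl (card_pPrimeCore_coprime q G))⟩
    haveI := hNn
    set π := QuotientGroup.mk' N with hπ
    have hπs : Function.Surjective π := QuotientGroup.mk'_surjective N
    have hlt : Nat.card (G ⧸ N) < n := by
      rw [← hn, Subgroup.card_eq_card_quotient_mul_card_subgroup N]
      exact lt_mul_of_one_lt_right Nat.card_pos
        (Finite.one_lt_card_iff_nontrivial.2 ((Subgroup.nontrivial_iff_ne_bot N).2 hN))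
    obtain ⟨P₀, Q₀, hPQ⟩ := ih _ hlt (G ⧸ N) rfl hpq
      (hsolv.imp (fun hs => isPSolvable_quotient hs N) (fun hs => isPSolvable_quotient hs N)) (by
        rintro y ⟨k, hk⟩ hdvd
        obtain ⟨S, hS⟩ := (IsPGroup.of_card (p := q) (n := k) (by rw [Nat.card_zpowers, hk]) :
          IsPGroup q (Subgroup.zpowers y)).exists_le_sylow
        obtain ⟨T, rfl⟩ := Sylow.mapSurjective_surjective hπs q S
        obtain ⟨z, hz, rfl⟩ := hS (Subgroup.mem_zpowers y)
        obtain ⟨j, hj⟩ := IsPGroup.iff_orderOf.1 T.isPGroup' ⟨z, hz⟩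
        refine h z ⟨j, by rw [← hj, Subgroup.orderOf_mk]⟩ (hdvd.trans ?_)
        refine dvd_trans (Subgroup.index_dvd_of_le ?_) (Subgroup.index_map_dvd _ hπs)
        rintro _ ⟨c, hc, rfl⟩
        rw [Subgroup.mem_centralizer_iff]
        rintro _ rfl
        rw [← map_mul, ← map_mul, Subgroup.mem_centralizer_iff.1 hc z rfl])
    obtain ⟨P, rfl⟩ := Sylow.mapSurjective_surjective hπs p P₀
    obtain ⟨Q, rfl⟩ := Sylow.mapSurjective_surjective hπs q Q₀
    rw [Sylow.coe_mapSurjective, Sylow.coe_mapSurjective] at hPQ
    set L := (Q : Subgroup G) ⊔ N with hL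
    have hLc : L = ((Q : Subgroup G).map π).comap π := by
      rw [Subgroup.comap_map_eq, hπ, QuotientGroup.ker_mk']
    have hPL : (P : Subgroup G) ≤ Subgroup.normalizer (L : Set G) := fun x hx => by
      rw [hLc, Subgroup.mem_normalizer_iff]
      intro a
      have := Subgroup.mem_normalizer_iff.1 (hPQ ⟨x, hx, rfl⟩) (π a)
      simpa only [Subgroup.mem_comap, map_mul, map_inv] using this
    obtain ⟨a, ha⟩ := IsPGroup.iff_card.1 P.isPGroup'
    obtain ⟨b, hb⟩ := IsPGroup.iff_card.1 Q.isPGroup'
    rcases hcases with hq' | hq' | hp'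
    · -- a normal `q`-subgroup
      have hNQ : N ≤ Q := hq'.le_sylow_of_normal Q
      have : L = Q := sup_eq_left.2 hNQ
      exact ⟨P, Q, this ▸ hPL⟩
    · -- a normal subgroup of order prime to `q`
      have hcop : (Nat.card (Q : Subgroup G)).Coprime (Nat.card N) := by
        rw [hb]; exact hq'.symm.pow_left b
      have hsQ : Group.IsSolvable (Q : Subgroup G) ∨ Group.IsSolvable N := by
        haveI := Q.isPGroup'.isNilpotent
        exact Or.inl inferInstance
      obtain ⟨R, hR⟩ := exists_invariant_sylow (Q : Subgroup G) N Subgroup.le_normalizer_of_normal hcop hsQ p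
      set R' := (R : Subgroup N).map N.subtype with hR'
      have hcent : ∀ y ∈ (Q : Subgroup G), ∀ x ∈ R', y * x = x * y := by
        intro y hy
        set C := Subgroup.centralizer ({y} : Set G) with hC
        obtain ⟨j, hj⟩ := IsPGroup.iff_orderOf.1 Q.isPGroup' ⟨y, hy⟩
        rw [Subgroup.orderOf_mk] at hj
        have hind : ¬ p ∣ C.relIndex N := fun hd => h y ⟨j, hj⟩ (hd.trans (relIndex_dvd_index_of_normal_right C N))
        obtain ⟨S⟩ : Nonempty (Sylow p ↥(C.subgroupOf N)) := inferInstance
        set T := (S : Subgroup ↥(C.subgroupOf N)).map (C.subgroupOf N).subtype with hT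
        have hTcard : ∃ S' : Sylow p N, (S' : Subgroup N) = T := by
          refine ⟨Sylow.ofCard T ?_, rfl⟩
          rw [hT, Subgroup.card_subtype, S.card_eq_multiplicity]
          congr 1
          rw [← Subgroup.card_mul_index (C.subgroupOf N),
            Nat.factorization_mul Nat.card_pos.ne' Subgroup.index_ne_zero_of_finite, Finsupp.add_apply,
            Nat.factorization_eq_zero_of_not_dvd (n := (C.subgroupOf N).index) hind, add_zero]
        obtain ⟨S', hS'⟩ := hTcard
        have hycop : (Nat.card (Subgroup.zpowers y)).Coprime (Nat.card N) := by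
          rw [Nat.card_zpowers, hj]; exact hq'.symm.pow_left j
        have hzs : Group.IsSolvable (Subgroup.zpowers y) ∨ Group.IsSolvable N := Or.inl inferInstance
        have hyT : ∀ x ∈ (S' : Subgroup N).map N.subtype, y * x = x * y := by
          rintro _ ⟨x, hx, rfl⟩
          rw [SetLike.mem_coe, hS'] at hx
          obtain ⟨x', -, rfl⟩ := hx
          exact Subgroup.mem_centralizer_iff.1 x'.2 y rfl
        obtain ⟨c, hc, hcR⟩ := invariant_sylow_conj (Subgroup.zpowers y) N Subgroup.le_normalizer_of_normal hycop hzs p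
          S' R (Subgroup.zpowers_le.2 (Subgroup.mem_normalizer_iff.2 fun x => by
            constructor
            · intro hx
              rw [hyT x hx, mul_inv_cancel_right]; exact hx
            · intro hx
              have e : y * x * y⁻¹ = x := by
                have h2 : y * (y * x * y⁻¹) = (y * x * y⁻¹) * y := hyT _ hx
                calc y * x * y⁻¹ = y⁻¹ * (y * (y * x * y⁻¹)) := by group
                  _ = y⁻¹ * ((y * x * y⁻¹) * y) := by rw [h2]
                  _ = x := by group
              rwa [e] at hx))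
          ((Subgroup.zpowers_le.2 hy).trans hR)
        intro x hx
        rw [hR', ← hcR, Sylow.pointwise_smul_def, map_conj_smul, Subgroup.coe_subtype] at hx
        obtain ⟨t, ht, rfl⟩ := hx
        have h1 : y * (c : G) = c * y := Subgroup.mem_centralizer_iff.1 hc y (Subgroup.mem_zpowers y)
        have h2 := hyT t ht
        show y * ((c : G) * t * (c : G)⁻¹) = (c : G) * t * (c : G)⁻¹ * y
        have h3 : y * (c : G)⁻¹ = (c : G)⁻¹ * y := ((show Commute y c from h1).inv_right).eq
        calc y * ((c : G) * t * (c : G)⁻¹) = (y * c) * t * (c : G)⁻¹ := by group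
          _ = c * (y * t) * (c : G)⁻¹ := by rw [h1]; group
          _ = c * t * (y * (c : G)⁻¹) := by rw [h2]; group
          _ = _ := by rw [h3]; group
      set NQ := Subgroup.normalizer ((Q : Subgroup G) : Set G) with hNQ
      have hR'NQ : R' ≤ NQ := fun x hx => Subgroup.mem_normalizer_iff.2 fun y => by
        constructor
        · intro hy
          rw [← hcent y hy x hx, mul_inv_cancel_right]; exact hy
        · intro hy
          have h2 : x * y * x⁻¹ * x = x * (x * y * x⁻¹) := hcent _ hy x hx
          have e : x * y * x⁻¹ = y := by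
            calc x * y * x⁻¹ = x⁻¹ * (x * (x * y * x⁻¹)) := by group
              _ = x⁻¹ * (x * y * x⁻¹ * x) := by rw [h2]
              _ = y := by group
          rwa [e] at hy
      have hPM : (P : Subgroup G) ≤ NQ ⊔ N := by
        intro x hx
        have hxQ : (x • Q : Sylow q G) ≤ L := by
          intro g hg
          rw [Sylow.coe_subgroup_smul, mem_conj_smul] at hg
          exact (Subgroup.mem_normalizer_iff''.1 (hPL hx) g).2 (Subgroup.mem_sup_left hg)
        obtain ⟨l, hl⟩ := MulAction.exists_smul_eq L ((x • Q).subtype hxQ) (Q.subtype le_sup_left)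
        rw [Sylow.smul_subtype] at hl
        have hlx : ((l : G) * x) • Q = Q := by
          rw [mul_smul]; exact Sylow.subtype_injective hl
        have h1 : (l : G) * x ∈ NQ := Sylow.smul_eq_iff_mem_normalizer.1 hlx
        have h2 : (l : G) ∈ NQ ⊔ N := sup_le_sup_right (Subgroup.le_normalizer) N l.2
        have := mul_mem (inv_mem h2) (Subgroup.mem_sup_left h1 : (l : G) * x ∈ NQ ⊔ N)
        rwa [inv_mul_cancel_left] at this
      have hNQind : ¬ p ∣ NQ.index := by
        rw [← Subgroup.relIndex_mul_index (le_sup_left : NQ ≤ NQ ⊔ N), hp.out.dvd_mul, not_or]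
        refine ⟨fun hd => ?_, fun hd => P.not_dvd_index (hd.trans (Subgroup.index_dvd_of_le hPM))⟩
        have h1 : NQ.relIndex (NQ ⊔ N) ∣ R'.relIndex N := by
          have e : NQ.relIndex (NQ ⊔ N) = NQ.relIndex N := by
            have e1 : N.relIndex NQ * NQ.relIndex (NQ ⊔ N) = N.relIndex NQ * NQ.relIndex N := by
              have := Subgroup.relIndex_mul_relIndex (NQ ⊓ N) NQ (NQ ⊔ N) inf_le_left le_sup_left
              rw [Subgroup.inf_relIndex_left] at this
              rw [this, ← Subgroup.relIndex_mul_relIndex (NQ ⊓ N) N (NQ ⊔ N) inf_le_right le_sup_right,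
                Subgroup.inf_relIndex_right, Subgroup.relIndex_sup_right, mul_comm]
            exact Nat.eq_of_mul_eq_mul_left (Nat.pos_of_ne_zero Subgroup.index_ne_zero_of_finite) e1
          rw [e]
          exact Subgroup.relIndex_dvd_of_le_left N hR'NQ
        refine R.not_dvd_index ((hd.trans h1).trans (dvd_of_eq ?_))
        rw [hR', Subgroup.relIndex, Subgroup.subgroupOf,
          Subgroup.comap_map_eq_self_of_injective N.subtype_injective]
      obtain ⟨S⟩ : Nonempty (Sylow p NQ) := inferInstance
      refine ⟨Sylow.ofCard ((S : Subgroup NQ).map NQ.subtype) ?_, Q, Subgroup.map_subtype_le _⟩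
      rw [Subgroup.card_subtype, S.card_eq_multiplicity]
      congr 1
      rw [← Subgroup.card_mul_index NQ,
        Nat.factorization_mul Nat.card_pos.ne' Subgroup.index_ne_zero_of_finite, Finsupp.add_apply,
        Nat.factorization_eq_zero_of_not_dvd hNQind, add_zero]
    · -- a normal subgroup of order prime to `p`
      have hcop : (Nat.card (P : Subgroup G)).Coprime (Nat.card L) := by
        have e : Nat.card L ∣ Nat.card (Q : Subgroup G) * Nat.card N := by
          rw [← Subgroup.card_mul_index (N.subgroupOf L), mul_comm, card_subgroupOf le_sup_right]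
          refine mul_dvd_mul_right ?_ _
          rw [show (N.subgroupOf L).index = N.relIndex (Q : Subgroup G) from Subgroup.relIndex_sup_right (Q : Subgroup G) N]
          exact Subgroup.relIndex_dvd_card _ _
        refine Nat.Coprime.coprime_dvd_right e ?_
        rw [ha, hb]
        exact (((Nat.coprime_primes hp.out hq.out).2 hpq).pow a b).mul_right (hp'.symm.pow_left a)
      have hsP : Group.IsSolvable (P : Subgroup G) ∨ Group.IsSolvable L := by
        haveI := P.isPGroup'.isNilpotent
        exact Or.inl inferInstance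
      obtain ⟨S, hS⟩ := exists_invariant_sylow (P : Subgroup G) L hPL hcop hsP q
      obtain ⟨Q', hQ'⟩ := sylow_of_le Q le_sup_left S
      exact ⟨P, Q', by rw [hQ']; exact hS⟩

end Cfsg.Agent.Struct.ClassSizeNorm
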