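import Mathlib
import Cfsg.Agent.Lib.Solv.Basic
import Cfsg.Agent.Lib.Solv.Coprime
import Cfsg.Agent.Lib.Solv.Hall

/-!
# Invariant Hall subgroups under coprime action
-/

namespace Cfsg.Agent.Struct.CoprimeHall

open Subgroup
open scoped Pointwise

universe u

theorem conjIn {X : Type u} [Group X] [Finite X] {G : Subgroup X} (hG : Group.IsSolvable G) {m n : ℕ}
    (hc : Nat.card G = m * n) (hmn : m.Coprime n) (K H : Subgroup X) (hKG : K ≤ G) (hHG : H ≤ G)
    (hK : (Nat.card K).Coprime n) (hH : Nat.card H = m) : ∃ g ∈ G, MulAut.conj g • K ≤ H := by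
  haveI := hG
  obtain ⟨g, hg⟩ := Cfsg.Agent.Solv.hall_conj_le hc hmn (K.subgroupOf G) (H.subgroupOf G)
    (by rwa [Nat.card_congr (subgroupOfEquivOfLe hKG).toEquiv])
    (by rwa [Nat.card_congr (subgroupOfEquivOfLe hHG).toEquiv])
  refine ⟨g, g.2, ?_⟩
  rintro _ ⟨x, hx, rfl⟩
  exact hg ⟨⟨x, hKG hx⟩, hx, rfl⟩

theorem conjIn_eq {X : Type u} [Group X] [Finite X] {G : Subgroup X} (hG : Group.IsSolvable G) {m n : ℕ}
    (hc : Nat.card G = m * n) (hmn : m.Coprime n) (K H : Subgroup X) (hKG : K ≤ G) (hHG : H ≤ G)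
    (hK : Nat.card K = m) (hH : Nat.card H = m) : ∃ g ∈ G, MulAut.conj g • K = H := by
  obtain ⟨g, hg, hle⟩ := conjIn hG hc hmn K H hKG hHG (by rwa [hK]) hH
  refine ⟨g, hg, eq_of_le_of_card_ge hle ?_⟩
  rw [hH, ← hK]
  exact le_of_eq (Nat.card_congr (equivSMul (MulAut.conj g) K).toEquiv)

theorem conj_mem_iff {X : Type u} [Group X] {U : Subgroup X} {g : X} (hg : g ∈ normalizer (U : Set X)) :
    MulAut.conj g • U = U := by
  ext x
  rw [mem_pointwise_smul_iff_inv_smul_mem]
  exact (mem_normalizer_iff''.1 hg x).symm.trans (by simp)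

theorem invariant_hall_ge : ∀ (c : ℕ) (X : Type u) [Group X] [Finite X] (A G U : Subgroup X),
    Nat.card G = c → A ≤ normalizer (G : Set X) → (Nat.card A).Coprime c → Group.IsSolvable G →
    ∀ m n : ℕ, c = m * n → m.Coprime n → U ≤ G → A ≤ normalizer (U : Set X) → (Nat.card U).Coprime n →
    ∃ H : Subgroup X, H ≤ G ∧ Nat.card H = m ∧ A ≤ normalizer (H : Set X) ∧ U ≤ H := by
  intro c
  induction c using Nat.strong_induction_on with
  | _ c ih =>
    intro X _ _ A G U hGc hAG hcop hsolv m n hc hmn hUG hAU hU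
    classical
    by_cases hG1 : G = ⊥
    · subst hG1
      rw [card_bot] at hGc
      rw [← hGc] at hc
      refine ⟨⊥, le_rfl, ?_, fun a _ => ?_, hUG⟩
      · rw [card_bot]; exact (Nat.eq_one_of_mul_eq_one_right hc.symm).symm
      · rw [mem_normalizer_iff]; intro x; simp
    -- a minimal invariant normal subgroup
    obtain ⟨M, ⟨hMG, hM1, hGM, hAM⟩, hMmin⟩ := (Set.toFinite
      {M : Subgroup X | M ≤ G ∧ M ≠ ⊥ ∧ G ≤ normalizer (M : Set X) ∧ A ≤ normalizer (M : Set X)}).exists_minimal
      ⟨G, le_rfl, hG1, le_normalizer, hAG⟩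
    have hMs : Group.IsSolvable M := Cfsg.Agent.Solv.isSolvable_of_le hMG hsolv
    have hmin : ∀ K : Subgroup X, K ≤ M → K ≠ ⊥ → G ≤ normalizer (K : Set X) → A ≤ normalizer (K : Set X) → K = M :=
      fun K hK h1 h2 h3 => le_antisymm hK (hMmin ⟨hK.trans hMG, h1, h2, h3⟩ hK)
    have hMab : ⁅M, M⁆ = ⊥ := by
      by_contra hne
      have hn : ∀ {B : Subgroup X}, B ≤ normalizer (M : Set X) → B ≤ normalizer ((⁅M, M⁆ : Subgroup X) : Set X) := by
        intro B hB g hg
        have h := hB hg
        rw [mem_normalizer_iff_map_conj_eq] at h ⊢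
        rw [map_commutator, h]
      have heq := hmin _ (commutator_le_self M) hne (hn hGM) (hn hAM)
      haveI := hMs
      haveI : Nontrivial M := (nontrivial_iff_ne_bot M).2 hM1
      refine (Group.IsSolvable.commutator_lt_top_of_nontrivial (G := M)).ne ?_
      apply map_injective M.subtype_injective
      rw [map_subtype_commutator, heq, ← MonoidHom.range_eq_map, range_subtype]
    have hMc : ∀ x ∈ M, ∀ y ∈ M, Commute x y := fun x hx y hy =>
      ((commutator_eq_bot_iff_le_centralizer.1 hMab) hy x hx)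
    obtain ⟨q, hq, hqM⟩ := Nat.exists_prime_and_dvd (n := Nat.card M)
      (by have := (one_lt_card_iff_ne_bot M).2 hM1; omega)
    haveI := Fact.mk hq
    let K : Subgroup X :=
      { carrier := {x | x ∈ M ∧ x ^ q = 1}
        one_mem' := ⟨one_mem M, one_pow q⟩
        mul_mem' := fun {x y} hx hy => ⟨mul_mem hx.1 hy.1, by rw [(hMc x hx.1 y hy.1).mul_pow, hx.2, hy.2, one_mul]⟩
        inv_mem' := fun {x} hx => ⟨inv_mem hx.1, by rw [inv_pow, hx.2, inv_one]⟩ }
    have hKM : K = M := by
      have hn : ∀ {B : Subgroup X}, B ≤ normalizer (M : Set X) → B ≤ normalizer (K : Set X) := by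
        intro B hB g hg
        rw [mem_normalizer_iff]
        intro x
        show (x ∈ M ∧ x ^ q = 1) ↔ (g * x * g⁻¹ ∈ M ∧ (g * x * g⁻¹) ^ q = 1)
        rw [← mem_normalizer_iff.1 (hB hg) x, conj_pow, mul_inv_eq_one, mul_eq_left]
      refine hmin K (fun x hx => hx.1) ?_ (hn hGM) (hn hAM)
      obtain ⟨x, hx⟩ := exists_prime_orderOf_dvd_card' (G := M) q hqM
      intro hbot
      have hxK : (x : X) ∈ K := ⟨x.2, (SubgroupClass.coe_pow x q).symm.trans
        (congrArg Subtype.val (hx ▸ pow_orderOf_eq_one x))⟩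
      rw [hbot, mem_bot] at hxK
      rw [show x = 1 from Subtype.ext hxK, orderOf_one] at hx
      exact hq.one_lt.ne hx
    have hMq : IsPGroup q M := fun x => ⟨1, Subtype.ext (by
      have : (x : X) ∈ K := hKM.symm ▸ x.2
      simpa using this.2)⟩
    -- the quotient by `M`
    let N := normalizer (M : Set X)
    let M' : Subgroup N := M.subgroupOf N
    haveI : M'.Normal := normal_subgroupOf_of_le_normalizer le_rfl
    let f : N →* N ⧸ M' := QuotientGroup.mk' M'
    have hMN : M ≤ N := le_normalizer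
    have hM'c : Nat.card M' = Nat.card M := Nat.card_congr (subgroupOfEquivOfLe hMN).toEquiv
    let G' := (G.subgroupOf N).map f
    have hGcard : c = Nat.card M * Nat.card G' := by
      rw [← hGc, ← Nat.card_congr (subgroupOfEquivOfLe hGM).toEquiv, ← hM'c]
      have e : G'.comap f = G.subgroupOf N := by
        rw [comap_map_eq, QuotientGroup.ker_mk', sup_eq_left]
        exact fun x hx => hMG hx
      rw [← e, Cfsg.Agent.Solv.card_comap_mk' M' G']
    have hMpos : 1 < Nat.card M := (one_lt_card_iff_ne_bot M).2 hM1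
    have hG'lt : Nat.card G' < c := by
      rw [hGcard]
      exact lt_mul_of_one_lt_left Nat.card_pos hMpos
    have hm'n' : Nat.card G' = Nat.gcd (Nat.card G') m * Nat.gcd (Nat.card G') n := by
      rw [← Nat.Coprime.gcd_mul _ hmn, ← hc, Nat.gcd_eq_left (Dvd.intro_left _ hGcard.symm)]
    have hA'G' : (A.subgroupOf N).map f ≤ normalizer (G' : Set (N ⧸ M')) := by
      rintro _ ⟨a, ha, rfl⟩
      rw [mem_normalizer_iff_map_conj_eq]
      refine eq_of_le_of_card_ge ?_ (le_of_eq (Nat.card_congr (equivMapOfInjective _ _ (MulAut.conj (f a)).injective).toEquiv))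
      rintro _ ⟨_, ⟨x, hx, rfl⟩, rfl⟩
      exact ⟨a * x * a⁻¹, (mem_normalizer_iff.1 (hAG ha) x).1 hx, by simp⟩
    have hA'U' : (A.subgroupOf N).map f ≤ normalizer (((U.subgroupOf N).map f : Subgroup (N ⧸ M')) : Set (N ⧸ M')) := by
      rintro _ ⟨a, ha, rfl⟩
      rw [mem_normalizer_iff_map_conj_eq]
      refine eq_of_le_of_card_ge ?_ (le_of_eq (Nat.card_congr (equivMapOfInjective _ _ (MulAut.conj (f a)).injective).toEquiv))
      rintro _ ⟨_, ⟨x, hx, rfl⟩, rfl⟩
      exact ⟨a * x * a⁻¹, (mem_normalizer_iff.1 (hAU ha) x).1 hx, by simp⟩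
    obtain ⟨H', hH'G', hH'c, hAH', hUH'⟩ := ih (Nat.card G') hG'lt (N ⧸ M') ((A.subgroupOf N).map f) G'
      ((U.subgroupOf N).map f) rfl hA'G'
      ((hcop.coprime_dvd_left ((card_map_dvd _ f).trans
        (dvd_of_eq (Nat.card_congr (subgroupOfEquivOfLe hAM).toEquiv)))).coprime_dvd_right (Dvd.intro_left _ hGcard.symm))
      (by
        haveI : Group.IsSolvable (G.subgroupOf N) := Group.isSolvable_of_isSolvable_injective (G' := G)
          (f := (subgroupOfEquivOfLe hGM).toMonoidHom) (subgroupOfEquivOfLe hGM).injective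
        exact Group.isSolvable_of_surjective (f := f.subgroupMap (G.subgroupOf N)) (f.subgroupMap_surjective _))
      _ _ hm'n' ((hmn.coprime_dvd_left (Nat.gcd_dvd_right _ _)).coprime_dvd_right (Nat.gcd_dvd_right _ _))
      (map_mono (fun x hx => hUG hx)) hA'U'
      ((hU.coprime_dvd_left ((card_map_dvd _ f).trans
        (dvd_of_eq (Nat.card_congr (subgroupOfEquivOfLe (hUG.trans hGM)).toEquiv)))).coprime_dvd_right (Nat.gcd_dvd_right _ _))
    -- the preimage
    let H0 : Subgroup X := (H'.comap f).map N.subtype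
    have hH0G : H0 ≤ G := by
      rintro _ ⟨x, hx, rfl⟩
      have h1 : x ∈ G'.comap f := hH'G' hx
      rw [comap_map_eq, QuotientGroup.ker_mk'] at h1
      exact (sup_le (le_refl (G.subgroupOf N)) (fun y hy => hMG hy)) h1
    have hH0c : Nat.card H0 = Nat.card M * Nat.gcd (Nat.card G') m := by
      rw [← Nat.card_congr (equivMapOfInjective _ N.subtype N.subtype_injective).toEquiv,
        Cfsg.Agent.Solv.card_comap_mk' M' H', hM'c, hH'c]
    have hAH0 : A ≤ normalizer (H0 : Set X) := by
      intro a ha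
      rw [mem_normalizer_iff_map_conj_eq]
      refine eq_of_le_of_card_ge ?_ (le_of_eq (Nat.card_congr (equivMapOfInjective _ _ (MulAut.conj a).injective).toEquiv))
      rintro _ ⟨_, ⟨x, hx, rfl⟩, rfl⟩
      refine ⟨⟨a, hAM ha⟩ * x * ⟨a, hAM ha⟩⁻¹, ?_, by simp⟩
      show f _ ∈ H'
      rw [map_mul, map_mul, map_inv]
      exact (mem_normalizer_iff.1 (hAH' ⟨⟨a, hAM ha⟩, ha, rfl⟩) _).1 hx
    have hUH0 : U ≤ H0 := fun u hu => ⟨⟨u, hGM (hUG hu)⟩, hUH' ⟨_, hu, rfl⟩, rfl⟩
    obtain ⟨e, he⟩ := hMq.exists_card_eq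
    rcases (Nat.Prime.dvd_mul hq).1 (hc ▸ hGcard ▸ (hqM.mul_right _) : q ∣ m * n) with hqm | hqn
    · -- `M` is a Hall-`m` piece
      refine ⟨H0, hH0G, ?_, hAH0, hUH0⟩
      have hMn : (Nat.card M).Coprime n := by rw [he]; exact (hmn.coprime_dvd_left hqm).pow_left e
      have hMm : Nat.card M ∣ m := hMn.dvd_of_dvd_mul_right (hc ▸ hGcard ▸ dvd_mul_right _ _)
      obtain ⟨m1, rfl⟩ := hMm
      rw [hH0c]
      congr 1
      have hG'eq : Nat.card G' = m1 * n := Nat.eq_of_mul_eq_mul_left Nat.card_pos (by rw [← hGcard, hc, mul_assoc])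
      have hm1n : m1.Coprime n := hmn.coprime_dvd_left (dvd_mul_left m1 _)
      rw [hG'eq, mul_comm (Nat.card M) m1, Nat.gcd_mul_left, Nat.gcd_comm n, hMn, mul_one]
    · -- `M` is a `π'`-group
      have hMm : (Nat.card M).Coprime m := by rw [he]; exact (hmn.symm.coprime_dvd_left hqn).pow_left e
      have hMn : Nat.card M ∣ n := hMm.dvd_of_dvd_mul_left (hc ▸ hGcard ▸ dvd_mul_right _ _)
      have hgm : Nat.gcd (Nat.card G') m = m := by
        refine Nat.gcd_eq_right ?_
        exact hMm.symm.dvd_of_dvd_mul_left (hGcard ▸ hc ▸ dvd_mul_right m n)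
      rw [hgm] at hH0c
      by_cases hMnlt : Nat.card M < n
      · have hlt : Nat.card H0 < c := by
          rw [hH0c, hc, mul_comm]
          exact Nat.mul_lt_mul_of_pos_left hMnlt (Nat.pos_of_ne_zero fun h => by
            rw [h, zero_mul] at hc; exact Nat.card_pos.ne' (hGc.trans hc))
        obtain ⟨H, hHle, hHc, hAH, hUH⟩ := ih _ hlt X A H0 U rfl hAH0
          (hcop.coprime_dvd_right (hGc ▸ card_dvd_of_le hH0G))
          (Cfsg.Agent.Solv.isSolvable_of_le hH0G hsolv) m (Nat.card M) (by rw [hH0c, mul_comm]) hMm.symm hUH0 hAU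
          (hU.coprime_dvd_right hMn)
        exact ⟨H, hHle.trans hH0G, hHc, hAH, hUH⟩
      · have hnM : Nat.card M = n := le_antisymm (Nat.le_of_dvd (Nat.pos_of_ne_zero fun h => by
          rw [h, mul_zero] at hc; exact Nat.card_pos.ne' (hGc.trans hc)) hMn) (not_lt.1 hMnlt)
        have hc' : Nat.card G = m * n := hGc.trans hc
        haveI := hsolv
        obtain ⟨H', hH', hUH'2⟩ := Cfsg.Agent.Solv.hall_contained hc' hmn (U.subgroupOf G)
          (by rwa [Nat.card_congr (subgroupOfEquivOfLe hUG).toEquiv])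
        let H := H'.map G.subtype
        have hHG : H ≤ G := map_subtype_le H'
        have hHc : Nat.card H = m := by
          rw [← Nat.card_congr (equivMapOfInjective _ G.subtype G.subtype_injective).toEquiv]; exact hH'
        have hUH : U ≤ H := fun u hu => ⟨⟨u, hUG hu⟩, hUH'2 hu, rfl⟩
        have hHM : H ⊓ M = ⊥ := Cfsg.Agent.Solv.inf_eq_bot_of_coprime_card H M (by rw [hHc]; exact hMm.symm)
        -- complements through `U` are conjugate under `C_M(U)`
        let C := M ⊓ centralizer (U : Set X)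
        have hAC : A ≤ normalizer (C : Set X) := by
          intro a ha
          rw [mem_normalizer_iff_map_conj_eq]
          refine eq_of_le_of_card_ge ?_ (le_of_eq (Nat.card_congr (equivMapOfInjective _ _ (MulAut.conj a).injective).toEquiv))
          rintro _ ⟨x, hx, rfl⟩
          refine mem_inf.2 ⟨(mem_normalizer_iff.1 (hAM ha) x).1 (mem_inf.1 hx).1, fun u hu => ?_⟩
          have := (mem_inf.1 hx).2 _ ((mem_normalizer_iff''.1 (hAU ha) u).1 hu)
          show u * (a * x * a⁻¹) = a * x * a⁻¹ * u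
          calc u * (a * x * a⁻¹) = a * ((a⁻¹ * u * a) * x) * a⁻¹ := by group
            _ = a * x * a⁻¹ * u := by rw [this]; group
        have hcopC : (Nat.card A).Coprime (Nat.card C) :=
          hcop.coprime_dvd_right (hGc ▸ card_dvd_of_le (inf_le_left.trans hMG))
        obtain ⟨k, hk, hkA⟩ := Cfsg.Agent.Solv.exists_conj_invariant A C hAC hcopC
          (Or.inr (Cfsg.Agent.Solv.isSolvable_of_le (inf_le_left.trans hMG) hsolv)) H (fun a ha => by
            obtain ⟨g, hg, hge⟩ := conjIn_eq hsolv hc' hmn H (MulAut.conj a • H) hHG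
              (by
                rintro _ ⟨x, hx, rfl⟩
                exact (mem_normalizer_iff.1 (hAG ha) x).1 (hHG hx))
              hHc ((Nat.card_congr (equivSMul (MulAut.conj a) H).toEquiv).symm.trans hHc)
            -- write `g = m₀ h`
            have htop : G ≤ M ⊔ H := by
              refine le_of_eq (eq_of_le_of_card_ge (sup_le hMG hHG) ?_).symm
              have := Cfsg.Agent.Solv.card_sup_mul_card_inf M H (hHG.trans hGM)
              rw [inf_comm, hHM, card_bot, mul_one, hnM, hHc] at this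
              rw [this, hc', mul_comm]
            obtain ⟨y, hy, h, hh, rfl⟩ : ∃ y ∈ M, ∃ h ∈ H, y * h = g := by
              have hgm : g ∈ (↑(M ⊔ H) : Set X) := htop hg
              rw [coe_mul_of_right_le_normalizer_left M H (hHG.trans hGM)] at hgm
              exact Set.mem_mul.1 hgm
            have hyH : MulAut.conj y • H = MulAut.conj a • H := by
              rw [← hge, map_mul, mul_smul, conj_mem_iff (le_normalizer hh)]
            refine ⟨y, mem_inf.2 ⟨hy, fun u hu => ?_⟩, hyH⟩
            -- `U` lies in both complements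
            have hu' : u ∈ MulAut.conj y • H := by
              rw [hyH]
              exact ⟨a⁻¹ * u * a, hUH ((mem_normalizer_iff''.1 (hAU ha) u).1 hu), by simp [mul_assoc]⟩
            obtain ⟨v, hv, hvu⟩ := hu'
            have hvu' : y * v * y⁻¹ = u := hvu
            have h1 : v * u⁻¹ ∈ H ⊓ M := by
              refine mem_inf.2 ⟨mul_mem hv (inv_mem (hUH hu)), ?_⟩
              rw [← hvu', show v * (y * v * y⁻¹)⁻¹ = (v * y * v⁻¹) * y⁻¹ by group]
              exact mul_mem ((mem_normalizer_iff.1 (hGM (hHG hv)) y).1 hy) (inv_mem hy)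
            rw [hHM, mem_bot, mul_inv_eq_one] at h1
            rw [h1] at hvu'
            exact (mul_inv_eq_iff_eq_mul.1 hvu').symm)
        refine ⟨MulAut.conj k • H, ?_, (Nat.card_congr (equivSMul (MulAut.conj k) H).toEquiv).symm.trans hHc, hkA, ?_⟩
        · rintro _ ⟨x, hx, rfl⟩
          have hkG := hMG (mem_inf.1 hk).1
          exact mul_mem (mul_mem hkG (hHG hx)) (inv_mem hkG)
        · intro u hu
          refine ⟨u, hUH hu, ?_⟩
          show k * u * k⁻¹ = u
          rw [← (mem_inf.1 hk).2 u hu, mul_inv_cancel_right]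

end Cfsg.Agent.Struct.CoprimeHall
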