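import Mathlib

/-!
Unipotent matrices in characteristic `p`.
-/

set_option autoImplicit false

namespace Cfsg.Agent.Struct.UnipotentGL

open Polynomial

variable {F : Type*} [Field F] {ι : Type*} [Fintype ι] [DecidableEq ι]

theorem pow_card_eq_zero {M : Matrix ι ι F} (h : IsNilpotent M) : M ^ Fintype.card ι = 0 := by
  have h1 := (Matrix.isNilpotent_charpoly_sub_pow_of_isNilpotent h).eq_zero
  rw [sub_eq_zero] at h1
  have h2 := Matrix.aeval_self_charpoly M
  rwa [h1, map_pow, aeval_X] at h2

theorem sub_one_pow_char (p : ℕ) [Fact p.Prime] [CharP F p] (M : Matrix ι ι F) (k : ℕ) :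
    (M - 1) ^ p ^ k = M ^ p ^ k - 1 := by
  have h : ((X : F[X]) - 1) ^ p ^ k = X ^ p ^ k - 1 := by rw [sub_pow_char_pow, one_pow]
  simpa using congrArg (aeval M) h

theorem pow_char_eq_one_iff (p : ℕ) [Fact p.Prime] [CharP F p] (u : GL ι F) (k : ℕ) :
    u ^ p ^ k = 1 ↔ ((u : Matrix ι ι F) - 1) ^ p ^ k = 0 := by
  rw [sub_one_pow_char p, sub_eq_zero, Units.ext_iff, Units.val_pow_eq_pow_val, Units.val_one]

theorem isNilpotent_of_orderOf (p : ℕ) [Fact p.Prime] [CharP F p] (u : GL ι F) {k : ℕ}
    (h : orderOf u = p ^ k) : IsNilpotent ((u : Matrix ι ι F) - 1) :=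
  ⟨p ^ k, (pow_char_eq_one_iff p u k).1 (h ▸ pow_orderOf_eq_one u)⟩

theorem orderOf_dvd_clog (p : ℕ) [Fact p.Prime] [CharP F p] (u : GL ι F)
    (h : IsNilpotent ((u : Matrix ι ι F) - 1)) : orderOf u ∣ p ^ Nat.clog p (Fintype.card ι) := by
  refine orderOf_dvd_of_pow_eq_one ((pow_char_eq_one_iff p u _).2 ?_)
  exact pow_eq_zero_of_le (Nat.le_pow_clog (Fact.out : p.Prime).one_lt _) (pow_card_eq_zero h)

/-- The exact order of a unipotent element with a single block. -/
theorem orderOf_eq_clog (p : ℕ) [Fact p.Prime] [CharP F p] (u : GL ι F)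
    (h : IsNilpotent ((u : Matrix ι ι F) - 1))
    (h' : ((u : Matrix ι ι F) - 1) ^ (Fintype.card ι - 1) ≠ 0) :
    orderOf u = p ^ Nat.clog p (Fintype.card ι) := by
  obtain ⟨j, hj, hje⟩ := (Nat.dvd_prime_pow (Fact.out : p.Prime)).1 (orderOf_dvd_clog p u h)
  have hle : Fintype.card ι ≤ p ^ j := by
    by_contra hlt
    exact h' (pow_eq_zero_of_le (by omega) ((pow_char_eq_one_iff p u j).1 (hje ▸ pow_orderOf_eq_one u)))
  rw [hje, le_antisymm hj (Nat.clog_le_of_le_pow hle)]

/-- `finrank ker N^j ≤ j * finrank ker N`. -/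
theorem finrank_ker_pow_le {V : Type*} [AddCommGroup V] [Module F V] [FiniteDimensional F V]
    (N : Module.End F V) : ∀ j : ℕ,
    Module.finrank F (LinearMap.ker (N ^ j)) ≤ j * Module.finrank F (LinearMap.ker N)
  | 0 => by
    rw [pow_zero, Module.End.one_eq_id, LinearMap.ker_id, finrank_bot]
    exact Nat.zero_le _
  | j + 1 => by
    have ih := finrank_ker_pow_le N j
    let f := N.domRestrict (LinearMap.ker (N ^ (j + 1)))
    have h1 := f.finrank_range_add_finrank_ker
    have h2 : LinearMap.range f ≤ LinearMap.ker (N ^ j) := by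
      rintro _ ⟨⟨x, hx⟩, rfl⟩
      rw [LinearMap.mem_ker, pow_succ, Module.End.mul_apply] at hx
      exact hx
    have h3 : Module.finrank F (LinearMap.ker f) ≤ Module.finrank F (LinearMap.ker N) := by
      refine LinearMap.finrank_le_finrank_of_injective (f := ((Submodule.subtype _).comp (LinearMap.ker f).subtype).codRestrict
        (LinearMap.ker N) fun x => x.2) ?_
      intro a b hab
      exact Subtype.ext (Subtype.ext (congrArg (fun y : LinearMap.ker N => (y : V)) hab))
    have h4 := Submodule.finrank_mono h2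
    calc Module.finrank F (LinearMap.ker (N ^ (j + 1))) = _ := h1.symm
      _ ≤ j * Module.finrank F (LinearMap.ker N) + Module.finrank F (LinearMap.ker N) :=
        Nat.add_le_add (h4.trans ih) h3
      _ = _ := by ring

/-- A nilpotent map kills an invariant subspace `W` in `dim W` steps. -/
theorem pow_finrank_apply_eq_zero {V : Type*} [AddCommGroup V] [Module F V] [FiniteDimensional F V]
    {N : Module.End F V} (hN : IsNilpotent N) {W : Submodule F V} (hW : ∀ v ∈ W, N v ∈ W)
    {v : V} (hv : v ∈ W) : (N ^ Module.finrank F W) v = 0 := by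
  set R := N.restrict hW
  have hR : IsNilpotent R := Module.End.isNilpotent.restrict hW hN
  have hR0 : R ^ Module.finrank F W = 0 := by
    have := (hR.charpoly_eq_X_pow_finrank).symm ▸ LinearMap.aeval_self_charpoly R
    simpa using this
  have h2 := LinearMap.congr_fun hR0 ⟨v, hv⟩
  rw [Module.End.pow_restrict] at h2
  exact congrArg Subtype.val h2

/-- For a nilpotent map of full index the powers applied to a cyclic vector span the space. -/
theorem span_pow_eq_top {V : Type*} [AddCommGroup V] [Module F V] [FiniteDimensional F V]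
    {N : Module.End F V} (hN : IsNilpotent N) {v : V} (hv : (N ^ (Module.finrank F V - 1)) v ≠ 0) :
    Submodule.span F (Set.range fun i : ℕ => (N ^ i) v) = ⊤ := by
  set W := Submodule.span F (Set.range fun i : ℕ => (N ^ i) v)
  have hW : ∀ w ∈ W, N w ∈ W := by
    suffices h : W.map N ≤ W from fun w hw => h (Submodule.mem_map_of_mem hw)
    rw [Submodule.map_span, Submodule.span_le]
    rintro _ ⟨_, ⟨i, rfl⟩, rfl⟩
    exact Submodule.subset_span ⟨i + 1, by simp [pow_succ']⟩
  refine Submodule.eq_top_of_finrank_eq (le_antisymm (Submodule.finrank_le W) ?_)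
  by_contra hlt
  refine hv ?_
  have h := pow_finrank_apply_eq_zero hN hW (Submodule.subset_span ⟨0, by simp⟩ : v ∈ W)
  exact Module.End.pow_map_zero_of_le (by omega) h

end Cfsg.Agent.Struct.UnipotentGL
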