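import Cfsg.Agent.Lib.Struct.SemisimpleEnd
import Cfsg.Agent.Lib.Struct.UnipotentGL

/-!
Element orders of products of copies of `PSL(n,F)`: tools for absorbing an elementary abelian factor.
-/

set_option autoImplicit false
set_option linter.style.haveILetI false

namespace Cfsg.Agent.Struct.CubeAbsorb

open Polynomial Matrix

variable {F : Type*} [Field F] {n : ℕ}

local notation "SLn" => SpecialLinearGroup (Fin n) F
local notation "π" => QuotientGroup.mk' (Subgroup.center (SpecialLinearGroup (Fin n) F))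

theorem val_pow (g : SLn) (k : ℕ) :
    ((g ^ k : SLn) : Matrix (Fin n) (Fin n) F) = (g : Matrix (Fin n) (Fin n) F) ^ k :=
  Matrix.SpecialLinearGroup.coe_pow g k

theorem mk_pow_eq_one_iff (g : SLn) (k : ℕ) :
    (π g) ^ k = 1 ↔ ∃ c : F, (g : Matrix (Fin n) (Fin n) F) ^ k = Matrix.scalar (Fin n) c := by
  rw [← map_pow, QuotientGroup.mk'_apply, QuotientGroup.eq_one_iff, Matrix.SpecialLinearGroup.mem_center_iff,
    ← val_pow]
  refine ⟨fun ⟨c, _, h⟩ => ⟨c, h.symm⟩, fun ⟨c, h⟩ => ⟨c, ?_, h.symm⟩⟩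
  have h2 := (g ^ k).2
  rw [h, Matrix.scalar_apply, Matrix.det_diagonal, Finset.prod_const] at h2
  simpa using h2

theorem orderOf_split {G : Type*} [Monoid G] (x : G) {a b : ℕ} (hab : Nat.Coprime a b) :
    orderOf x = Nat.lcm (orderOf (x ^ a)) (orderOf (x ^ b)) := by
  refine Nat.dvd_antisymm ?_ (Nat.lcm_dvd (orderOf_pow_dvd a) (orderOf_pow_dvd b))
  set k := Nat.lcm (orderOf (x ^ a)) (orderOf (x ^ b))
  have h1 : orderOf x ∣ a * k := orderOf_dvd_of_pow_eq_one (by
    rw [pow_mul]; exact orderOf_dvd_iff_pow_eq_one.1 (Nat.dvd_lcm_left _ _))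
  have h2 : orderOf x ∣ b * k := orderOf_dvd_of_pow_eq_one (by
    rw [pow_mul]; exact orderOf_dvd_iff_pow_eq_one.1 (Nat.dvd_lcm_right _ _))
  have h3 := Nat.dvd_gcd h1 h2
  rwa [Nat.gcd_mul_right, hab.gcd_eq_one, one_mul] at h3

theorem orderOf_mk_mul {x z : SLn} (hc : Commute x z) (hco : (orderOf (π x)).Coprime (orderOf (π z))) :
    orderOf (π (x * z)) = orderOf (π x) * orderOf (π z) := by
  rw [map_mul]
  exact (hc.map (π)).orderOf_mul_eq_mul_orderOf_of_coprime hco

section Absorb

variable {P : Matrix (Fin n) (Fin n) F}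

/-- `a` on the image of the projection `P`, `b` on its kernel. -/
def two (P : Matrix (Fin n) (Fin n) F) (a b : F) : Matrix (Fin n) (Fin n) F := a • P + b • (1 - P)

theorem two_mul_two (hP : P * P = P) (a b a' b' : F) :
    two P a b * two P a' b' = two P (a * a') (b * b') := by
  have h1 : P * (1 - P) = 0 := by rw [mul_sub, mul_one, hP, sub_self]
  have h2 : (1 - P) * P = 0 := by rw [sub_mul, one_mul, hP, sub_self]
  have h3 : (1 - P) * (1 - P) = 1 - P := by rw [sub_mul, one_mul, h1, sub_zero]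
  simp only [two, add_mul, mul_add, Matrix.smul_mul, Matrix.mul_smul, hP, h1, h2, h3, smul_zero, add_zero,
    zero_add, smul_smul, mul_comm a a', mul_comm b b']

theorem two_self (c : F) : two P c c = Matrix.scalar (Fin n) c := by
  rw [two, ← smul_add, add_sub_cancel, Matrix.smul_one_eq_diagonal, Matrix.scalar_apply]

theorem two_pow (hP : P * P = P) (a b : F) (k : ℕ) : two P a b ^ k = two P (a ^ k) (b ^ k) := by
  induction k with
  | zero => rw [pow_zero, pow_zero, pow_zero, two_self, map_one]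
  | succ k ih => rw [pow_succ, ih, two_mul_two hP, pow_succ, pow_succ]

theorem eq_of_two_eq_scalar (hP : P * P = P) (h0 : P ≠ 0) (h1 : P ≠ 1) {a b c : F}
    (h : two P a b = Matrix.scalar (Fin n) c) : a = b := by
  rw [← two_self (P := P) c] at h
  have ha := congrArg (· * two P 1 0) h
  have hb := congrArg (· * two P 0 1) h
  simp only [two_mul_two hP, mul_one, mul_zero] at ha hb
  have ha' : (a - c) • P = 0 := by
    simp only [two, zero_smul, add_zero] at ha
    rw [sub_smul, ha, sub_self]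
  have hb' : (b - c) • (1 - P) = 0 := by
    simp only [two, zero_smul, zero_add] at hb
    rw [sub_smul, hb, sub_self]
  rw [smul_eq_zero_iff_left h0, sub_eq_zero] at ha'
  rw [smul_eq_zero_iff_left (sub_ne_zero.2 h1.symm), sub_eq_zero] at hb'
  rw [ha', hb']

theorem commute_two {y : Matrix (Fin n) (Fin n) F} (h : Commute P y) (a b : F) : Commute (two P a b) y :=
  (h.smul_left a).add_left (((Commute.one_left y).sub_left h).smul_left b)

variable [Fintype F]

/-- An element of order `r` in `PSL` commuting with the centralizer of a projection. -/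
theorem exists_absorb {r : ℕ} (hr : r.Prime) (hrq : r ∣ Fintype.card F - 1) (hrn : ¬ r ∣ n)
    (hP : P * P = P) (h0 : P ≠ 0) (h1 : P ≠ 1) :
    ∃ z : SLn, (∀ y : SLn, Commute P (y : Matrix (Fin n) (Fin n) F) → Commute z y) ∧ orderOf (π z) = r := by
  classical
  haveI : Fact r.Prime := ⟨hr⟩
  haveI : NeZero r := ⟨hr.ne_zero⟩
  obtain ⟨u, hu⟩ := exists_prime_orderOf_dvd_card (G := Fˣ) r (by rwa [Fintype.card_units])
  have hζ : IsPrimitiveRoot ((u : Fˣ) : F) r := IsPrimitiveRoot.coe_units_iff.2 (hu ▸ IsPrimitiveRoot.orderOf u)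
  set ζ : F := ((u : Fˣ) : F)
  have hd : (two P ζ 1).det ^ r = 1 := by
    rw [← Matrix.det_pow, two_pow hP, hζ.pow_eq_one, one_pow, two_self, map_one, Matrix.det_one]
  obtain ⟨i, -, hi⟩ := hζ.eq_pow_of_pow_eq_one hd
  set k := (r - 1) * i
  have hdet : (two P (ζ ^ (n + k)) (ζ ^ k)).det = 1 := by
    have e : two P (ζ ^ (n + k)) (ζ ^ k) = two P ζ 1 ^ n * two P (ζ ^ k) (ζ ^ k) := by
      rw [two_pow hP, two_mul_two hP, one_pow, one_mul, pow_add]
    rw [e, Matrix.det_mul, Matrix.det_pow, two_self, Matrix.scalar_apply, Matrix.det_diagonal, Finset.prod_const,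
      Finset.card_univ, Fintype.card_fin, ← hi, ← pow_mul, ← pow_mul, ← pow_add, hζ.pow_eq_one_iff_dvd]
    refine ⟨i * n, ?_⟩
    obtain ⟨r', rfl⟩ := Nat.exists_eq_succ_of_ne_zero hr.ne_zero
    simp only [k, Nat.succ_sub_one, Nat.succ_eq_add_one]
    ring
  let z : SLn := ⟨two P (ζ ^ (n + k)) (ζ ^ k), hdet⟩
  refine ⟨z, fun y hy => Subtype.ext (commute_two hy _ _).eq, orderOf_eq_prime ?_ ?_⟩
  · rw [mk_pow_eq_one_iff]
    refine ⟨1, ?_⟩
    show two P (ζ ^ (n + k)) (ζ ^ k) ^ r = _
    rw [two_pow hP, pow_right_comm, hζ.pow_eq_one, one_pow, pow_right_comm, hζ.pow_eq_one, one_pow, two_self]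
  · intro hz
    obtain ⟨c, hc⟩ := (mk_pow_eq_one_iff z 1).1 (by rw [pow_one]; exact hz)
    rw [pow_one] at hc
    have he := eq_of_two_eq_scalar hP h0 h1 hc
    rw [pow_add, mul_left_eq_self₀] at he
    rcases he with he | he
    · exact hrn ((hζ.pow_eq_one_iff_dvd n).1 he)
    · exact pow_ne_zero k (hζ.ne_zero hr.ne_zero) he

end Absorb

section Jordan

variable (F n)

/-- The shift on the first `m` coordinates. -/
def shift (m : ℕ) : Matrix (Fin n) (Fin n) F :=
  Matrix.of fun i j => if j.val = i.val + 1 ∧ j.val < m then 1 else 0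

/-- The projection on the first `m` coordinates. -/
def proj (m : ℕ) : Matrix (Fin n) (Fin n) F := Matrix.diagonal fun i => if i.val < m then 1 else 0

variable {F n}

theorem proj_mul_proj (m : ℕ) : proj F n m * proj F n m = proj F n m := by
  rw [proj, Matrix.diagonal_mul_diagonal]
  congr 1
  funext i
  split_ifs <;> simp

theorem proj_ne_zero {m : ℕ} (hm : 0 < m) (hn : 0 < n) : proj F n m ≠ 0 := fun h => by
  have h2 := congrFun (congrFun h ⟨0, hn⟩) ⟨0, hn⟩
  simp [proj, hm] at h2

theorem proj_ne_one {m : ℕ} (hm : m < n) : proj F n m ≠ 1 := fun h => by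
  have h2 := congrFun (congrFun h ⟨m, hm⟩) ⟨m, hm⟩
  simp [proj] at h2

theorem proj_comm (m : ℕ) : Commute (proj F n m) (shift F n m) := by
  show _ = _
  ext i j
  rw [proj, Matrix.diagonal_mul, Matrix.mul_diagonal]
  simp only [shift, Matrix.of_apply]
  by_cases h : j.val = i.val + 1 ∧ j.val < m
  · rw [if_pos h, if_pos (by omega : i.val < m), if_pos h.2]
  · rw [if_neg h, mul_zero, zero_mul]

theorem shift_pow (m k : ℕ) (i j : Fin n) :
    (shift F n m ^ (k + 1)) i j = if j.val = i.val + (k + 1) ∧ j.val < m then 1 else 0 := by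
  induction k generalizing j with
  | zero => rw [zero_add, pow_one, shift, Matrix.of_apply]
  | succ k ih =>
    rw [pow_succ, Matrix.mul_apply]
    simp only [ih]
    simp only [shift, Matrix.of_apply]
    by_cases h : j.val = i.val + (k + 1 + 1) ∧ j.val < m
    · rw [if_pos h, Finset.sum_eq_single (⟨i.val + (k + 1), by omega⟩ : Fin n)]
      · have h1 : j.val = i.val + (k + 1) + 1 := by omega
        have h2 : i.val + (k + 1) < m := by omega
        simp [h1, h2, show i.val + (k + 1) + 1 < m by omega]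
      · intro b _ hb
        rw [if_neg (fun h' => hb (Fin.ext h'.1)), zero_mul]
      · exact fun h' => absurd (Finset.mem_univ _) h'
    · rw [if_neg h, Finset.sum_eq_zero]
      intro b _
      split_ifs <;> first | (simp; done) | (exfalso; omega)

theorem shift_det (m : ℕ) : (1 + shift F n m).det = 1 := by
  rw [Matrix.det_of_upperTriangular]
  · refine Finset.prod_eq_one fun i _ => ?_
    simp [shift]
  · intro i j hij
    have h : j.val < i.val := hij
    rw [Matrix.add_apply, Matrix.one_apply_ne (Fin.ne_of_val_ne (by omega)), shift, Matrix.of_apply, if_neg (by omega), zero_add]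

/-- A regular unipotent element of the first `m` coordinates. -/
def jordan (F : Type*) [Field F] (n m : ℕ) : SpecialLinearGroup (Fin n) F := ⟨1 + shift F n m, shift_det m⟩

theorem orderOf_jordan (p : ℕ) [Fact p.Prime] [CharP F p] {m : ℕ} (hm : 2 ≤ m) (hmn : m ≤ n) :
    orderOf (π (jordan F n m)) = p ^ Nat.clog p m := by
  have hp : p.Prime := Fact.out
  have key : ∀ j, (π (jordan F n m)) ^ p ^ j = 1 ↔ m ≤ p ^ j := fun j => by
    have e : (1 + shift F n m) ^ p ^ j = 1 + shift F n m ^ p ^ j := by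
      have h := UnipotentGL.sub_one_pow_char p (1 + shift F n m) j
      rw [add_sub_cancel_left] at h
      rw [h, add_sub_cancel]
    obtain ⟨k, hk⟩ := Nat.exists_eq_succ_of_ne_zero (pow_ne_zero j hp.ne_zero)
    rw [mk_pow_eq_one_iff]
    show (∃ c, (1 + shift F n m) ^ p ^ j = _) ↔ _
    rw [e, hk]
    constructor
    · rintro ⟨c, hc⟩
      by_contra hlt
      have h2 := congrFun (congrFun hc ⟨0, by omega⟩) ⟨k + 1, by omega⟩
      rw [Matrix.add_apply, shift_pow, if_pos ⟨by simp, by dsimp only; omega⟩, Matrix.scalar_apply,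
        Matrix.diagonal_apply_ne _ (by simp [Fin.ext_iff]), Matrix.one_apply_ne (by simp [Fin.ext_iff])] at h2
      simp at h2
    · intro hle
      refine ⟨1, ?_⟩
      ext a b
      rw [Matrix.add_apply, shift_pow, if_neg (by omega), add_zero, map_one]
  obtain ⟨c, hc⟩ := Nat.exists_eq_succ_of_ne_zero (Nat.clog_pos hp.one_lt hm).ne'
  rw [hc]
  refine orderOf_eq_prime_pow ?_ ?_
  · rw [key]
    have := Nat.pow_pred_clog_lt_self hp.one_lt hm
    rw [hc] at this
    simpa using this
  · rw [key, ← Nat.succ_eq_add_one, ← hc]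
    exact Nat.le_pow_clog hp.one_lt m

end Jordan

section Field

theorem dvd_minpoly_of_dvd_charpoly (A : Matrix (Fin n) (Fin n) F) {m : ℕ} (hm : (m : F) ≠ 0) (hA : A ^ m = 1)
    {g : F[X]} (hgm : g.Monic) (hgi : Irreducible g) (hg : g ∣ A.charpoly) : g ∣ minpoly F A := by
  set T : Module.End F (Fin n → F) := Matrix.toLinAlgEquiv' A with hT'
  have hT : T ^ m = 1 := by rw [← map_pow, hA, map_one]
  obtain ⟨W, hW, hW0, hWc, hmin⟩ := SemisimpleEnd.exists_simple_charpoly _ T rfl hm hT g hgm hgi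
    (by
      show g ∣ (Matrix.toLin' A).charpoly
      rwa [Matrix.charpoly_toLin'])
  haveI : Nontrivial W := Submodule.nontrivial_iff_ne_bot.2 hW0
  obtain ⟨-, hch, -⟩ := SemisimpleEnd.simple_field (T.restrict hW) hmin
  rw [← hWc, hch]
  refine minpoly.dvd F _ ?_
  have h0 : aeval T (minpoly F A) = 0 := by
    rw [hT']
    show aeval ((Matrix.toLinAlgEquiv' (R := F) (n := Fin n)).toAlgHom A) (minpoly F A) = 0
    rw [aeval_algHom_apply, minpoly.aeval, map_zero]
  have key : ∀ q : F[X], ∀ w : W, ((aeval (T.restrict hW) q) w : Fin n → F) = aeval T q w := by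
    intro q
    induction q using Polynomial.induction_on' with
    | add a b ha hb => intro w; simp [ha, hb]
    | monomial k c =>
      intro w
      rw [aeval_monomial, aeval_monomial, Module.End.mul_apply, Module.End.mul_apply,
        Module.algebraMap_end_apply, Module.algebraMap_end_apply, Submodule.coe_smul, Module.End.pow_restrict k (h := hW)]
      rfl
  refine LinearMap.ext fun w => Subtype.ext ?_
  rw [key, h0]
  rfl

/-- A semisimple matrix with irreducible minimal polynomial has it as only charpoly factor. -/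
theorem charpoly_eq_minpoly_pow (A : Matrix (Fin n) (Fin n) F) {m : ℕ} (hm : (m : F) ≠ 0) (hA : A ^ m = 1)
    (hi : Irreducible (minpoly F A)) : ∃ k, A.charpoly = minpoly F A ^ k := by
  classical
  obtain ⟨k, hk⟩ := UniqueFactorizationMonoid.exists_associated_prime_pow_of_unique_normalized_factor
    (p := minpoly F A) (r := A.charpoly) (fun {g} hg => by
      have hgi : Irreducible g := UniqueFactorizationMonoid.irreducible_of_normalized_factor g hg
      have hgm : g.Monic := by
        rw [← UniqueFactorizationMonoid.normalize_normalized_factor g hg]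
        exact Polynomial.monic_normalize hgi.ne_zero
      have hd := dvd_minpoly_of_dvd_charpoly A hm hA hgm hgi (UniqueFactorizationMonoid.dvd_of_mem_normalizedFactors hg)
      exact eq_of_monic_of_associated hgm (minpoly.monic (Algebra.IsIntegral.isIntegral A))
        (hgi.associated_of_dvd hi hd)) A.charpoly_monic.ne_zero
  exact ⟨k, (eq_of_monic_of_associated ((minpoly.monic (Algebra.IsIntegral.isIntegral A)).pow k) A.charpoly_monic hk).symm⟩

theorem det_eq_of_minpoly_eq (A B : Matrix (Fin n) (Fin n) F) {m : ℕ} (hm : (m : F) ≠ 0) (hA : A ^ m = 1)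
    (hB : B ^ m = 1) (he : minpoly F A = minpoly F B) (hi : Irreducible (minpoly F A)) : A.det = B.det := by
  obtain ⟨k, hk⟩ := charpoly_eq_minpoly_pow A hm hA hi
  obtain ⟨l, hl⟩ := charpoly_eq_minpoly_pow B hm hB (he ▸ hi)
  rw [← he] at hl
  have h1 := congrArg natDegree hk
  have h2 := congrArg natDegree hl
  rw [Matrix.charpoly_natDegree_eq_dim, natDegree_pow] at h1 h2
  have : k = l := Nat.eq_of_mul_eq_mul_right hi.natDegree_pos (h1.symm.trans h2)
  rw [Matrix.det_eq_sign_charpoly_coeff, Matrix.det_eq_sign_charpoly_coeff, hk, hl, this]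

theorem pow_scalar_iff (A : Matrix (Fin n) (Fin n) F) (i : ℕ) (c : F) :
    A ^ i = Matrix.scalar (Fin n) c ↔ minpoly F A ∣ X ^ i - C c := by
  rw [minpoly.dvd_iff, map_sub, map_pow, aeval_X, aeval_C, sub_eq_zero]
  rfl

variable [Fintype F]

/-- All semisimple elements with irreducible minimal polynomial have orders dividing that of one element. -/
theorem exists_singer (p : ℕ) [Fact p.Prime] [CharP F p] (hn : 0 < n) :
    ∃ c : SLn, ∀ (A : SLn) (m : ℕ), (m : F) ≠ 0 → A ^ m = 1 → Irreducible (minpoly F (A : Matrix (Fin n) (Fin n) F)) →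
      orderOf (π A) ∣ orderOf (π c) := by
  classical
  haveI : NeZero n := ⟨hn.ne'⟩
  let E := FiniteField.Extension F p n
  let b : Module.Basis (Fin n) F E := Module.finBasisOfFinrankEq F E (FiniteField.finrank_extension F p n)
  let ι : E →ₐ[F] Matrix (Fin n) (Fin n) F := Algebra.leftMulMatrix b
  have hinj : Function.Injective ι := Algebra.leftMulMatrix_injective b
  let D : Eˣ →* F := (Matrix.detMonoidHom.comp ι.toMonoidHom).comp (Units.coeHom E)
  let K : Subgroup Eˣ := D.ker
  let Φ : K →* SLn :=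
    { toFun := fun y => ⟨ι ((y : Eˣ) : E), MonoidHom.mem_ker.1 y.2⟩
      map_one' := Subtype.ext (by simp)
      map_mul' := fun y z => Subtype.ext (by simp; rfl) }
  haveI : Finite E := inferInstance
  haveI : IsCyclic Eˣ := inferInstance
  haveI : IsCyclic K := inferInstance
  obtain ⟨g, hg⟩ := IsCyclic.exists_generator (α := K)
  refine ⟨Φ g, fun A m hm hA hi => ?_⟩
  set a : Matrix (Fin n) (Fin n) F := (A : Matrix (Fin n) (Fin n) F)
  set h := minpoly F a
  have ha : a ^ m = 1 := by rw [← val_pow, hA]; rfl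
  obtain ⟨k, hk⟩ := charpoly_eq_minpoly_pow a hm ha hi
  have hdeg := congrArg natDegree hk
  rw [Matrix.charpoly_natDegree_eq_dim, Fintype.card_fin, natDegree_pow] at hdeg
  haveI : Fact (Irreducible h) := ⟨hi⟩
  haveI : Module.Finite F (AdjoinRoot h) := (AdjoinRoot.powerBasis hi.ne_zero).finite
  haveI : Finite (AdjoinRoot h) := Module.finite_of_finite F
  obtain ⟨f⟩ := (FiniteField.nonempty_algHom_iff_finrank_dvd (F := F) (K := AdjoinRoot h) (L := E)).2 (by
    rw [FiniteField.finrank_extension, (AdjoinRoot.powerBasis hi.ne_zero).finrank, AdjoinRoot.powerBasis_dim]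
    exact ⟨k, by rw [hdeg, mul_comm]⟩)
  set y : E := f (AdjoinRoot.root h)
  have hy : aeval y h = 0 := by
    rw [aeval_algHom_apply, AdjoinRoot.aeval_eq, AdjoinRoot.mk_self, map_zero]
  have hmy : minpoly F (ι y) = h := by
    rw [minpoly.algHom_eq ι hinj]
    exact (minpoly.eq_of_irreducible_of_monic hi hy (minpoly.monic (Algebra.IsIntegral.isIntegral a))).symm
  have hpow : ∀ (i : ℕ) (c : F), ι y ^ i = Matrix.scalar (Fin n) c ↔ a ^ i = Matrix.scalar (Fin n) c := fun i c => by
    rw [pow_scalar_iff, pow_scalar_iff, hmy]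
  have hym : ι y ^ m = 1 := by
    rw [← map_one (Matrix.scalar (Fin n)), hpow, map_one, ha]
  have hdet : (ι y).det = 1 := by
    rw [det_eq_of_minpoly_eq (ι y) a hm hym ha hmy (hmy.symm ▸ hi)]
    exact A.2
  have hy0 : y ≠ 0 := fun h0 => by
    haveI : Nonempty (Fin n) := ⟨⟨0, hn⟩⟩
    rw [h0, map_zero, Matrix.det_zero] at hdet
    exact zero_ne_one hdet
  let yk : K := ⟨Units.mk0 y hy0, MonoidHom.mem_ker.2 hdet⟩
  have he : orderOf (π A) = orderOf (π (Φ yk)) := by
    refine orderOf_eq_orderOf_iff.2 fun i => ?_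
    rw [mk_pow_eq_one_iff, mk_pow_eq_one_iff]
    exact exists_congr fun c => (hpow i c).symm
  obtain ⟨j, hj⟩ := Subgroup.mem_zpowers_iff.1 (hg yk)
  rw [he]
  refine orderOf_dvd_of_pow_eq_one ?_
  rw [← hj, map_zpow, map_zpow, ← _root_.zpow_natCast, ← _root_.zpow_mul, mul_comm, _root_.zpow_mul, _root_.zpow_natCast, pow_orderOf_eq_one,
    _root_.one_zpow]

end Field

section Dichotomy

/-- Either some projection commutes with `g`, or its semisimple part has irreducible minimal polynomial. -/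
theorem irreducible_of_no_proj {g : Matrix (Fin n) (Fin n) F} {e m : ℕ} (hn : 0 < n) (hm : (m : F) ≠ 0)
    (hg : (g ^ e) ^ m = 1)
    (hP : ∀ P : Matrix (Fin n) (Fin n) F, P * P = P → Commute P g → P = 0 ∨ P = 1) :
    Irreducible (minpoly F (g ^ e)) := by
  haveI : Nonempty (Fin n) := ⟨⟨0, hn⟩⟩
  set s := g ^ e
  set μ := minpoly F s
  have hint : IsIntegral F s := Algebra.IsIntegral.isIntegral s
  have hdvd : μ ∣ X ^ m - 1 := minpoly.dvd F s (by rw [map_sub, map_pow, aeval_X, map_one, hg, sub_self])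
  have hsep : μ.Separable := (X_pow_sub_one_separable_iff.2 hm).of_dvd hdvd
  refine ⟨minpoly.not_isUnit F s, fun h₁ h₂ hμ => ?_⟩
  by_contra hcon
  rw [not_or] at hcon
  rw [hμ] at hsep
  obtain ⟨a, b, hab⟩ := hsep.isCoprime
  have hz : aeval s (h₁ * h₂) = 0 := by rw [← hμ]; exact minpoly.aeval F s
  have hidem : aeval s (a * h₁) * aeval s (a * h₁) = aeval s (a * h₁) := by
    have e1 : a * h₁ * (a * h₁) = a * h₁ - (a * b) * (h₁ * h₂) := by linear_combination (a * h₁) * hab
    rw [← map_mul, e1, map_sub, map_mul (aeval s) (a * b), hz, mul_zero, sub_zero]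
  have hcomm : Commute (aeval s (a * h₁)) g := by
    have e2 : aeval s (a * h₁) = aeval g ((a * h₁).comp (X ^ e)) := by rw [aeval_comp, map_pow, aeval_X]
    rw [e2]
    have e3 := congrArg (aeval g) (mul_comm ((a * h₁).comp (X ^ e)) X)
    rw [map_mul, map_mul, aeval_X] at e3
    exact e3
  rcases hP _ hidem hcomm with h | h
  · have h' : μ ∣ a * h₁ := minpoly.dvd F s h
    rw [hμ] at h'
    have h2 : h₂ ∣ a * h₁ := (dvd_mul_left h₂ h₁).trans h'
    exact hcon.2 (isUnit_of_dvd_one (by rw [← hab]; exact dvd_add h2 (dvd_mul_left h₂ b)))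
  · have h' : μ ∣ b * h₂ := minpoly.dvd F s (by
      rw [show b * h₂ = 1 - a * h₁ by linear_combination hab, map_sub, map_one, h, sub_self])
    rw [hμ] at h'
    have h2 : h₁ ∣ b * h₂ := (dvd_mul_right h₁ h₂).trans h'
    exact hcon.1 (isUnit_of_dvd_one (by rw [← hab]; exact dvd_add (dvd_mul_left h₁ a) h2))

variable [Fintype F]

/-- The dichotomy for one component. -/
theorem component (p : ℕ) [Fact p.Prime] [CharP F p] {r : ℕ} (hr : r.Prime) (hrq : r ∣ Fintype.card F - 1)
    (hrn : ¬ r ∣ n) (hn : 0 < n) {c : SLn}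
    (hc : ∀ (A : SLn) (m : ℕ), (m : F) ≠ 0 → A ^ m = 1 → Irreducible (minpoly F (A : Matrix (Fin n) (Fin n) F)) →
      orderOf (π A) ∣ orderOf (π c))
    (x : ProjectiveSpecialLinearGroup (Fin n) F) (hx : ¬ r ∣ orderOf x) :
    (∃ x' : ProjectiveSpecialLinearGroup (Fin n) F, orderOf x' = r * orderOf x) ∨
      ∃ M Q, orderOf x = Nat.lcm M Q ∧ M ∣ orderOf (π c) ∧ Q ∣ p ^ Nat.clog p n := by
  classical
  have hp : p.Prime := Fact.out
  obtain ⟨g, rfl⟩ := QuotientGroup.mk'_surjective (Subgroup.center SLn) x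
  by_cases hP : ∀ P : Matrix (Fin n) (Fin n) F, P * P = P → Commute P (g : Matrix (Fin n) (Fin n) F) → P = 0 ∨ P = 1
  · right
    haveI : Finite SLn := inferInstance
    have hN : orderOf g ≠ 0 := (orderOf_pos g).ne'
    set N := orderOf g
    set M := N / p ^ N.factorization p
    set e := p ^ N.factorization p
    have heM : e * M = N := Nat.ordProj_mul_ordCompl_eq_self N p
    have hcop : Nat.Coprime e M := Nat.Coprime.pow_left _ (Nat.coprime_ordCompl hp hN)
    have hMF : (M : F) ≠ 0 := by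
      rw [ne_eq, CharP.cast_eq_zero_iff F p]
      exact Nat.not_dvd_ordCompl hp hN
    refine ⟨orderOf (π (g ^ e)), orderOf (π (g ^ M)), ?_, ?_, ?_⟩
    · rw [map_pow, map_pow]
      exact orderOf_split _ hcop
    · have hs : (g ^ e) ^ M = 1 := by rw [← pow_mul, heM, pow_orderOf_eq_one]
      refine hc _ M hMF hs ?_
      rw [val_pow]
      exact irreducible_of_no_proj hn hMF (by rw [← val_pow, ← val_pow, hs]; rfl) hP
    · refine orderOf_dvd_of_pow_eq_one ?_
      rw [mk_pow_eq_one_iff]
      have hu : ((g ^ M : SLn) : Matrix (Fin n) (Fin n) F) ^ p ^ N.factorization p = 1 := by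
        rw [← val_pow, ← pow_mul, mul_comm, heM, pow_orderOf_eq_one]; rfl
      have hnil : IsNilpotent (((g ^ M : SLn) : Matrix (Fin n) (Fin n) F) - 1) :=
        ⟨p ^ N.factorization p, by rw [UnipotentGL.sub_one_pow_char, hu, sub_self]⟩
      refine ⟨1, ?_⟩
      rw [map_one, ← sub_eq_zero, ← UnipotentGL.sub_one_pow_char]
      refine pow_eq_zero_of_le ?_ (UnipotentGL.pow_card_eq_zero hnil)
      rw [Fintype.card_fin]
      exact Nat.le_pow_clog hp.one_lt n
  · left
    push_neg at hP
    obtain ⟨P, hP1, hP2, hP3, hP4⟩ := hP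
    obtain ⟨z, hz, hzr⟩ := exists_absorb hr hrq hrn hP1 hP3 hP4
    refine ⟨π (g * z), ?_⟩
    rw [orderOf_mk_mul (hz g hP2).symm (by rw [hzr]; exact ((hr.coprime_iff_not_dvd).2 hx).symm), hzr, mul_comm]

end Dichotomy

end Cfsg.Agent.Struct.CubeAbsorb
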