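import Cfsg.Agent.Lib.Classical.Linear

/-!
The root group of `(0,1)` and a monomial cycle generate the special linear group.
-/

set_option autoImplicit false
set_option linter.style.haveILetI false

namespace Cfsg.Agent.Struct.CycleGenSL

open Matrix

variable {K : Type*} [Field K] {n : ℕ}

theorem eq_top (hn : 1 ≤ n) (H : Subgroup (SpecialLinearGroup (Fin (n + 1)) K))
    (w : SpecialLinearGroup (Fin (n + 1)) K)
    (hw : (w : Matrix (Fin (n + 1)) (Fin (n + 1)) K) =
      Matrix.of (fun i j => if j.val = i.val + 1 then 1 else if i.val = n ∧ j.val = 0 then (-1) ^ n else 0))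
    (hwH : w ∈ H) (hT : ∀ (h : (0 : Fin (n + 1)) ≠ 1) (a : K), SpecialLinearGroup.transvection h a ∈ H) : H = ⊤ := by
  haveI : Nontrivial (Fin (n + 1)) := Fin.nontrivial_iff_two_le.2 (by omega)
  let R : Fin (n + 1) → Fin (n + 1) → Prop := fun i j => ∀ (h : i ≠ j) (a : K), SpecialLinearGroup.transvection h a ∈ H
  have trans : ∀ i j k, i ≠ k → k ≠ j → R i k → R k j → R i j := by
    intro i j k hik hkj h1 h2 hij a
    rw [← Classical.commutator_transvection_transvection hij hik hkj a, commutatorElement_def]
    exact H.mul_mem (H.mul_mem (H.mul_mem (h1 _ _) (h2 _ _)) (H.inv_mem (h1 _ _))) (H.inv_mem (h2 _ _))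
  have hshift : ∀ (i j i' j' : Fin (n + 1)), i'.val = i.val + 1 → j'.val = j.val + 1 → R i j → R i' j' := by
    intro i j i' j' hi hj h h' a
    have hij : i ≠ j := fun e => h' (Fin.ext (by rw [hi, hj, e]))
    have e : w * SpecialLinearGroup.transvection h' a = SpecialLinearGroup.transvection hij a * w := by
      refine Subtype.ext ?_
      show (w : Matrix (Fin (n + 1)) (Fin (n + 1)) K) * _ = _ * (w : Matrix (Fin (n + 1)) (Fin (n + 1)) K)
      rw [SpecialLinearGroup.transvection_coe,
        SpecialLinearGroup.transvection_coe, mul_add, add_mul, mul_one, one_mul]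
      congr 1
      ext r c
      have h1 : ∀ x : Fin (n + 1), (w : Matrix (Fin (n + 1)) (Fin (n + 1)) K) x i' = if x = i then 1 else 0 := fun x => by
        rw [hw, Matrix.of_apply]
        by_cases hx : x = i
        · subst hx; simp [hi]
        · rw [if_neg (fun e => hx (Fin.ext (by omega))), if_neg (fun e => by omega), if_neg hx]
      have h2 : ∀ x : Fin (n + 1), (w : Matrix (Fin (n + 1)) (Fin (n + 1)) K) j x = if x = j' then 1 else 0 := fun x => by
        rw [hw, Matrix.of_apply]
        by_cases hx : x = j'
        · subst hx; simp [hj]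
        · rw [if_neg (fun e => hx (Fin.ext (by omega))), if_neg (fun e => by have := j'.isLt; omega), if_neg hx]
      rw [Matrix.mul_apply, Matrix.mul_apply, Finset.sum_eq_single i', Finset.sum_eq_single j, h1, h2]
      · by_cases hr : r = i <;> by_cases hc : c = j' <;> simp [hr, hc, Ne.symm, Matrix.single_apply, eq_comm]
      · intro x _ hx
        rw [Matrix.single_apply, if_neg (fun e => hx e.2.symm), zero_mul]
      · simp
      · intro x _ hx
        rw [Matrix.single_apply, if_neg (fun e => hx e.1.symm), mul_zero]
      · simp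
    rw [show SpecialLinearGroup.transvection h' a = w⁻¹ * (SpecialLinearGroup.transvection hij a * w) by rw [← e, inv_mul_cancel_left]]
    exact H.mul_mem (H.inv_mem hwH) (H.mul_mem (h hij a) hwH)
  have hsucc : ∀ (k : ℕ) (i j : Fin (n + 1)), i.val = k → j.val = k + 1 → R i j := by
    intro k
    induction k with
    | zero =>
      intro i j hi hj
      have h1 : (1 : Fin (n + 1)).val = 1 := by simp [Fin.val_one', Nat.mod_eq_of_lt (show 1 < n + 1 by omega)]
      obtain rfl : i = 0 := Fin.ext (by simpa using hi)
      obtain rfl : j = 1 := Fin.ext (by omega)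
      exact hT
    | succ k ih =>
      intro i j hi hj
      have := j.isLt
      exact hshift ⟨k, by omega⟩ ⟨k + 1, by omega⟩ i j (by simpa using hi) (by simpa using hj) (ih _ _ rfl rfl)
  have hlt : ∀ (k : ℕ) (i j : Fin (n + 1)), i.val + k + 1 = j.val → R i j := by
    intro k
    induction k with
    | zero => intro i j h; exact hsucc i.val i j rfl (by omega)
    | succ k ih =>
      intro i j h
      have := j.isLt
      have hm : i.val + k + 1 < n + 1 := by omega
      exact trans i j ⟨i.val + k + 1, hm⟩ (fun e => by simp [Fin.ext_iff] at e; omega) (fun e => by simp [Fin.ext_iff] at e; omega)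
        (ih _ _ (by simp)) (hsucc _ _ j rfl (by show j.val = i.val + k + 1 + 1; omega))
  have hlt' : ∀ i j : Fin (n + 1), i.val < j.val → R i j := fun i j h => hlt (j.val - i.val - 1) i j (by omega)
  have hback : R (Fin.last n) 0 := by
    intro h' a
    have h1 : (1 : Fin (n + 1)).val = 1 := by simp [Fin.val_one', Nat.mod_eq_of_lt (show 1 < n + 1 by omega)]
    have h01 : (0 : Fin (n + 1)) ≠ 1 := fun e => by rw [Fin.ext_iff, h1] at e; simp at e
    have e : w * SpecialLinearGroup.transvection h01 ((-1) ^ n * a) = SpecialLinearGroup.transvection h' a * w := by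
      refine Subtype.ext ?_
      show (w : Matrix (Fin (n + 1)) (Fin (n + 1)) K) * _ = _ * (w : Matrix (Fin (n + 1)) (Fin (n + 1)) K)
      rw [SpecialLinearGroup.transvection_coe,
        SpecialLinearGroup.transvection_coe, mul_add, add_mul, mul_one, one_mul]
      congr 1
      ext r c
      have e1 : ∀ x : Fin (n + 1), (w : Matrix (Fin (n + 1)) (Fin (n + 1)) K) x 0 = if x = Fin.last n then (-1) ^ n else 0 := fun x => by
        rw [hw, Matrix.of_apply, if_neg (by simp)]
        by_cases hx : x = Fin.last n
        · subst hx; simp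
        · rw [if_neg (fun e => hx (Fin.ext (by simpa using e.1))), if_neg hx]
      have e2 : ∀ x : Fin (n + 1), (w : Matrix (Fin (n + 1)) (Fin (n + 1)) K) 0 x = if x = 1 then 1 else 0 := fun x => by
        rw [hw, Matrix.of_apply]
        by_cases hx : x = 1
        · subst hx
          rw [if_pos (by rw [h1, Fin.val_zero]), if_pos rfl]
        · rw [if_neg (fun e => hx (Fin.ext (by rw [h1, e, Fin.val_zero]))), if_neg (fun e => by simp at e; omega), if_neg hx]
      have hs : ((-1 : K) ^ n) * ((-1) ^ n * a) = a := by rw [← mul_assoc, ← mul_pow, neg_one_mul, neg_neg, one_pow, one_mul]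
      rw [Matrix.mul_apply, Matrix.mul_apply, Finset.sum_eq_single (0 : Fin (n + 1)), Finset.sum_eq_single (0 : Fin (n + 1)), e1, e2]
      · by_cases hr : r = Fin.last n <;> by_cases hc : c = 1 <;> simp [hr, hc, Ne.symm, Matrix.single_apply, eq_comm, hs]
      · intro x _ hx
        rw [Matrix.single_apply, if_neg (fun e => hx e.2.symm), zero_mul]
      · simp
      · intro x _ hx
        rw [Matrix.single_apply, if_neg (fun e => hx e.1.symm), mul_zero]
      · simp
    rw [show SpecialLinearGroup.transvection h' a = w * SpecialLinearGroup.transvection h01 ((-1) ^ n * a) * w⁻¹ by rw [e, mul_inv_cancel_right]]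
    exact H.mul_mem (H.mul_mem hwH (hT h01 _)) (H.inv_mem hwH)
  have hgt0 : ∀ i : Fin (n + 1), i ≠ 0 → R i 0 := by
    intro i hi
    by_cases hl : i = Fin.last n
    · subst hl; exact hback
    · exact trans i 0 (Fin.last n) hl (fun e => by rw [Fin.ext_iff] at e; simp at e; omega)
        (hlt' _ _ (Fin.lt_last_iff_ne_last.2 hl)) hback
  rw [← top_le_iff, ← Classical.closure_transvection_eq_top, Subgroup.closure_le]
  rintro _ ⟨i, j, h, c, rfl⟩
  rcases Nat.lt_or_gt_of_ne (fun e => h (Fin.ext e)) with h' | h'
  · exact hlt' i j h' h c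
  · have hi : i ≠ 0 := fun e => by subst e; simp at h'
    by_cases hj : j = 0
    · subst hj; exact hgt0 i hi h c
    · exact trans i j 0 hi (Ne.symm hj) (hgt0 i hi) (hlt' 0 j (Nat.pos_of_ne_zero fun e => hj (Fin.ext e))) h c

end Cfsg.Agent.Struct.CycleGenSL
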