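import Cfsg.Agent.Lib.Struct.CoprimeMinimal

/-!
Coprime action of an abelian group `A`: generation by fixed points of subgroups with cyclic
quotient in `A`.
-/

set_option autoImplicit false
set_option linter.style.haveILetI false

namespace Cfsg.Agent.Struct.CyclicQuotientGen

open Subgroup Cfsg.Agent.Solv

theorem eq_top_of_fixed {A V : Type*} [CommGroup A] [Finite A] [CommGroup V] [Finite V]
    (φ : A →* MulAut V) (hcop : (Nat.card A).Coprime (Nat.card V)) (J : Subgroup V)
    (hJ : ∀ (B : Subgroup A) (a : A), B ⊔ zpowers a = ⊤ → ∀ v, (∀ b ∈ B, φ b v = v) → v ∈ J) :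
    J = ⊤ := by
  classical
  suffices key : ∀ B : Subgroup A, ∀ v : V, (∀ b ∈ B, φ b v = v) → v ∈ J from
    eq_top_iff.2 fun v _ => key ⊥ v fun b hb => by rw [mem_bot.1 hb, map_one]; rfl
  intro B
  induction B using WellFoundedGT.induction with
  | _ B ih =>
    intro v hv
    by_cases hcyc : IsCyclic (A ⧸ B)
    · obtain ⟨g, hg⟩ := hcyc.exists_generator
      obtain ⟨a, rfl⟩ := QuotientGroup.mk'_surjective B g
      refine hJ B a (eq_top_iff.2 fun x _ => ?_) v hv
      obtain ⟨i, hi⟩ := hg (QuotientGroup.mk' B x)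
      have h2 : (a ^ i)⁻¹ * x ∈ B := by
        rw [← QuotientGroup.eq]
        exact (QuotientGroup.mk_zpow B a i).trans hi
      exact mul_inv_cancel_left (a ^ i) x ▸
        mul_mem (mem_sup_right ⟨i, rfl⟩) (mem_sup_left h2)
    obtain ⟨q, hq, hlt⟩ := exists_card_powKer_gt hcyc
    haveI : Fact q.Prime := ⟨hq⟩
    obtain ⟨j, hj⟩ := (IsPGroup.iff_card (p := q) (G := (powMonoidHom q : A ⧸ B →* A ⧸ B).ker)).1
      (fun x => ⟨1, Subtype.ext (by rw [pow_one]; exact x.2)⟩)
    have hj2 : 2 ≤ j := by
      by_contra hcon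
      rw [hj] at hlt
      exact (not_le.2 hlt) ((Nat.pow_le_pow_right hq.pos (Nat.le_of_lt_succ (not_le.1 hcon))).trans
        (pow_one q).le)
    obtain ⟨E, hE⟩ := Sylow.exists_subgroup_card_pow_prime
      (G := (powMonoidHom q : A ⧸ B →* A ⧸ B).ker) q (n := 2) (hj ▸ pow_dvd_pow q hj2)
    haveI := Fintype.ofFinite E
    obtain ⟨ι, _, _, L, hpart, hι, hne⟩ := exists_partition_of_card_sq (A := E) hE
      (fun x => Subtype.ext (Subtype.ext x.1.2))
    -- the action on the fixed points of `B`
    let W : Subgroup V :=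
      { carrier := {w | ∀ b ∈ B, φ b w = w}
        one_mem' := fun b _ => map_one _
        mul_mem' := fun {u w} hu hw b hb => by rw [map_mul, hu b hb, hw b hb]
        inv_mem' := fun {u} hu b hb => by rw [map_inv, hu b hb] }
    have hWinv : ∀ (a : A) (w : V), w ∈ W → φ a w ∈ W := by
      intro a w hw b hb
      rw [← MulAut.mul_apply, ← map_mul, mul_comm, map_mul, MulAut.mul_apply, hw b hb]
    let ψ : A →* MulAut W :=
      { toFun := fun a =>
          { toFun := fun w => ⟨φ a w, hWinv a w w.2⟩
            invFun := fun w => ⟨φ a⁻¹ w, hWinv a⁻¹ w w.2⟩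
            left_inv := fun w => Subtype.ext (by
              show φ a⁻¹ (φ a w) = w
              rw [← MulAut.mul_apply, ← map_mul, inv_mul_cancel, map_one]; rfl)
            right_inv := fun w => Subtype.ext (by
              show φ a (φ a⁻¹ w) = w
              rw [← MulAut.mul_apply, ← map_mul, mul_inv_cancel, map_one]; rfl)
            map_mul' := fun u w => Subtype.ext (map_mul (φ a) (u : V) (w : V)) }
        map_one' := MulEquiv.ext fun w => Subtype.ext (by show φ 1 (w : V) = w; rw [map_one]; rfl)
        map_mul' := fun a b => MulEquiv.ext fun w => Subtype.ext (by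
          show φ (a * b) (w : V) = φ a (φ b w); rw [map_mul]; rfl) }
    have hψB : B ≤ ψ.ker := fun b hb => MulEquiv.ext fun w => Subtype.ext (w.2 b hb)
    let χ : E →* MulAut W :=
      ((QuotientGroup.lift B ψ hψB).comp
        (powMonoidHom q : A ⧸ B →* A ⧸ B).ker.subtype).comp E.subtype
    have hfix : ∀ (S : Subgroup E) (e : E), e ∈ S → e ≠ 1 → ∀ w : W, (∀ b ∈ S, χ b w = w) →
        (w : V) ∈ J := by
      intro S e he he1 w hw
      obtain ⟨a, ha⟩ := QuotientGroup.mk'_surjective B ((e : _) : A ⧸ B)
      have haB : a ∉ B := by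
        intro hcon
        refine he1 (Subtype.ext (Subtype.ext ?_))
        rw [← ha, coe_one, coe_one]
        exact (QuotientGroup.eq_one_iff a).2 hcon
      refine ih (B ⊔ zpowers a) (lt_of_le_of_ne le_sup_left fun h =>
        haB (h ▸ mem_sup_right (mem_zpowers a))) w ?_
      intro b hb
      let S' : Subgroup A :=
        { carrier := {x | φ x (w : V) = w}
          one_mem' := by show φ 1 (w : V) = w; rw [map_one]; rfl
          mul_mem' := fun {x y} hx hy => by
            show φ (x * y) (w : V) = w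
            rw [map_mul, MulAut.mul_apply, hy, hx]
          inv_mem' := fun {x} hx => by
            show φ x⁻¹ (w : V) = w
            conv_lhs => rw [← (hx : φ x (w : V) = w), ← MulAut.mul_apply, ← map_mul, inv_mul_cancel,
              map_one]
            rfl }
      have hle : B ⊔ zpowers a ≤ S' := by
        refine sup_le (fun x hx => w.2 x hx) (zpowers_le.2 ?_)
        have h1 := hw e he
        have h2 : χ e = ψ a := by
          show QuotientGroup.lift B ψ hψB ((e : _) : A ⧸ B) = ψ a
          rw [← ha]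
          rfl
        rw [h2] at h1
        exact congrArg Subtype.val h1
      exact hle hb
    have hpart' := orbitProd_partition χ L hpart (⟨v, hv⟩ : W)
    rw [hι, Nat.add_sub_cancel] at hpart'
    let J' : Subgroup W := J.comap W.subtype
    have h1 : ∀ i, orbitProd χ (L i) ⟨v, hv⟩ ∈ J' := fun i => by
      obtain ⟨b, hb1, hbL⟩ := hne i
      exact hfix (L i) b hbL hb1 _ fun c hc => orbitProd_fixed χ (L i) _ hc
    have h2 : orbitProd χ ⊤ (⟨v, hv⟩ : W) ∈ J' := by
      obtain ⟨b, hb1, -⟩ := hne (Classical.arbitrary ι)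
      exact hfix ⊤ b (mem_top _) hb1 _ fun c hc => orbitProd_fixed χ ⊤ _ hc
    have h3 : (⟨v, hv⟩ : W) ^ q ∈ J' := by
      have := mul_mem (inv_mem h2) (Subgroup.prod_mem J' fun i (_ : i ∈ Finset.univ) => h1 i)
      rwa [hpart', inv_mul_cancel_left] at this
    have h4 : v ^ q ∈ J := h3
    obtain ⟨k, hk⟩ := exists_pow_eq_self_of_coprime (x := v) (n := q) (by
      refine Nat.Coprime.coprime_dvd_left ?_ (Nat.Coprime.coprime_dvd_right (orderOf_dvd_natCard v) hcop)
      have h5 : Nat.card E ∣ Nat.card (A ⧸ B) :=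
        (card_subgroup_dvd_card E).trans (card_subgroup_dvd_card _)
      rw [hE] at h5
      exact (dvd_pow_self q two_ne_zero).trans (h5.trans (card_quotient_dvd_card B)))
    rw [← hk]
    exact pow_mem h4 k

end Cfsg.Agent.Struct.CyclicQuotientGen
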