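import Mathlib
import Cfsg.Agent.Lib.Solv.Basic

/-!
A non-abelian minimal normal subgroup of a finite group is generated by pairwise commuting conjugates of a
non-abelian simple subgroup, which has a complementary factor (its centralizer).
-/

set_option autoImplicit false

namespace Cfsg.Agent.Struct

open Subgroup

variable {G : Type*} [Group G]

/-- `T` is a simple direct factor of the minimal normal subgroup `M`. -/
structure SimpleFactor (M T : Subgroup G) : Prop where
  le : T ≤ M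
  ne_bot : T ≠ ⊥
  simple : IsSimpleGroup T
  noncomm : ∃ a ∈ T, ∃ b ∈ T, a * b ≠ b * a
  le_normalizer : M ≤ normalizer (T : Set G)
  inf_centralizer : T ⊓ centralizer (T : Set G) = ⊥
  sup_eq : T ⊔ M ⊓ centralizer (T : Set G) = M
  other : ∀ g : G, T.map (MulAut.conj g).toMonoidHom ≠ T →
    T.map (MulAut.conj g).toMonoidHom ≤ M ⊓ centralizer (T : Set G)
  iSup_eq : (⨆ g : G, T.map (MulAut.conj g).toMonoidHom) = M

theorem SimpleFactor.exists_decomp {M T : Subgroup G} (hT : SimpleFactor M T) {x : G} (hx : x ∈ M) :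
    ∃ t ∈ T, ∃ c ∈ M ⊓ centralizer (T : Set G), x = t * c := by
  rw [← hT.sup_eq, ← SetLike.mem_coe, coe_mul_of_right_le_normalizer_left _ _
    (inf_le_left.trans hT.le_normalizer)] at hx
  obtain ⟨t, ht, c, hc, e⟩ := hx
  exact ⟨t, ht, c, hc, e.symm⟩

theorem SimpleFactor.decomp_unique {M T : Subgroup G} (hT : SimpleFactor M T) {t t' c c' : G}
    (ht : t ∈ T) (ht' : t' ∈ T) (hc : c ∈ centralizer (T : Set G))
    (hc' : c' ∈ centralizer (T : Set G)) (h : t * c = t' * c') : t = t' ∧ c = c' := by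
  have h1 : t'⁻¹ * t ∈ T ⊓ centralizer (T : Set G) := by
    refine ⟨T.mul_mem (T.inv_mem ht') ht, ?_⟩
    rw [show t'⁻¹ * t = c' * c⁻¹ by
      calc t'⁻¹ * t = t'⁻¹ * (t * c) * c⁻¹ := by group
        _ = c' * c⁻¹ := by rw [h]; group]
    exact Subgroup.mul_mem _ hc' (Subgroup.inv_mem _ hc)
  rw [hT.inf_centralizer, mem_bot, inv_mul_eq_one] at h1
  subst h1
  exact ⟨rfl, mul_left_cancel h⟩

theorem exists_simpleFactor [Finite G] {M : Subgroup G} [hMn : M.Normal] (hMne : M ≠ ⊥)
    (hMmin : ∀ K : Subgroup G, K.Normal → K ≤ M → K = ⊥ ∨ K = M)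
    (hMc : ¬ ∀ x ∈ M, ∀ y ∈ M, x * y = y * x) :
    ∃ T : Subgroup G, SimpleFactor M T := by
  classical
  obtain ⟨T, hTM, hTne, hTn, hTmin⟩ : ∃ T : Subgroup G, T ≤ M ∧ T ≠ ⊥ ∧
      M ≤ normalizer (T : Set G) ∧
      ∀ K : Subgroup G, K ≤ T → M ≤ normalizer (K : Set G) → K = ⊥ ∨ K = T := by
    haveI : Nontrivial M := (nontrivial_iff_ne_bot M).2 hMne
    obtain ⟨K0, hK0, -, hK0ne, hK0min⟩ :=
      Cfsg.Agent.Solv.exists_minimal_normal_le (N := (⊤ : Subgroup M)) top_ne_bot
    refine ⟨K0.map M.subtype, map_subtype_le _, ?_, ?_, ?_⟩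
    · rwa [Ne, map_eq_bot_iff_of_injective _ M.subtype_injective]
    · intro m hm
      refine mem_normalizer_iff.2 fun x => ⟨?_, ?_⟩
      · rintro ⟨y, hy, rfl⟩
        exact ⟨_, hK0.conj_mem y hy ⟨m, hm⟩, rfl⟩
      · rintro ⟨y, hy, hyx⟩
        refine ⟨_, hK0.conj_mem y hy ⟨m, hm⟩⁻¹, ?_⟩
        show m⁻¹ * (y : G) * m⁻¹⁻¹ = x
        rw [show (y : G) = m * x * m⁻¹ from hyx]; group
    · intro K hK hKn
      have hKM : K ≤ M := hK.trans (map_subtype_le _)
      have hKn' : (K.subgroupOf M).Normal :=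
        ⟨fun y hy m => (mem_normalizer_iff.1 (hKn m.2) y).1 hy⟩
      have hle : K.subgroupOf M ≤ K0 := fun y hy => by
        obtain ⟨z, hz, e⟩ := hK hy
        exact Subtype.ext e ▸ hz
      rcases hK0min _ hKn' hle with h | h
      · left
        rw [← map_subgroupOf_eq_of_le hKM, h, Subgroup.map_bot]
      · right
        rw [← map_subgroupOf_eq_of_le hKM, h]
  set cj : G → Subgroup G := fun g => T.map (MulAut.conj g).toMonoidHom with hcj
  have hmem_cj : ∀ g x, x ∈ cj g ↔ g⁻¹ * x * g ∈ T := by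
    intro g x
    constructor
    · rintro ⟨y, hy, rfl⟩
      simpa [MulAut.conj_apply, mul_assoc] using hy
    · intro h
      exact ⟨_, h, by simp [mul_assoc]⟩
  have hcjM : ∀ g, cj g ≤ M := fun g => by
    rintro _ ⟨y, hy, rfl⟩
    exact hMn.conj_mem y (hTM hy) g
  have hcjn : ∀ g, M ≤ normalizer (cj g : Set G) := by
    intro g m hm
    refine mem_normalizer_iff.2 fun x => ?_
    rw [hmem_cj, hmem_cj, show g⁻¹ * (m * x * m⁻¹) * g =
      (g⁻¹ * m * g) * (g⁻¹ * x * g) * (g⁻¹ * m * g)⁻¹ by group]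
    have := hTn (by simpa using hMn.conj_mem m hm g⁻¹ : g⁻¹ * m * g ∈ M)
    exact mem_normalizer_iff.1 this _
  have hcomm : ∀ g g', cj g ≠ cj g' → ∀ x ∈ cj g, ∀ y ∈ cj g', x * y = y * x := by
    intro g g' hne x hx y hy
    have hinf : cj g ⊓ cj g' = ⊥ := by
      set K := (cj g ⊓ cj g').map (MulAut.conj g⁻¹).toMonoidHom
      have hK : K ≤ T := by
        rintro _ ⟨z, hz, rfl⟩
        simpa [MulAut.conj_apply] using (hmem_cj g z).1 hz.1
      have hKn : M ≤ normalizer (K : Set G) := by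
        intro m hm
        have hm' : g * m * g⁻¹ ∈ M := hMn.conj_mem m hm g
        have h1 : g * m * g⁻¹ ∈ normalizer ((cj g ⊓ cj g' : Subgroup G) : Set G) :=
          mem_normalizer_iff.2 fun z => and_congr (mem_normalizer_iff.1 (hcjn g hm') z)
            (mem_normalizer_iff.1 (hcjn g' hm') z)
        refine mem_normalizer_iff.2 fun z => ?_
        have hK' : ∀ w, w ∈ K ↔ g * w * g⁻¹ ∈ cj g ⊓ cj g' := fun w => by
          constructor
          · rintro ⟨v, hv, rfl⟩; simpa [MulAut.conj_apply, mul_assoc] using hv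
          · intro h; exact ⟨_, h, by simp [mul_assoc]⟩
        rw [hK', hK', show g * (m * z * m⁻¹) * g⁻¹ =
          (g * m * g⁻¹) * (g * z * g⁻¹) * (g * m * g⁻¹)⁻¹ by group]
        exact mem_normalizer_iff.1 h1 _
      rcases hTmin K hK hKn with h | h
      · rwa [map_eq_bot_iff_of_injective _ (MulEquiv.injective _)] at h
      · exfalso
        apply hne
        have h1 : Nat.card (cj g ⊓ cj g' : Subgroup G) = Nat.card T := by
          rw [← h]; exact (card_map_of_injective (MulEquiv.injective _)).symm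
        have h2 : ∀ a, Nat.card (cj a) = Nat.card T := fun a =>
          card_map_of_injective (MulEquiv.injective _)
        exact ((eq_of_le_of_card_ge inf_le_left (by rw [h1, h2])).symm).trans
          (eq_of_le_of_card_ge inf_le_right (by rw [h1, h2]))
    have hmem : x * y * x⁻¹ * y⁻¹ ∈ cj g ⊓ cj g' :=
      ⟨by rw [show x * y * x⁻¹ * y⁻¹ = x * (y * x⁻¹ * y⁻¹) by group]
          exact Subgroup.mul_mem _ hx
            ((mem_normalizer_iff.1 (hcjn g (hcjM g' hy)) _).1 ((cj g).inv_mem hx)),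
        Subgroup.mul_mem _ ((mem_normalizer_iff.1 (hcjn g' (hcjM g hx)) y).1 hy) ((cj g').inv_mem hy)⟩
    rw [hinf, mem_bot] at hmem
    calc x * y = x * y * x⁻¹ * y⁻¹ * (y * x) := by group
      _ = y * x := by rw [hmem, one_mul]
  have hT1 : cj 1 = T := by
    ext x; rw [hmem_cj]; simp
  have hgen : (⨆ g, cj g) = M := by
    set S := ⨆ g, cj g with hS
    have hSn : S.Normal := by
      refine ⟨fun x hx a => ?_⟩
      have hle : S ≤ S.comap (MulAut.conj a).toMonoidHom := iSup_le fun g y hy => by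
        refine mem_iSup_of_mem (a * g) ((hmem_cj _ _).2 ?_)
        show (a * g)⁻¹ * (a * y * a⁻¹) * (a * g) ∈ T
        rw [show (a * g)⁻¹ * (a * y * a⁻¹) * (a * g) = g⁻¹ * y * g by group]
        exact (hmem_cj g y).1 hy
      exact hle hx
    refine (hMmin S hSn (iSup_le hcjM)).resolve_left fun h => hTne ?_
    rw [eq_bot_iff, ← h, ← hT1]
    exact le_iSup cj 1
  have hnotcomm : ∃ a ∈ T, ∃ b ∈ T, a * b ≠ b * a := by
    by_contra hcon
    push Not at hcon
    apply hMc
    have hall : ∀ g g', ∀ x ∈ cj g, ∀ y ∈ cj g', x * y = y * x := by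
      intro g g' x hx y hy
      rcases eq_or_ne (cj g) (cj g') with e | e
      · have hy' : y ∈ cj g := e.symm ▸ hy
        have := hcon _ ((hmem_cj g x).1 hx) _ ((hmem_cj g y).1 hy')
        calc x * y = g * ((g⁻¹ * x * g) * (g⁻¹ * y * g)) * g⁻¹ := by group
          _ = g * ((g⁻¹ * y * g) * (g⁻¹ * x * g)) * g⁻¹ := by rw [this]
          _ = y * x := by group
      · exact hcomm g g' e x hx y hy
    intro x hx y hy
    have h1 : ∀ g, cj g ≤ centralizer (M : Set G) := by
      intro g u hu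
      refine mem_centralizer_iff.2 fun z hz => ?_
      have hM' : M ≤ centralizer ({u} : Set G) := by
        rw [← hgen]
        exact iSup_le fun g' w hw => mem_centralizer_singleton_iff.2 (hall g' g w hw u hu)
      exact mem_centralizer_singleton_iff.1 (hM' hz)
    have hMC : M ≤ centralizer (M : Set G) := by
      conv_lhs => rw [← hgen]
      exact iSup_le h1
    exact (mem_centralizer_iff.1 (hMC hx) y hy).symm
  set C1 := M ⊓ centralizer (T : Set G) with hC1
  have hother : ∀ g, cj g ≠ T → cj g ≤ C1 := fun g hg x hx =>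
    ⟨hcjM g hx, mem_centralizer_iff.2 fun y hy =>
      hcomm 1 g (by rw [hT1]; exact hg.symm) y (hT1.symm ▸ hy) x hx⟩
  have hTs : IsSimpleGroup T := by
    haveI : Nontrivial T := (nontrivial_iff_ne_bot T).2 hTne
    refine ⟨fun K hK => ?_⟩
    have hKT : K.map T.subtype ≤ T := map_subtype_le _
    have hKn : M ≤ normalizer ((K.map T.subtype : Subgroup G) : Set G) := by
      rw [← hgen]
      refine iSup_le fun g => ?_
      rcases eq_or_ne (cj g) T with e | e
      · rw [e]
        intro a ha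
        refine mem_normalizer_iff.2 fun z => ⟨?_, ?_⟩
        · rintro ⟨y, hy, rfl⟩
          exact ⟨_, hK.conj_mem y hy ⟨a, ha⟩, rfl⟩
        · rintro ⟨y, hy, hyz⟩
          refine ⟨_, hK.conj_mem y hy ⟨a, ha⟩⁻¹, ?_⟩
          show a⁻¹ * (y : G) * a⁻¹⁻¹ = z
          rw [show (y : G) = a * z * a⁻¹ from hyz]; group
      · exact fun a ha => centralizer_le_normalizer _ (mem_centralizer_iff.2 fun y hy =>
          mem_centralizer_iff.1 (hother g e ha).2 y (hKT hy))
    rcases hTmin _ hKT hKn with h | h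
    · exact Or.inl ((map_eq_bot_iff_of_injective _ T.subtype_injective).1 h)
    · refine Or.inr (eq_top_iff.2 fun x _ => ?_)
      obtain ⟨y, hy, e⟩ := (h.symm ▸ x.2 : (x : G) ∈ K.map T.subtype)
      exact Subtype.ext e ▸ hy
  have hTcen : T ⊓ centralizer (T : Set G) = ⊥ := by
    refine (eq_bot_iff_forall _).2 fun x hx => ?_
    have hc : (⟨x, hx.1⟩ : T) ∈ center T := mem_center_iff.2 fun g =>
      Subtype.ext (mem_centralizer_iff.1 hx.2 g g.2)
    rcases hTs.eq_bot_or_eq_top_of_normal (center T) inferInstance with h | h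
    · rw [h, mem_bot] at hc
      exact congrArg Subtype.val hc
    · obtain ⟨a, ha, b, hb, hab⟩ := hnotcomm
      have hb' : (⟨b, hb⟩ : T) ∈ center T := h ▸ mem_top _
      exact absurd (congrArg Subtype.val (mem_center_iff.1 hb' ⟨a, ha⟩)) hab
  have hsup : T ⊔ C1 = M := by
    refine le_antisymm (sup_le hTM inf_le_left) ?_
    rw [← hgen]
    refine iSup_le fun g => ?_
    rcases eq_or_ne (cj g) T with e | e
    · rw [e]; exact le_sup_left
    · exact (hother g e).trans le_sup_right
  exact ⟨T, hTM, hTne, hTs, hnotcomm, hTn, hTcen, hsup, hother, hgen⟩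

end Cfsg.Agent.Struct
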