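import Mathlib
import Cfsg.Agent.Lib.Struct.MinimalNormalFactor
import Cfsg.Agent.Lib.Struct.ClassSize
import Cfsg.Agent.Lib.Char.Burnside

/-!
Primitive groups with few conjugacy classes of derangements: if there are at most two classes and the group
is not almost simple, then it is affine.
-/

set_option autoImplicit false

namespace Cfsg.Agent.Struct.Derange

open Subgroup MulAction

universe u v

variable {G : Type u} [Group G] {Ω : Type v} [MulAction G Ω]

/-- `g` fixes no point. -/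
def NoFix (Ω : Type v) [MulAction G Ω] (g : G) : Prop := ∀ ω : Ω, g • ω ≠ ω

theorem NoFix.conj {g : G} (h : NoFix Ω g) (a : G) : NoFix Ω (a * g * a⁻¹) := fun ω e =>
  h (a⁻¹ • ω) (by
    rw [mul_smul, mul_smul] at e
    exact eq_inv_smul_iff.2 e)

theorem NoFix.ne_one [Nonempty Ω] {g : G} (h : NoFix Ω g) : g ≠ 1 := by
  rintro rfl
  exact h (Classical.arbitrary Ω) (one_smul _ _)

theorem noFix_of_isConj {g g' : G} (h : IsConj g g') (hg : NoFix Ω g) : NoFix Ω g' := by
  obtain ⟨a, ha⟩ := isConj_iff.1 h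
  exact ha ▸ hg.conj a

theorem three_le_card [Finite G] {x y z : G} (hx : NoFix Ω x) (hy : NoFix Ω y) (hz : NoFix Ω z)
    (hxy : ¬ IsConj x y) (hxz : ¬ IsConj x z) (hyz : ¬ IsConj y z) :
    3 ≤ Nat.card {c : ConjClasses G // ∃ g : G, ConjClasses.mk g = c ∧ ∀ ω : Ω, g • ω ≠ ω} := by
  let f : Fin 3 → {c : ConjClasses G // ∃ g : G, ConjClasses.mk g = c ∧ ∀ ω : Ω, g • ω ≠ ω} :=
    ![⟨_, x, rfl, hx⟩, ⟨_, y, rfl, hy⟩, ⟨_, z, rfl, hz⟩]
  have hf : Function.Injective f := by
    intro i j e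
    have e' := congrArg Subtype.val e
    fin_cases i <;> fin_cases j <;>
      first
        | rfl
        | exact absurd (ConjClasses.mk_eq_mk_iff_isConj.1 e') hxy
        | exact absurd (ConjClasses.mk_eq_mk_iff_isConj.1 e').symm hxy
        | exact absurd (ConjClasses.mk_eq_mk_iff_isConj.1 e') hxz
        | exact absurd (ConjClasses.mk_eq_mk_iff_isConj.1 e').symm hxz
        | exact absurd (ConjClasses.mk_eq_mk_iff_isConj.1 e') hyz
        | exact absurd (ConjClasses.mk_eq_mk_iff_isConj.1 e').symm hyz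
  simpa using Nat.card_le_card_of_injective f hf

/-- A non-abelian simple group has elements of three different prime orders. -/
theorem exists_three_prime_orders (T : Type u) [Group T] [Finite T] [IsSimpleGroup T]
    (hT : ∃ a b : T, a * b ≠ b * a) :
    ∃ x y z : T, (orderOf x).Prime ∧ (orderOf y).Prime ∧ (orderOf z).Prime ∧
      orderOf x ≠ orderOf y ∧ orderOf x ≠ orderOf z ∧ orderOf y ≠ orderOf z := by
  classical
  have hns : ¬ Group.IsSolvable T := fun h => by
    obtain ⟨a, b, hab⟩ := hT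
    exact hab (IsSimpleGroup.comm_iff_isSolvable.2 h a b)
  have h0 : Nat.card T ≠ 0 := Nat.card_pos.ne'
  have h3 : 2 < (Nat.card T).primeFactors.card := by
    by_contra hle
    push Not at hle
    apply hns
    have hprod := (Nat.prod_factorization_pow_eq_self h0)
    rw [Finsupp.prod, Nat.support_factorization] at hprod
    obtain hc | hc | hc : (Nat.card T).primeFactors.card = 0 ∨
        (Nat.card T).primeFactors.card = 1 ∨ (Nat.card T).primeFactors.card = 2 := by omega
    · rw [Finset.card_eq_zero] at hc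
      refine Cfsg.Agent.Char.solvable_of_card_prime_pow_mul 2 2 Nat.prime_two Nat.prime_two _ T rfl
        ⟨0, 0, ?_⟩
      rw [← hprod, hc]; simp
    · obtain ⟨p, hp⟩ := Finset.card_eq_one.1 hc
      have hpp : p.Prime := Nat.prime_of_mem_primeFactors (hp ▸ Finset.mem_singleton_self p)
      refine Cfsg.Agent.Char.solvable_of_card_prime_pow_mul p p hpp hpp _ T rfl
        ⟨(Nat.card T).factorization p, 0, ?_⟩
      conv_lhs => rw [← hprod]
      rw [hp, Finset.prod_singleton, pow_zero, mul_one]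
    · obtain ⟨p, q, hpq, hp⟩ := Finset.card_eq_two.1 hc
      have hpp : p.Prime := Nat.prime_of_mem_primeFactors (hp ▸ Finset.mem_insert_self p _)
      have hqq : q.Prime := Nat.prime_of_mem_primeFactors
        (hp ▸ Finset.mem_insert_of_mem (Finset.mem_singleton_self q))
      refine Cfsg.Agent.Char.solvable_of_card_prime_pow_mul p q hpp hqq _ T rfl
        ⟨(Nat.card T).factorization p, (Nat.card T).factorization q, ?_⟩
      conv_lhs => rw [← hprod]
      rw [hp, Finset.prod_pair hpq]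
  obtain ⟨p, q, r, hp, hq, hr, hpq, hpr, hqr⟩ := Finset.two_lt_card_iff.1 h3
  have key : ∀ {p : ℕ}, p ∈ (Nat.card T).primeFactors → ∃ x : T, orderOf x = p ∧ p.Prime := by
    intro p hp
    haveI : Fact p.Prime := ⟨Nat.prime_of_mem_primeFactors hp⟩
    obtain ⟨x, hx⟩ := exists_prime_orderOf_dvd_card' p (Nat.dvd_of_mem_primeFactors hp)
    exact ⟨x, hx, Fact.out⟩
  obtain ⟨x, hx, hxp⟩ := key hp
  obtain ⟨y, hy, hyp⟩ := key hq
  obtain ⟨z, hz, hzp⟩ := key hr
  exact ⟨x, y, z, by rwa [hx], by rwa [hy], by rwa [hz], by rwa [hx, hy], by rwa [hx, hz],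
    by rwa [hy, hz]⟩

/-- Non-trivial normal subgroups of a faithful primitive group are transitive. -/
theorem transitive_of_normal [FaithfulSMul G Ω] (hprim : IsPreprimitive G Ω) (N : Subgroup G)
    [hN : N.Normal] (hne : N ≠ ⊥) (a b : Ω) : ∃ n ∈ N, n • a = b := by
  haveI := hprim
  have hfix : fixedPoints N Ω ≠ Set.univ := by
    intro h
    refine hne ((eq_bot_iff_forall _).2 fun x hx =>
      FaithfulSMul.eq_of_smul_eq_smul (α := Ω) fun w => ?_)
    rw [one_smul]
    exact (h ▸ Set.mem_univ w : w ∈ fixedPoints N Ω) ⟨x, hx⟩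
  haveI := IsQuasiPreprimitive.isPretransitive_of_normal (G := G) (X := Ω) hfix
  obtain ⟨⟨n, hn⟩, hn'⟩ := exists_smul_eq N a b
  exact ⟨n, hn, hn'⟩

/-- With at most two classes of derangements a primitive group is almost simple or affine. -/
theorem affine_of_card_le_two [Finite G] [FaithfulSMul G Ω] [Nontrivial Ω]
    (hprim : IsPreprimitive G Ω)
    (hnas : ¬ ∃ T : Subgroup G, T.Normal ∧ IsSimpleGroup T ∧ ¬ IsMulCommutative T ∧
      centralizer (T : Set G) = ⊥)
    (hκ : Nat.card {c : ConjClasses G // ∃ g : G, ConjClasses.mk g = c ∧ ∀ ω : Ω, g • ω ≠ ω} ≤ 2) :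
    ∃ N : Subgroup G, N.Normal ∧ N ≠ ⊥ ∧ (∀ x ∈ N, ∀ y ∈ N, x * y = y * x) ∧
      ∀ n ∈ N, ∀ ω : Ω, n • ω = ω → n = 1 := by
  classical
  haveI := hprim
  haveI : Nontrivial G := by
    by_contra hn
    rw [not_nontrivial_iff_subsingleton] at hn
    obtain ⟨a, b, hab⟩ := exists_pair_ne Ω
    obtain ⟨g, hg⟩ := exists_smul_eq G a b
    rw [Subsingleton.elim g 1, one_smul] at hg
    exact hab hg
  obtain ⟨M, hMn, -, hMne, hMmin⟩ :=
    Cfsg.Agent.Solv.exists_minimal_normal_le (N := (⊤ : Subgroup G)) top_ne_bot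
  haveI := hMn
  by_cases hMc : ∀ x ∈ M, ∀ y ∈ M, x * y = y * x
  · refine ⟨M, hMn, hMne, hMc, fun x hx w hw =>
      FaithfulSMul.eq_of_smul_eq_smul (α := Ω) fun b => ?_⟩
    obtain ⟨n, hn, rfl⟩ := transitive_of_normal hprim M hMne w b
    rw [one_smul, ← mul_smul, hMc x hx n hn, mul_smul, hw]
  exfalso
  obtain ⟨T, hT⟩ := exists_simpleFactor hMne hMmin hMc
  haveI := hT.simple
  obtain ⟨α⟩ : Nonempty Ω := inferInstance
  have htr := transitive_of_normal hprim M hMne
  by_cases hTα : ∀ t ∈ T, t • α = α → t = 1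
  · -- the factor is semiregular
    obtain ⟨x, y, z, hx, hy, hz, hxy, hxz, hyz⟩ := exists_three_prime_orders T (by
      obtain ⟨a, ha, b, hb, hab⟩ := hT.noncomm
      exact ⟨⟨a, ha⟩, ⟨b, hb⟩, fun e => hab (congrArg Subtype.val e)⟩)
    have hsemi : ∀ t : T, (orderOf t).Prime → NoFix Ω (t : G) := by
      intro t ht ω hω
      obtain ⟨m, hm, rfl⟩ := htr α ω
      have hmem : m⁻¹ * t * m ∈ T :=
        (mem_normalizer_iff''.1 (hT.le_normalizer hm) t).1 t.2
      have h1 := hTα _ hmem (by rw [mul_smul, mul_smul, hω, inv_smul_smul])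
      have h2 : t = 1 := Subtype.ext (by
        calc (t : G) = m * (m⁻¹ * t * m) * m⁻¹ := by group
          _ = 1 := by rw [h1]; group)
      rw [h2, orderOf_one] at ht
      exact Nat.not_prime_one ht
    have hne : ∀ {s t : T}, orderOf s ≠ orderOf t → ¬ IsConj (s : G) (t : G) := by
      intro s t hst e
      apply hst
      rw [← Subgroup.orderOf_coe s, ← Subgroup.orderOf_coe t]
      obtain ⟨a, ha⟩ := isConj_iff.1 e
      rw [← ha, ← MulAut.conj_apply, MulEquiv.orderOf_eq]
    have := three_le_card (hsemi x hx) (hsemi y hy) (hsemi z hz) (hne hxy) (hne hxz) (hne hyz)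
    omega
  push Not at hTα
  obtain ⟨s0, hs0T, hs0α, hs01⟩ := hTα
  -- there is a second factor
  obtain ⟨g1, hg1⟩ : ∃ g, T.map (MulAut.conj g).toMonoidHom ≠ T := by
    by_contra hall
    push Not at hall
    have hTM : T = M := by
      rw [← hT.iSup_eq]
      exact (iSup_congr hall).trans iSup_const |>.symm
    subst hTM
    refine hnas ⟨T, hMn, hT.simple, fun h => ?_, ?_⟩
    · obtain ⟨a, ha, b, hb, hab⟩ := hT.noncomm
      exact hab (congrArg Subtype.val (h.is_comm.comm (⟨a, ha⟩ : T) ⟨b, hb⟩))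
    · by_contra hC
      haveI : (centralizer (T : Set G)).Normal := inferInstance
      apply hs01
      refine FaithfulSMul.eq_of_smul_eq_smul (α := Ω) fun b => ?_
      obtain ⟨c, hc, rfl⟩ := transitive_of_normal hprim (centralizer (T : Set G)) hC α b
      rw [one_smul, ← mul_smul, (mem_centralizer_iff.1 hc s0 hs0T), mul_smul, hs0α]
  -- an element of `T` with no fixed-point partner
  have hmem_cj : ∀ g x, x ∈ T.map (MulAut.conj g).toMonoidHom ↔ g⁻¹ * x * g ∈ T := by
    intro g x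
    constructor
    · rintro ⟨y, hy, rfl⟩
      simpa [MulAut.conj_apply, mul_assoc] using hy
    · intro h
      exact ⟨_, h, by simp [mul_assoc]⟩
  set C1 := M ⊓ centralizer (T : Set G) with hC1
  set H := stabilizer G α
  set Mα := M ⊓ H with hMα
  obtain ⟨t, htT, htbad⟩ : ∃ t ∈ T, ∀ c ∈ C1, NoFix Ω (t * c) := by
    set P := (Mα ⊔ C1) ⊓ T with hP
    have hPT : P.subgroupOf T ≠ ⊤ := by
      intro h
      rw [subgroupOf_eq_top] at h
      -- then the stabilizer meets T in a normal subgroup of T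
      have hn : T ≤ normalizer ((T ⊓ Mα : Subgroup G) : Set G) := by
        intro s hs
        have h1 : (Mα ⊔ C1) ≤ normalizer ((T ⊓ Mα : Subgroup G) : Set G) := by
          refine sup_le (fun a ha => ?_) (fun c hc => ?_)
          · exact mem_normalizer_iff.2 fun x => and_congr
              (mem_normalizer_iff.1 (hT.le_normalizer ha.1) x)
              (mem_normalizer_iff.1 (le_normalizer ha) x)
          · refine centralizer_le_normalizer _ (mem_centralizer_iff.2 fun y hy => ?_)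
            exact mem_centralizer_iff.1 hc.2 y hy.1
        exact h1 (h hs).1
      have hn' : ((T ⊓ Mα).subgroupOf T).Normal :=
        ⟨fun y hy s => (mem_normalizer_iff.1 (hn s.2) y).1 hy⟩
      rcases IsSimpleGroup.eq_bot_or_eq_top_of_normal _ hn' with e | e
      · apply hs01
        have hmem : (⟨s0, hs0T⟩ : T) ∈ (T ⊓ Mα).subgroupOf T := ⟨hs0T, hT.le hs0T, hs0α⟩
        rw [e, mem_bot] at hmem
        exact congrArg Subtype.val hmem
      · rw [subgroupOf_eq_top] at e
        have hTH : T ≤ H := fun x hx => (e hx).2.2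
        -- conjugates of T by elements of the stabilizer generate M
        have hMH : M ≤ H := by
          rw [← hT.iSup_eq]
          refine iSup_le fun g => ?_
          obtain ⟨m, hm, hmg⟩ := htr α (g⁻¹ • α)
          have hgm : g * m ∈ H := mem_stabilizer_iff.2 (by rw [mul_smul, hmg, smul_inv_smul])
          rintro _ ⟨x, hx, rfl⟩
          have hx' : m⁻¹ * x * m ∈ T :=
            (mem_normalizer_iff''.1 (hT.le_normalizer hm) x).1 hx
          show g * x * g⁻¹ ∈ H
          rw [show g * x * g⁻¹ = g * m * (m⁻¹ * x * m) * (g * m)⁻¹ by group]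
          exact Subgroup.mul_mem _ (Subgroup.mul_mem _ hgm (hTH hx')) (Subgroup.inv_mem _ hgm)
        obtain ⟨a, b, hab⟩ := exists_pair_ne Ω
        have hfa : ∀ w : Ω, w = α := fun w => by
          obtain ⟨m, hm, rfl⟩ := htr α w
          exact hMH hm
        exact hab ((hfa a).trans (hfa b).symm)
    obtain ⟨t, ht⟩ := exists_forall_conj_notMem hPT
    refine ⟨t, t.2, fun c hc ω hω => ?_⟩
    obtain ⟨m, hm, rfl⟩ := htr α ω
    obtain ⟨v, hv, d, hd, rfl⟩ := hT.exists_decomp hm
    apply ht ⟨v, hv⟩⁻¹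
    show v⁻¹ * (t : G) * v⁻¹⁻¹ ∈ P
    rw [inv_inv]
    have hu : v⁻¹ * t * v ∈ T :=
      Subgroup.mul_mem _ (Subgroup.mul_mem _ (T.inv_mem hv) t.2) hv
    refine ⟨?_, hu⟩
    have hfixm : (v * d)⁻¹ * (t * c) * (v * d) ∈ Mα := by
      refine ⟨Subgroup.mul_mem _ (Subgroup.mul_mem _ (M.inv_mem hm)
        (M.mul_mem (hT.le t.2) hc.1)) hm, mem_stabilizer_iff.2 ?_⟩
      rw [mul_smul, mul_smul, hω, inv_smul_smul]
    have hcom : ∀ a ∈ T, ∀ b ∈ C1, a * b = b * a := fun a ha b hb => mem_centralizer_iff.1 hb.2 a ha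
    have hy : v⁻¹ * c * v = c := by
      rw [mul_assoc, ← hcom v hv c hc]; group
    have he : v⁻¹ * t * v = (v * d)⁻¹ * (t * c) * (v * d) * (d⁻¹ * c * d)⁻¹ := by
      have h2 : d⁻¹ * (v⁻¹ * t * v) = (v⁻¹ * t * v) * d⁻¹ :=
        (hcom _ hu _ (C1.inv_mem hd)).symm
      calc v⁻¹ * t * v = (v⁻¹ * t * v) * d⁻¹ * d := by group
        _ = d⁻¹ * (v⁻¹ * t * v) * d := by rw [h2]
        _ = d⁻¹ * (v⁻¹ * t * v) * (v⁻¹ * c * v) * c⁻¹ * d := by rw [hy]; group
        _ = _ := by group
    rw [he]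
    exact Subgroup.mul_mem _ (mem_sup_left hfixm)
      (mem_sup_right (C1.inv_mem (C1.mul_mem (C1.mul_mem (C1.inv_mem hd) hc) hd)))
  -- transport to the factor of `g1`
  have hC1le : T.map (MulAut.conj g1).toMonoidHom ≤ C1 := hT.other g1 hg1
  have hconjC : ∀ g c, c ∈ M → (∀ u ∈ T, g * u * g⁻¹ * c = c * (g * u * g⁻¹)) →
      g⁻¹ * c * g ∈ C1 := by
    intro g c hc hcomm
    refine ⟨by simpa using hMn.conj_mem c hc g⁻¹, mem_centralizer_iff.2 fun u hu => ?_⟩
    calc u * (g⁻¹ * c * g) = g⁻¹ * (g * u * g⁻¹ * c) * g := by group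
      _ = g⁻¹ * (c * (g * u * g⁻¹)) * g := by rw [hcomm u hu]
      _ = g⁻¹ * c * g * u := by group
  set s' := g1 * s0 * g1⁻¹ with hs'
  set t' := g1 * t * g1⁻¹ with ht'
  have hs'mem : s' ∈ T.map (MulAut.conj g1).toMonoidHom := ⟨s0, hs0T, rfl⟩
  have ht'mem : t' ∈ T.map (MulAut.conj g1).toMonoidHom := ⟨t, htT, rfl⟩
  haveI : Nonempty Ω := ⟨α⟩
  have ht1 : t ≠ 1 := by
    have h := htbad 1 (one_mem _)
    rw [mul_one] at h
    exact h.ne_one
  have hd1 : NoFix Ω t := by have h := htbad 1 (one_mem _); rwa [mul_one] at h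
  have hd2 := htbad s' (hC1le hs'mem)
  have hd3 := htbad t' (hC1le ht'mem)
  have hnot : ∀ c ∈ T.map (MulAut.conj g1).toMonoidHom, c ≠ 1 → ¬ IsConj t (t * c) := by
    intro c hc hc1 hconj
    obtain ⟨g, hg⟩ := isConj_iff.1 hconj
    by_cases e : T.map (MulAut.conj g).toMonoidHom = T
    · have h1 : g * t * g⁻¹ ∈ T := e ▸ ⟨t, htT, rfl⟩
      rw [hg] at h1
      have h2 : c ∈ T := by
        rw [show c = t⁻¹ * (t * c) by group]
        exact T.mul_mem (T.inv_mem htT) h1
      have h3 : c ∈ T ⊓ centralizer (T : Set G) := ⟨h2, (hC1le hc).2⟩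
      rw [hT.inf_centralizer, mem_bot] at h3
      exact hc1 h3
    · have h1 : g * t * g⁻¹ ∈ C1 := hT.other g e ⟨t, htT, rfl⟩
      rw [hg] at h1
      have h2 : t ∈ T ⊓ centralizer (T : Set G) := by
        refine ⟨htT, ?_⟩
        rw [show t = (t * c) * c⁻¹ by group]
        exact (C1.mul_mem h1 (C1.inv_mem (hC1le hc))).2
      rw [hT.inf_centralizer, mem_bot] at h2
      exact ht1 h2
  have ht'1 : t' ≠ 1 := fun e => ht1 (conj_eq_one_iff.1 e)
  have hs'1 : s' ≠ 1 := fun e => hs01 (conj_eq_one_iff.1 e)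
  have h32 : ¬ IsConj (t * t') (t * s') := by
    intro hconj
    obtain ⟨g, hg⟩ := isConj_iff.1 hconj
    set a := g * t * g⁻¹ with ha
    set b := g * g1 * t * (g * g1)⁻¹ with hb
    have hab : a * b = t * s' := by rw [← hg, ha, hb, ht']; group
    have haC : a ∈ T.map (MulAut.conj g).toMonoidHom := ⟨t, htT, rfl⟩
    have hbC : b ∈ T.map (MulAut.conj (g * g1)).toMonoidHom := ⟨t, htT, rfl⟩
    have hne : T.map (MulAut.conj g).toMonoidHom ≠ T.map (MulAut.conj (g * g1)).toMonoidHom := by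
      intro e
      apply hg1
      have := congrArg (Subgroup.map (MulAut.conj g⁻¹).toMonoidHom) e
      rw [map_map, map_map] at this
      refine Eq.trans ?_ (this.symm.trans ?_)
      · congr 1; ext z; simp [mul_assoc]
      · conv_rhs => rw [← Subgroup.map_id T]
        congr 1; ext z; simp [mul_assoc]
    have hcomab : a * b = b * a := by
      have : t * t' = t' * t := mem_centralizer_iff.1 (hC1le ht'mem).2 t htT
      calc a * b = g * (t * t') * g⁻¹ := by rw [ha, hb, ht']; group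
        _ = g * (t' * t) * g⁻¹ := by rw [this]
        _ = b * a := by rw [ha, hb, ht']; group
    -- a factor other than the two would be trivial
    have key : ∀ g2 a' b' : G, a' = g2 * t * g2⁻¹ → b' ∈ M → a' * b' = t * s' →
        (∀ u ∈ T, g2 * u * g2⁻¹ * b' = b' * (g2 * u * g2⁻¹)) →
        T.map (MulAut.conj g2).toMonoidHom = T.map (MulAut.conj g1).toMonoidHom → False := by
      intro g2 a' b' ha' hb'M he hcom hcj
      -- both decompose `t * s'` along the factor of `g1`
      have e1 : t * s' = g1 * (s0 * (g1⁻¹ * t * g1)) * g1⁻¹ := by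
        have : t * s' = s' * t := mem_centralizer_iff.1 (hC1le hs'mem).2 t htT
        rw [this, hs']; group
      have hu : g1⁻¹ * a' * g1 ∈ T := (hmem_cj g1 a').1 (hcj ▸ ⟨t, htT, ha'.symm⟩)
      have hb'C : g1⁻¹ * b' * g1 ∈ C1 := by
        refine hconjC g1 b' hb'M fun u hu' => ?_
        have : g1 * u * g1⁻¹ ∈ T.map (MulAut.conj g2).toMonoidHom := hcj ▸ ⟨u, hu', rfl⟩
        obtain ⟨w, hw, e⟩ := this
        rw [← (show g2 * w * g2⁻¹ = g1 * u * g1⁻¹ from e)]
        exact hcom w hw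
      have htC : g1⁻¹ * t * g1 ∈ C1 := by
        refine hconjC g1 t (hT.le htT) fun u hu' => ?_
        exact (mem_centralizer_iff.1 (hC1le ⟨u, hu', rfl⟩).2 t htT).symm
      have he2 : (g1⁻¹ * a' * g1) * (g1⁻¹ * b' * g1) = s0 * (g1⁻¹ * t * g1) := by
        calc (g1⁻¹ * a' * g1) * (g1⁻¹ * b' * g1) = g1⁻¹ * (a' * b') * g1 := by group
          _ = _ := by rw [he, e1]; group
      obtain ⟨e3, -⟩ := hT.decomp_unique hu hs0T hb'C.2 htC.2 he2
      -- so `a'` is conjugate to `s0`, which fixes `α`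
      have hd : NoFix Ω a' := ha' ▸ hd1.conj g2
      apply hd (g1 • α)
      calc a' • g1 • α = g1 • ((g1⁻¹ * a' * g1) • α) := by rw [← mul_smul, ← mul_smul]; group
        _ = g1 • α := by rw [e3, hs0α]
    have haM : a ∈ M := hMn.conj_mem t (hT.le htT) g
    have hbM : b ∈ M := hMn.conj_mem t (hT.le htT) (g * g1)
    have hcomm1 : ∀ u ∈ T, g * u * g⁻¹ * b = b * (g * u * g⁻¹) := by
      intro u hu
      have : u * t' = t' * u := mem_centralizer_iff.1 (hC1le ht'mem).2 u hu
      calc g * u * g⁻¹ * b = g * (u * t') * g⁻¹ := by rw [hb, ht']; group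
        _ = g * (t' * u) * g⁻¹ := by rw [this]
        _ = _ := by rw [hb, ht']; group
    have hcomm2 : ∀ u ∈ T, g * g1 * u * (g * g1)⁻¹ * a = a * (g * g1 * u * (g * g1)⁻¹) := by
      intro u hu
      have hu' : g1 * u * g1⁻¹ ∈ C1 := hC1le ⟨u, hu, rfl⟩
      have : t * (g1 * u * g1⁻¹) = g1 * u * g1⁻¹ * t := mem_centralizer_iff.1 hu'.2 t htT
      calc g * g1 * u * (g * g1)⁻¹ * a = g * (g1 * u * g1⁻¹ * t) * g⁻¹ := by rw [ha]; group
        _ = g * (t * (g1 * u * g1⁻¹)) * g⁻¹ := by rw [this]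
        _ = _ := by rw [ha]; group
    -- one of the two is the factor of `g1`
    by_cases e1 : T.map (MulAut.conj g).toMonoidHom = T.map (MulAut.conj g1).toMonoidHom
    · exact key g a b rfl hbM hab hcomm1 e1
    by_cases e2 : T.map (MulAut.conj (g * g1)).toMonoidHom = T.map (MulAut.conj g1).toMonoidHom
    · exact key (g * g1) b a rfl haM (hcomab ▸ hab) hcomm2 e2
    -- otherwise `s'` would be trivial
    apply hs'1
    have hout : ∀ g2, T.map (MulAut.conj g2).toMonoidHom ≠ T.map (MulAut.conj g1).toMonoidHom →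
        ∀ x ∈ T.map (MulAut.conj g2).toMonoidHom, g1⁻¹ * x * g1 ∈ C1 := by
      intro g2 hne2 x hx
      have hne' : T.map (MulAut.conj (g1⁻¹ * g2)).toMonoidHom ≠ T := by
        intro e
        apply hne2
        have := congrArg (Subgroup.map (MulAut.conj g1).toMonoidHom) e
        rw [map_map] at this
        rw [← this]
        congr 1; ext z; simp [mul_assoc]
      refine hT.other _ hne' ((hmem_cj _ _).2 ?_)
      rw [show (g1⁻¹ * g2)⁻¹ * (g1⁻¹ * x * g1) * (g1⁻¹ * g2) = g2⁻¹ * x * g2 by group]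
      exact (hmem_cj g2 x).1 hx
    have h1 : g1⁻¹ * (t * s') * g1 ∈ C1 := by
      rw [← hab, show g1⁻¹ * (a * b) * g1 = (g1⁻¹ * a * g1) * (g1⁻¹ * b * g1) by group]
      exact C1.mul_mem (hout g e1 a haC) (hout (g * g1) e2 b hbC)
    have htC : g1⁻¹ * t * g1 ∈ C1 := hout 1 (fun e => hg1 (by
      rw [← e]; conv_rhs => rw [← Subgroup.map_id T]
      congr 1; ext z; simp)) t ((hmem_cj 1 t).2 (by simpa using htT))
    have h2 : s0 ∈ T ⊓ centralizer (T : Set G) := by
      refine ⟨hs0T, ?_⟩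
      rw [show s0 = (g1⁻¹ * t * g1)⁻¹ * (g1⁻¹ * (t * s') * g1) by rw [hs']; group]
      exact (C1.mul_mem (C1.inv_mem htC) h1).2
    rw [hT.inf_centralizer, mem_bot] at h2
    rw [hs', h2]; group
  have := three_le_card hd1 hd2 hd3 (hnot s' hs'mem hs'1) (hnot t' ht'mem ht'1)
    (fun e => h32 e.symm)
  omega

/-- In an affine group where every derangement lies in the regular normal subgroup, no non-identity element
fixes two points. -/
theorem fix_le_one_of_noFix_mem [Finite G] [FaithfulSMul G Ω] (hprim : IsPreprimitive G Ω)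
    (N : Subgroup G) [N.Normal] (hne : N ≠ ⊥) (hab : ∀ x ∈ N, ∀ y ∈ N, x * y = y * x)
    (hreg : ∀ n ∈ N, ∀ ω : Ω, n • ω = ω → n = 1)
    (hall : ∀ g : G, NoFix Ω g → g ∈ N) :
    ∀ g : G, g ≠ 1 → ∀ a b : Ω, a ≠ b → g • a = a → g • b ≠ b := by
  intro g hg a b hne2 ha hb
  haveI : Finite N := inferInstance
  have htr := transitive_of_normal hprim N hne a
  let f : N → N := fun n => ⟨g * n * g⁻¹ * (n : G)⁻¹,
    N.mul_mem (Subgroup.Normal.conj_mem inferInstance (n : G) n.2 g) (N.inv_mem n.2)⟩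
  have hginv : g⁻¹ • a = a := by rw [inv_smul_eq_iff, ha]
  have hsurj : Function.Surjective f := by
    intro m
    by_contra hm
    push Not at hm
    have hd : NoFix Ω ((m : G)⁻¹ * g) := by
      intro ω hω
      obtain ⟨n, hn, rfl⟩ := htr ω
      apply hm ⟨n, hn⟩
      refine Subtype.ext ?_
      show g * n * g⁻¹ * n⁻¹ = m
      have hconj : g * n * g⁻¹ ∈ N := Subgroup.Normal.conj_mem inferInstance n hn g
      have h1 : ((m : G)⁻¹ * (g * n * g⁻¹)) * n⁻¹ = 1 := by
        refine hreg _ (N.mul_mem (N.mul_mem (N.inv_mem m.2) hconj) (N.inv_mem hn)) (n • a) ?_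
        rw [mul_smul, inv_smul_smul]
        calc ((m : G)⁻¹ * (g * n * g⁻¹)) • a = ((m : G)⁻¹ * g) • n • (g⁻¹ • a) := by
              simp only [← mul_smul, mul_assoc]
          _ = n • a := by rw [hginv, hω]
      calc g * n * g⁻¹ * n⁻¹ = (m : G) * (((m : G)⁻¹ * (g * n * g⁻¹)) * n⁻¹) := by group
        _ = m := by rw [h1, mul_one]
    have hgN : g ∈ N := by
      have := N.mul_mem m.2 (hall _ hd)
      simpa using this
    exact hg (hreg g hgN a ha)
  have hinj : Function.Injective f := Finite.injective_iff_surjective.2 hsurj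
  obtain ⟨n, hn, rfl⟩ := htr b
  have hconj : g * n * g⁻¹ ∈ N := Subgroup.Normal.conj_mem inferInstance n hn g
  have h1 : g * n * g⁻¹ * n⁻¹ = 1 := by
    refine hreg _ (N.mul_mem hconj (N.inv_mem hn)) (n • a) ?_
    rw [mul_smul, inv_smul_smul, mul_smul, mul_smul, hginv, hb]
  have h2 := @hinj ⟨n, hn⟩ 1 (Subtype.ext (by
    show g * n * g⁻¹ * n⁻¹ = g * 1 * g⁻¹ * 1⁻¹
    rw [h1]; group))
  have h3 : n = 1 := congrArg Subtype.val h2
  exact hne2 (by rw [h3, one_smul])

/-- An affine group is doubly transitive when all non-identity translations are conjugate. -/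
theorem two_transitive_of_isConj [FaithfulSMul G Ω] (hprim : IsPreprimitive G Ω)
    (N : Subgroup G) [N.Normal] (hne : N ≠ ⊥) (hab : ∀ x ∈ N, ∀ y ∈ N, x * y = y * x)
    (hconj : ∀ x ∈ N, ∀ y ∈ N, x ≠ 1 → y ≠ 1 → IsConj x y) :
    IsMultiplyPretransitive G Ω 2 := by
  rw [is_two_pretransitive_iff]
  intro a b c d hab' hcd
  obtain ⟨n, hn, rfl⟩ := transitive_of_normal hprim N hne a b
  obtain ⟨k, hk, rfl⟩ := transitive_of_normal hprim N hne c d
  have hn1 : n ≠ 1 := fun e => hab' (by rw [e, one_smul])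
  have hk1 : k ≠ 1 := fun e => hcd (by rw [e, one_smul])
  obtain ⟨g, hg⟩ := isConj_iff.1 (hconj n hn k hk hn1 hk1)
  obtain ⟨m, hm, hmc⟩ := transitive_of_normal hprim N hne (g • a) c
  refine ⟨m * g, by rw [mul_smul, hmc], ?_⟩
  calc (m * g) • n • a = (m * (g * n * g⁻¹)) • g • a := by simp only [← mul_smul]; group
    _ = (k * m) • g • a := by rw [hg, hab m hm k hk]
    _ = k • c := by rw [mul_smul, hmc]

end Cfsg.Agent.Struct.Derange

namespace Cfsg.Agent.Struct.Derange

open Subgroup MulAction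

variable {G : Type*} [Group G] {Ω : Type*} [MulAction G Ω]

/-- In an affine group with semiregular stabilizers every derangement is a translation. -/
theorem mem_of_noFix [Finite G] [FaithfulSMul G Ω] [Nonempty Ω] (hprim : IsPreprimitive G Ω)
    (N : Subgroup G) [N.Normal] (hne : N ≠ ⊥)
    (hreg : ∀ n ∈ N, ∀ ω : Ω, n • ω = ω → n = 1)
    (hfix : ∀ g : G, g ≠ 1 → ∀ a b : Ω, a ≠ b → g • a = a → g • b ≠ b) :
    ∀ g : G, NoFix Ω g → g ∈ N := by
  intro g hg
  obtain ⟨α⟩ := ‹Nonempty Ω›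
  have htr := transitive_of_normal hprim N hne α
  obtain ⟨m, hm, hmα⟩ := htr (g • α)
  set h := m⁻¹ * g with hh
  have hhα : h • α = α := by rw [hh, mul_smul, ← hmα, inv_smul_smul]
  by_cases h1 : h = 1
  · have hgm : g = m := by rw [hh, inv_mul_eq_one] at h1; exact h1.symm
    exact hgm ▸ hm
  exfalso
  let f : N → N := fun n => ⟨h * n * h⁻¹ * (n : G)⁻¹,
    N.mul_mem (Subgroup.Normal.conj_mem inferInstance (n : G) n.2 h) (N.inv_mem n.2)⟩
  have hinj : Function.Injective f := by
    intro u v e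
    have e' : h * u * h⁻¹ * (u : G)⁻¹ = h * v * h⁻¹ * (v : G)⁻¹ := congrArg Subtype.val e
    refine Subtype.ext ?_
    by_contra hne'
    have hw : h * ((v : G)⁻¹ * u) * h⁻¹ = (v : G)⁻¹ * u := by
      calc h * ((v : G)⁻¹ * u) * h⁻¹ = (h * v * h⁻¹)⁻¹ * (h * u * h⁻¹ * (u : G)⁻¹) * u := by group
        _ = (v : G)⁻¹ * u := by rw [e']; group
    have hwfix : h • ((v : G)⁻¹ * u) • α = ((v : G)⁻¹ * u) • α := by
      calc h • ((v : G)⁻¹ * u) • α = (h * ((v : G)⁻¹ * u) * h⁻¹) • h • α := by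
            simp only [← mul_smul]; group
        _ = ((v : G)⁻¹ * u) • α := by rw [hw, hhα]
    by_cases hw1 : ((v : G)⁻¹ * u) • α = α
    · have := hreg _ (N.mul_mem (N.inv_mem v.2) u.2) α hw1
      exact hne' (inv_mul_eq_one.1 this).symm
    · exact hfix h h1 α _ (Ne.symm hw1) hhα hwfix
  obtain ⟨⟨n, hn⟩, hn'⟩ := (Finite.injective_iff_surjective.1 hinj) ⟨m⁻¹, N.inv_mem hm⟩
  have e : h * n * h⁻¹ * n⁻¹ = m⁻¹ := congrArg Subtype.val hn'
  apply hg (n • α)
  have hgh : g = m * h := by rw [hh]; group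
  calc g • n • α = (m * (h * n * h⁻¹)) • h • α := by rw [hgh]; simp only [← mul_smul]; group
    _ = n • α := by
      rw [hhα, show h * n * h⁻¹ = m⁻¹ * n by rw [← e]; group, mul_inv_cancel_left]

/-- The number of derangements in a sharply 2-transitive group. -/
theorem card_noFix_of_sharp [Finite G] [Finite Ω] (hΩ : 2 ≤ Nat.card Ω)
    (h2 : IsMultiplyPretransitive G Ω 2)
    (hs : ∀ g : G, g ≠ 1 → ∀ a b : Ω, a ≠ b → g • a = a → g • b ≠ b) (α : Ω) :
    Nat.card (stabilizer G α) = Nat.card Ω - 1 ∧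
      Nat.card {g : G // NoFix Ω g} = Nat.card Ω - 1 := by
  classical
  haveI := Fintype.ofFinite G
  haveI := Fintype.ofFinite Ω
  haveI : Nontrivial Ω := Finite.one_lt_card_iff_nontrivial.1 hΩ
  obtain ⟨β, hβ⟩ := exists_ne α
  haveI : IsPretransitive G Ω := by
    refine ⟨fun a b => ?_⟩
    obtain ⟨a', ha'⟩ := exists_ne a
    obtain ⟨b', hb'⟩ := exists_ne b
    obtain ⟨g, hg, -⟩ := is_two_pretransitive_iff.1 h2 ha'.symm hb'.symm
    exact ⟨g, hg⟩
  have hH : ∀ a : Ω, Nat.card (stabilizer G a) = Nat.card Ω - 1 := by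
    intro a
    obtain ⟨b, hb⟩ := exists_ne a
    let f : stabilizer G a → {c : Ω // c ≠ a} := fun h =>
      ⟨(h : G) • b, fun e => hb (smul_left_cancel (h : G) (e.trans h.2.symm))⟩
    have hf : Function.Bijective f := by
      constructor
      · intro x y e
        have e' : (x : G) • b = (y : G) • b := congrArg Subtype.val e
        refine Subtype.ext ?_
        by_contra hne
        refine hs ((y : G)⁻¹ * x) (fun e1 => hne (inv_mul_eq_one.1 e1).symm) a b hb.symm ?_ ?_
        · rw [mul_smul, show (x : G) • a = a from x.2, inv_smul_eq_iff, show (y : G) • a = a from y.2]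
        · rw [mul_smul, e', inv_smul_smul]
      · rintro ⟨c, hc⟩
        obtain ⟨g, hg, hgb⟩ := is_two_pretransitive_iff.1 h2 hb.symm hc.symm
        exact ⟨⟨g, hg⟩, Subtype.ext hgb⟩
    rw [Nat.card_congr (Equiv.ofBijective f hf), Nat.card_eq_fintype_card, Nat.card_eq_fintype_card,
      Fintype.card_subtype_compl, Fintype.card_subtype_eq]
  refine ⟨hH α, ?_⟩
  set n := Nat.card Ω with hn
  have hG : Nat.card G = n * (n - 1) := by
    rw [← (stabilizer G α).index_mul_card, hH α, index_stabilizer_of_transitive]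
  set E := (Finset.univ : Finset G).erase 1
  have hE : E.card = n * (n - 1) - 1 := by
    rw [Finset.card_erase_of_mem (Finset.mem_univ _), Finset.card_univ, ← Nat.card_eq_fintype_card, hG]
  have hsplit := Finset.card_filter_add_card_filter_not (s := E) (p := fun g => NoFix Ω g)
  have hD : (E.filter fun g => NoFix Ω g).card = Nat.card {g : G // NoFix Ω g} := by
    rw [Nat.card_eq_fintype_card, Fintype.card_subtype]
    congr 1
    ext g
    simp only [E, Finset.mem_filter, Finset.mem_erase, Finset.mem_univ, and_true, true_and]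
    exact ⟨fun h => h.2, fun h => ⟨h.ne_one, h⟩⟩
  have hS : E.filter (fun g => ¬ NoFix Ω g) =
      (Finset.univ : Finset Ω).biUnion (fun a => E.filter fun g => g • a = a) := by
    ext g
    simp only [Finset.mem_filter, Finset.mem_biUnion, Finset.mem_univ, true_and, NoFix, ne_eq,
      not_forall, not_not]
    exact ⟨fun ⟨h, w, hw⟩ => ⟨w, h, hw⟩, fun ⟨w, h, hw⟩ => ⟨h, w, hw⟩⟩
  have hScard : (E.filter fun g => ¬ NoFix Ω g).card = n * (n - 2) := by
    rw [hS, Finset.card_biUnion]
    · have heach : ∀ a : Ω, (E.filter fun g => g • a = a).card = n - 2 := by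
        intro a
        have : (E.filter fun g => g • a = a) =
            ((Finset.univ : Finset G).filter fun g => g • a = a).erase 1 := by
          ext g
          simp [E]
        rw [this, Finset.card_erase_of_mem (by simp), ← Fintype.card_subtype,
          ← Nat.card_eq_fintype_card]
        have := hH a
        rw [show Nat.card {g : G // g • a = a} = Nat.card (stabilizer G a) from rfl, this]
        omega
      rw [Finset.sum_congr rfl (fun a _ => heach a), Finset.sum_const, smul_eq_mul, Finset.card_univ,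
        ← Nat.card_eq_fintype_card]
    · intro a _ b _ hab
      rw [Function.onFun, Finset.disjoint_left]
      intro g hga hgb
      simp only [E, Finset.mem_filter, Finset.mem_erase, Finset.mem_univ, and_true] at hga hgb
      exact hs g hga.1 a b hab hga.2 hgb.2
  rw [hD, hScard, hE] at hsplit
  obtain ⟨k, hk⟩ : ∃ k, n = k + 2 := ⟨n - 2, by omega⟩
  rw [hk] at hsplit ⊢
  simp only [Nat.add_sub_cancel] at hsplit
  have h3 : k + 2 - 1 = k + 1 := by omega
  rw [h3] at hsplit ⊢
  have h4 : (k + 2) * (k + 1) = (k + 2) * k + (k + 2) := by ring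
  omega

end Cfsg.Agent.Struct.Derange
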