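import Mathlib
import Cfsg.Agent.Lib.Solv.Thompson
import Cfsg.Agent.Lib.Solv.ThompsonComplement
import Cfsg.Agent.Lib.Solv.NormalPComplement

/-!
A nonabelian simple group has no system of maximal "centralizers" in an overgroup: if `H` contains
a normal copy `D` of `T` and to each `t ≠ 1` is attached a maximal subgroup `S t` of `H` meeting
`D` in the centralizer of `t`, with `S t ≤ S (t ^ n)`, then `T` is abelian.
-/

set_option autoImplicit false

namespace Cfsg.Agent.Struct.MaximalStab

open Subgroup Cfsg.Agent.Solv

variable {T H : Type*} [Group T] [Finite T] [Group H]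

theorem isCoatom_eq {K L : Subgroup H} (hK : IsCoatom K) (hle : K ≤ L) (hL : L ≠ ⊤) : K = L :=
  (lt_or_eq_of_le hle).resolve_left fun h => hL (hK.2 L h)

theorem false_of_maximal_stab [IsSimpleGroup T] (hT : ∃ a b : T, a * b ≠ b * a) (e : T →* H)
    (he : Function.Injective e) [e.range.Normal] (S : T → Subgroup H)
    (hmax : ∀ t, t ≠ 1 → IsCoatom (S t)) (hS : ∀ (t : T) (n : ℕ), S t ≤ S (t ^ n))
    (hC : ∀ t s : T, e s ∈ S t ↔ s * t = t * s) : False := by
  classical
  haveI := Fintype.ofFinite T
  have hcen : center T = ⊥ := by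
    refine (IsSimpleGroup.eq_bot_or_eq_top_of_normal (center T) inferInstance).resolve_right ?_
    intro h
    obtain ⟨a, b, hab⟩ := hT
    exact hab (mem_center_iff.1 (h ▸ mem_top b : b ∈ center T) a)
  -- commuting elements of coprime order have the same subgroup
  have hmul : ∀ t u : T, t * u = u * t → (orderOf t).Coprime (orderOf u) → t ≠ 1 →
      S (t * u) = S t := by
    intro t u hc hco ht
    obtain ⟨n, hn⟩ : ∃ n, (t * u) ^ n = t := by
      obtain ⟨m, hm⟩ := exists_pow_eq_self_of_coprime (x := t) (n := orderOf u) hco.symm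
      refine ⟨orderOf u * m, ?_⟩
      rw [(show Commute t u from hc).mul_pow, pow_mul, pow_mul, pow_orderOf_eq_one, one_pow, mul_one,
        hm]
    have htu : t * u ≠ 1 := by
      intro h
      rw [h, one_pow] at hn
      exact ht hn.symm
    exact isCoatom_eq (hmax _ htu) (by have h := hS (t * u) n; rwa [hn] at h) (hmax t ht).1
  have hsame : ∀ t u : T, t * u = u * t → (orderOf t).Coprime (orderOf u) → t ≠ 1 → u ≠ 1 →
      S t = S u := fun t u hc hco ht hu => by
    rw [← hmul t u hc hco ht, hc, hmul u t hc.symm hco.symm hu]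
  -- T is not a 2-group
  obtain ⟨p, hp, hp2, hpd⟩ : ∃ p, p.Prime ∧ p ≠ 2 ∧ p ∣ Nat.card T := by
    by_contra hcon
    push Not at hcon
    have h2 : IsPGroup 2 T := by
      refine IsPGroup.of_card (n := (Nat.card T).primeFactorsList.length) ?_
      refine Nat.eq_prime_pow_of_unique_prime_dvd Nat.card_pos.ne' ?_
      intro d hd hdd
      by_contra hne
      exact hcon d hd hne hdd
    haveI : Fact (Nat.Prime 2) := ⟨Nat.prime_two⟩
    haveI := h2.center_nontrivial
    exact (nontrivial_iff_ne_bot _).1 inferInstance hcen
  haveI : Fact p.Prime := ⟨hp⟩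
  obtain ⟨P⟩ := Sylow.nonempty (p := p) (G := T)
  have hPne : (P : Subgroup T) ≠ ⊥ := P.ne_bot_of_dvd_card hpd
  haveI : Nontrivial (P : Subgroup T) := (nontrivial_iff_ne_bot _).2 hPne
  haveI := P.isPGroup'.center_nontrivial
  obtain ⟨⟨⟨t, htP⟩, htc⟩, ht1⟩ := exists_ne (1 : center (P : Subgroup T))
  have ht : t ≠ 1 := fun h => ht1 (Subtype.ext (Subtype.ext h))
  have htp : ∀ y ∈ (P : Subgroup T), y * t = t * y := fun y hy =>
    congrArg Subtype.val (mem_center_iff.1 htc ⟨y, hy⟩)
  set C := centralizer ({t} : Set T) with hCdef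
  have hC' : ∀ s : T, s ∈ C ↔ e s ∈ S t := fun s => by
    rw [hC, hCdef, mem_centralizer_singleton_iff]
  have hCne : C ≠ ⊤ := by
    intro h
    have h1 : t ∈ center T := mem_center_iff.2 fun g =>
      mem_centralizer_singleton_iff.1 (show g ∈ C from h ▸ mem_top g)
    rw [hcen, mem_bot] at h1
    exact ht h1
  have hPC : (P : Subgroup T) ≤ C := fun y hy => mem_centralizer_singleton_iff.2 (htp y hy)
  have hpord : ∀ y ∈ (P : Subgroup T), ∃ k, orderOf y = p ^ k := fun y hy => by
    obtain ⟨k, hk⟩ := IsPGroup.iff_orderOf.1 P.isPGroup' ⟨y, hy⟩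
    exact ⟨k, by rw [← hk, orderOf_mk]⟩
  obtain ⟨kt, hkt⟩ := hpord t htP
  by_cases hq : ∃ u ∈ C, u ≠ 1 ∧ (orderOf u).Coprime p
  · -- then the Sylow subgroup is abelian and Burnside applies
    obtain ⟨u, hu, hu1, huo⟩ := hq
    have hu' : t * u = u * t := (mem_centralizer_singleton_iff.1 hu).symm
    have hStu : S t = S u := hsame t u hu' (by rw [hkt]; exact (huo.symm).pow_left kt) ht hu1
    have hcen : ∀ y ∈ (P : Subgroup T), ∀ z ∈ C, y * z = z * y := by
      intro y hy z hz
      by_cases hy1 : y = 1
      · simp [hy1]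
      obtain ⟨k, hk⟩ := hpord y hy
      have hyu : y * u = u * y := by
        rw [← hC, ← hStu, hC]
        exact htp y hy
      have hSy : S y = S u := hsame y u hyu (by rw [hk]; exact huo.symm.pow_left k) hy1 hu1
      have h : e z ∈ S y := by rw [hSy, ← hStu]; exact (hC' z).1 hz
      exact ((hC y z).1 h).symm
    have hPch : (P : Subgroup T) ≤ centralizer ((P : Subgroup T) : Set T) := fun y hy =>
      mem_centralizer_iff.2 fun z hz => hcen z hz y (hPC hy)
    have hn : normalizer ((P : Subgroup T) : Set T) ≤ C := by
      intro g hg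
      -- P is the unique Sylow subgroup of C, so g lies in the maximal subgroup
      rw [hC']
      set X := (P : Subgroup T).map e with hX
      have hnX : S t ≤ normalizer (X : Set H) := by
        intro h hh
        haveI : Finite X := Finite.of_surjective _ (e.subgroupMap_surjective (P : Subgroup T))
        refine mem_normalizer_iff_map_conj_eq.2 (eq_of_le_of_card_ge ?_ ?_)
        · rintro _ ⟨_, ⟨y, hy, rfl⟩, rfl⟩
          obtain ⟨y', hy'⟩ := (inferInstance : e.range.Normal).conj_mem _ ⟨y, rfl⟩ h
          have h1 : y' ∈ C := by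
            rw [hC', hy']
            exact mul_mem (mul_mem hh ((hC' y).1 (hPC hy))) (inv_mem hh)
          refine ⟨y', ?_, hy'⟩
          have hyo : orderOf y' = orderOf y := by
            rw [← orderOf_injective e he y', hy', ← orderOf_injective e he y]
            exact MulEquiv.orderOf_eq (MulAut.conj h) (e y)
          obtain ⟨k, hk⟩ := hpord y hy
          have hsup : IsPGroup p (zpowers y' ⊔ (P : Subgroup T) : Subgroup T) := by
            refine (IsPGroup.of_card (n := k) (by rw [Nat.card_zpowers, hyo, hk])).to_sup_of_normal_right'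
              P.isPGroup' (zpowers_le.2 ?_)
            refine centralizer_le_normalizer _ (mem_centralizer_iff.2 fun z hz => ?_)
            exact hcen z hz y' h1
          rw [← P.is_maximal' hsup le_sup_right]
          exact mem_sup_left (mem_zpowers y')
        · exact (card_map_of_injective (K := X) (f := (MulAut.conj h).toMonoidHom) (MulEquiv.injective _)).ge
      have hne : normalizer (X : Set H) ≠ ⊤ := by
        intro htop
        have hPn : (P : Subgroup T).Normal := ⟨fun y hy g' => by
          have h1 : e g' ∈ normalizer (X : Set H) := htop ▸ mem_top _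
          obtain ⟨z, hz, hzy⟩ := (mem_normalizer_iff.1 h1 (e y)).1 ⟨y, hy, rfl⟩
          rw [← map_inv, ← map_mul, ← map_mul] at hzy
          exact he hzy ▸ hz⟩
        rcases IsSimpleGroup.eq_bot_or_eq_top_of_normal _ hPn with h | h
        · exact hPne h
        · exact hCne (top_le_iff.1 (h ▸ hPC))
      rw [isCoatom_eq (hmax t ht) hnX hne, hX]
      refine mem_normalizer_iff.2 fun x => ⟨?_, ?_⟩
      · rintro ⟨y, hy, rfl⟩
        exact ⟨g * y * g⁻¹, (mem_normalizer_iff.1 hg y).1 hy, by rw [map_mul, map_mul, map_inv]⟩
      · rintro ⟨y, hy, hyx⟩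
        refine ⟨g⁻¹ * y * g, (mem_normalizer_iff''.1 hg y).1 hy, ?_⟩
        rw [map_mul, map_mul, map_inv, hyx]; group
    have hb : normalizer ((P : Subgroup T) : Set T) ≤ centralizer ((P : Subgroup T) : Set T) :=
      fun g hg => mem_centralizer_iff.2 fun z hz => hcen z hz g (hn hg)
    obtain ⟨Q, N, hN, hNQ⟩ := hasNormalPComplement_of_burnside P hb
    rcases IsSimpleGroup.eq_bot_or_eq_top_of_normal N hN with h | h
    · rw [h, isComplement'_bot_left] at hNQ
      have hTp : IsPGroup p T := Q.isPGroup'.of_equiv ((MulEquiv.subgroupCongr hNQ).trans topEquiv)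
      haveI : Nontrivial T := ⟨⟨t, 1, ht⟩⟩
      haveI := hTp.center_nontrivial
      exact (nontrivial_iff_ne_bot _).1 inferInstance (by assumption : center T = ⊥)
    · rw [h, isComplement'_top_left] at hNQ
      exact Q.ne_bot_of_dvd_card hpd hNQ
  · -- the centralizer is the Sylow subgroup: Thompson's criterion applies
    push Not at hq
    have hCP : C = (P : Subgroup T) := by
      refine (P.is_maximal' ?_ hPC)
      intro ⟨x, hx⟩
      obtain ⟨k, m, hm, hxo⟩ := Nat.exists_eq_pow_mul_and_not_dvd (orderOf_pos x).ne' p hp.ne_one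
      refine ⟨k, Subtype.ext ?_⟩
      show x ^ p ^ k = 1
      by_contra hne
      refine hq (x ^ p ^ k) (pow_mem hx _) hne ?_
      rw [orderOf_pow_of_dvd (pow_ne_zero _ hp.ne_zero) (hxo ▸ dvd_mul_right _ m), hxo,
        Nat.mul_div_cancel_left _ (pow_pos hp.pos k)]
      exact ((Nat.Prime.coprime_iff_not_dvd hp).2 hm).symm
    have hJn : ∀ g ∈ normalizer (thompsonSubgroupOf p (P : Subgroup T) : Set T), g ∈ C := by
      intro g hg
      rw [hC']
      set J := thompsonSubgroupOf p (P : Subgroup T) with hJ
      set X := J.map e with hX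
      have hnX : S t ≤ normalizer (X : Set H) := by
        intro h hh
        let χ : T →* H := (MulAut.conj h).toMonoidHom.comp e
        have hχ : Function.Injective χ := fun a b hab => he ((MulAut.conj h).injective hab)
        haveI : Finite e.range := Finite.of_surjective _ e.rangeRestrict_surjective
        have hPP : (P : Subgroup T).map χ = (P : Subgroup T).map e := by
          haveI : Finite ((P : Subgroup T).map e) :=
            Finite.of_surjective _ (e.subgroupMap_surjective (P : Subgroup T))
          refine eq_of_le_of_card_ge ?_ (by rw [card_map_of_injective hχ, card_map_of_injective he])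
          rintro _ ⟨y, hy, rfl⟩
          obtain ⟨y', hy'⟩ := (inferInstance : e.range.Normal).conj_mem _ ⟨y, rfl⟩ h
          refine ⟨y', ?_, hy'⟩
          show y' ∈ (P : Subgroup T)
          rw [← hCP, hC', hy']
          exact mul_mem (mul_mem hh ((hC' y).1 (hPC hy))) (inv_mem hh)
        -- transport through the finite group e.range
        let er : T ≃* e.range := MonoidHom.ofInjective he
        let χr : T →* e.range := χ.codRestrict e.range
          (fun y => (inferInstance : e.range.Normal).conj_mem _ ⟨y, rfl⟩ h)
        let β : T →* T := er.symm.toMonoidHom.comp χr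
        have hβi : Function.Injective β := er.symm.injective.comp
          (fun a b hab => hχ (congrArg Subtype.val hab))
        have hβe : ∀ y, e (β y) = χ y := fun y => by
          show e (er.symm (χr y)) = χ y
          have := congrArg Subtype.val (er.apply_symm_apply (χr y))
          exact this
        have hβP : (P : Subgroup T).map β = (P : Subgroup T) := by
          apply map_injective he
          rw [map_map, ← hPP]
          congr 1
          exact MonoidHom.ext hβe
        have hβJ : J.map β = J := by
          rw [hJ, thompsonOf_map β _ (by rw [(β.ker_eq_bot_iff).2 hβi, inf_bot_eq]), hβP]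
        refine mem_normalizer_iff_map_conj_eq.2 ?_
        rw [hX, map_map]
        refine (congrArg (fun f : T →* H => J.map f) (show χ = e.comp β from
          MonoidHom.ext fun y => (hβe y).symm)).trans ?_
        show J.map (e.comp β) = J.map e
        rw [← map_map, hβJ]
      have hne : normalizer (X : Set H) ≠ ⊤ := by
        intro htop
        have hJn : J.Normal := ⟨fun y hy g' => by
          have h1 : e g' ∈ normalizer (X : Set H) := htop ▸ mem_top _
          obtain ⟨z, hz, hzy⟩ := (mem_normalizer_iff.1 h1 (e y)).1 ⟨y, hy, rfl⟩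
          rw [← map_inv, ← map_mul, ← map_mul] at hzy
          exact he hzy ▸ hz⟩
        rcases IsSimpleGroup.eq_bot_or_eq_top_of_normal _ hJn with h | h
        · rw [hJ, thompsonSubgroupOf, map_eq_bot_iff_of_injective _ (subtype_injective _)] at h
          exact thompson_ne_bot (p := p) (P.dvd_card_of_dvd_card hpd) h
        · exact hCne (top_le_iff.1 (h.ge.trans ((map_subtype_le _).trans hPC)))
      rw [isCoatom_eq (hmax t ht) hnX hne, hX]
      refine mem_normalizer_iff.2 fun x => ⟨?_, ?_⟩
      · rintro ⟨y, hy, rfl⟩
        exact ⟨g * y * g⁻¹, (mem_normalizer_iff.1 hg y).1 hy, by rw [map_mul, map_mul, map_inv]⟩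
      · rintro ⟨y, hy, hyx⟩
        refine ⟨g⁻¹ * y * g, (mem_normalizer_iff''.1 hg y).1 hy, ?_⟩
        rw [map_mul, map_mul, map_inv, hyx]; group
    obtain ⟨Q, N, hN, hNQ⟩ := thompson_complement hp2 P
      (hasNormalPComplement_of_le (K := normalizer (thompsonSubgroupOf p (P : Subgroup T) : Set T))
        (L := (P : Subgroup T)) (fun g hg => hCP ▸ hJn g hg)
        (hasNormalPComplement_of_isPGroup P.isPGroup'))
      (hasNormalPComplement_of_le (L := (P : Subgroup T)) (fun g hg => hCP ▸
          mem_centralizer_singleton_iff.2 ((mem_centralizer_iff.1 hg t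
            ⟨htP, mem_centralizer_iff.2 fun y hy => htp y hy⟩).symm))
        (hasNormalPComplement_of_isPGroup P.isPGroup'))
    rcases IsSimpleGroup.eq_bot_or_eq_top_of_normal N hN with h | h
    · rw [h, isComplement'_bot_left] at hNQ
      have hTp : IsPGroup p T := Q.isPGroup'.of_equiv ((MulEquiv.subgroupCongr hNQ).trans topEquiv)
      haveI : Nontrivial T := ⟨⟨t, 1, ht⟩⟩
      haveI := hTp.center_nontrivial
      exact (nontrivial_iff_ne_bot _).1 inferInstance hcen
    · rw [h, isComplement'_top_left] at hNQ
      exact Q.ne_bot_of_dvd_card hpd hNQ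

end Cfsg.Agent.Struct.MaximalStab
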