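import Mathlib
import Cfsg.Agent.Lib.Struct.MaximalStab
import Cfsg.Agent.Lib.Solv.Basic

/-!
Extremely primitive groups (point stabilizers primitive on all their orbits) are affine or almost
simple (Mann, Praeger and Seress), by an elementary argument on a minimal normal subgroup.
-/

set_option autoImplicit false

namespace Cfsg.Agent.Struct.ExtremelyPrimitive

open Subgroup MulAction
open scoped Pointwise

variable {G : Type*} [Group G] {Ω : Type*} [MulAction G Ω]

theorem mul_smul_eq {a : Ω} {x y : G} : x • a = y • a ↔ y⁻¹ * x ∈ stabilizer G a := by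
  rw [mem_stabilizer_iff, mul_smul, inv_smul_eq_iff]

/-- A point stabilizer is maximal in `H` once it is proper. -/
def OrbitMax (H : Subgroup G) (Ω : Type*) [MulAction G Ω] : Prop :=
  ∀ (b : Ω) (L : Subgroup G), H ⊓ stabilizer G b ≤ L → L ≤ H → L ≠ H → L ≤ stabilizer G b

theorem orbitMax (α : Ω)
    (hep : ∀ ω : Ω, IsPreprimitive (stabilizer G α) (orbit (stabilizer G α) ω)) :
    OrbitMax (stabilizer G α) Ω := by
  intro b L hbL hLH hne
  haveI := hep b
  by_cases hfix : ∀ h ∈ stabilizer G α, h • b = b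
  · exact fun x hx => hfix x (hLH hx)
  push Not at hfix
  obtain ⟨h0, hh0, hb0⟩ := hfix
  let b' : orbit (stabilizer G α) b := ⟨b, mem_orbit_self b⟩
  haveI : Nontrivial (orbit (stabilizer G α) b) := by
    refine ⟨⟨⟨h0 • b, ⟨⟨h0, hh0⟩, rfl⟩⟩, b', fun e => hb0 ?_⟩⟩
    exact congrArg Subtype.val e
  have hco := IsPreprimitive.isCoatom_stabilizer_of_isPreprimitive (stabilizer G α) b'
  have hst : stabilizer (stabilizer G α) b' = (stabilizer G b).subgroupOf (stabilizer G α) := by
    ext x
    simp only [mem_stabilizer_iff, mem_subgroupOf]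
    exact ⟨fun h => congrArg Subtype.val h, fun h => Subtype.ext h⟩
  rw [hst] at hco
  have hle : (stabilizer G b).subgroupOf (stabilizer G α) ≤ L.subgroupOf (stabilizer G α) :=
    fun x hx => hbL ⟨x.2, hx⟩
  rcases lt_or_eq_of_le hle with h | h
  · exact absurd (le_antisymm hLH (subgroupOf_eq_top.1 (hco.2 _ h))) hne
  · intro x hx
    exact (h.symm ▸ (hx : (⟨x, hLH hx⟩ : stabilizer G α) ∈ L.subgroupOf (stabilizer G α)) :
      (⟨x, hLH hx⟩ : stabilizer G α) ∈ (stabilizer G b).subgroupOf (stabilizer G α))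

/-- Two commuting semiregular subgroups with a common diagonal in the stabilizer. -/
theorem pair_false [Finite G] (α : Ω) (hmax : OrbitMax (stabilizer G α) Ω) (T C : Subgroup G)
    [IsSimpleGroup T] (hT : ∃ a b : T, a * b ≠ b * a)
    (hTC : ∀ t ∈ T, ∀ c ∈ C, t * c = c * t) (hTb : T ⊓ C = ⊥) (hTH : T ⊓ stabilizer G α = ⊥)
    (hCH : C ⊓ stabilizer G α = ⊥) (hsurj : ∀ s ∈ T, ∃ c ∈ C, s * c ∈ stabilizer G α)
    (hnorm : ∀ h ∈ stabilizer G α, ∀ x ∈ T ⊔ C, h * x * h⁻¹ ∈ T ⊔ C)
    (hpow : ∀ h ∈ stabilizer G α, ∀ t ∈ T, h • t • α = t • α → ∀ n : ℕ,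
      h • (t ^ n) • α = (t ^ n) • α) : False := by
  classical
  set H := stabilizer G α
  choose cf hcC hcH using hsurj
  have huniq : ∀ s (hs : s ∈ T) c, c ∈ C → s * c ∈ H → c = cf s hs := by
    intro s hs c hc hsc
    have h : c⁻¹ * cf s hs ∈ C ⊓ H := by
      refine ⟨C.mul_mem (C.inv_mem hc) (hcC s hs), ?_⟩
      rw [show c⁻¹ * cf s hs = (s * c)⁻¹ * (s * cf s hs) by group]
      exact H.mul_mem (H.inv_mem hsc) (hcH s hs)
    rw [hCH, mem_bot] at h
    exact inv_mul_eq_one.1 h
  let e : T →* H :=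
    { toFun := fun s => ⟨s * cf s s.2, hcH s s.2⟩
      map_one' := by
        refine Subtype.ext ?_
        show (1 : G) * cf 1 _ = 1
        rw [← huniq 1 T.one_mem 1 C.one_mem (by rw [one_mul]; exact H.one_mem), one_mul]
      map_mul' := fun s u => by
        refine Subtype.ext ?_
        show (s : G) * u * cf ((s : G) * u) _ = (s * cf s s.2) * (u * cf u u.2)
        have hr : (s : G) * cf s s.2 * (u * cf u u.2) = s * u * (cf s s.2 * cf u u.2) := by
          calc (s : G) * cf s s.2 * (u * cf u u.2) = s * (cf s s.2 * u) * cf u u.2 := by group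
            _ = s * (u * cf s s.2) * cf u u.2 := by rw [← hTC u u.2 _ (hcC s s.2)]
            _ = _ := by group
        rw [hr, ← huniq ((s : G) * u) (Subgroup.mul_mem _ s.2 u.2) _ (Subgroup.mul_mem _ (hcC s s.2) (hcC u u.2))
          (hr ▸ Subgroup.mul_mem _ (hcH s s.2) (hcH u u.2))] }
  have hecoe : ∀ s : T, ((e s : H) : G) = s * cf s s.2 := fun s => rfl
  have he : Function.Injective e := by
    rw [← MonoidHom.ker_eq_bot_iff, eq_bot_iff_forall]
    intro s hs
    have h1 : (s : G) * cf s s.2 = 1 := congrArg Subtype.val (MonoidHom.mem_ker.1 hs)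
    have h2 : (s : G) ∈ T ⊓ C := ⟨s.2, by rw [eq_inv_of_mul_eq_one_left h1]; exact C.inv_mem (hcC s s.2)⟩
    rw [hTb, mem_bot] at h2
    exact Subtype.ext h2
  have hTn : T ≤ normalizer (C : Set G) := by
    intro t ht
    refine centralizer_le_normalizer _ (mem_centralizer_iff.2 fun c hc => (hTC t ht c hc).symm)
  haveI : e.range.Normal := by
    refine ⟨?_⟩
    rintro _ ⟨s, rfl⟩ h
    have hx := hnorm h h.2 _ (mul_mem_sup s.2 (hcC s s.2))
    rw [← SetLike.mem_coe, coe_mul_of_left_le_normalizer_right _ _ hTn] at hx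
    obtain ⟨u, hu, c, hc, huc⟩ := hx
    simp only at huc
    refine ⟨⟨u, hu⟩, Subtype.ext ?_⟩
    rw [hecoe]
    have huH : u * c ∈ H := by
      rw [huc]; exact Subgroup.mul_mem _ (Subgroup.mul_mem _ h.2 (hcH s s.2)) (Subgroup.inv_mem _ h.2)
    show u * cf u _ = _
    rw [← huniq u hu c hc huH]
    exact huc
  have hC : ∀ t s : T, e s ∈ (stabilizer G ((t : G) • α)).subgroupOf H ↔ s * t = t * s := by
    intro t s
    rw [mem_subgroupOf, mem_stabilizer_iff, hecoe, ← mul_smul, mul_smul_eq]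
    have e1 : (t : G)⁻¹ * (s * cf s s.2 * t) =
        ((t : G)⁻¹ * s * t * (s : G)⁻¹) * (s * cf s s.2) := by
      calc (t : G)⁻¹ * (s * cf s s.2 * t) = (t : G)⁻¹ * s * (cf s s.2 * t) := by group
        _ = (t : G)⁻¹ * s * (t * cf s s.2) := by rw [hTC t t.2 _ (hcC s s.2)]
        _ = _ := by group
    rw [e1]
    constructor
    · intro h
      have h1 : (t : G)⁻¹ * s * t * (s : G)⁻¹ ∈ T ⊓ H :=
        ⟨T.mul_mem (T.mul_mem (T.mul_mem (T.inv_mem t.2) s.2) t.2) (T.inv_mem s.2),
          (mul_mem_cancel_right (hcH s s.2)).1 h⟩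
      rw [hTH, mem_bot] at h1
      apply Subtype.ext
      show (s : G) * t = t * s
      calc (s : G) * t = t * ((t : G)⁻¹ * s * t * (s : G)⁻¹) * s := by group
        _ = t * s := by rw [h1]; group
    · intro h
      have h' : (s : G) * t = t * s := congrArg Subtype.val h
      rw [mul_assoc (t : G)⁻¹ (s : G) (t : G), h']
      have : (t : G)⁻¹ * (t * s) * (s : G)⁻¹ = 1 := by group
      rw [this, one_mul]; exact hcH s s.2
  refine MaximalStab.false_of_maximal_stab hT e he (fun t => (stabilizer G ((t : G) • α)).subgroupOf H)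
    (fun t ht => ?_) (fun t n h hh => ?_) hC
  · refine ⟨fun htop => ?_, fun L hL => ?_⟩
    · -- t would be central in T
      have hc : t ∈ center T := mem_center_iff.2 fun g => (hC t g).1 (htop ▸ mem_top _)
      rcases IsSimpleGroup.eq_bot_or_eq_top_of_normal (center T) inferInstance with h | h
      · exact ht (mem_bot.1 (h ▸ hc))
      · obtain ⟨a, b, hab⟩ := hT
        exact hab (mem_center_iff.1 (h ▸ mem_top b : b ∈ center T) a)
    · by_contra hne
      have h1 := hmax ((t : G) • α) (L.map H.subtype)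
        (fun x hx => ⟨⟨x, hx.1⟩, hL.le (show (⟨x, hx.1⟩ : H) ∈ _ from hx.2), rfl⟩)
        (map_subtype_le _) (fun e' => hne (eq_top_iff.2 fun x _ => by
          obtain ⟨y, hy, hyx⟩ := (e'.symm ▸ x.2 : (x : G) ∈ L.map H.subtype)
          exact Subtype.ext hyx ▸ hy))
      exact hL.2 fun x hx => h1 ⟨x, hx, rfl⟩
  · show (h : G) ∈ stabilizer G (((t ^ n : T) : G) • α)
    rw [mem_stabilizer_iff, SubmonoidClass.coe_pow]
    exact hpow h h.2 t t.2 hh n

/-- An extremely primitive group is affine or almost simple. -/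
theorem main [Finite G] [FaithfulSMul G Ω] [Nontrivial Ω] (hprim : IsPreprimitive G Ω)
    (hep : ∀ (α ω : Ω), IsPreprimitive (stabilizer G α) (orbit (stabilizer G α) ω)) :
    (∃ N : Subgroup G, N.Normal ∧ N ≠ ⊥ ∧ IsMulCommutative N ∧
        ∀ ω : Ω, stabilizer N ω = ⊥) ∨
      ∃ T : Subgroup G, T.Normal ∧ IsSimpleGroup T ∧ ¬ IsMulCommutative T ∧
        centralizer (T : Set G) = ⊥ := by
  classical
  haveI := hprim
  haveI : Nontrivial G := by
    by_contra hn
    rw [not_nontrivial_iff_subsingleton] at hn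
    obtain ⟨a, b, hab⟩ := exists_pair_ne Ω
    obtain ⟨g, hg⟩ := exists_smul_eq G a b
    rw [Subsingleton.elim g 1, one_smul] at hg
    exact hab hg
  obtain ⟨M, hMn, -, hMne, hMmin⟩ :=
    Cfsg.Agent.Solv.exists_minimal_normal_le (N := (⊤ : Subgroup G)) top_ne_bot
  haveI := hMn
  -- normal subgroups are transitive
  have htrans : ∀ N : Subgroup G, N.Normal → N ≠ ⊥ → ∀ a b : Ω, ∃ n ∈ N, n • a = b := by
    intro N hN hne a b
    haveI := hN
    have hfix : fixedPoints N Ω ≠ Set.univ := by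
      intro h
      refine hne ((eq_bot_iff_forall _).2 fun x hx => FaithfulSMul.eq_of_smul_eq_smul (α := Ω) fun w => ?_)
      rw [one_smul]
      exact (h ▸ Set.mem_univ w : w ∈ fixedPoints N Ω) ⟨x, hx⟩
    haveI := IsQuasiPreprimitive.isPretransitive_of_normal (G := G) (X := Ω) hfix
    obtain ⟨⟨n, hn⟩, hn'⟩ := exists_smul_eq N a b
    exact ⟨n, hn, hn'⟩
  by_cases hMc : ∀ x ∈ M, ∀ y ∈ M, x * y = y * x
  · refine Or.inl ⟨M, hMn, hMne, ⟨⟨fun x y => Subtype.ext (hMc x x.2 y y.2)⟩⟩, fun w => ?_⟩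
    refine (eq_bot_iff_forall _).2 fun x hx => Subtype.ext (FaithfulSMul.eq_of_smul_eq_smul (α := Ω) fun b => ?_)
    obtain ⟨n, hn, rfl⟩ := htrans M hMn hMne w b
    show (x : G) • n • w = (1 : G) • n • w
    rw [one_smul, ← mul_smul, hMc x x.2 n hn, mul_smul]
    exact congrArg (n • ·) hx
  obtain ⟨α⟩ : Nonempty Ω := inferInstance
  set H := stabilizer G α with hHdef
  have hcoat : IsCoatom H := IsPreprimitive.isCoatom_stabilizer_of_isPreprimitive G α
  have hmax := orbitMax α (hep α)
  have hcore : ∀ K : Subgroup G, K.Normal → K ≤ H → K = ⊥ := by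
    intro K hK hKH
    by_contra hne
    obtain ⟨b, hb⟩ := exists_ne α
    obtain ⟨n, hn, e⟩ := htrans K hK hne α b
    exact hb (e.symm.trans (hKH hn))
  have hMH : ∀ g : G, ∃ m ∈ M, ∃ h ∈ H, g = m * h := by
    intro g
    obtain ⟨m, hm, e⟩ := htrans M hMn hMne α (g • α)
    exact ⟨m, hm, m⁻¹ * g, mul_smul_eq.1 e.symm, by group⟩
  -- normal subgroups of G from invariance under M and H
  have hnorm_of : ∀ K : Subgroup G, M ≤ normalizer (K : Set G) → H ≤ normalizer (K : Set G) →
      K.Normal := by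
    intro K h1 h2
    refine normalizer_eq_top_iff.1 (top_le_iff.1 fun g _ => ?_)
    obtain ⟨m, hm, h, hh, rfl⟩ := hMH g
    exact Subgroup.mul_mem _ (h1 hm) (h2 hh)
  -- a minimal normal subgroup T of M
  obtain ⟨T, hTM, hTne, hTn, hTmin⟩ : ∃ T : Subgroup G, T ≤ M ∧ T ≠ ⊥ ∧
      M ≤ normalizer (T : Set G) ∧
      ∀ K : Subgroup G, K ≤ T → M ≤ normalizer (K : Set G) → K = ⊥ ∨ K = T := by
    haveI : Nontrivial M := (nontrivial_iff_ne_bot M).2 hMne
    obtain ⟨K0, hK0, -, hK0ne, hK0min⟩ :=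
      Cfsg.Agent.Solv.exists_minimal_normal_le (N := (⊤ : Subgroup M)) top_ne_bot
    refine ⟨K0.map M.subtype, map_subtype_le _, ?_, ?_, ?_⟩
    · rwa [Ne, map_eq_bot_iff_of_injective _ M.subtype_injective]
    · intro m hm
      refine mem_normalizer_iff.2 fun x => ⟨?_, ?_⟩
      · rintro ⟨y, hy, rfl⟩
        exact ⟨_, hK0.conj_mem y hy ⟨m, hm⟩, rfl⟩
      · rintro ⟨y, hy, hyx⟩
        refine ⟨_, hK0.conj_mem y hy ⟨m, hm⟩⁻¹, ?_⟩
        show m⁻¹ * (y : G) * m⁻¹⁻¹ = x
        rw [show (y : G) = m * x * m⁻¹ from hyx]; group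
    · intro K hK hKn
      have hKM : K ≤ M := hK.trans (map_subtype_le _)
      have hKn' : (K.subgroupOf M).Normal :=
        ⟨fun y hy m => (mem_normalizer_iff.1 (hKn m.2) y).1 hy⟩
      have hle : K.subgroupOf M ≤ K0 := fun y hy => by
        obtain ⟨z, hz, e⟩ := hK hy
        exact Subtype.ext e ▸ hz
      rcases hK0min _ hKn' hle with h | h
      · left
        rw [← map_subgroupOf_eq_of_le hKM, h, Subgroup.map_bot]
      · right
        rw [← map_subgroupOf_eq_of_le hKM, h]
  -- conjugates of T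
  set cj : G → Subgroup G := fun g => T.map (MulAut.conj g).toMonoidHom with hcj
  have hmem_cj : ∀ g x, x ∈ cj g ↔ g⁻¹ * x * g ∈ T := by
    intro g x
    constructor
    · rintro ⟨y, hy, rfl⟩
      simpa [MulAut.conj_apply, mul_assoc] using hy
    · intro h
      exact ⟨_, h, by simp [MulAut.conj_apply, mul_assoc]⟩
  have hcjM : ∀ g, cj g ≤ M := fun g => by
    rintro _ ⟨y, hy, rfl⟩
    exact hMn.conj_mem y (hTM hy) g
  have hcjn : ∀ g, M ≤ normalizer (cj g : Set G) := by
    intro g m hm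
    refine mem_normalizer_iff.2 fun x => ?_
    rw [hmem_cj, hmem_cj, show g⁻¹ * (m * x * m⁻¹) * g =
      (g⁻¹ * m * g) * (g⁻¹ * x * g) * (g⁻¹ * m * g)⁻¹ by group]
    have := hTn (by simpa using hMn.conj_mem m hm g⁻¹ : g⁻¹ * m * g ∈ M)
    exact mem_normalizer_iff.1 this _
  have hcomm : ∀ g g', cj g ≠ cj g' → ∀ x ∈ cj g, ∀ y ∈ cj g', x * y = y * x := by
    intro g g' hne x hx y hy
    have hinf : cj g ⊓ cj g' = ⊥ := by
      set K := (cj g ⊓ cj g').map (MulAut.conj g⁻¹).toMonoidHom
      have hK : K ≤ T := by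
        rintro _ ⟨z, hz, rfl⟩
        simpa [MulAut.conj_apply] using (hmem_cj g z).1 hz.1
      have hKn : M ≤ normalizer (K : Set G) := by
        intro m hm
        have hm' : g * m * g⁻¹ ∈ M := hMn.conj_mem m hm g
        have h1 : g * m * g⁻¹ ∈ normalizer ((cj g ⊓ cj g' : Subgroup G) : Set G) :=
          mem_normalizer_iff.2 fun z => and_congr (mem_normalizer_iff.1 (hcjn g hm') z)
            (mem_normalizer_iff.1 (hcjn g' hm') z)
        refine mem_normalizer_iff.2 fun z => ?_
        have hK' : ∀ w, w ∈ K ↔ g * w * g⁻¹ ∈ cj g ⊓ cj g' := fun w => by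
          constructor
          · rintro ⟨v, hv, rfl⟩; simpa [MulAut.conj_apply, mul_assoc] using hv
          · intro h; exact ⟨_, h, by simp [MulAut.conj_apply, mul_assoc]⟩
        rw [hK', hK', show g * (m * z * m⁻¹) * g⁻¹ =
          (g * m * g⁻¹) * (g * z * g⁻¹) * (g * m * g⁻¹)⁻¹ by group]
        exact mem_normalizer_iff.1 h1 _
      rcases hTmin K hK hKn with h | h
      · rwa [map_eq_bot_iff_of_injective _ (MulEquiv.injective _)] at h
      · exfalso
        apply hne
        have h1 : Nat.card (cj g ⊓ cj g' : Subgroup G) = Nat.card T := by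
          rw [← h]; exact (card_map_of_injective (MulEquiv.injective _)).symm
        have h2 : ∀ a, Nat.card (cj a) = Nat.card T := fun a =>
          card_map_of_injective (MulEquiv.injective _)
        exact ((eq_of_le_of_card_ge inf_le_left (by rw [h1, h2])).symm).trans
          (eq_of_le_of_card_ge inf_le_right (by rw [h1, h2]))
    have hmem : x * y * x⁻¹ * y⁻¹ ∈ cj g ⊓ cj g' :=
      ⟨by rw [show x * y * x⁻¹ * y⁻¹ = x * (y * x⁻¹ * y⁻¹) by group]
          exact Subgroup.mul_mem _ hx ((mem_normalizer_iff.1 (hcjn g (hcjM g' hy)) _).1 ((cj g).inv_mem hx)),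
        Subgroup.mul_mem _ ((mem_normalizer_iff.1 (hcjn g' (hcjM g hx)) y).1 hy) ((cj g').inv_mem hy)⟩
    rw [hinf, mem_bot] at hmem
    calc x * y = x * y * x⁻¹ * y⁻¹ * (y * x) := by group
      _ = y * x := by rw [hmem, one_mul]
  have hT1 : cj 1 = T := by
    ext x; rw [hmem_cj]; simp
  have hgen : (⨆ g, cj g) = M := by
    set S := ⨆ g, cj g with hS
    have hSn : S.Normal := by
      refine ⟨fun x hx a => ?_⟩
      have hle : S ≤ S.comap (MulAut.conj a).toMonoidHom := iSup_le fun g y hy => by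
        refine mem_iSup_of_mem (a * g) ((hmem_cj _ _).2 ?_)
        show (a * g)⁻¹ * (a * y * a⁻¹) * (a * g) ∈ T
        rw [show (a * g)⁻¹ * (a * y * a⁻¹) * (a * g) = g⁻¹ * y * g by group]
        exact (hmem_cj g y).1 hy
      exact hle hx
    refine (hMmin S hSn (iSup_le hcjM)).resolve_left fun h => hTne ?_
    rw [eq_bot_iff, ← h, ← hT1]
    exact le_iSup cj 1
  have hnotcomm : ∃ a ∈ T, ∃ b ∈ T, a * b ≠ b * a := by
    by_contra hcon
    push Not at hcon
    apply hMc
    have hall : ∀ g g', ∀ x ∈ cj g, ∀ y ∈ cj g', x * y = y * x := by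
      intro g g' x hx y hy
      rcases eq_or_ne (cj g) (cj g') with e | e
      · have hy' : y ∈ cj g := e.symm ▸ hy
        have := hcon _ ((hmem_cj g x).1 hx) _ ((hmem_cj g y).1 hy')
        calc x * y = g * ((g⁻¹ * x * g) * (g⁻¹ * y * g)) * g⁻¹ := by group
          _ = g * ((g⁻¹ * y * g) * (g⁻¹ * x * g)) * g⁻¹ := by rw [this]
          _ = y * x := by group
      · exact hcomm g g' e x hx y hy
    have hle : M ≤ centralizer (M : Set G) := by
      rw [le_centralizer_iff]
      conv_lhs => rw [← hgen]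
      refine iSup_le fun g x hx => mem_centralizer_iff.2 fun y hy => ?_
      have hM' : M ≤ centralizer ({x} : Set G) := by
        rw [← hgen]
        exact iSup_le fun g' z hz => mem_centralizer_singleton_iff.2 (hall g' g z hz x hx)
      exact mem_centralizer_singleton_iff.1 (hM' hy)
    exact fun x hx y hy => (mem_centralizer_iff.1 (hle hx) y hy).symm
  set C1 := M ⊓ centralizer (T : Set G) with hC1
  have hother : ∀ g, cj g ≠ T → cj g ≤ C1 := fun g hg x hx =>
    ⟨hcjM g hx, mem_centralizer_iff.2 fun y hy =>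
      hcomm 1 g (by rw [hT1]; exact hg.symm) y (hT1.symm ▸ hy) x hx⟩
  -- T is simple
  haveI hTs : IsSimpleGroup T := by
    haveI : Nontrivial T := (nontrivial_iff_ne_bot T).2 hTne
    refine ⟨fun K hK => ?_⟩
    have hKT : K.map T.subtype ≤ T := map_subtype_le _
    have hKn : M ≤ normalizer ((K.map T.subtype : Subgroup G) : Set G) := by
      rw [← hgen]
      refine iSup_le fun g => ?_
      rcases eq_or_ne (cj g) T with e | e
      · rw [e]
        intro a ha
        refine mem_normalizer_iff.2 fun z => ⟨?_, ?_⟩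
        · rintro ⟨y, hy, rfl⟩
          exact ⟨_, hK.conj_mem y hy ⟨a, ha⟩, rfl⟩
        · rintro ⟨y, hy, hyz⟩
          refine ⟨_, hK.conj_mem y hy ⟨a, ha⟩⁻¹, ?_⟩
          show a⁻¹ * (y : G) * a⁻¹⁻¹ = z
          rw [show (y : G) = a * z * a⁻¹ from hyz]; group
      · exact fun a ha => centralizer_le_normalizer _ (mem_centralizer_iff.2 fun y hy =>
          mem_centralizer_iff.1 (hother g e ha).2 y (hKT hy))
    rcases hTmin _ hKT hKn with h | h
    · exact Or.inl ((map_eq_bot_iff_of_injective _ T.subtype_injective).1 h)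
    · refine Or.inr (eq_top_iff.2 fun x _ => ?_)
      obtain ⟨y, hy, e⟩ := (h.symm ▸ x.2 : (x : G) ∈ K.map T.subtype)
      exact Subtype.ext e ▸ hy
  have hTnc : ∃ a b : T, a * b ≠ b * a := by
    obtain ⟨a, ha, b, hb, hab⟩ := hnotcomm
    exact ⟨⟨a, ha⟩, ⟨b, hb⟩, fun e => hab (congrArg Subtype.val e)⟩
  have hTcen : T ⊓ centralizer (T : Set G) = ⊥ := by
    refine (eq_bot_iff_forall _).2 fun x hx => ?_
    have hc : (⟨x, hx.1⟩ : T) ∈ center T := mem_center_iff.2 fun g =>
      Subtype.ext (mem_centralizer_iff.1 hx.2 g g.2)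
    rcases IsSimpleGroup.eq_bot_or_eq_top_of_normal (center T) inferInstance with h | h
    · rw [h, mem_bot] at hc
      exact congrArg Subtype.val hc
    · obtain ⟨a, b, hab⟩ := hTnc
      exact absurd (mem_center_iff.1 (h ▸ mem_top b : b ∈ center T) a) hab
  have hTC1 : ∀ s ∈ T, ∀ c ∈ C1, s * c = c * s := fun s hs c hc =>
    mem_centralizer_iff.1 hc.2 s hs
  have hC1n : M ≤ normalizer (C1 : Set G) := by
    intro m hm
    refine mem_normalizer_iff.2 fun x => and_congr
      (mem_normalizer_iff.1 (le_normalizer hm) x) ?_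
    have hm' := hTn hm
    constructor
    · intro hx
      refine mem_centralizer_iff.2 fun y hy => ?_
      have h := mem_centralizer_iff.1 hx _ ((mem_normalizer_iff''.1 hm' y).1 hy)
      calc y * (m * x * m⁻¹) = m * (m⁻¹ * y * m * x) * m⁻¹ := by group
        _ = m * (x * (m⁻¹ * y * m)) * m⁻¹ := by rw [h]
        _ = m * x * m⁻¹ * y := by group
    · intro hx
      refine mem_centralizer_iff.2 fun y hy => ?_
      have h := mem_centralizer_iff.1 hx _ ((mem_normalizer_iff.1 hm' y).1 hy)
      calc y * x = m⁻¹ * (m * y * m⁻¹ * (m * x * m⁻¹)) * m := by group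
        _ = m⁻¹ * (m * x * m⁻¹ * (m * y * m⁻¹)) * m := by rw [h]
        _ = x * y := by group
  set Mα := M ⊓ H with hMα
  have hHMα : H ≤ normalizer (Mα : Set G) := fun h hh =>
    mem_normalizer_iff.2 fun x => and_congr
      (mem_normalizer_iff.1 (by rw [normalizer_eq_top (H := M)]; exact mem_top h) x)
      (mem_normalizer_iff.1 (le_normalizer hh) x)
  by_cases hone : ∀ g, cj g = T
  · -- M = T is simple
    have hTeq : T = M := by rw [← hgen]; exact le_antisymm (hT1 ▸ le_iSup cj 1) (iSup_le fun g => (hone g).le)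
    subst hTeq
    by_cases hc : centralizer (T : Set G) = ⊥
    · exact Or.inr ⟨T, hMn, hTs, fun h => hMc fun x hx y hy =>
        congrArg Subtype.val (h.is_comm.comm (⟨x, hx⟩ : T) ⟨y, hy⟩), hc⟩
    · exfalso
      set C := centralizer (T : Set G) with hC
      haveI hCn : C.Normal := inferInstance
      have hsemi : ∀ A B : Subgroup G, B.Normal → B ≠ ⊥ → (∀ x ∈ A, ∀ y ∈ B, x * y = y * x) →
          A ⊓ H = ⊥ := by
        intro A B hB hBne hAB
        refine (eq_bot_iff_forall _).2 fun x hx => FaithfulSMul.eq_of_smul_eq_smul (α := Ω) fun b => ?_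
        obtain ⟨n, hn, rfl⟩ := htrans B hB hBne α b
        rw [one_smul, ← mul_smul, hAB x hx.1 n hn, mul_smul]
        exact congrArg (n • ·) hx.2
      refine pair_false α hmax T C hTnc (fun t ht c hc' => mem_centralizer_iff.1 hc' t ht) hTcen
        (hsemi T C hCn hc fun x hx y hy => mem_centralizer_iff.1 hy x hx)
        (hsemi C T hMn hMne fun x hx y hy => (mem_centralizer_iff.1 hx y hy).symm)
        (fun s hs => ?_) (fun h _ x hx => (inferInstance : (T ⊔ C).Normal).conj_mem x hx h)
        (fun h hh t ht htα n => ?_)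
      · obtain ⟨c, hc', e⟩ := htrans C hCn hc α (s⁻¹ • α)
        exact ⟨c, hc', mem_stabilizer_iff.2 (by rw [mul_smul, e, smul_inv_smul])⟩
      · have h1 : t⁻¹ * (h * t * h⁻¹) ∈ T ⊓ H := by
          refine ⟨Subgroup.mul_mem _ (Subgroup.inv_mem _ ht) (hMn.conj_mem t ht h), mul_smul_eq.1 ?_⟩
          rw [mul_smul, mul_smul, show h⁻¹ • α = α from mem_stabilizer_iff.1 (Subgroup.inv_mem _ hh)]
          exact htα
        rw [hsemi T C hCn hc fun x hx y hy => mem_centralizer_iff.1 hy x hx, mem_bot,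
          inv_mul_eq_one] at h1
        have hcom : Commute h t := by
          show h * t = t * h
          calc h * t = h * t * h⁻¹ * h := by group
            _ = t * h := by rw [← h1]
        rw [← mul_smul, (hcom.pow_right n).eq, mul_smul, show h • α = α from hh]
  -- now there are several factors
  exfalso
  push Not at hone
  obtain ⟨g1, hg1⟩ := hone
  have hsup : T ⊔ C1 = M := by
    refine le_antisymm (sup_le hTM inf_le_left) ?_
    rw [← hgen]
    refine iSup_le fun g => ?_
    rcases eq_or_ne (cj g) T with e | e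
    · rw [e]; exact le_sup_left
    · exact (hother g e).trans le_sup_right
  have hconjH : ∀ g, ∃ h ∈ H, cj h = cj g := by
    intro g
    obtain ⟨m, hm, h, hh, e⟩ := hMH g⁻¹
    refine ⟨h⁻¹, Subgroup.inv_mem _ hh, ?_⟩
    have hg : g = h⁻¹ * m⁻¹ := by rw [← inv_inv g, e, mul_inv_rev]
    subst hg
    ext x
    rw [hmem_cj, hmem_cj, show (h⁻¹ * m⁻¹)⁻¹ * x * (h⁻¹ * m⁻¹) = m * (h⁻¹⁻¹ * x * h⁻¹) * m⁻¹ by group]
    exact mem_normalizer_iff.1 (hTn hm) _
  have hNH : H ⊓ normalizer (T : Set G) ≠ H := by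
    intro e
    apply hg1
    haveI := hnorm_of T hTn (e ▸ inf_le_right)
    ext x
    rw [hmem_cj]
    exact ⟨fun h => by simpa [mul_assoc] using (inferInstance : T.Normal).conj_mem _ h g1,
      fun h => by simpa using (inferInstance : T.Normal).conj_mem _ h g1⁻¹⟩
  have hconj_cj : ∀ h : G, ∀ t ∈ T, h * t * h⁻¹ ∈ cj h := fun h t ht =>
    ⟨t, ht, rfl⟩
  have hcjeq : ∀ h : G, cj h = T → h ∈ normalizer (T : Set G) := fun h e => by
    rw [mem_normalizer_iff_map_conj_eq]; exact e
  -- membership of h in the stabilizer of t • α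
  have hfix : ∀ h ∈ H, ∀ t : G, h • t • α = t • α → t⁻¹ * (h * t * h⁻¹) ∈ H := by
    intro h hh t e
    refine mul_smul_eq.1 ?_
    rw [mul_smul, mul_smul, show h⁻¹ • α = α from mem_stabilizer_iff.1 (Subgroup.inv_mem _ hh)]
    exact e
  -- if N_H(T) fixes t • α then t normalizes M ⊓ H
  have hnorm_t : ∀ t ∈ T, (∀ h ∈ H ⊓ normalizer (T : Set G), h • t • α = t • α) →
      t⁻¹ ∈ normalizer (Mα : Set G) := by
    intro t ht hall
    rw [mem_normalizer_iff_map_conj_eq]
    refine eq_of_le_of_card_ge ?_ (card_map_of_injective (MulEquiv.injective _)).ge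
    rintro _ ⟨a, ha, rfl⟩
    refine ⟨hMn.conj_mem a ha.1 t⁻¹, ?_⟩
    show t⁻¹ * a * t⁻¹⁻¹ ∈ H
    rw [inv_inv, mul_assoc]
    refine mul_smul_eq.1 ?_
    rw [mul_smul]
    exact hall a ⟨ha.2, hTn ha.1⟩
  have hbot_of : T ≤ normalizer (Mα : Set G) → Mα = ⊥ := by
    intro hT'
    refine hcore Mα (hnorm_of Mα ?_ hHMα) inf_le_right
    rw [← hgen]
    refine iSup_le fun g => ?_
    obtain ⟨h, hh, e⟩ := hconjH g
    rw [← e]
    rintro _ ⟨t, ht, rfl⟩
    exact Subgroup.mul_mem _ (Subgroup.mul_mem _ (hHMα hh) (hT' ht)) (Subgroup.inv_mem _ (hHMα hh))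
  set R := (Mα ⊔ C1) ⊓ T with hR
  by_cases hRT : R = T
  · -- every factor is projected onto by M ⊓ H
    have hTMα : T ⊓ Mα = ⊥ := by
      have hn : T ≤ normalizer ((T ⊓ Mα : Subgroup G) : Set G) := by
        intro s hs
        have h1 : (Mα ⊔ C1) ≤ normalizer ((T ⊓ Mα : Subgroup G) : Set G) := by
          refine sup_le (fun a ha => ?_) (fun c hc => ?_)
          · exact mem_normalizer_iff.2 fun x => and_congr (mem_normalizer_iff.1 (hTn ha.1) x)
              (mem_normalizer_iff.1 (le_normalizer ha) x)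
          · refine centralizer_le_normalizer _ (mem_centralizer_iff.2 fun y hy => ?_)
            exact hTC1 y hy.1 c hc
        exact h1 ((hRT.symm ▸ hs : s ∈ R).1)
      have hn' : ((T ⊓ Mα).subgroupOf T).Normal :=
        ⟨fun y hy s => (mem_normalizer_iff.1 (hn s.2) y).1 hy⟩
      rcases IsSimpleGroup.eq_bot_or_eq_top_of_normal _ hn' with h | h
      · rw [subgroupOf_eq_bot, disjoint_iff, inf_assoc, inf_comm Mα T, ← inf_assoc, inf_idem] at h
        exact h
      · exfalso
        rw [subgroupOf_eq_top] at h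
        have hall : ∀ g, cj g ≤ H := by
          intro g
          obtain ⟨a, ha, e⟩ := hconjH g
          rw [← e]
          rintro _ ⟨t, ht, rfl⟩
          exact Subgroup.mul_mem _ (Subgroup.mul_mem _ ha (h ht).2.2) (Subgroup.inv_mem _ ha)
        exact hMne (hcore M hMn (hgen ▸ iSup_le hall))
    -- a second factor tied to T
    obtain ⟨g', hg', hD⟩ : ∃ g', cj g' ≠ T ∧ Mα ⊓ (T ⊔ cj g') ≠ ⊥ := by
      by_contra hcon
      push Not at hcon
      have hgood : ∀ t ∈ T, t ≠ 1 → ∀ h ∈ H, h • t • α = t • α → cj h = T := by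
        intro t ht ht1 h hh e
        by_contra hne
        have h1 := hconj_cj h t ht
        have h2 : t⁻¹ * (h * t * h⁻¹) ∈ Mα ⊓ (T ⊔ cj h) :=
          ⟨⟨Subgroup.mul_mem _ (Subgroup.inv_mem _ (hTM ht)) (hcjM h h1), hfix h hh t e⟩,
            mul_mem_sup (Subgroup.inv_mem _ ht) h1⟩
        rw [hcon h hne, mem_bot, inv_mul_eq_one] at h2
        have h3 : t ∈ T ⊓ centralizer (T : Set G) := ⟨ht, (hother h hne (by rw [h2]; exact h1)).2⟩
        rw [hTcen, mem_bot] at h3
        exact ht1 h3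
      have hT' : T ≤ normalizer (Mα : Set G) := by
        intro t ht
        by_cases ht1 : t = 1
        · rw [ht1]; exact one_mem _
        rw [← inv_inv t]
        refine Subgroup.inv_mem _ (hnorm_t t ht fun h hh => ?_)
        exact hmax (t • α) (H ⊓ normalizer (T : Set G))
          (fun x hx => ⟨hx.1, hcjeq x (hgood t ht ht1 x hx.1 hx.2)⟩) inf_le_left hNH hh
      have h0 := hbot_of hT'
      rw [hR, h0, bot_sup_eq] at hRT
      exact hTne (le_bot_iff.1 (hTcen ▸ le_inf le_rfl ((hRT.ge.trans inf_le_left).trans inf_le_right)))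
    -- the projection of the pair onto T is everything
    have hproj : ∀ g, cj g ≠ T → Mα ⊓ (T ⊔ cj g) ≠ ⊥ → ∀ s ∈ T, ∃ c ∈ cj g, s * c ∈ Mα := by
      intro g hg hne
      have hdec : ∀ x ∈ T ⊔ cj g, ∃ s ∈ T, ∃ c ∈ cj g, x = s * c := by
        intro x hx
        rw [← SetLike.mem_coe, coe_mul_of_left_le_normalizer_right _ _ ((hTM).trans (hcjn g))] at hx
        obtain ⟨s, hs, c, hc, e⟩ := hx
        exact ⟨s, hs, c, hc, e.symm⟩
      let P : Subgroup G :=
        { carrier := {s | s ∈ T ∧ ∃ c ∈ cj g, s * c ∈ Mα}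
          one_mem' := ⟨T.one_mem, 1, one_mem _, by rw [one_mul]; exact one_mem _⟩
          mul_mem' := by
            rintro a b ⟨ha, c, hc, hac⟩ ⟨hb, d, hd, hbd⟩
            refine ⟨T.mul_mem ha hb, c * d, Subgroup.mul_mem _ hc hd, ?_⟩
            have hbc := hTC1 b hb c (hother g hg hc)
            have e : a * b * (c * d) = a * c * (b * d) := by
              calc a * b * (c * d) = a * (b * c) * d := by group
                _ = a * (c * b) * d := by rw [hbc]
                _ = a * c * (b * d) := by group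
            rw [e]; exact Subgroup.mul_mem _ hac hbd
          inv_mem' := by
            rintro a ⟨ha, c, hc, hac⟩
            refine ⟨T.inv_mem ha, c⁻¹, Subgroup.inv_mem _ hc, ?_⟩
            have hac' := hTC1 a ha c (hother g hg hc)
            rw [← mul_inv_rev, ← hac']
            exact Subgroup.inv_mem _ hac }
      have hPn : (P.subgroupOf T).Normal := by
        refine ⟨fun y hy s => ?_⟩
        have h1 : (Mα ⊔ C1) ≤ normalizer (P : Set G) := by
          refine sup_le (fun a ha => ?_) (fun c hc => ?_)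
          · rw [mem_normalizer_iff_map_conj_eq]
            refine eq_of_le_of_card_ge ?_ (card_map_of_injective (MulEquiv.injective _)).ge
            rintro _ ⟨x, ⟨hx, c, hc, hxc⟩, rfl⟩
            refine ⟨(mem_normalizer_iff.1 (hTn ha.1) x).1 hx, a * c * a⁻¹,
              (mem_normalizer_iff.1 (hcjn g ha.1) c).1 hc, ?_⟩
            show a * x * a⁻¹ * (a * c * a⁻¹) ∈ Mα
            rw [show a * x * a⁻¹ * (a * c * a⁻¹) = a * (x * c) * a⁻¹ by group]
            exact Subgroup.mul_mem _ (Subgroup.mul_mem _ ha hxc) (Subgroup.inv_mem _ ha)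
          · refine centralizer_le_normalizer _ (mem_centralizer_iff.2 fun x hx => ?_)
            exact hTC1 x hx.1 c hc
        exact (mem_normalizer_iff.1 (h1 ((hRT.symm ▸ s.2 : (s : G) ∈ R).1)) y).1 hy
      rcases IsSimpleGroup.eq_bot_or_eq_top_of_normal _ hPn with h | h
      · exfalso
        refine hne ((eq_bot_iff_forall _).2 fun x hx => ?_)
        obtain ⟨s, hs, c, hc, rfl⟩ := hdec x hx.2
        have hs1 : (⟨s, hs⟩ : T) ∈ P.subgroupOf T := ⟨hs, c, hc, hx.1⟩
        rw [h, mem_bot] at hs1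
        have hs1' : s = 1 := congrArg Subtype.val hs1
        rw [hs1', one_mul] at hx ⊢
        obtain ⟨a, ha, e⟩ := hconjH g
        rw [← e, hmem_cj] at hc
        have : a⁻¹ * c * a ∈ T ⊓ Mα := ⟨hc, (mem_normalizer_iff''.1 (hHMα ha) c).1 hx.1⟩
        rw [hTMα, mem_bot] at this
        calc c = a * (a⁻¹ * c * a) * a⁻¹ := by group
          _ = 1 := by rw [this]; group
      · intro s hs
        exact ((subgroupOf_eq_top.1 h) hs).2
    have huniq : ∀ g, cj g ≠ T → Mα ⊓ (T ⊔ cj g) ≠ ⊥ → cj g = cj g' := by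
      intro g hg hne
      by_contra hgg
      obtain ⟨a, ha, b, hb, hab⟩ := hnotcomm
      obtain ⟨c, hc, hac⟩ := hproj g hg hne a ha
      obtain ⟨d, hd, hbd⟩ := hproj g' hg' hD b hb
      have e1 := hcomm g g' hgg c hc d hd
      have e2 := hTC1 b hb c (hother g hg hc)
      have e3 := hTC1 a ha d (hother g' hg' hd)
      have h1 : a * c * (b * d) * ((b * d) * (a * c))⁻¹ = a * b * (b * a)⁻¹ := by
        have l : a * c * (b * d) = a * b * (c * d) := by
          calc a * c * (b * d) = a * (c * b) * d := by group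
            _ = a * (b * c) * d := by rw [e2]
            _ = a * b * (c * d) := by group
        have r : b * d * (a * c) = b * a * (c * d) := by
          calc b * d * (a * c) = b * (d * a) * c := by group
            _ = b * (a * d) * c := by rw [e3]
            _ = b * a * (d * c) := by group
            _ = b * a * (c * d) := by rw [e1]
        rw [l, r]; group
      have h2 : a * b * (b * a)⁻¹ ∈ T ⊓ Mα :=
        ⟨Subgroup.mul_mem _ (Subgroup.mul_mem _ ha hb) (Subgroup.inv_mem _ (Subgroup.mul_mem _ hb ha)),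
          h1 ▸ Subgroup.mul_mem _ (Subgroup.mul_mem _ hac hbd) (Subgroup.inv_mem _ (Subgroup.mul_mem _ hbd hac))⟩
      rw [hTMα, mem_bot, mul_inv_eq_one] at h2
      exact hab h2
    obtain ⟨h', hh', ecj⟩ := hconjH g'
    rw [← ecj] at hg' hD huniq
    by_cases hpair : (T ⊔ cj h').Normal
    · -- two factors
      have hM2 : T ⊔ cj h' = M :=
        (hMmin _ hpair (sup_le hTM (hcjM h'))).resolve_left
          (fun e => hTne (le_bot_iff.1 (e ▸ le_sup_left)))
      refine pair_false α hmax T (cj h') hTnc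
        (fun t ht c hc => hTC1 t ht c (hother h' hg' hc))
        (le_bot_iff.1 (hTcen ▸ inf_le_inf_left T ((hother h' hg').trans inf_le_right)))
        (le_bot_iff.1 (hTMα ▸ le_inf inf_le_left (le_inf (inf_le_left.trans hTM) inf_le_right)))
        ?_ (fun s hs => by
          obtain ⟨c, hc, hsc⟩ := hproj h' hg' hD s hs
          exact ⟨c, hc, hsc.2⟩)
        (fun h _ x hx => hpair.conj_mem x hx h) (fun h hh t ht htα n => ?_)
      · refine (eq_bot_iff_forall _).2 fun c hc => ?_
        have hc' : h'⁻¹ * c * h' ∈ T ⊓ Mα := by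
          refine ⟨(hmem_cj h' c).1 hc.1, ?_⟩
          exact ⟨hTM ((hmem_cj h' c).1 hc.1), Subgroup.mul_mem _ (Subgroup.mul_mem _ (Subgroup.inv_mem _ hh') hc.2) hh'⟩
        rw [hTMα, mem_bot] at hc'
        calc c = h' * (h'⁻¹ * c * h') * h'⁻¹ := by group
          _ = 1 := by rw [hc']; group
      · have h1 := hfix h hh t htα
        set u := h * t * h⁻¹ with hu
        have hu1 : u ∈ cj h := hconj_cj h t ht
        rw [← mul_smul, mul_smul_eq]
        have e : (t ^ n)⁻¹ * (h * t ^ n) = (t ^ n)⁻¹ * u ^ n * h := by rw [hu, conj_pow]; group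
        rw [e]
        refine mul_mem ?_ hh
        rcases eq_or_ne (cj h) T with e' | e'
        · have h2 : t⁻¹ * u ∈ T ⊓ Mα :=
            ⟨Subgroup.mul_mem _ (Subgroup.inv_mem _ ht) (e' ▸ hu1), Subgroup.mul_mem _ (Subgroup.inv_mem _ (hTM ht)) (hcjM h hu1), h1⟩
          rw [hTMα, mem_bot, inv_mul_eq_one] at h2
          rw [← h2, inv_mul_cancel]; exact one_mem _
        · have hc : Commute t u := hTC1 t ht u (hother h e' hu1)
          rw [show (t ^ n)⁻¹ * u ^ n = (t⁻¹ * u) ^ n by rw [hc.inv_left.mul_pow, inv_pow]]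
          exact pow_mem h1 n
    · set K := H ⊓ normalizer ((T ⊔ cj h' : Subgroup G) : Set G) with hK
      have hKH : K ≠ H := by
        intro e
        refine hpair (hnorm_of _ ?_ (e ▸ inf_le_right))
        intro m hm
        rw [mem_normalizer_iff_map_conj_eq, Subgroup.map_sup, mem_normalizer_iff_map_conj_eq.1 (hTn hm),
          mem_normalizer_iff_map_conj_eq.1 (hcjn h' hm)]
      obtain ⟨a, ha, b, hb, hab⟩ := hnotcomm
      have hb1 : b ≠ 1 := by rintro rfl; exact hab (by simp)
      have hmapcj : ∀ x y : G, (cj y).map (MulAut.conj x).toMonoidHom = cj (x * y) := by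
        intro x y
        rw [hcj]
        simp only [map_map]
        congr 1
        ext z
        simp [MulAut.conj_apply, mul_assoc]
      -- partners are transported by H
      have hpart : ∀ x ∈ H, (cj x = T ∧ cj (x * h') = cj h') ∨ (cj x = cj h' ∧ cj (x * h') = T) →
          x ∈ K := by
        intro x hx hcase
        refine ⟨hx, ?_⟩
        show x ∈ normalizer _
        rw [mem_normalizer_iff_map_conj_eq, Subgroup.map_sup]
        show cj x ⊔ (cj h').map (MulAut.conj x).toMonoidHom = _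
        rw [hmapcj]
        show cj x ⊔ cj (x * h') = _
        rcases hcase with ⟨e1, e2⟩ | ⟨e1, e2⟩
        · rw [e1, e2]
        · rw [e1, e2, sup_comm]
      have hD' : ∀ x ∈ H, Mα ⊓ (cj x ⊔ cj (x * h')) ≠ ⊥ := by
        intro x hx e
        apply hD
        refine (eq_bot_iff_forall _).2 fun d hd => ?_
        have h1 : x * d * x⁻¹ ∈ Mα ⊓ (cj x ⊔ cj (x * h')) := by
          refine ⟨(mem_normalizer_iff.1 (hHMα hx) d).1 hd.1, ?_⟩
          rw [← hmapcj x h', ← Subgroup.map_sup]
          exact ⟨d, hd.2, rfl⟩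
        rw [e, mem_bot] at h1
        calc d = x⁻¹ * (x * d * x⁻¹) * x := by group
          _ = 1 := by rw [h1]; group
      have hfixb : ∀ x ∈ H, x • b • α = b • α → x ∈ K := by
        intro x hx e
        refine hpart x hx ?_
        rcases eq_or_ne (cj x) T with e1 | e1
        · left
          refine ⟨e1, huniq _ ?_ ?_⟩
          · intro e2
            apply hg'
            have := congrArg (Subgroup.map (MulAut.conj x⁻¹).toMonoidHom) (e2.trans e1.symm)
            rw [hmapcj, hmapcj, inv_mul_cancel_left, inv_mul_cancel, hT1] at this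
            exact this
          · have := hD' x hx
            rwa [e1] at this
        · right
          have h1 := hconj_cj x b hb
          have hne : Mα ⊓ (T ⊔ cj x) ≠ ⊥ := by
            intro e0
            have h2 : b⁻¹ * (x * b * x⁻¹) ∈ Mα ⊓ (T ⊔ cj x) :=
              ⟨⟨Subgroup.mul_mem _ (Subgroup.inv_mem _ (hTM hb)) (hcjM x h1), hfix x hx b e⟩, mul_mem_sup (Subgroup.inv_mem _ hb) h1⟩
            rw [e0, mem_bot, inv_mul_eq_one] at h2
            have h3 : b ∈ T ⊓ centralizer (T : Set G) := ⟨hb, (hother x e1 (by rw [h2]; exact h1)).2⟩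
            rw [hTcen, mem_bot] at h3
            exact hb1 h3
          have e2 := huniq x e1 hne
          refine ⟨e2, ?_⟩
          by_contra e3
          -- cj x⁻¹ is a partner of T as well
          have h4 : cj (x⁻¹) ≠ T := by
            intro e4
            apply e1
            have := congrArg (Subgroup.map (MulAut.conj x).toMonoidHom) e4
            rw [hmapcj, mul_inv_cancel, hT1, ← hT1, hmapcj, mul_one, hT1] at this
            exact this.symm
          have h5 : Mα ⊓ (T ⊔ cj x⁻¹) ≠ ⊥ := by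
            intro e0
            apply hne
            refine (eq_bot_iff_forall _).2 fun d hd => ?_
            have h6 : x⁻¹ * d * x ∈ Mα ⊓ (T ⊔ cj x⁻¹) := by
              refine ⟨(mem_normalizer_iff''.1 (hHMα hx) d).1 hd.1, ?_⟩
              have h7 : (T ⊔ cj x).map (MulAut.conj x⁻¹).toMonoidHom = T ⊔ cj x⁻¹ := by
                rw [Subgroup.map_sup, hmapcj, inv_mul_cancel, hT1, sup_comm]
              rw [← h7]
              exact ⟨d, hd.2, by simp [MulAut.conj_apply]⟩
            rw [e0, mem_bot] at h6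
            calc d = x * (x⁻¹ * d * x) * x⁻¹ := by group
              _ = 1 := by rw [h6]; group
          have h8 := congrArg (Subgroup.map (MulAut.conj x).toMonoidHom) (huniq _ h4 h5)
          rw [hmapcj, hmapcj, mul_inv_cancel, hT1] at h8
          exact e3 h8.symm
      have hKfix := hmax (b • α) K (fun x hx => ⟨hx.1, (hfixb x hx.1 hx.2).2⟩) inf_le_left hKH
      obtain ⟨c, hc, hac⟩ := hproj h' hg' hD a ha
      have hdK : a * c ∈ K := by
        refine ⟨hac.2, ?_⟩
        have hm : a * c ∈ M := hac.1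
        show a * c ∈ normalizer _
        rw [mem_normalizer_iff_map_conj_eq, Subgroup.map_sup, mem_normalizer_iff_map_conj_eq.1 (hTn hm),
          mem_normalizer_iff_map_conj_eq.1 (hcjn h' hm)]
      have h1 : b⁻¹ * (a * c * b) ∈ H := mul_smul_eq.1 (by rw [mul_smul]; exact hKfix hdK)
      have hbc := hTC1 b hb c (hother h' hg' hc)
      have e2 : b⁻¹ * (a * c * b) = b⁻¹ * a * b * a⁻¹ * (a * c) := by
        calc b⁻¹ * (a * c * b) = b⁻¹ * a * (c * b) := by group
          _ = b⁻¹ * a * (b * c) := by rw [hbc]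
          _ = _ := by group
      rw [e2] at h1
      have h2' : b⁻¹ * a * b * a⁻¹ ∈ T := Subgroup.mul_mem _ (Subgroup.mul_mem _ (Subgroup.mul_mem _ (Subgroup.inv_mem _ hb) ha) hb) (Subgroup.inv_mem _ ha)
      have h2 : b⁻¹ * a * b * a⁻¹ ∈ T ⊓ Mα :=
        ⟨h2', hTM h2', (Subgroup.mul_mem_cancel_right H hac.2).1 h1⟩
      rw [hTMα, mem_bot] at h2
      apply hab
      calc a * b = b * (b⁻¹ * a * b * a⁻¹) * a := by group
        _ = b * a := by rw [h2, mul_one]
  · -- a proper projection
    have hgood : ∀ t ∈ T, t ∉ R → ∀ h ∈ H, h • t • α = t • α → cj h = T := by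
      intro t ht htR h hh e
      by_contra hne
      have h1 := hconj_cj h t ht
      refine htR ⟨?_, ht⟩
      have hy : t⁻¹ * (h * t * h⁻¹) ∈ Mα :=
        ⟨Subgroup.mul_mem _ (Subgroup.inv_mem _ (hTM ht)) (hcjM h h1), hfix h hh t e⟩
      rw [show t = (h * t * h⁻¹) * (t⁻¹ * (h * t * h⁻¹))⁻¹ by group]
      exact Subgroup.mul_mem _ (mem_sup_right (hother h hne h1)) (mem_sup_left (Subgroup.inv_mem _ hy))
    have hfixN : ∀ t ∈ T, t ∉ R → ∀ x ∈ H ⊓ normalizer (T : Set G), x • t • α = t • α :=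
      fun t ht htR x hx => hmax (t • α) (H ⊓ normalizer (T : Set G))
        (fun y hy => ⟨hy.1, hcjeq y (hgood t ht htR y hy.1 hy.2)⟩) inf_le_left hNH hx
    obtain ⟨t0, ht0, ht0R⟩ : ∃ t ∈ T, t ∉ R := by
      by_contra hcon
      push Not at hcon
      exact hRT (le_antisymm inf_le_right hcon)
    have hnot : ∀ t ∈ T, t ∉ R → t ∈ normalizer (Mα : Set G) := fun t ht htR => by
      rw [← inv_inv t]; exact Subgroup.inv_mem _ (hnorm_t t ht (hfixN t ht htR))
    have hMbot : Mα = ⊥ := by
      refine hbot_of fun t ht => ?_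
      by_cases htR : t ∈ R
      · have h1 : t * t0 ∉ R := fun h => ht0R ((mul_mem_cancel_left htR).1 h)
        rw [show t = t * t0 * t0⁻¹ by group]
        exact Subgroup.mul_mem _ (hnot _ (Subgroup.mul_mem _ ht ht0) h1) (Subgroup.inv_mem _ (hnot t0 ht0 ht0R))
      · exact hnot t ht htR
    have ht01 : t0 ≠ 1 := fun h => ht0R (h ▸ one_mem _)
    -- the product of the H-conjugates of t0
    haveI := Fintype.ofFinite G
    let S : Finset G := (Finset.univ.filter (fun h => h ∈ H)).image (fun h => h * t0 * h⁻¹)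
    have hS : ∀ u, u ∈ S ↔ ∃ h ∈ H, h * t0 * h⁻¹ = u := fun u => by simp [S]
    have hsame : ∀ h ∈ H, ∀ k ∈ H, cj h = cj k → h * t0 * h⁻¹ = k * t0 * k⁻¹ := by
      intro h hh k hk e
      have hn : k⁻¹ * h ∈ normalizer (T : Set G) := by
        refine mem_normalizer_iff.2 fun x => ?_
        have e1 : ∀ y, h⁻¹ * y * h ∈ T ↔ k⁻¹ * y * k ∈ T := fun y => by rw [← hmem_cj, ← hmem_cj, e]
        have h2 := e1 (h * x * h⁻¹)
        rw [show h⁻¹ * (h * x * h⁻¹) * h = x by group,
          show k⁻¹ * (h * x * h⁻¹) * k = k⁻¹ * h * x * (k⁻¹ * h)⁻¹ by group] at h2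
        exact h2
      have h3 := hfix _ (Subgroup.mul_mem _ (Subgroup.inv_mem _ hk) hh) t0
        (hfixN t0 ht0 ht0R _ ⟨Subgroup.mul_mem _ (Subgroup.inv_mem _ hk) hh, hn⟩)
      have h4 : t0⁻¹ * (k⁻¹ * h * t0 * (k⁻¹ * h)⁻¹) ∈ Mα :=
        ⟨Subgroup.mul_mem _ (Subgroup.inv_mem _ (hTM ht0)) (hMn.conj_mem _ (hTM ht0) _), h3⟩
      rw [hMbot, mem_bot, inv_mul_eq_one] at h4
      calc h * t0 * h⁻¹ = k * (k⁻¹ * h * t0 * (k⁻¹ * h)⁻¹) * k⁻¹ := by group
        _ = k * t0 * k⁻¹ := by rw [← h4]
    have hScomm : (S : Set G).Pairwise fun u v => Commute (id u) (id v) := by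
      intro u hu v hv huv
      obtain ⟨h, hh, rfl⟩ := (hS u).1 hu
      obtain ⟨k, hk, rfl⟩ := (hS v).1 hv
      exact hcomm h k (fun e => huv (hsame h hh k hk e)) _ (hconj_cj h t0 ht0) _ (hconj_cj k t0 ht0)
    set x := S.noncommProd id hScomm with hx
    have hxM : x ∈ M := Subgroup.noncommProd_mem M hScomm fun u hu => by
      obtain ⟨h, -, rfl⟩ := (hS u).1 hu
      exact hMn.conj_mem _ (hTM ht0) h
    have hxne : x ≠ 1 := by
      intro hx1
      have ht0S : t0 ∈ S := (hS t0).2 ⟨1, one_mem _, by group⟩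
      have hsplit := Finset.mul_noncommProd_erase S ht0S id hScomm
      rw [← hx, hx1] at hsplit
      set w := (S.erase t0).noncommProd id (fun a ha b hb hab =>
        hScomm (Finset.mem_of_mem_erase ha) (Finset.mem_of_mem_erase hb) hab) with hw
      have hwC : w ∈ C1 := Subgroup.noncommProd_mem C1 _ fun u hu => by
        obtain ⟨hne, huS⟩ := Finset.mem_erase.1 hu
        obtain ⟨h, hh, rfl⟩ := (hS u).1 huS
        refine hother h (fun e => hne ?_) (hconj_cj h t0 ht0)
        have := hsame h hh 1 (one_mem _) (e.trans hT1.symm)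
        simpa using this
      have h1 : t0 ∈ T ⊓ centralizer (T : Set G) := by
        refine ⟨ht0, ?_⟩
        rw [show t0 = w⁻¹ from eq_inv_of_mul_eq_one_left hsplit]
        exact (Subgroup.inv_mem _ hwC).2
      rw [hTcen, mem_bot] at h1
      exact ht01 h1
    have hxc : ∀ h ∈ H, h * x * h⁻¹ = x := by
      intro h hh
      rw [hx]
      have e := Finset.map_noncommProd S id hScomm (MulAut.conj h).toMonoidHom
      refine Eq.trans (show h * S.noncommProd id hScomm * h⁻¹ =
        (MulAut.conj h).toMonoidHom (S.noncommProd id hScomm) from rfl) (e.trans ?_)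
      have himg : S.image (fun u => h * u * h⁻¹) = S := by
        refine Finset.eq_of_subset_of_card_le (fun u hu => ?_) ?_
        · obtain ⟨v, hv, rfl⟩ := Finset.mem_image.1 hu
          obtain ⟨k, hk, rfl⟩ := (hS v).1 hv
          exact (hS _).2 ⟨h * k, Subgroup.mul_mem _ hh hk, by group⟩
        · rw [Finset.card_image_of_injective S (f := fun u => h * u * h⁻¹) (fun a b hab => (MulAut.conj h).injective hab)]
      have hinj : Set.InjOn (fun u => h * u * h⁻¹) S := fun a _ b _ hab =>
        (MulAut.conj h).injective hab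
      have hval : S.val.map (fun u => h * u * h⁻¹) = S.val := by
        rw [← Finset.image_val_of_injOn hinj, himg]
      unfold Finset.noncommProd
      congr 1
      show S.val.map (fun u => h * u * h⁻¹) = S.val.map id
      rw [hval, Multiset.map_id]
    have hxH : x ∉ H := fun h => hxne (mem_bot.1 (hMbot ▸ (⟨hxM, h⟩ : x ∈ Mα)))
    have hxN : x ∈ normalizer (H : Set G) := by
      refine mem_normalizer_iff_map_conj_eq.2 (eq_of_le_of_card_ge ?_
        (card_map_of_injective (MulEquiv.injective _)).ge)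
      rintro _ ⟨h, hh, rfl⟩
      show x * h * x⁻¹ ∈ H
      rw [show x * h * x⁻¹ = h by
        calc x * h * x⁻¹ = h * (h⁻¹ * x * h⁻¹⁻¹) * x⁻¹ := by group
          _ = h := by rw [hxc h⁻¹ (Subgroup.inv_mem _ hh), mul_inv_cancel_right]]
      exact hh
    rcases hcoat.le_iff.1 (le_normalizer : H ≤ normalizer (H : Set G)) with e | e
    · have hb : H = ⊥ := hcore H (normalizer_eq_top_iff.1 e) le_rfl
      apply hMc
      intro u _ v _
      by_cases hu1 : u = 1
      · simp [hu1]
      have hz : zpowers u = ⊤ := hcoat.2 _ (by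
        rw [hb, bot_lt_iff_ne_bot]; exact fun h => hu1 (zpowers_eq_bot.1 h))
      obtain ⟨i, rfl⟩ := mem_zpowers_iff.1 (hz ▸ mem_top v : v ∈ zpowers u)
      exact ((Commute.refl u).zpow_right i).eq
    · exact hxH (e ▸ hxN)

end Cfsg.Agent.Struct.ExtremelyPrimitive
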