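/-
The Frobenius-Schur indicator is an integer, and the count of square roots.
-/
import Cfsg.Agent.Lib.Char.Basic
import Mathlib.LinearAlgebra.Matrix.Kronecker
import Mathlib.LinearAlgebra.Trace
import Mathlib.LinearAlgebra.Projection

set_option autoImplicit false

namespace Cfsg.Agent.Struct.FS

open Cfsg Cfsg.Agent.Char
open scoped ComplexConjugate Kronecker

universe u

variable {G : Type u} [Group G]

theorem trace_idempotent_nat {ι : Type*} [Fintype ι] [DecidableEq ι] (e : Matrix ι ι ℂ)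
    (he : e * e = e) : ∃ m : ℕ, e.trace = m := by
  have h : IsIdempotentElem (Matrix.toLin' e) := by
    unfold IsIdempotentElem
    rw [Module.End.mul_eq_comp, ← Matrix.toLin'_mul, he]
  refine ⟨Module.finrank ℂ (LinearMap.range (Matrix.toLin' e)), ?_⟩
  rw [← Matrix.trace_toLin'_eq]
  exact (LinearMap.IsIdempotentElem.isProj_range _ h).trace

/-- The number of square roots of `g`. -/
noncomputable def sqCount [Fintype G] (g : G) : ℂ := (Nat.card {x : G // x ^ 2 = g} : ℂ)

theorem isClassFunction_sqCount [Fintype G] : IsClassFunction G (sqCount (G := G)) := fun g h => by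
  unfold sqCount
  congr 1
  exact Nat.card_congr ((MulAut.conj h).toEquiv.subtypeEquiv fun x => by
    show x ^ 2 = g ↔ (MulAut.conj h x) ^ 2 = h * g * h⁻¹
    rw [← map_pow]
    exact ⟨fun e => by rw [e]; rfl, fun e => (MulAut.conj h).injective e⟩).symm

theorem classInner_sqCount [Fintype G] (χ : G → ℂ) :
    classInner (sqCount (G := G)) χ = (Nat.card G : ℂ)⁻¹ * ∑ x : G, conj (χ (x ^ 2)) := by
  classical
  unfold classInner sqCount
  congr 1
  rw [← Finset.sum_fiberwise Finset.univ (fun x : G => x ^ 2) (fun x => conj (χ (x ^ 2)))]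
  refine Finset.sum_congr rfl fun g _ => ?_
  rw [Finset.sum_congr rfl (g := fun _ => conj (χ g)) fun x hx => by rw [(Finset.mem_filter.1 hx).2],
    Finset.sum_const, nsmul_eq_mul, ← Fintype.card_subtype, Nat.card_eq_fintype_card]

/-- The average of `χ (g ^ 2)` is an integer. -/
theorem exists_int_average [Fintype G] {χ : G → ℂ} (hχ : IsCharacter G χ) :
    ∃ z : ℤ, (Nat.card G : ℂ)⁻¹ * ∑ x : G, χ (x ^ 2) = z := by
  classical
  obtain ⟨n, ρ, rfl⟩ := hχ
  let A : G → Matrix (Fin n) (Fin n) ℂ := fun g => LinearMap.toMatrix' (ρ g)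
  have hA : ∀ g h, A (g * h) = A g * A h := fun g h => by
    show LinearMap.toMatrix' (ρ (g * h)) = _
    rw [map_mul, Module.End.mul_eq_comp, LinearMap.toMatrix'_comp]
  let K : G → Matrix (Fin n × Fin n) (Fin n × Fin n) ℂ := fun g => A g ⊗ₖ A g
  have hK : ∀ g h, K (g * h) = K g * K h := fun g h => by
    show A (g * h) ⊗ₖ A (g * h) = _
    rw [hA, Matrix.mul_kronecker_mul]
  let S : Matrix (Fin n × Fin n) (Fin n × Fin n) ℂ := Matrix.of fun p q => if p.swap = q then 1 else 0
  have hSl : ∀ (M : Matrix (Fin n × Fin n) (Fin n × Fin n) ℂ) p q, (S * M) p q = M p.swap q := fun M p q => by rw [Matrix.mul_apply]; simp [S]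
  have hSr : ∀ (M : Matrix (Fin n × Fin n) (Fin n × Fin n) ℂ) p q, (M * S) p q = M p q.swap :=
    fun M p q => by
      rw [Matrix.mul_apply]
      simp only [S, Matrix.of_apply]
      rw [Finset.sum_eq_single q.swap]
      · simp
      · intro b _ hb
        have : ¬ b.swap = q := fun h => hb (by rw [← h, Prod.swap_swap])
        simp [this]
      · exact fun h => absurd (Finset.mem_univ _) h
  have hS2 : S * S = 1 := by
    ext p q
    rw [hSl]
    by_cases h : p = q <;> simp [S, Matrix.one_apply, h, Prod.swap_inj]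
  have hKS : ∀ g, S * K g = K g * S := fun g => by
    ext p q
    rw [hSl, hSr]
    show A g p.swap.1 q.1 * A g p.swap.2 q.2 = A g p.1 q.swap.1 * A g p.2 q.swap.2
    simp [mul_comm]
  have htr : ∀ g, (K g * S).trace = ρ.character (g ^ 2) := fun g => by
    rw [Representation.character, pow_two, LinearMap.trace_eq_matrix_trace ℂ (Pi.basisFun ℂ (Fin n)),
      LinearMap.toMatrix_eq_toMatrix', show LinearMap.toMatrix' (ρ (g * g)) = A g * A g from hA g g]
    simp only [Matrix.trace, Matrix.diag, hSr, Fintype.sum_prod_type, Matrix.mul_apply]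
    rfl
  have hn0 : (Nat.card G : ℂ) ≠ 0 := Nat.cast_ne_zero.mpr Nat.card_pos.ne'
  let P := (Nat.card G : ℂ)⁻¹ • ∑ g : G, K g
  have hPg : ∀ g, K g * P = P := fun g => by
    simp only [P, mul_smul_comm, Finset.mul_sum]
    congr 1
    exact Fintype.sum_equiv (Equiv.mulLeft g) _ _ fun h => (hK g h).symm
  have hPP : P * P = P := by
    nth_rw 1 [show P = (Nat.card G : ℂ)⁻¹ • ∑ g : G, K g from rfl]
    rw [smul_mul_assoc, Finset.sum_mul]
    simp only [hPg]
    rw [Finset.sum_const, Finset.card_univ, ← Nat.card_eq_fintype_card, ← Nat.cast_smul_eq_nsmul ℂ,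
      smul_smul, inv_mul_cancel₀ hn0, one_smul]
  have hPS : S * P = P * S := by
    simp only [P, mul_smul_comm, smul_mul_assoc, Finset.mul_sum, Finset.sum_mul, hKS]
  have hhalf : (2⁻¹ : ℂ) • P + (2⁻¹ : ℂ) • P = P := by rw [← add_smul]; norm_num
  have hid : ∀ ε : ℂ, ε * ε = 1 → ∃ m : ℕ, ((2⁻¹ : ℂ) • (P + ε • (P * S))).trace = m := by
    intro ε hε
    clear_value P
    refine trace_idempotent_nat _ ?_
    have h1 : P * S * P = P * S := by rw [mul_assoc, hPS, ← mul_assoc, hPP]
    have h2 : P * (P * S) = P * S := by rw [← mul_assoc, hPP]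
    have h3 : P * S * (P * S) = P := by rw [← mul_assoc, h1, mul_assoc, hS2, mul_one]
    have hsq : (P + ε • (P * S)) * (P + ε • (P * S)) = (2 : ℂ) • (P + ε • (P * S)) := by
      rw [add_mul, mul_add, mul_add, hPP, mul_smul_comm, smul_mul_assoc, smul_mul_assoc,
        mul_smul_comm, h2, h1, h3, smul_smul, hε, one_smul, two_smul]
      abel
    rw [smul_mul_assoc, mul_smul_comm, hsq, smul_smul, smul_smul]
    norm_num
  obtain ⟨a, ha⟩ := hid 1 (one_mul 1)
  obtain ⟨b, hb⟩ := hid (-1) (by ring)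
  refine ⟨(a : ℤ) - b, ?_⟩
  have hsum : (P * S).trace = (Nat.card G : ℂ)⁻¹ * ∑ x : G, ρ.character (x ^ 2) := by
    simp only [P, smul_mul_assoc, Finset.sum_mul, Matrix.trace_smul, Matrix.trace_sum, htr, smul_eq_mul]
  rw [← hsum]
  push_cast
  rw [← ha, ← hb]
  simp only [Matrix.trace_smul, Matrix.trace_add, smul_eq_mul]
  ring

theorem exists_int_indicator [Fintype G] {χ : G → ℂ} (hχ : IsCharacter G χ) :
    ∃ z : ℤ, classInner (sqCount (G := G)) χ = z := by
  obtain ⟨z, hz⟩ := exists_int_average hχ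
  refine ⟨z, ?_⟩
  rw [classInner_sqCount, ← map_intCast (starRingEnd ℂ) z, ← hz, map_mul, map_inv₀, Complex.conj_natCast, map_sum]

end Cfsg.Agent.Struct.FS
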