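import Cfsg.Agent.Lib.Local.FStarPGroup

/-!
A normal `p`-subgroup containing its centralizer forces the generalized Fitting subgroup to be `O_p`.
-/

set_option autoImplicit false
set_option linter.style.haveILetI false

namespace Cfsg.Agent.Struct.FStarCentric

open Subgroup

theorem commute_of_coprime {F : Type*} [Group F] [Finite F] (hF : Group.IsNilpotent F) {p : ℕ} [hp : Fact p.Prime]
    {l : F} (hl : (orderOf l).Coprime p) {x : F} {k : ℕ} (hx : orderOf x = p ^ k) : l * x = x * l := by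
  classical
  have hS : ∀ (q : ℕ) (_ : Fact q.Prime) (P : Sylow q F), (↑P : Subgroup F).Normal :=
    ((isNilpotent_of_finite_tfae (G := F)).out 0 3).1 hF
  obtain ⟨P, hxP⟩ : ∃ P : Sylow p F, x ∈ P := by
    obtain ⟨P, hP⟩ := (IsPGroup.of_card (p := p) (n := k) (by rw [Nat.card_zpowers, hx]) : IsPGroup p (zpowers x)).exists_le_sylow
    exact ⟨P, hP (mem_zpowers x)⟩
  haveI := hS p hp P
  set C := centralizer ((P : Subgroup F) : Set F)
  have hC : C.Normal := by infer_instance
  suffices hlC : l ∈ C from (hlC x hxP).symm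
  have hind : ∀ q : ℕ, q.Prime → q ≠ p → ¬ q ∣ C.index := by
    intro q hq hqp hd
    haveI : Fact q.Prime := ⟨hq⟩
    let Q : Sylow q F := default
    haveI := hS q ⟨hq⟩ Q
    have hle : (Q : Subgroup F) ≤ C := fun y hy z hz =>
      (Subgroup.commute_of_normal_of_disjoint (P : Subgroup F) (Q : Subgroup F) inferInstance inferInstance
        (IsPGroup.disjoint_of_ne p q hqp.symm (P : Subgroup F) (Q : Subgroup F) P.2 Q.2) z y hz hy)
    exact Q.not_dvd_index (hd.trans (index_dvd_of_le hle))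
  rw [← QuotientGroup.eq_one_iff (N := C), ← orderOf_eq_one_iff]
  by_contra h
  obtain ⟨q, hq, hqd⟩ := Nat.exists_prime_and_dvd h
  refine hind q hq ?_ (hqd.trans ?_)
  · rintro rfl
    exact hq.ne_one (Nat.dvd_one.1 (hl.gcd_eq_one ▸ Nat.dvd_gcd (hqd.trans (orderOf_map_dvd (QuotientGroup.mk' C) l)) dvd_rfl))
  · rw [index_eq_card]
    exact orderOf_dvd_natCard _

theorem generalizedFitting_eq_pCore {G : Type*} [Group G] [Finite G] {p : ℕ} [hp : Fact p.Prime]
    (Q : Subgroup G) [Q.Normal] (hQ : IsPGroup p Q) (hC : centralizer (Q : Set G) ≤ Q) :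
    Cfsg.generalizedFittingSubgroup G = Cfsg.pCore p G := by
  have hQF : Q ≤ Cfsg.fittingSubgroup G := (Solv.le_pCore hQ).trans (Solv.pCore_le_fittingSubgroup p)
  have hL : Cfsg.layer G ≤ Q := (Local.layer_le_centralizer_fitting.trans (centralizer_le hQF)).trans hC
  have hF : Cfsg.fittingSubgroup G ≤ Cfsg.pCore p G := by
    haveI := Solv.fittingSubgroup_normal G
    refine Solv.le_pCore (fun g => ?_)
    obtain ⟨a, m, hm, he⟩ := Nat.exists_eq_pow_mul_and_not_dvd (orderOf_pos g).ne' p hp.out.ne_one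
    refine ⟨a, ?_⟩
    set l := g ^ (p ^ a)
    have hl : (orderOf l).Coprime p := Nat.Coprime.coprime_dvd_left
      (orderOf_dvd_of_pow_eq_one (by rw [← pow_mul, ← he, pow_orderOf_eq_one])) (hp.out.coprime_iff_not_dvd.2 hm).symm
    have hlC : (l : G) ∈ centralizer (Q : Set G) := fun x hx => by
      obtain ⟨k, hk⟩ := (IsPGroup.iff_orderOf.1 hQ) ⟨x, hx⟩
      rw [Subgroup.orderOf_mk] at hk
      exact (congrArg Subtype.val (commute_of_coprime (Solv.fittingSubgroup_isNilpotent G) hl
        (x := ⟨x, hQF hx⟩) (by rw [Subgroup.orderOf_mk]; exact hk))).symm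
    obtain ⟨k, hk⟩ := (IsPGroup.iff_orderOf.1 hQ) ⟨l, hC hlC⟩
    rw [Subgroup.orderOf_mk, Subgroup.orderOf_coe] at hk
    rw [hk] at hl
    rcases Nat.eq_zero_or_pos k with hk0 | hk0
    · rwa [hk0, pow_zero, orderOf_eq_one_iff] at hk
    · exact absurd hl (fun h => hp.out.coprime_iff_not_dvd.1 h.symm (dvd_pow_self p hk0.ne'))
  refine le_antisymm (sup_le (hL.trans (Solv.le_pCore hQ)) hF) ((Solv.pCore_le_fittingSubgroup p).trans le_sup_right)

end Cfsg.Agent.Struct.FStarCentric
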