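import Mathlib

/-!
Fibre powers over the quotient by a normal subgroup of prime exponent have the same element orders.
-/

set_option autoImplicit false

namespace Cfsg.Agent.Struct.FibrePower

variable {G : Type*} [Group G]

/-- A tuple congruent modulo a normal subgroup of prime exponent has the order of one of its entries. -/
theorem exists_orderOf_eq [Finite G] {ι : Type*} [Nonempty ι] (V : Subgroup G) [V.Normal] {p : ℕ}
    (hp : p.Prime) (hexp : ∀ x ∈ V, x ^ p = 1) (f : ι → G)
    (hf : ∀ i j, (QuotientGroup.mk' V) (f i) = QuotientGroup.mk' V (f j)) :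
    ∃ i, orderOf f = orderOf (f i) := by
  classical
  obtain ⟨i0⟩ := ‹Nonempty ι›
  set m := orderOf (QuotientGroup.mk' V (f i0)) with hm
  have hcase : ∀ i, orderOf (f i) = m ∨ orderOf (f i) = m * p := by
    intro i
    have hmi : m = orderOf (QuotientGroup.mk' V (f i)) := by rw [hm, hf i i0]
    have h1 : m ∣ orderOf (f i) := hmi ▸ orderOf_map_dvd _ _
    have h2 : orderOf (f i) ∣ m * p := by
      apply orderOf_dvd_of_pow_eq_one
      rw [pow_mul]
      refine hexp _ ((QuotientGroup.eq_one_iff _).1 ?_)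
      show QuotientGroup.mk' V (f i ^ m) = 1
      rw [map_pow, hmi, pow_orderOf_eq_one]
    obtain ⟨d, hd⟩ := h1
    have hm0 : 0 < m := orderOf_pos _
    rw [hd] at h2 ⊢
    rcases (Nat.dvd_prime hp).1 (Nat.dvd_of_mul_dvd_mul_left hm0 h2) with e | e
    · exact Or.inl (by rw [e, mul_one])
    · exact Or.inr (by rw [e])
  have hall : ∀ i, orderOf (f i) ∣ orderOf f := fun i =>
    orderOf_dvd_of_pow_eq_one (by rw [← Pi.pow_apply, pow_orderOf_eq_one]; rfl)
  by_cases h : ∃ i, orderOf (f i) = m * p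
  · obtain ⟨i, hi⟩ := h
    refine ⟨i, Nat.dvd_antisymm (orderOf_dvd_of_pow_eq_one (funext fun j => ?_)) (hall i)⟩
    rw [Pi.pow_apply, Pi.one_apply, ← orderOf_dvd_iff_pow_eq_one, hi]
    rcases hcase j with e | e <;> rw [e]
    exact dvd_mul_right m p
  · push Not at h
    refine ⟨i0, Nat.dvd_antisymm (orderOf_dvd_of_pow_eq_one (funext fun j => ?_)) (hall i0)⟩
    rw [Pi.pow_apply, Pi.one_apply, ← orderOf_dvd_iff_pow_eq_one, (hcase j).resolve_right (h j),
      (hcase i0).resolve_right (h i0)]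

/-- The fibre power over `G ⧸ V`. -/
def fibre (V : Subgroup G) [V.Normal] (k : ℕ) : Subgroup (Fin k → G) where
  carrier := {f | ∀ i j, QuotientGroup.mk' V (f i) = QuotientGroup.mk' V (f j)}
  one_mem' := fun _ _ => rfl
  mul_mem' := fun {a b} ha hb i j => by
    show QuotientGroup.mk' V (a i * b i) = QuotientGroup.mk' V (a j * b j)
    rw [map_mul, map_mul, ha i j, hb i j]
  inv_mem' := fun {a} ha i j => by
    show QuotientGroup.mk' V (a i)⁻¹ = QuotientGroup.mk' V (a j)⁻¹
    rw [map_inv, map_inv, ha i j]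

theorem range_orderOf_fibre [Finite G] (V : Subgroup G) [V.Normal] {p : ℕ} (hp : p.Prime)
    (hexp : ∀ x ∈ V, x ^ p = 1) (k : ℕ) :
    Set.range (orderOf : fibre V (k + 1) → ℕ) = Set.range (orderOf : G → ℕ) := by
  ext n
  constructor
  · rintro ⟨f, rfl⟩
    obtain ⟨i, hi⟩ := exists_orderOf_eq V hp hexp (f : Fin (k + 1) → G) f.2
    exact ⟨(f : Fin (k + 1) → G) i, by rw [← hi, Subgroup.orderOf_coe]⟩
  · rintro ⟨g, rfl⟩
    refine ⟨⟨fun _ => g, fun _ _ => rfl⟩, ?_⟩
    rw [← Subgroup.orderOf_coe]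
    exact orderOf_injective (Pi.constMonoidHom (Fin (k + 1)) G) (fun a b h => congrFun h 0) g

theorem card_le_fibre [Finite G] (V : Subgroup G) [V.Normal] (k : ℕ) :
    Nat.card V ^ k ≤ Nat.card (fibre V k) := by
  have e : Nat.card (Fin k → V) = Nat.card V ^ k := by rw [Nat.card_fun, Nat.card_fin]
  rw [← e]
  refine Nat.card_le_card_of_injective (fun f => (⟨fun i => (f i : G), fun i j => ?_⟩ : fibre V k))
    fun a b h => funext fun i => Subtype.ext (congrFun (congrArg Subtype.val h) i)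
  show ((f i : G) : G ⧸ V) = ((f j : G) : G ⧸ V)
  rw [(QuotientGroup.eq_one_iff _).2 (f i).2, (QuotientGroup.eq_one_iff _).2 (f j).2]

end Cfsg.Agent.Struct.FibrePower
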