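import Mathlib

/-!
Field automorphisms of a finite field of characteristic two span the additive maps.
-/

set_option autoImplicit false

namespace Cfsg.Agent.Struct.FieldAutBasis

variable {F : Type*} [Field F] [Fintype F] [CharP F 2]

theorem indep : LinearIndependent F (fun σ : F ≃+* F => ((σ : F →+* F) : F → F)) := by
  have h := linearIndependent_monoidHom F F
  exact h.comp (fun σ : F ≃+* F => ((σ : F →+* F) : F →* F))
    (fun σ τ he => RingEquiv.ext fun x => DFunLike.congr_fun he x)

theorem expand (f : F →+ F) :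
    ∃ c : (F ≃+* F) → F, ∀ x : F, f x = ∑ᶠ σ : F ≃+* F, c σ * σ x := by
  classical
  letI : Algebra (ZMod 2) F := ZMod.algebra F 2
  haveI : Fact (Nat.Prime 2) := ⟨Nat.prime_two⟩
  haveI : Finite (F ≃+* F) := Finite.of_injective (fun σ => (σ : F → F)) DFunLike.coe_injective
  haveI : Fintype (F ≃+* F) := Fintype.ofFinite _
  -- field automorphisms as linear maps
  let L : (F ≃+* F) → (F →ₗ[ZMod 2] F) := fun σ => AddMonoidHom.toZModLinearMap 2 (σ : F →+* F).toAddMonoidHom
  have hL : LinearIndependent F L := by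
    refine LinearIndependent.of_comp
      ({ toFun := fun g => (g : F → F), map_add' := fun _ _ => rfl, map_smul' := fun _ _ => rfl } : (F →ₗ[ZMod 2] F) →ₗ[F] (F → F)) ?_
    exact indep
  have hcard : Module.finrank F (F →ₗ[ZMod 2] F) = Fintype.card (F ≃+* F) := by
    rw [Module.finrank_linearMap_self, ← Nat.card_eq_fintype_card]
    have h1 : Nat.card (F ≃ₐ[ZMod 2] F) = Module.finrank (ZMod 2) F := IsGalois.card_aut_eq_finrank _ _
    rw [← h1]
    exact Nat.card_congr
      { toFun := fun σ => σ.toRingEquiv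
        invFun := fun σ => AlgEquiv.ofRingEquiv (f := σ) (fun a => by
          obtain ⟨k, rfl⟩ := ZMod.intCast_surjective a
          simp)
        left_inv := fun σ => AlgEquiv.ext fun x => rfl
        right_inv := fun σ => RingEquiv.ext fun x => rfl }
  have hspan : Submodule.span F (Set.range L) = ⊤ :=
    hL.span_eq_top_of_card_eq_finrank hcard.symm
  have hmem : AddMonoidHom.toZModLinearMap 2 f ∈ Submodule.span F (Set.range L) := hspan ▸ Submodule.mem_top
  obtain ⟨c, hc⟩ := (Submodule.mem_span_range_iff_exists_fun F).mp hmem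
  refine ⟨c, fun x => ?_⟩
  rw [finsum_eq_sum_of_fintype]
  have := LinearMap.congr_fun hc x
  simpa [L] using this.symm

theorem unique {c d : (F ≃+* F) → F} (h : ∀ x : F, ∑ᶠ σ : F ≃+* F, c σ * σ x = ∑ᶠ σ : F ≃+* F, d σ * σ x) :
    c = d := by
  classical
  haveI : Finite (F ≃+* F) := Finite.of_injective (fun σ => (σ : F → F)) DFunLike.coe_injective
  haveI : Fintype (F ≃+* F) := Fintype.ofFinite _
  funext σ
  have := Fintype.linearIndependent_iff.mp (indep (F := F)) (fun σ => c σ - d σ) (by
    funext x
    have hx := h x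
    rw [finsum_eq_sum_of_fintype, finsum_eq_sum_of_fintype] at hx
    simp [Finset.sum_apply, sub_mul, Finset.sum_sub_distrib, hx]) σ
  exact sub_eq_zero.mp this

theorem expand_two (B : F →+ F →+ F) :
    ∃ c : (F ≃+* F) → (F ≃+* F) → F, ∀ x y : F,
      B x y = ∑ᶠ τ : F ≃+* F, (∑ᶠ σ : F ≃+* F, c τ σ * σ x) * τ y := by
  classical
  haveI : Finite (F ≃+* F) := Finite.of_injective (fun σ => (σ : F → F)) DFunLike.coe_injective
  haveI : Fintype (F ≃+* F) := Fintype.ofFinite _
  choose a ha using fun x : F => expand (B x)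
  have hadd : ∀ x x' : F, a (x + x') = a x + a x' := by
    intro x x'
    apply unique
    intro y
    rw [← ha, map_add, AddMonoidHom.add_apply, ha, ha, finsum_eq_sum_of_fintype, finsum_eq_sum_of_fintype,
      finsum_eq_sum_of_fintype, ← Finset.sum_add_distrib]
    exact Finset.sum_congr rfl (fun σ _ => by simp [add_mul])
  choose c hc using fun τ : F ≃+* F => expand (AddMonoidHom.mk' (fun x => a x τ) (fun x x' => by simp [hadd]))
  refine ⟨c, fun x y => ?_⟩
  rw [ha]
  exact finsum_congr (fun τ => by rw [← hc τ x]; rfl)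

end Cfsg.Agent.Struct.FieldAutBasis
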