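import Cfsg.Prelude.Def_CaseTheorems
import Mathlib

/-! Klein four-subgroups and their commuting graph. -/

set_option autoImplicit false

namespace Cfsg.Agent.FourGraph

open Cfsg

variable {G : Type*} [Group G]

/-- The Klein four-group spanned by two commuting involutions. -/
def pairFour (a b : G) (ha : a * a = 1) (hb : b * b = 1) (hab : a * b = b * a) : Subgroup G where
  carrier := {1, a, b, a * b}
  one_mem' := by simp
  mul_mem' := by
    have h1 : a * (a * b) = b := by rw [← mul_assoc, ha, one_mul]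
    have h2 : b * (a * b) = a := by rw [hab, ← mul_assoc, hb, one_mul]
    have h3 : a * b * a = b := by rw [mul_assoc, ← hab, h1]
    have h4 : a * b * b = a := by rw [mul_assoc, hb, mul_one]
    have h5 : a * b * (a * b) = 1 := by rw [← mul_assoc, h3, hb]
    rintro x y (rfl | rfl | rfl | rfl) (rfl | rfl | rfl | rfl) <;>
      simp only [Set.mem_insert_iff, Set.mem_singleton_iff, one_mul, mul_one, ha, hb, ← hab, h1, h2, h3, h4, h5] <;>
      simp
  inv_mem' := by
    have ha' : a⁻¹ = a := inv_eq_of_mul_eq_one_right ha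
    have hb' : b⁻¹ = b := inv_eq_of_mul_eq_one_right hb
    rintro x (rfl | rfl | rfl | rfl) <;> simp [ha', hb', hab]

theorem mem_pairFour {a b : G} {ha : a * a = 1} {hb : b * b = 1} {hab : a * b = b * a} {x : G} :
    x ∈ pairFour a b ha hb hab ↔ x = 1 ∨ x = a ∨ x = b ∨ x = a * b := Iff.rfl

theorem pairFour_isKleinFour {a b : G} (ha : a * a = 1) (hb : b * b = 1) (hab : a * b = b * a)
    (ha1 : a ≠ 1) (hb1 : b ≠ 1) (hne : a ≠ b) : IsKleinFour (pairFour a b ha hb hab) := by
  have hset : ((pairFour a b ha hb hab : Subgroup G) : Set G).ncard = 4 := by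
    show ({1, a, b, a * b} : Set G).ncard = 4
    have e1 : a * b ≠ 1 := fun h => hne (by rw [← inv_eq_of_mul_eq_one_right ha]; exact inv_eq_of_mul_eq_one_right h)
    have e2 : a * b ≠ a := fun h => hb1 (mul_eq_left.mp h)
    have e3 : a * b ≠ b := fun h => ha1 (mul_eq_right.mp h)
    rw [Set.ncard_insert_of_notMem (by simp [ha1.symm, hb1.symm, e1.symm]),
      Set.ncard_insert_of_notMem (by simp [hne, e2.symm]), Set.ncard_pair e3.symm]
  have h4 : Nat.card (pairFour a b ha hb hab) = 4 := by
    rw [← hset]; exact Nat.card_coe_set_eq _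
  refine ⟨h4, ?_⟩
  haveI : Finite (pairFour a b ha hb hab) := Nat.finite_of_card_ne_zero (by omega)
  haveI : Nontrivial (pairFour a b ha hb hab) := Finite.one_lt_card_iff_nontrivial.mp (by omega)
  refine (Nat.dvd_prime Nat.prime_two).mp (Monoid.exponent_dvd_of_forall_pow_eq_one fun x => ?_) |>.resolve_left ?_
  · apply Subtype.ext
    rw [Subgroup.coe_pow, pow_two, Subgroup.coe_one]
    rcases mem_pairFour.mp x.2 with h | h | h | h <;> rw [h]
    · exact one_mul 1
    · exact ha
    · exact hb
    · rw [mul_assoc, ← mul_assoc b a b, ← hab, mul_assoc a b b, hb, mul_one, ha]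
  · intro h
    exact not_subsingleton _ (Monoid.exp_eq_one_iff.mp h)

theorem pow_two_of_four {U : Subgroup G} (hU : IsKleinFour U) {x : G} (hx : x ∈ U) : x * x = 1 := by
  have h := Monoid.pow_exponent_eq_one (⟨x, hx⟩ : U)
  rw [hU.exponent_two] at h
  simpa [pow_two] using congrArg Subtype.val h

theorem comm_of_four {U : Subgroup G} (hU : IsKleinFour U) {x y : G} (hx : x ∈ U) (hy : y ∈ U) :
    x * y = y * x := by
  have h := pow_two_of_four hU (U.mul_mem hx hy)
  calc x * y = (x * y)⁻¹ := (inv_eq_of_mul_eq_one_right h).symm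
    _ = y⁻¹ * x⁻¹ := mul_inv_rev x y
    _ = y * x := by
      rw [inv_eq_of_mul_eq_one_right (pow_two_of_four hU hx), inv_eq_of_mul_eq_one_right (pow_two_of_four hU hy)]

theorem four_map {H : Type*} [Group H] (f : G →* H) (hf : Function.Injective f) {U : Subgroup G}
    (hU : IsKleinFour U) : IsKleinFour (U.map f) := by
  let e := U.equivMapOfInjective f hf
  exact ⟨(Nat.card_congr e.toEquiv).symm.trans hU.card_four,
    (Monoid.exponent_eq_of_mulEquiv e).symm.trans hU.exponent_two⟩

/-- The edge relation of the graph. -/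
def Edge (A B : Subgroup G) : Prop := IsKleinFour A ∧ IsKleinFour B ∧ ∀ a ∈ A, ∀ b ∈ B, a * b = b * a

theorem edge_symm {A B : Subgroup G} (h : Edge A B) : Edge B A :=
  ⟨h.2.1, h.1, fun b hb a ha => (h.2.2 a ha b hb).symm⟩

theorem edge_map {H : Type*} [Group H] (f : G →* H) (hf : Function.Injective f) {A B : Subgroup G}
    (h : Edge A B) : Edge (A.map f) (B.map f) := by
  refine ⟨four_map f hf h.1, four_map f hf h.2.1, ?_⟩
  rintro _ ⟨a, ha, rfl⟩ _ ⟨b, hb, rfl⟩
  rw [← map_mul, h.2.2 a ha b hb, map_mul]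

theorem chain_map {H : Type*} [Group H] (f : G →* H) (hf : Function.Injective f) {A B : Subgroup G}
    (h : Relation.ReflTransGen Edge A B) : Relation.ReflTransGen Edge (A.map f) (B.map f) :=
  h.lift (fun U => U.map f) fun _ _ => edge_map f hf

theorem chain_symm {A B : Subgroup G} (h : Relation.ReflTransGen Edge A B) :
    Relation.ReflTransGen Edge B A := by
  induction h with
  | refl => exact Relation.ReflTransGen.refl
  | tail _ hbc ih => exact Relation.ReflTransGen.head (edge_symm hbc) ih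

theorem exists_four_le {A : Subgroup G} [Finite A] (hA : IsMulCommutative A) (hA2 : ∀ a ∈ A, a ^ 2 = 1)
    (h : 3 ≤ Nat.card A) : ∃ U : Subgroup G, IsKleinFour U ∧ U ≤ A := by
  haveI := Fintype.ofFinite A
  rw [Nat.card_eq_fintype_card] at h
  obtain ⟨a, b, c, hab, hac, hbc⟩ := Fintype.two_lt_card_iff.mp h
  obtain ⟨x, y, hx, hy, hxy⟩ : ∃ x y : A, x ≠ 1 ∧ y ≠ 1 ∧ x ≠ y := by
    by_cases ha : a = 1
    · exact ⟨b, c, fun e => hab (ha.trans e.symm), fun e => hac (ha.trans e.symm), hbc⟩
    by_cases hb : b = 1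
    · exact ⟨a, c, ha, fun e => hbc (hb.trans e.symm), hac⟩
    · exact ⟨a, b, ha, hb, hab⟩
  have s1 := hA2 _ x.2
  have s2 := hA2 _ y.2
  rw [pow_two] at s1 s2
  have hc : (x : G) * y = y * x := congrArg Subtype.val (hA.is_comm.comm x y)
  refine ⟨pairFour (x : G) y s1 s2 hc, pairFour_isKleinFour s1 s2 hc (by simpa using hx) (by simpa using hy)
    (fun e => hxy (Subtype.ext e)), fun w hw => ?_⟩
  rcases mem_pairFour.mp hw with rfl | rfl | rfl | rfl
  · exact A.one_mem
  · exact x.2
  · exact y.2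
  · exact A.mul_mem x.2 y.2

end Cfsg.Agent.FourGraph
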