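/-
A finite solvable group with a fixed-point-free automorphism `σ`, `σ^4 = 1`, has nilpotent commutator subgroup.
-/
import Mathlib.GroupTheory.FixedPointFree
import Mathlib.GroupTheory.Nilpotent
import Mathlib.GroupTheory.Solvable
import Mathlib.GroupTheory.Sylow
import Mathlib.GroupTheory.PGroup
import Mathlib.Algebra.Group.TypeTags.Hom
import Mathlib.Tactic.Abel

set_option autoImplicit false

open scoped commutatorElement

namespace Cfsg.Agent.Struct

universe u

/-- The operator identity: every `A y - 1` is nilpotent of order at most three at `u`. -/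
theorem fpf4_cube_vanish {W : Type*} [AddCommGroup W] {D : Type*} [Group D]
    (A : D →* AddMonoid.End W) (hA : ∀ d e : D, ∀ w : W, A d (A e w) = A e (A d w))
    (s : D →* D) (hsurj : Function.Surjective s) (hdiff : ∀ y : D, ∃ d : D, d⁻¹ * s d = y)
    (h2 : ∀ x : W, x + x = 0 → x = 0) (u : W)
    (hR : ∀ d : D, A d u - A (s d) u + A (s (s d)) u - A (s (s (s d))) u = 0) (y : D) :
    A y (A y (A y u - u) - (A y u - u)) - (A y (A y u - u) - (A y u - u)) = 0 := by
  have hAmul : ∀ d e : D, ∀ w : W, A (d * e) w = A d (A e w) := fun d e w => by rw [map_mul]; rfl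
  have hinj : ∀ d : D, ∀ w : W, A d w = 0 → w = 0 := by
    intro d w hw
    have h : A (d⁻¹ * d) w = A d⁻¹ (A d w) := hAmul _ _ _
    rw [inv_mul_cancel, map_one, hw, map_zero] at h
    exact h
  -- first identity
  have hE : ∀ y : D, A y (A (s y) u) - A y u - A (s y) u + u = 0 := by
    intro y
    obtain ⟨d, rfl⟩ := hdiff y
    have e1 := hR d
    have e2 := hR (d * d)
    simp only [map_mul s, hAmul] at e2
    have f1 := congrArg (A d) e1
    have f2 := congrArg (A (s (s d))) e1
    have f3 := congrArg (A (s d)) e1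
    have f4 := congrArg (A (s (s (s d)))) e1
    simp only [map_add, map_sub, map_zero] at f1 f2 f3 f4
    set a := A d
    set b := A (s d) with hb
    set c := A (s (s d)) with hc
    set e := A (s (s (s d)))
    have k1 : a (c u) - b (e u) = 0 := by
      apply h2
      have q1 := hA d (s d) u
      have q2 := hA d (s (s (s d))) u
      have q3 := hA (s (s d)) (s d) u
      have q4 := hA (s (s d)) (s (s (s d))) u
      have q5 := hA d (s (s d)) u
      have q6 := hA (s d) (s (s (s d))) u
      rw [← sub_eq_zero] at q1 q2 q3 q4 q5 q6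
      calc a (c u) - b (e u) + (a (c u) - b (e u))
          = (a (a u) - a (b u) + a (c u) - a (e u)) + (c (a u) - c (b u) + c (c u) - c (e u))
            + ((b (a u) - b (b u) + b (c u) - b (e u)) + (e (a u) - e (b u) + e (c u) - e (e u)))
            - (a (a u) - b (b u) + c (c u) - e (e u))
            + (a (b u) - b (a u)) + (a (e u) - e (a u)) + (c (b u) - b (c u)) + (c (e u) - e (c u))
            + (a (c u) - c (a u)) - (b (e u) - e (b u)) := by abel
        _ = 0 := by rw [f1, f2, f3, f4, e2, q1, q2, q3, q4, q5, q6]; abel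
    have k2 : b (b u) - b (a u) - b (c u) + a (c u) = 0 := by
      calc b (b u) - b (a u) - b (c u) + a (c u)
          = -(b (a u) - b (b u) + b (c u) - b (e u)) + (a (c u) - b (e u)) := by abel
        _ = 0 := by rw [f3, k1]; abel
    apply hinj (s d)
    apply hinj d
    have hd : d * (d⁻¹ * s d) = s d := by group
    have hd' : s d * s (d⁻¹ * s d) = s (s d) := by rw [← map_mul]; group
    have r1 : a (b (A (d⁻¹ * s d) (A (s (d⁻¹ * s d)) u))) = b (c u) := by
      rw [hb, hA (s d) (d⁻¹ * s d), hc, ← hAmul (s d) (s (d⁻¹ * s d)), hd', ← hAmul d (d⁻¹ * s d), hd]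
    have r2 : a (b (A (d⁻¹ * s d) u)) = b (b u) := by
      rw [hb, hA (s d) (d⁻¹ * s d), ← hAmul d (d⁻¹ * s d), hd]
    have r3 : a (b (A (s (d⁻¹ * s d)) u)) = a (c u) := by
      rw [hb, hc, ← hAmul (s d) (s (d⁻¹ * s d)), hd']
    have r4 : a (b u) = b (a u) := hA _ _ _
    simp only [map_add, map_sub]
    show a (b _) - a (b _) - a (b _) + a (b u) = 0
    rw [r1, r2, r3, r4]
    calc b (c u) - b (b u) - a (c u) + b (a u)
        = -(b (b u) - b (a u) - b (c u) + a (c u)) := by abel
      _ = 0 := by rw [k2, neg_zero]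
  -- cube
  have hX : ∀ z : D, A (s z) (A (s (s z)) u) - A (s z) u - A (s (s z)) u + u = 0 := fun z => hE (s z)
  obtain ⟨z, rfl⟩ := hsurj y
  have g1 := hE z
  have g2 := hX z
  have g3 := hE (z * s z)
  simp only [map_mul s, hAmul] at g3
  set Y := A z
  set S := A (s z) with hS
  set T := A (s (s z))
  have cYS : ∀ w, Y (S w) = S (Y w) := fun w => hA _ _ w
  have cYT : ∀ w, Y (T w) = T (Y w) := fun w => hA _ _ w
  have cST : ∀ w, S (T w) = T (S w) := fun w => hA _ _ w
  have hXZ : Y (T u) - Y u - T u + u + (S (S u) - S u - S u + u) = 0 := by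
    have a1 := congrArg (fun w => Y (S w) - w) g2
    have a2 := congrArg S g1
    have a3 := congrArg T g1
    simp only [map_add, map_sub, map_zero, sub_zero] at a1 a2 a3
    have q1 := cST u
    have q2 : S (Y (S u)) = Y (S (S u)) := (cYS _).symm
    have q3 : T (Y (S u)) = Y (S (T u)) := by rw [cST, ← cYT]
    have q4 : S (Y u) = Y (S u) := (cYS _).symm
    have q5 : T (Y u) = Y (T u) := (cYT _).symm
    rw [q2, q4] at a2
    rw [q3, q5, ← q1] at a3
    rw [← sub_eq_zero] at q1
    calc Y (T u) - Y u - T u + u + (S (S u) - S u - S u + u)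
        = (Y (S (S (T u))) - Y (S u) - S (T u) + u)
          + (Y (S u) - Y u - S u + u) - (S (T u) - S u - T u + u)
          - (Y (S (S (T u))) - Y (S (S u)) - Y (S (T u)) + Y (S u) - (S (T u) - S u - T u + u))
          - (Y (S (S u)) - Y (S u) - S (S u) + S u)
          - (Y (S (T u)) - Y (T u) - S (T u) + T u) := by abel
      _ = 0 := by
        rw [g1, g2, a2, a3]
        rw [g2] at a1
        rw [show Y (S (S (T u))) - Y (S (S u)) - Y (S (T u)) + Y (S u) - 0 = 0 from a1, g3]
        abel
  have b1 := congrArg (fun w => S w - w) hXZ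
  have b2 := congrArg (fun w => T w - w) g1
  simp only [map_add, map_sub, map_zero, sub_zero] at b1 b2
  rw [← cYS, ← cYS, cST] at b1
  rw [← cYT, ← cYT] at b2
  have q3 : T (S u) = S (T u) := (cST u).symm
  rw [q3, ← sub_eq_zero] at b2
  rw [← cST] at b1
  simp only [map_sub]
  calc S (S (S u)) - S (S u) - (S (S u) - S u) - (S (S u) - S u - (S u - u))
      = (Y (S (T u)) - Y (S u) - S (T u) + S u + (S (S (S u)) - S (S u) - S (S u) + S u)
          - (Y (T u) - Y u - T u + u + (S (S u) - S u - S u + u)))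
        - (Y (S (T u)) - Y (T u) - S (T u) + T u - (Y (S u) - Y u - S u + u) - 0) := by abel
    _ = 0 := by rw [b1, b2]; abel

end Cfsg.Agent.Struct

namespace Cfsg.Agent.Struct

universe u

/-- Extract from the cube vanishing that the element fixes `u`. -/
theorem fix_of_cube_vanish {W : Type*} [AddCommGroup W] (Y : AddMonoid.End W) (u : W) {p q : ℕ}
    (hp : ∀ w : W, p • w = 0) (hpq : Nat.Coprime q p) (hY : ∀ w : W, (Y ^ q) w = w)
    (h : Y (Y (Y u - u) - (Y u - u)) - (Y (Y u - u) - (Y u - u)) = 0) : Y u = u := by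
  have step : ∀ v w : W, Y v = v + w → Y w = w → w = 0 := by
    intro v w hv hw
    have hk : ∀ k : ℕ, (Y ^ k) v = v + k • w := by
      intro k
      induction k with
      | zero => simp
      | succ k ih =>
        rw [pow_succ', AddMonoid.End.coe_mul, Function.comp_apply, ih, map_add, map_nsmul, hv, hw,
          succ_nsmul]
        abel
    have h1 := hk q
    rw [hY, left_eq_add] at h1
    have h2 := hp w
    have e := Nat.gcd_eq_gcd_ab q p
    rw [hpq] at e
    calc w = (((1 : ℕ) : ℤ)) • w := by simp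
      _ = 0 := by
        rw [e, add_smul, mul_comm (q : ℤ), mul_comm (p : ℤ), mul_smul, mul_smul, natCast_zsmul,
          natCast_zsmul, h1, h2, smul_zero, smul_zero, add_zero]
  have h1 : Y (Y u - u) - (Y u - u) = 0 := step (Y u - u) _ (by abel) (sub_eq_zero.1 h)
  exact sub_eq_zero.1 (step u (Y u - u) (by abel) (sub_eq_zero.1 h1))

/-- A minimal one among invariant normal subgroups above a given one. -/
theorem exists_minimal_invariant {G : Type u} [Group G] [Finite G] (σ : G ≃* G) (C : Subgroup G)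
    (hC : C ≠ ⊤) :
    ∃ D : Subgroup G, C < D ∧ D.Normal ∧ (∀ g ∈ D, σ g ∈ D) ∧
      ∀ E : Subgroup G, E.Normal → (∀ g ∈ E, σ g ∈ E) → C ≤ E → E ≤ D → E = C ∨ E = D := by
  obtain ⟨D, hD⟩ := (Set.toFinite {D : Subgroup G | C < D ∧ D.Normal ∧ ∀ g ∈ D, σ g ∈ D}).exists_minimal
    ⟨⊤, lt_top_iff_ne_top.2 hC, inferInstance, fun _ _ => trivial⟩
  refine ⟨D, hD.1.1, hD.1.2.1, hD.1.2.2, fun E hE hinv hCE hED => ?_⟩
  rcases eq_or_lt_of_le hCE with h | h
  · exact Or.inl h.symm
  · exact Or.inr (le_antisymm hED (hD.2 ⟨h, hE, hinv⟩ hED))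

open scoped commutatorElement in
/-- A minimal invariant section of a solvable group is elementary abelian. -/
theorem minimal_invariant_section {G : Type u} [Group G] [Finite G] [Group.IsSolvable G] (σ : G ≃* G)
    (C D : Subgroup G) (hCn : C.Normal) (hCσ : ∀ g ∈ C, σ g ∈ C) (hCD : C < D) (hDn : D.Normal)
    (hDσ : ∀ g ∈ D, σ g ∈ D)
    (hmin : ∀ E : Subgroup G, E.Normal → (∀ g ∈ E, σ g ∈ E) → C ≤ E → E ≤ D → E = C ∨ E = D) :
    (∀ a ∈ D, ∀ b ∈ D, ⁅a, b⁆ ∈ C) ∧ ∃ q : ℕ, q.Prime ∧ ∀ a ∈ D, a ^ q ∈ C := by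
  set f := QuotientGroup.mk' C
  have hσmap : ∀ (K : Subgroup G), (∀ g ∈ K, σ g ∈ K) → K.map σ.toMonoidHom ≤ K := by
    rintro K hK _ ⟨g, hg, rfl⟩; exact hK g hg
  have hsup : ∀ K L : Subgroup G, (∀ g ∈ K, σ g ∈ K) → (∀ g ∈ L, σ g ∈ L) → ∀ g ∈ K ⊔ L, σ g ∈ K ⊔ L := by
    intro K L hK hL g hg
    have h : (K ⊔ L).map σ.toMonoidHom ≤ K ⊔ L := by
      rw [Subgroup.map_sup]; exact sup_le_sup (hσmap K hK) (hσmap L hL)
    exact h ⟨g, hg, rfl⟩
  have hcomm : ∀ g ∈ ⁅D, D⁆, σ g ∈ ⁅D, D⁆ := by
    intro g hg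
    have h : (⁅D, D⁆ : Subgroup G).map σ.toMonoidHom ≤ ⁅D, D⁆ := by
      rw [Subgroup.map_commutator]; exact Subgroup.commutator_mono (hσmap D hDσ) (hσmap D hDσ)
    exact h ⟨g, hg, rfl⟩
  have hab : ∀ a ∈ D, ∀ b ∈ D, ⁅a, b⁆ ∈ C := by
    rcases hmin (⁅D, D⁆ ⊔ C) inferInstance (hsup _ _ hcomm hCσ) le_sup_right
      (sup_le (Subgroup.commutator_le_self D) hCD.le) with h | h
    · intro a ha b hb
      exact h ▸ Subgroup.mem_sup_left (Subgroup.commutator_mem_commutator ha hb)
    · exfalso
      have h1 : ⁅D.map f, D.map f⁆ = D.map f := by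
        conv_rhs => rw [← h]
        rw [Subgroup.map_sup, ← Subgroup.map_commutator, QuotientGroup.map_mk'_self, sup_bot_eq]
      have h2 : D.map f ≠ ⊥ := by
        rw [Ne, Subgroup.map_eq_bot_iff, QuotientGroup.ker_mk']
        exact fun h => not_le_of_gt hCD h
      exact (Group.IsSolvable.commutator_lt_of_ne_bot h2).ne h1
  refine ⟨hab, ?_⟩
  obtain ⟨d, hd, hdC⟩ := SetLike.exists_of_lt hCD
  have h1 : orderOf (f d) ≠ 1 := fun h =>
    hdC ((QuotientGroup.eq_one_iff d).1 (orderOf_eq_one_iff.1 h))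
  obtain ⟨q, hq, hqd⟩ := Nat.exists_prime_and_dvd h1
  refine ⟨q, hq, ?_⟩
  have hcf : ∀ a ∈ D, ∀ b ∈ D, Commute (f a) (f b) := fun a ha b hb => by
    rw [← commutatorElement_eq_one_iff_commute, ← map_commutatorElement]
    exact (QuotientGroup.eq_one_iff _).2 (hab a ha b hb)
  have hmemC : ∀ a : G, a ^ q ∈ C ↔ f a ^ q = 1 := fun a => by
    rw [← map_pow]; exact (QuotientGroup.eq_one_iff _).symm
  let E : Subgroup G :=
    { carrier := {a | a ∈ D ∧ f a ^ q = 1}
      one_mem' := ⟨one_mem _, by simp⟩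
      mul_mem' := fun {a b} ha hb => ⟨mul_mem ha.1 hb.1, by
        rw [map_mul, (hcf a ha.1 b hb.1).mul_pow, ha.2, hb.2, one_mul]⟩
      inv_mem' := fun {a} ha => ⟨inv_mem ha.1, by rw [map_inv, inv_pow, ha.2, inv_one]⟩ }
  have hE : E = C ∨ E = D := by
    refine hmin E ⟨fun a ha g => ⟨hDn.conj_mem a ha.1 g, ?_⟩⟩ (fun a ha => ⟨hDσ a ha.1, ?_⟩) ?_
      (fun a ha => ha.1)
    · rw [map_mul, map_mul, map_inv, conj_pow, ha.2, mul_one, mul_inv_cancel]
    · rw [← hmemC, ← map_pow]; exact hCσ _ ((hmemC a).2 ha.2)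
    · exact fun a ha => ⟨hCD.le ha, (hmemC a).1 (pow_mem ha q)⟩
  rcases hE with h | h
  · exfalso
    set e := d ^ (orderOf (f d) / q)
    have he : e ∈ E := by
      refine ⟨pow_mem hd _, ?_⟩
      rw [map_pow, ← pow_mul, Nat.div_mul_cancel hqd, pow_orderOf_eq_one]
    rw [h] at he
    have h3 : f e = 1 := (QuotientGroup.eq_one_iff _).2 he
    rw [map_pow, ← orderOf_dvd_iff_pow_eq_one] at h3
    have h4 := Nat.le_of_dvd (Nat.div_pos (Nat.le_of_dvd (orderOf_pos _) hqd) hq.pos) h3
    exact absurd h4 (not_le.2 (Nat.div_lt_self (orderOf_pos _) hq.one_lt))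
  · intro a ha
    rw [← h] at ha
    exact (hmemC a).2 ha.2

/-- An element of the restriction of a fixed-point-free automorphism is a commutator value. -/
theorem exists_diff_eq {G : Type u} [Group G] [Finite G] (σ : G ≃* G) (hfpf : ∀ g : G, σ g = g → g = 1)
    (D : Subgroup G) (hDσ : ∀ g ∈ D, σ g ∈ D) (y : D) :
    ∃ d : D, d⁻¹ * ⟨σ d, hDσ d d.2⟩ = y := by
  refine Finite.surjective_of_injective (f := fun d : D => d⁻¹ * ⟨σ d, hDσ d d.2⟩) (fun d e h => ?_) y
  have h' : (d : G)⁻¹ * σ d = (e : G)⁻¹ * σ e := congrArg Subtype.val h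
  have : (e : G) * (d : G)⁻¹ = 1 := hfpf _ (by
    rw [map_mul, map_inv]
    calc σ e * (σ d)⁻¹ = e * ((e : G)⁻¹ * σ e) * (σ d)⁻¹ := by group
      _ = _ := by rw [← h']; group)
  exact Subtype.ext (mul_inv_eq_one.1 this).symm

theorem commutator_nilpotent_of_fpf_four : ∀ (n : ℕ) (G : Type u) [Group G] [Finite G],
    Nat.card G = n → Group.IsSolvable G → ∀ σ : MulAut G, σ ^ 4 = 1 → (∀ g : G, σ g = g → g = 1) →
      Group.IsNilpotent (commutator G) := by
  intro n
  induction n using Nat.strong_induction_on with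
  | _ n ih =>
  intro G _ _ hn hsol σ hσ hfpf
  subst hn
  rcases subsingleton_or_nontrivial G with hs | hs
  · infer_instance
  have hodd : ¬ 2 ∣ Nat.card G := by
    intro h2
    have := Fact.mk Nat.prime_two
    have hP : IsPGroup 2 (Subgroup.zpowers σ) := by
      obtain ⟨j, -, hj⟩ := (Nat.dvd_prime_pow Nat.prime_two).1
        (show orderOf σ ∣ 2 ^ 2 from orderOf_dvd_of_pow_eq_one hσ)
      exact IsPGroup.of_card (n := j) (by rw [Nat.card_zpowers, hj])
    obtain ⟨b, hb, hne⟩ := hP.exists_fixed_point_of_prime_dvd_card_of_fixed_point G h2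
      (a := 1) (fun g => map_one (g : MulAut G))
    exact hne (hfpf b (hb ⟨σ, Subgroup.mem_zpowers σ⟩)).symm
  -- a minimal invariant normal subgroup
  obtain ⟨V, hV, hVn, hVσ, hVmin⟩ := exists_minimal_invariant σ ⊥ bot_ne_top
  have hVne : V ≠ ⊥ := hV.ne'
  obtain ⟨hVab, p, hp, hVp⟩ := minimal_invariant_section σ ⊥ V inferInstance
    (fun g hg => by rw [Subgroup.mem_bot.1 hg, map_one]; exact one_mem _) hV hVn hVσ hVmin
  simp only [Subgroup.mem_bot, commutatorElement_eq_one_iff_mul_comm] at hVab hVp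
  have hp2 : p ≠ 2 := by
    rintro rfl
    obtain ⟨v, hv, hv1⟩ := (Subgroup.ne_bot_iff_exists_ne_one.1 hVne).imp fun v hv => And.intro v.2 hv
    exact hodd ((orderOf_eq_prime (hVp v hv) (fun h => hv1 (Subtype.ext h))) ▸ orderOf_dvd_natCard _)
  letI : CommGroup V :=
    { (inferInstance : Group V) with mul_comm := fun a b => Subtype.ext (hVab a a.2 b b.2) }
  -- the kernel of the action
  set C := Subgroup.centralizer (V : Set G) with hC
  have hCσ : ∀ g ∈ C, σ g ∈ C := by
    intro g hg
    rw [hC, Subgroup.mem_centralizer_iff] at hg ⊢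
    intro v hv
    obtain ⟨w, hw⟩ := Finite.surjective_of_injective (f := fun x : V => (⟨σ x, hVσ x x.2⟩ : V))
      (fun a b h => Subtype.ext (σ.injective (congrArg Subtype.val h))) ⟨v, hv⟩
    have hw' : σ (w : G) = v := congrArg Subtype.val hw
    rw [← hw', ← map_mul, hg w w.2, map_mul]
  have key : commutator G ≤ C := by
    by_cases hCt : C = ⊤
    · rw [hCt]; exact le_top
    obtain ⟨D, hD, hDn, hDσ, hDmin⟩ := exists_minimal_invariant σ C hCt
    obtain ⟨hDab, q, hq, hDq⟩ := minimal_invariant_section σ C D inferInstance hCσ hD hDn hDσ hDmin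
    -- fixed points of D on V are trivial
    let V₀ : Subgroup G := V ⊓ Subgroup.centralizer (D : Set G)
    have hV0 : V₀ = ⊥ := by
      have hinv : ∀ g ∈ V₀, σ g ∈ V₀ := by
        intro g hg
        obtain ⟨hgV, hgD⟩ := Subgroup.mem_inf.1 hg
        refine Subgroup.mem_inf.2 ⟨hVσ g hgV, ?_⟩
        rw [Subgroup.mem_centralizer_iff] at hgD ⊢
        intro d hd
        obtain ⟨e, he⟩ := Finite.surjective_of_injective (f := fun x : D => (⟨σ x, hDσ x x.2⟩ : D))
          (fun a b h => Subtype.ext (σ.injective (congrArg Subtype.val h))) ⟨d, hd⟩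
        have he' : σ (e : G) = d := congrArg Subtype.val he
        rw [← he', ← map_mul, hgD e e.2, map_mul]
      rcases hVmin V₀ inferInstance hinv bot_le inf_le_left with h | h
      · exact h
      · exfalso
        have h1 : V ≤ Subgroup.centralizer (D : Set G) := h ▸ inf_le_right
        exact not_le_of_gt hD (Subgroup.le_centralizer_iff.1 h1)
    have hfix : ∀ v ∈ V, (∀ d ∈ D, d * v = v * d) → v = 1 := fun v hv h => by
      rw [← Subgroup.mem_bot, ← hV0]
      exact ⟨hv, Subgroup.mem_centralizer_iff.2 h⟩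
    have hqp : q ≠ p := by
      intro hqp
      have := Fact.mk hp
      obtain ⟨P⟩ := (inferInstance : Nonempty (Sylow p D))
      let φ : ↥(P : Subgroup D) →* MulAut V :=
        ((MulAut.conjNormal : G →* MulAut V).comp D.subtype).comp (P : Subgroup D).subtype
      letI : MulAction ↥(P : Subgroup D) V := MulAction.compHom V φ
      have hdvd : p ∣ Nat.card V := by
        obtain ⟨v, hv1⟩ := Subgroup.ne_bot_iff_exists_ne_one.1 hVne
        have h1 : orderOf v = p := orderOf_eq_prime (Subtype.ext (hVp v v.2)) hv1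
        exact h1 ▸ orderOf_dvd_natCard v
      obtain ⟨b, hb, hb1⟩ := P.isPGroup'.exists_fixed_point_of_prime_dvd_card_of_fixed_point V hdvd
        (a := 1) (fun g => map_one (φ g))
      refine hb1 (Eq.symm (Subtype.ext (hfix b b.2 fun d hd => ?_)))
      let S : Subgroup G := D ⊓ Subgroup.centralizer {(b : G)}
      suffices hS : D ≤ S from Subgroup.mem_centralizer_singleton_iff.1 (hS hd).2
      have hCS : C ≤ S := fun c hc => ⟨hD.le hc, Subgroup.mem_centralizer_singleton_iff.2
        ((Subgroup.mem_centralizer_iff.1 hc b b.2).symm)⟩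
      have hPS : ((P : Subgroup D).map D.subtype) ≤ S := by
        rintro _ ⟨x, hx, rfl⟩
        refine ⟨x.2, Subgroup.mem_centralizer_singleton_iff.2 ?_⟩
        have h5 : (x : G) * b * (x : G)⁻¹ = b := congrArg Subtype.val (hb ⟨x, hx⟩)
        exact mul_inv_eq_iff_eq_mul.1 h5
      have hidx : (S.subgroupOf D).index ∣ 1 := by
        refine Nat.eq_one_of_dvd_coprimes (a := (P : Subgroup D).index)
          (b := p ^ (Nat.card D).factorization p) ?_ ?_ ?_ |>.dvd
        · exact (Nat.Prime.coprime_iff_not_dvd hp).2 P.not_dvd_index |>.symm.pow_right _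
        · refine Subgroup.index_dvd_of_le fun x hx => ?_
          exact hPS ⟨x, hx, rfl⟩
        · have hpow : ∀ x : D, x ^ p ∈ C.subgroupOf D := fun x => by
            show ((x ^ p : D) : G) ∈ C
            rw [SubmonoidClass.coe_pow, ← hqp]; exact hDq x x.2
          have hpg : IsPGroup p (D ⧸ C.subgroupOf D) := fun x => by
            induction x using QuotientGroup.induction_on with
            | _ x => exact ⟨1, by rw [pow_one, ← QuotientGroup.mk_pow]; exact (QuotientGroup.eq_one_iff _).2 (hpow x)⟩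
          obtain ⟨j, hj⟩ := IsPGroup.iff_card.1 hpg
          have h1 : (S.subgroupOf D).index ∣ p ^ j := by
            rw [← hj]; exact Subgroup.index_dvd_of_le fun x hx => hCS hx
          obtain ⟨i, -, hi⟩ := (Nat.dvd_prime_pow hp).1 h1
          rw [hi]
          exact pow_dvd_pow _ ((hp.pow_dvd_iff_le_factorization Nat.card_pos.ne').1
            (hi ▸ Subgroup.index_dvd_card _))
      rw [Nat.dvd_one, Subgroup.index_eq_one, Subgroup.subgroupOf_eq_top] at hidx
      exact hidx
    -- the square of σ inverts V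
    have h4 : ∀ g : G, σ (σ (σ (σ g))) = g := fun g => DFunLike.congr_fun hσ g
    have hinvV : ∀ v ∈ V, σ (σ v) = v⁻¹ := by
      intro v hv
      have hv1 := hVσ v hv
      have hv2 := hVσ _ hv1
      set u := v * σ (σ v) with hu
      have huV : u ∈ V := mul_mem hv hv2
      have huT : σ (σ u) = u := by
        rw [hu, map_mul, map_mul, h4]
        exact hVab _ hv2 _ hv
      suffices hu1 : u = 1 from eq_inv_of_mul_eq_one_right hu1
      have husig : σ u = u⁻¹ := by
        have h : u * σ u = 1 := hfpf _ (by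
          rw [map_mul, huT]; exact hVab _ (hVσ _ huV) _ huV)
        exact eq_inv_of_mul_eq_one_right h
      apply hfix u huV
      -- the operators
      let act : D →* AddMonoid.End (Additive V) :=
        { toFun := fun d => MonoidHom.toAdditive (MulAut.conjNormal (H := V) (d : G)).toMonoidHom
          map_one' := AddMonoidHom.ext fun w => by
            show Additive.ofMul ((MulAut.conjNormal (H := V) ((1 : D) : G)) (Additive.toMul w)) = w
            simp
          map_mul' := fun d e => AddMonoidHom.ext fun w => by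
            show Additive.ofMul ((MulAut.conjNormal (H := V) ((d * e : D) : G)) (Additive.toMul w)) =
              Additive.ofMul (MulAut.conjNormal (H := V) (d : G) (MulAut.conjNormal (H := V) (e : G) (Additive.toMul w)))
            simp [Subgroup.coe_mul] }
      have hact : ∀ (d : D) (w : Additive V), ((Additive.toMul (act d w) : V) : G) =
          (d : G) * (Additive.toMul w : V) * (d : G)⁻¹ := fun _ _ => rfl
      have hext : ∀ a b : Additive V, ((Additive.toMul a : V) : G) = (Additive.toMul b : V) → a = b :=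
        fun a b h => Additive.toMul.injective (Subtype.ext h)
      let s : D →* D := (σ.toMonoidHom.comp D.subtype).codRestrict D (fun d => hDσ d d.2)
      have hs' : ∀ d : D, ((s d : D) : G) = σ (d : G) := fun _ => rfl
      intro d₀ hd₀
      set u' : Additive V := Additive.ofMul ⟨u, huV⟩
      have hcube := fpf4_cube_vanish act (fun d e w => hext _ _ (by
          rw [hact, hact, hact, hact]
          have hc : ⁅(d : G), (e : G)⁆ ∈ C := hDab _ d.2 _ e.2
          have hw := Subgroup.mem_centralizer_iff.1 hc _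
            ((MulAut.conjNormal (H := V) ((e : G) * (d : G))) (Additive.toMul w)).2
          rw [MulAut.conjNormal_apply] at hw
          calc (d : G) * ((e : G) * (Additive.toMul w : V) * (e : G)⁻¹) * (d : G)⁻¹
              = ⁅(d : G), (e : G)⁆ * ((e : G) * d * (Additive.toMul w : V) * ((e : G) * d)⁻¹) *
                  ⁅(d : G), (e : G)⁆⁻¹ := by rw [commutatorElement_def]; group
            _ = (e : G) * d * (Additive.toMul w : V) * ((e : G) * d)⁻¹ := by
                rw [← hw, mul_inv_cancel_right]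
            _ = _ := by group))
        s (Finite.surjective_of_injective fun a b h => Subtype.ext (σ.injective (congrArg Subtype.val h)))
        (fun y => exists_diff_eq σ hfpf D hDσ y)
        (fun x hx => by
          have h2 : (2 : ℕ) • x = 0 := by rw [two_nsmul]; exact hx
          have hpx : p • x = 0 := hext _ _ (by simp [hVp _ (Additive.toMul x).2])
          have hc : Nat.Coprime p 2 := (Nat.coprime_primes hp Nat.prime_two).2 hp2
          have e := Nat.gcd_eq_gcd_ab p 2
          rw [hc] at e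
          calc x = (((1 : ℕ) : ℤ)) • x := by simp
            _ = 0 := by rw [e, add_smul, mul_comm (p : ℤ), mul_comm ((2 : ℕ) : ℤ), mul_smul, mul_smul,
                natCast_zsmul, natCast_zsmul, h2, hpx, smul_zero, smul_zero, add_zero])
        u' (fun d => ?_) ⟨d₀, hd₀⟩
      · have hfix' := fix_of_cube_vanish (act ⟨d₀, hd₀⟩) u' (p := p) (q := q)
          (fun w => hext _ _ (by simp [hVp _ (Additive.toMul w).2]))
          ((Nat.coprime_primes hq hp).2 hqp)
          (fun w => by
            rw [← map_pow]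
            refine hext _ _ ?_
            rw [hact]
            have hc : d₀ ^ q ∈ C := hDq d₀ hd₀
            have := Subgroup.mem_centralizer_iff.1 hc _ (Additive.toMul w).2
            show d₀ ^ q * _ * (d₀ ^ q)⁻¹ = _
            rw [← this, mul_inv_cancel_right])
          hcube
        have h6 := congrArg (fun w => ((Additive.toMul w : V) : G)) hfix'
        simp only [hact] at h6
        exact mul_inv_eq_iff_eq_mul.1 h6
      · refine hext _ _ ?_
        have hx' : (d : G) * u * (d : G)⁻¹ ∈ V := hVn.conj_mem u huV d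
        have hprod := MonoidHom.FixedPointFree.prod_pow_eq_one (φ := σ) hfpf (n := 4)
          (funext fun g => DFunLike.congr_fun hσ g) ((d : G) * u * (d : G)⁻¹)
        simp [List.range_succ, map_mul, map_inv, huT, husig] at hprod
        simp only [toMul_add, toMul_sub, toMul_zero, Subgroup.coe_mul, Subgroup.coe_one, Subgroup.coe_div,
          div_eq_mul_inv, mul_inv_rev, inv_inv, Subgroup.coe_inv, hact]
        show _ = (1 : G)
        conv_rhs => rw [← hprod]
        simp only [u', hs', toMul_ofMul, mul_assoc]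
    -- hence σ inverts G/C
    have hTC : ∀ g : G, g⁻¹ * σ (σ g) ∈ C := by
      intro g
      rw [hC, Subgroup.mem_centralizer_iff]
      intro w hw
      have h1 := hinvV (g * w * g⁻¹) (hVn.conj_mem w hw g)
      rw [map_mul, map_mul, map_mul, map_mul, map_inv, map_inv, hinvV w hw] at h1
      set t := σ (σ g)
      have h2 : t * w⁻¹ * t⁻¹ = g * w⁻¹ * g⁻¹ := by rw [h1]; group
      have h3 := congrArg (·⁻¹) h2
      simp only [mul_inv_rev, inv_inv, ← mul_assoc] at h3
      calc w * (g⁻¹ * t) = g⁻¹ * (g * w * g⁻¹) * t := by group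
        _ = g⁻¹ * (t * w * t⁻¹) * t := by rw [h3]
        _ = g⁻¹ * t * w := by group
    have hsC : ∀ g : G, g * σ g ∈ C := by
      intro g
      obtain ⟨⟨d, hdm⟩, hd⟩ := exists_diff_eq σ hfpf ⊤ (fun _ _ => trivial) ⟨g, trivial⟩
      have hd' : d⁻¹ * σ d = g := congrArg Subtype.val hd
      rw [← hd', show d⁻¹ * σ d * σ (d⁻¹ * σ d) = d⁻¹ * σ (σ d) by rw [map_mul, map_inv]; group]
      exact hTC d
    rw [commutator_def, Subgroup.commutator_le]
    intro a _ b _
    set f := QuotientGroup.mk' C
    have hf : ∀ g : G, f (σ g) = (f g)⁻¹ := fun g => by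
      apply eq_inv_of_mul_eq_one_right
      rw [← map_mul]; exact (QuotientGroup.eq_one_iff _).2 (hsC g)
    refine (QuotientGroup.eq_one_iff _).1 ?_
    show f ⁅a, b⁆ = 1
    rw [map_commutatorElement, commutatorElement_eq_one_iff_mul_comm]
    have h := hf (a * b)
    rw [map_mul σ, map_mul, hf a, hf b, map_mul, ← mul_inv_rev, inv_inj] at h
    exact h.symm
  -- induction through G/V
  have hlt : Nat.card (G ⧸ V) < Nat.card G := by
    rw [Subgroup.card_eq_card_quotient_mul_card_subgroup V]
    exact lt_mul_of_one_lt_right Nat.card_pos (V.one_lt_card_iff_ne_bot.mpr hVne)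
  have hmapV : V.map (σ : G ≃* G).toMonoidHom = V := by
    refine Subgroup.eq_of_le_of_card_ge (by rintro _ ⟨g, hg, rfl⟩; exact hVσ g hg) ?_
    rw [Subgroup.card_map_of_injective σ.injective]
  let τ : MulAut (G ⧸ V) := QuotientGroup.congr V V σ hmapV
  have hτ : ∀ g : G, τ (g : G ⧸ V) = (σ g : G ⧸ V) := fun g => rfl
  have hτ4 : τ ^ 4 = 1 := MulEquiv.ext fun x => by
    induction x using QuotientGroup.induction_on with
    | _ g =>
      show τ (τ (τ (τ (g : G ⧸ V)))) = _
      rw [hτ, hτ, hτ, hτ]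
      exact congrArg _ (DFunLike.congr_fun hσ g)
  have hτf : ∀ x : G ⧸ V, τ x = x → x = 1 := by
    intro x
    induction x using QuotientGroup.induction_on with
    | _ g =>
      intro h
      rw [hτ, eq_comm, QuotientGroup.eq] at h
      obtain ⟨d, hd⟩ := exists_diff_eq σ hfpf V hVσ ⟨g⁻¹ * σ g, h⟩
      have hd' : (d : G)⁻¹ * σ d = g⁻¹ * σ g := congrArg Subtype.val hd
      have : g * (d : G)⁻¹ = 1 := hfpf _ (by
        rw [map_mul, map_inv]
        calc σ g * (σ d)⁻¹ = g * (g⁻¹ * σ g) * (σ d)⁻¹ := by group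
          _ = _ := by rw [← hd']; group)
      rw [QuotientGroup.eq_one_iff, mul_inv_eq_one.1 this]
      exact d.2
  have hnil := ih _ hlt (G ⧸ V) rfl inferInstance τ hτ4 hτf
  let φ : commutator G →* commutator (G ⧸ V) :=
    ((QuotientGroup.mk' V).comp (commutator G).subtype).codRestrict _ (fun x => by
      have h : (commutator G).map (QuotientGroup.mk' V) ≤ commutator (G ⧸ V) := by
        rw [commutator_def, Subgroup.map_commutator, commutator_def]
        exact Subgroup.commutator_mono le_top le_top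
      exact h ⟨x, x.2, rfl⟩)
  refine Subgroup.isNilpotent_of_ker_le_center φ ?_
  intro x hx
  have hxV : (x : G) ∈ V := (QuotientGroup.eq_one_iff _).1 (congrArg Subtype.val hx)
  refine Subgroup.mem_center_iff.2 fun y => Subtype.ext ?_
  exact (Subgroup.mem_centralizer_iff.1 (key y.2) x hxV).symm

end Cfsg.Agent.Struct
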