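import Cfsg.Agent.Lib.Struct.FrobFixedCore
import Cfsg.Agent.Lib.Solv.Coprime
import Cfsg.Agent.Lib.Solv.FpfNilpotent
import Cfsg.Agent.Lib.Solv.Misc
import Mathlib.GroupTheory.Abelianization.Defs
import Mathlib.GroupTheory.Solvable
import Mathlib.RingTheory.IntegralDomain
import Mathlib.FieldTheory.Finite.Basic

/-!
The fixed points of a Frobenius group acting coprimely on a solvable group.
-/

set_option autoImplicit false

namespace Cfsg.Agent.Struct.FrobFixed

open Subgroup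
open scoped commutatorElement

universe u v

section Elementary

variable {A : Type u} {V : Type v} [Group A] [AddCommGroup V]

/-- The fixed vectors as a subgroup. -/
def fixedGroup (ρ : A →* AddMonoid.End V) (S : Set A) : AddSubgroup V where
  carrier := fixedSet ρ S
  zero_mem' := fun s _ => map_zero (ρ s)
  add_mem' := fun {v w} hv hw s hs => by rw [map_add, hv s hs, hw s hs]
  neg_mem' := fun {v} hv s hs => by rw [map_neg, hv s hs]

theorem exponent_le_card {p : ℕ} [Fact p.Prime] [Finite V] (hV : ∀ v : V, p • v = 0) (ρ : A →* AddMonoid.End V)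
    (S : Set A) (h : Nat.card (fixedSet ρ S) ≠ 1) : p ≤ Nat.card (fixedSet ρ S) := by
  obtain ⟨v, hv, hv0⟩ : ∃ v ∈ fixedSet ρ S, v ≠ 0 := by
    by_contra hc
    simp only [not_exists, not_and, not_not] at hc
    exact h (Nat.card_eq_one_iff_unique.2 ⟨⟨fun a b => Subtype.ext ((hc a a.2).trans (hc b b.2).symm)⟩,
      ⟨⟨0, fun s _ => map_zero (ρ s)⟩⟩⟩)
  have ho : addOrderOf v = p := addOrderOf_eq_prime (hV v) hv0
  have h1 : AddSubgroup.zmultiples v ≤ fixedGroup ρ S := AddSubgroup.zmultiples_le_of_mem hv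
  have := Nat.le_of_dvd Nat.card_pos (AddSubgroup.card_dvd_of_le h1)
  rw [Nat.card_zmultiples, ho] at this
  exact this

/-- A representation on an invariant subgroup. -/
def restrictRep (ρ : A →* AddMonoid.End V) (B : AddSubgroup V) (hB : ∀ a, ∀ v ∈ B, ρ a v ∈ B) :
    A →* AddMonoid.End B where
  toFun a := ((ρ a : V →+ V).comp B.subtype).codRestrict B fun v => hB a v v.2
  map_one' := AddMonoidHom.ext fun v => Subtype.ext (by show ρ 1 (v : V) = v; rw [map_one]; rfl)
  map_mul' a b := AddMonoidHom.ext fun v => Subtype.ext (rho_mul ρ a b v)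

theorem exists_field (p m : ℕ) [hp : Fact p.Prime] (hm : m ≠ 0) (hpm : m.Coprime p) :
    ∃ (F : Type) (_ : Field F) (_ : Finite F) (_ : CharP F p), ∀ d, d ∣ m → HasEnoughRootsOfUnity F d := by
  refine ⟨GaloisField p (Nat.totient m), inferInstance, inferInstance, inferInstance, fun d hd => ⟨?_, inferInstance⟩⟩
  have hcard : Nat.card (GaloisField p (Nat.totient m))ˣ = p ^ Nat.totient m - 1 := by
    rw [Nat.card_units, GaloisField.card p _ (Nat.totient_pos.2 (Nat.pos_of_ne_zero hm)).ne']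
  have hdvd : d ∣ Nat.card (GaloisField p (Nat.totient m))ˣ := by
    rw [hcard]
    exact hd.trans ((Nat.modEq_iff_dvd' (Nat.one_le_pow _ _ hp.out.pos)).1 (Nat.ModEq.pow_totient hpm.symm).symm)
  obtain ⟨g, hg⟩ := IsCyclic.exists_ofOrder_eq_natCard (α := (GaloisField p (Nat.totient m))ˣ)
  have hd0 : d ≠ 0 := fun h => hm (Nat.eq_zero_of_zero_dvd (h ▸ hd))
  refine ⟨((g ^ (Nat.card (GaloisField p (Nat.totient m))ˣ / d) : (GaloisField p (Nat.totient m))ˣ) : GaloisField p (Nat.totient m)), ?_⟩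
  rw [IsPrimitiveRoot.coe_units_iff, IsPrimitiveRoot.iff_orderOf, orderOf_pow, hg,
    Nat.gcd_eq_right (Nat.div_dvd_of_dvd hdvd), Nat.div_div_self hdvd Nat.card_pos.ne']

theorem elem_formula : ∀ (N : ℕ) (A : Type u) [Group A] [Finite A], Nat.card A ≤ N →
    ∀ (V : Type v) [AddCommGroup V] [Finite V] (ρ : A →* AddMonoid.End V) (U E : Subgroup A) (p : ℕ)
      [Fact p.Prime], U.Normal → U ⊔ E = ⊤ → U ⊓ E = ⊥ →
      (∀ e ∈ E, e ≠ 1 → ∀ u ∈ U, e * u = u * e → u = 1) → (∀ v : V, p • v = 0) → (Nat.card U).Coprime p →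
      Nat.card (fixedSet ρ Set.univ) ^ Nat.card E * Nat.card V =
          Nat.card (fixedSet ρ (E : Set A)) ^ Nat.card E * Nat.card (fixedSet ρ (U : Set A)) ∧
        (Nat.card (fixedSet ρ (U : Set A)) = 1 → Nat.card (fixedSet ρ (E : Set A)) ≤ p →
          ∀ u ∈ U, ∀ w ∈ U, ∀ v : V, ρ (u * w) v = ρ (w * u) v) := by
  intro N
  induction N using Nat.strong_induction_on with
  | _ N ih =>
  intro A _ _ hN V _ _ ρ U E p hp hUnorm hsup hinf hfpf hV hcop
  classical
  haveI := hUnorm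
  have hone : ρ 1 = 1 := map_one ρ
  by_cases hU : U = ⊥
  · have hE : E = ⊤ := by rwa [hU, bot_sup_eq] at hsup
    refine ⟨?_, fun _ _ u hu w hw v => ?_⟩
    · have h1 : fixedSet ρ (U : Set A) = Set.univ := Set.eq_univ_of_forall fun v s hs => by
        rw [hU] at hs
        rw [Subgroup.mem_bot.1 hs, hone]; rfl
      rw [h1, Nat.card_univ, hE, Subgroup.coe_top]
    · rw [hU, Subgroup.mem_bot] at hu hw
      rw [hu, hw]
  by_cases hE : E = ⊥
  · have hU' : U = ⊤ := by rwa [hE, sup_bot_eq] at hsup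
    have h1 : fixedSet ρ (E : Set A) = Set.univ := Set.eq_univ_of_forall fun v s hs => by
      rw [hE] at hs
      rw [Subgroup.mem_bot.1 hs, hone]; rfl
    refine ⟨?_, fun _ hle u _ w _ v => ?_⟩
    · rw [h1, Nat.card_univ, hE, Subgroup.card_bot, pow_one, pow_one, hU', Subgroup.coe_top, mul_comm]
    · rw [h1, Nat.card_univ] at hle
      by_cases hv : v = 0
      · rw [hv, map_zero, map_zero]
      · have ho : addOrderOf v = p := addOrderOf_eq_prime (hV v) hv
        have htop : AddSubgroup.zmultiples v = ⊤ := AddSubgroup.eq_top_of_le_card _ (by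
          rw [Nat.card_zmultiples, ho]; exact hle)
        obtain ⟨i, hi⟩ := AddSubgroup.mem_zmultiples_iff.1 (htop ▸ AddSubgroup.mem_top (ρ u v))
        obtain ⟨j, hj⟩ := AddSubgroup.mem_zmultiples_iff.1 (htop ▸ AddSubgroup.mem_top (ρ w v))
        rw [rho_mul, rho_mul, ← hj, ← hi, map_zsmul, map_zsmul, ← hi, ← hj, smul_comm]
  -- the kernel is nilpotent
  obtain ⟨e₁, he₁, he₁1⟩ := E.ne_bot_iff_exists_ne_one.1 hE |> fun ⟨⟨e, he⟩, h⟩ =>
    (⟨e, he, fun h' => h (Subtype.ext h')⟩ : ∃ e, e ∈ E ∧ e ≠ 1)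
  obtain ⟨q, hq, hqd⟩ := Nat.exists_prime_and_dvd (fun h => he₁1 (orderOf_eq_one_iff.1 h))
  set e := e₁ ^ (orderOf e₁ / q) with hedef
  have heo : orderOf e = q := orderOf_pow_orderOf_div (orderOf_pos e₁).ne' hqd
  have heE : e ∈ E := Subgroup.pow_mem _ he₁ _
  have he1 : e ≠ 1 := fun h => hq.ne_one (by rw [← heo, h, orderOf_one])
  let φ : U ≃* U :=
    { toFun := fun z => ⟨e * z * e⁻¹, hUnorm.conj_mem z z.2 e⟩
      invFun := fun z => ⟨e⁻¹ * z * e, by simpa using hUnorm.conj_mem z z.2 e⁻¹⟩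
      left_inv := fun z => Subtype.ext (by show e⁻¹ * (e * z * e⁻¹) * e = z; group)
      right_inv := fun z => Subtype.ext (by show e * (e⁻¹ * z * e) * e⁻¹ = z; group)
      map_mul' := fun z w => Subtype.ext (by show e * (z * w) * e⁻¹ = e * z * e⁻¹ * (e * w * e⁻¹); group) }
  haveI hnil : Group.IsNilpotent U := by
    refine Cfsg.Agent.Solv.isNilpotent_of_fpf (φ := φ) ?_ hq fun z => ?_
    · intro z hz
      exact Subtype.ext (hfpf e heE he1 z z.2 (mul_inv_eq_iff_eq_mul.1 (congrArg Subtype.val hz)))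
    · have hi : ∀ i, ((φ^[i] z : U) : A) = e ^ i * z * (e ^ i)⁻¹ := by
        intro i
        induction i with
        | zero => simp
        | succ i ih' =>
          rw [Function.iterate_succ_apply', pow_succ']
          show e * ((φ^[i] z : U) : A) * e⁻¹ = _
          rw [ih']; group
      exact Subtype.ext (by rw [hi, ← heo, pow_orderOf_eq_one]; group)
  haveI : Nontrivial U := (Subgroup.nontrivial_iff_ne_bot U).2 hU
  set Z := (Subgroup.center U).map U.subtype with hZdef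
  have hZU : Z ≤ U := Subgroup.map_subtype_le _
  have hZc : ∀ z ∈ Z, ∀ u ∈ U, u * z = z * u := by
    rintro _ ⟨z, hz, rfl⟩ u hu
    exact congrArg Subtype.val (Subgroup.mem_center_iff.1 hz ⟨u, hu⟩)
  haveI : IsMulCommutative Z := ⟨⟨fun a b => Subtype.ext (hZc b b.2 a (hZU a.2))⟩⟩
  haveI hZn : Z.Normal := by
    refine ⟨fun z hz a => ?_⟩
    have hu : a * z * a⁻¹ ∈ U := hUnorm.conj_mem z (hZU hz) a
    refine ⟨⟨_, hu⟩, Subgroup.mem_center_iff.2 fun w => Subtype.ext ?_, rfl⟩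
    have hw : a⁻¹ * w * a ∈ U := by simpa using hUnorm.conj_mem w w.2 a⁻¹
    show (w : A) * (a * z * a⁻¹) = a * z * a⁻¹ * w
    calc (w : A) * (a * z * a⁻¹) = a * ((a⁻¹ * w * a) * z) * a⁻¹ := by group
      _ = a * (z * (a⁻¹ * w * a)) * a⁻¹ := by rw [hZc z hz _ hw]
      _ = a * z * a⁻¹ * w := by group
  have hZne : Z ≠ ⊥ := by
    intro h
    have h1 := Cfsg.Agent.Solv.inf_center_ne_bot (⊤ : Subgroup U) top_ne_bot
    rw [top_inf_eq] at h1
    exact h1 ((Subgroup.map_eq_bot_iff_of_injective _ U.subtype_injective).1 h)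
  have hpZ : (Nat.card Z).Coprime p := Nat.Coprime.coprime_dvd_left (Subgroup.card_dvd_of_le hZU) hcop
  -- the projection to the fixed vectors of `Z`
  letI := Fintype.ofFinite Z
  let π : V →+ V := ∑ z : Z, (ρ z : V →+ V)
  have hπa : ∀ v, π v = ∑ z : Z, ρ z v := fun v => AddMonoidHom.finsetSum_apply _ _ v
  have hπcomm : ∀ a v, ρ a (π v) = π (ρ a v) := by
    intro a v
    rw [hπa, hπa, map_sum]
    let c : Z → Z := fun z => ⟨a * z * a⁻¹, hZn.conj_mem z z.2 a⟩
    have hc : Function.Bijective c := Finite.injective_iff_bijective.1 fun z w h =>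
      Subtype.ext (mul_left_cancel (mul_right_cancel (congrArg Subtype.val h)))
    refine Fintype.sum_equiv (Equiv.ofBijective c hc) _ _ fun z => ?_
    show ρ a (ρ z v) = ρ (a * z * a⁻¹) (ρ a v)
    rw [← rho_mul, ← rho_mul, inv_mul_cancel_right]
  have hπfix : ∀ v, ∀ z ∈ Z, ρ z (π v) = π v := by
    intro v z hz
    rw [hπa, map_sum]
    exact Fintype.sum_equiv (Equiv.mulLeft (⟨z, hz⟩ : Z)) _ _ fun w => (rho_mul ρ z (w : A) v).symm
  have hπc : ∀ v ∈ fixedSet ρ (Z : Set A), π v = Nat.card Z • v := fun v hv => by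
    rw [hπa, Finset.sum_congr rfl (fun (z : Z) _ => hv (z : A) z.2), Finset.sum_const, Finset.card_univ,
      Nat.card_eq_fintype_card]
  let C : AddSubgroup V := fixedGroup ρ (Z : Set A)
  let W : AddSubgroup V := π.ker
  have hCinv : ∀ a, ∀ v ∈ C, ρ a v ∈ C := fun a v hv z hz => by
    have h1 := hv (a⁻¹ * z * a) (by simpa using hZn.conj_mem z hz a⁻¹)
    rw [← rho_mul, show z * a = a * (a⁻¹ * z * a) by group, rho_mul, h1]
  have hWinv : ∀ a, ∀ v ∈ W, ρ a v ∈ W := fun a v hv => by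
    rw [AddMonoidHom.mem_ker] at hv ⊢
    rw [← hπcomm, hv, map_zero]
  let ρC := restrictRep ρ C hCinv
  let ρW := restrictRep ρ W hWinv
  obtain ⟨k, hk⟩ : ∃ k : ℕ, ∀ v : V, k • Nat.card Z • v = v := by
    obtain ⟨k, -, hk⟩ := Nat.exists_mul_mod_eq_one_of_coprime hpZ hp.out.one_lt
    refine ⟨k, fun v => ?_⟩
    rw [← mul_smul, mul_comm, ← Nat.mod_add_div (Nat.card Z * k) p, hk, add_smul, one_smul, mul_smul, hV, add_zero]
  have hsplit : ∀ S : Set A, Nat.card (fixedSet ρ S) = Nat.card (fixedSet ρC S) * Nat.card (fixedSet ρW S) := by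
    intro S
    rw [← Nat.card_prod]
    refine Nat.card_congr
      { toFun := fun v => (⟨⟨π v.1, fun z hz => hπfix v.1 z hz⟩, fun s hs => Subtype.ext (by
            show ρ s (π v.1) = π v.1
            rw [hπcomm, v.2 s hs])⟩,
          ⟨⟨Nat.card Z • v.1 - π v.1, AddMonoidHom.mem_ker.2 (by
            rw [map_sub, map_nsmul, hπc _ (fun z hz => hπfix v.1 z hz), sub_self])⟩, fun s hs => Subtype.ext (by
            show ρ s (Nat.card Z • v.1 - π v.1) = Nat.card Z • v.1 - π v.1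
            rw [map_sub, map_nsmul, hπcomm, v.2 s hs])⟩)
        invFun := fun x => ⟨k • ((x.1.1 : V) + (x.2.1 : V)), fun s hs => by
          have h1 : ρ s (x.1.1 : V) = x.1.1 := congrArg Subtype.val (x.1.2 s hs)
          have h2 : ρ s (x.2.1 : V) = x.2.1 := congrArg Subtype.val (x.2.2 s hs)
          rw [map_nsmul, map_add, h1, h2]⟩
        left_inv := fun v => Subtype.ext (by
          show k • (π v.1 + (Nat.card Z • v.1 - π v.1)) = v.1
          rw [add_sub_cancel, hk])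
        right_inv := fun x => ?_ }
    obtain ⟨⟨⟨c, hc⟩, _⟩, ⟨⟨w, hw⟩, _⟩⟩ := x
    have hπ : π (k • (c + w)) = c := by
      rw [map_nsmul, map_add, AddMonoidHom.mem_ker.1 hw, add_zero, hπc c hc, hk]
    refine Prod.ext (Subtype.ext (Subtype.ext hπ)) (Subtype.ext (Subtype.ext ?_))
    show Nat.card Z • k • (c + w) - π (k • (c + w)) = w
    rw [hπ, smul_comm, hk, add_sub_cancel_left]
  have hVcard : Nat.card V = Nat.card C * Nat.card W := by
    have h := hsplit ∅
    have e1 : fixedSet ρ (∅ : Set A) = Set.univ := Set.eq_univ_of_forall fun v s hs => hs.elim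
    have e2 : fixedSet ρC (∅ : Set A) = Set.univ := Set.eq_univ_of_forall fun v s hs => hs.elim
    have e3 : fixedSet ρW (∅ : Set A) = Set.univ := Set.eq_univ_of_forall fun v s hs => hs.elim
    rwa [e1, e2, e3, Nat.card_univ, Nat.card_univ, Nat.card_univ] at h
  have hVC : ∀ v : C, p • v = 0 := fun v => Subtype.ext (hV v)
  have hVW : ∀ v : W, p • v = 0 := fun v => Subtype.ext (hV v)
  -- the part without fixed vectors
  have hWfix : ∀ v : W, (∀ z ∈ Z, ρW z v = v) → v = 0 := fun v hv => by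
    have h1 : π (v : V) = 0 := AddMonoidHom.mem_ker.1 v.2
    rw [hπc (v : V) (fun z hz => congrArg Subtype.val (hv z hz))] at h1
    refine Subtype.ext ?_
    show (v : V) = 0
    rw [← hk (v : V), h1, smul_zero]
  have hWU : Nat.card (fixedSet ρW (U : Set A)) = 1 := Nat.card_eq_one_iff_unique.2
    ⟨⟨fun a b => Subtype.ext ((hWfix a.1 fun z hz => a.2 z (hZU hz)).trans (hWfix b.1 fun z hz => b.2 z (hZU hz)).symm)⟩,
      ⟨⟨0, fun s _ => map_zero (ρW s)⟩⟩⟩
  have hWA : Nat.card (fixedSet ρW (Set.univ : Set A)) = 1 := Nat.card_eq_one_iff_unique.2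
    ⟨⟨fun a b => Subtype.ext ((hWfix a.1 fun z _ => a.2 z trivial).trans (hWfix b.1 fun z _ => b.2 z trivial).symm)⟩,
      ⟨⟨0, fun s _ => map_zero (ρW s)⟩⟩⟩
  obtain ⟨F, _, _, _, hroots⟩ := exists_field p (Nat.card Z) Nat.card_pos.ne' hpZ
  haveI := hroots (Monoid.exponent Z) Group.exponent_dvd_nat_card
  have hnE : ∀ e ∈ E, ∀ z ∈ Z, e * z * e⁻¹ ∈ Z := fun e _ z hz => hZn.conj_mem z hz e
  have hfpfZ : ∀ e ∈ E, e ≠ 1 → ∀ z ∈ Z, e * z = z * e → z = 1 := fun e he h z hz => hfpf e he h z (hZU hz)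
  obtain ⟨f, hf, hFcard, hfc⟩ := card_fixed_hom ρW (p := p) (F := F) hVW
  have hWcard : Nat.card W = Nat.card (fixedSet ρW (E : Set A)) ^ Nat.card E := by
    have h := card_hom_eq_pow (F := F) ρW hnE hfpfZ hVW hpZ hWfix (map_one ρW)
    have h0 : Nat.card (F →+ W) = Nat.card W ^ f := by
      have h1 := hfc ∅
      rw [show fixedSet ρW (∅ : Set A) = Set.univ from Set.eq_univ_of_forall fun v s hs => hs.elim,
        Nat.card_univ] at h1
      rw [← h1]
      exact Nat.card_congr (Equiv.subtypeUnivEquiv fun φ s hs => hs.elim).symm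
    rw [h0, hfc, ← pow_mul, mul_comm f, pow_mul] at h
    exact Nat.pow_left_injective hf.ne' h
  -- the fixed vectors of `Z`
  let mk := QuotientGroup.mk' Z
  let ρ' : A ⧸ Z →* AddMonoid.End C := QuotientGroup.lift Z ρC fun z hz => by
    refine AddMonoidHom.ext fun v => Subtype.ext ?_
    exact v.2 z hz
  have hlt : Nat.card (A ⧸ Z) < Nat.card A := by
    rw [Z.card_eq_card_quotient_mul_card_subgroup]
    exact lt_mul_of_one_lt_right Nat.card_pos ((Subgroup.one_lt_card_iff_ne_bot Z).2 hZne)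
  have hinf' : U.map mk ⊓ E.map mk = ⊥ := by
    rw [Subgroup.eq_bot_iff_forall]
    rintro x ⟨⟨w, hw, hwx⟩, ⟨d, hd, hdx⟩⟩
    have h1 : w⁻¹ * d ∈ Z := QuotientGroup.eq.1 (hwx.trans hdx.symm)
    have h2 : d ∈ U ⊓ E := ⟨by simpa using U.mul_mem hw (hZU h1), hd⟩
    rw [hinf, Subgroup.mem_bot] at h2
    rw [← hdx, h2, map_one]
  have hfpf' : ∀ d ∈ E.map mk, d ≠ 1 → ∀ w ∈ U.map mk, d * w = w * d → w = 1 := by
    rintro _ ⟨d, hd, rfl⟩ hd1 _ ⟨w, hw, rfl⟩ hdw
    have hd1' : d ≠ 1 := fun h => hd1 (by rw [h, map_one])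
    rw [← map_mul, ← map_mul] at hdw
    have hz : (w * d)⁻¹ * (d * w) ∈ Z := QuotientGroup.eq.1 hdw.symm
    let c : Z → Z := fun z => ⟨d⁻¹ * (z : A)⁻¹ * d * z, mul_mem (by simpa using hZn.conj_mem _ (inv_mem z.2) d⁻¹) z.2⟩
    have hc : Function.Surjective c := by
      refine Finite.injective_iff_surjective.1 fun x y hxy => ?_
      have h' : d⁻¹ * (x : A)⁻¹ * d * x = d⁻¹ * (y : A)⁻¹ * d * y := congrArg Subtype.val hxy
      have h2 : d * ((x : A) * (y : A)⁻¹) = ((x : A) * (y : A)⁻¹) * d := by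
        calc d * ((x : A) * (y : A)⁻¹) = (x : A) * d * (d⁻¹ * (x : A)⁻¹ * d * x) * (y : A)⁻¹ := by group
          _ = ((x : A) * (y : A)⁻¹) * d := by rw [h']; group
      exact Subtype.ext (mul_inv_eq_one.1 (hfpf d hd hd1' _ (hZU (mul_mem x.2 (inv_mem y.2))) h2))
    obtain ⟨⟨z, hzZ⟩, hcz⟩ := hc ⟨_, hz⟩
    have hcz' : d⁻¹ * z⁻¹ * d * z = (w * d)⁻¹ * (d * w) := congrArg Subtype.val hcz
    have h3 : d * (w * z⁻¹) = (w * z⁻¹) * d := by
      calc d * (w * z⁻¹) = (w * d) * ((w * d)⁻¹ * (d * w)) * z⁻¹ := by group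
        _ = w * z⁻¹ * d := by rw [← hcz']; group
    have h4 := hfpf d hd hd1' _ (U.mul_mem hw (U.inv_mem (hZU hzZ))) h3
    rw [mul_inv_eq_one.1 h4]
    exact (QuotientGroup.eq_one_iff z).2 hzZ
  have hEcard : Nat.card (E.map mk) = Nat.card E := by
    refine (Nat.card_congr (Equiv.ofBijective (fun d : E => (⟨mk d, d, d.2, rfl⟩ : E.map mk))
      ⟨fun d d' h => ?_, fun x => ?_⟩)).symm
    · have h1 : (d : A)⁻¹ * d' ∈ Z := QuotientGroup.eq.1 (congrArg Subtype.val h)
      have h2 : (d : A)⁻¹ * d' ∈ U ⊓ E := ⟨hZU h1, E.mul_mem (E.inv_mem d.2) d'.2⟩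
      rw [hinf, Subgroup.mem_bot, inv_mul_eq_one] at h2
      exact Subtype.ext h2
    · obtain ⟨_, d, hd, rfl⟩ := x; exact ⟨⟨d, hd⟩, rfl⟩
  obtain ⟨hform, hcomm⟩ := ih _ (lt_of_lt_of_le hlt hN) (A ⧸ Z) le_rfl C ρ' (U.map mk) (E.map mk) p
    (hUnorm.map mk (QuotientGroup.mk'_surjective Z))
    (by rw [← Subgroup.map_sup, hsup, Subgroup.map_top_of_surjective _ (QuotientGroup.mk'_surjective Z)])
    hinf' hfpf' hVC (Nat.Coprime.coprime_dvd_left (Subgroup.card_map_dvd U mk) hcop)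
  have hsame : ∀ S : Set A, fixedSet ρ' (mk '' S) = fixedSet ρC S := by
    intro S
    ext v
    exact ⟨fun h s hs => h (mk s) ⟨s, hs, rfl⟩, fun h x hx => by obtain ⟨s, hs, rfl⟩ := hx; exact h s hs⟩
  rw [Subgroup.coe_map, Subgroup.coe_map, hsame, hsame, hEcard] at hform
  rw [show (Set.univ : Set (A ⧸ Z)) = mk '' Set.univ from (Set.image_univ_of_surjective (QuotientGroup.mk'_surjective Z)).symm,
    hsame] at hform
  rw [Subgroup.coe_map, Subgroup.coe_map, hsame, hsame] at hcomm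
  refine ⟨?_, fun hU1 hEp u hu w hw v => ?_⟩
  · rw [hsplit, hsplit (E : Set A), hsplit (U : Set A), hWU, hWA, mul_one, mul_one, hVcard, mul_pow,
      ← hWcard, ← mul_assoc, hform]
    ring
  · rw [hsplit, hWU, mul_one] at hU1
    rw [hsplit] at hEp
    have hcases : Nat.card C = 1 ∨ Nat.card W = 1 := by
      by_cases h1 : Nat.card (fixedSet ρW (E : Set A)) = 1
      · exact Or.inr (by rw [hWcard, h1, one_pow])
      · left
        have h2 : Nat.card (fixedSet ρC (E : Set A)) = 1 := by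
          by_contra h2
          have := Nat.mul_le_mul (exponent_le_card hVC ρC _ h2) (exponent_le_card hVW ρW _ h1)
          have := hp.out.two_le
          nlinarith
        rw [h2, one_pow, hU1, mul_one] at hform
        exact Nat.eq_one_of_mul_eq_one_left hform
    rcases hcases with hC1 | hW1
    · -- only the part without fixed vectors
      have hvW : v ∈ W := by
        haveI := (Nat.card_eq_one_iff_unique.1 hC1).1
        exact congrArg Subtype.val (Subsingleton.elim (⟨π v, fun z hz => hπfix v z hz⟩ : C) 0)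
      have hline : Nat.card {φ : F →+ W // ∀ d ∈ (E : Set A), ∀ x, ρW d (φ x) = φ x} ≤ Nat.card F := by
        rw [hfc, hFcard]
        refine Nat.pow_le_pow_left ?_ f
        calc Nat.card (fixedSet ρW (E : Set A)) ≤ Nat.card (fixedSet ρC (E : Set A)) * Nat.card (fixedSet ρW (E : Set A)) :=
              Nat.le_mul_of_pos_left _ (Nat.card_pos_iff.2 ⟨⟨0, fun s _ => map_zero (ρC s)⟩, inferInstance⟩)
          _ ≤ p := hEp
      haveI := Fintype.ofFinite (Z →* Fˣ)
      have hact : ∀ (y : A), y ∈ U → ∀ (l : Z →* Fˣ) (φ : F →+ W), φ ∈ Wt ρW l → act ρW y φ ∈ Wt ρW l := by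
        intro y hy l φ hφ z x
        show ρW z (ρW y (φ x)) = ρW y (φ _)
        rw [← hφ z x, ← rho_mul, ← rho_mul, hZc z z.2 y hy]
      have hwt : ∀ (l : Z →* Fˣ) (φ : F →+ W), φ ∈ Wt ρW l → act ρW (u * w) φ = act ρW (w * u) φ := by
        intro l φ hφ
        by_cases hl : l = 1
        · subst hl
          have h0 : φ = 0 := AddMonoidHom.ext fun x => hWfix _ fun z hz => by
            have h := hφ ⟨z, hz⟩ x
            rwa [MonoidHom.one_apply, Units.val_one, one_mul] at h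
          subst h0
          exact AddMonoidHom.ext fun x => by show ρW _ 0 = ρW _ 0; rw [map_zero, map_zero]
        by_cases hφ0 : φ = 0
        · subst hφ0
          exact AddMonoidHom.ext fun x => by show ρW _ 0 = ρW _ 0; rw [map_zero, map_zero]
        obtain ⟨cu, hcu⟩ := exists_scalar ρW hnE hfpfZ hVW hpZ hWfix (map_one ρW) hline hl hφ (hact u hu l φ hφ) hφ0
        obtain ⟨cw, hcw⟩ := exists_scalar ρW hnE hfpfZ hVW hpZ hWfix (map_one ρW) hline hl hφ (hact w hw l φ hφ) hφ0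
        refine AddMonoidHom.ext fun x => ?_
        show ρW (u * w) (φ x) = ρW (w * u) (φ x)
        have hu' : ∀ y, ρW u (φ y) = φ (cu * y) := fun y => DFunLike.congr_fun hcu y
        have hw' : ∀ y, ρW w (φ y) = φ (cw * y) := fun y => DFunLike.congr_fun hcw y
        rw [rho_mul, rho_mul, hw', hu', hu', hw', mul_left_comm]
      obtain ⟨φ, x₀, hφ⟩ : ∃ (φ : F →+ W) (x₀ : F), φ x₀ = ⟨v, hvW⟩ := by
        letI : Algebra (ZMod p) F := ZMod.algebra F p
        letI : Module (ZMod p) W := AddCommGroup.zmodModule hVW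
        let b := Module.finBasis (ZMod p) F
        exact ⟨(b.constr ℕ fun _ => (⟨v, hvW⟩ : W)).toAddMonoidHom, b ⟨0, Module.finrank_pos⟩,
          b.constr_basis ℕ _ _⟩
      have hsum := sum_Pr ρW (Z := Z) (map_one ρW) φ
      have h1 : act ρW (u * w) (Nat.card Z • φ) = act ρW (w * u) (Nat.card Z • φ) := by
        rw [← hsum]
        refine AddMonoidHom.ext fun x => ?_
        show ρW (u * w) ((∑ l, Pr ρW l φ) x) = ρW (w * u) ((∑ l, Pr ρW l φ) x)
        rw [AddMonoidHom.finsetSum_apply, map_sum, map_sum]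
        exact Finset.sum_congr rfl fun l _ => DFunLike.congr_fun (hwt l _ (Pr_mem ρW l φ)) x
      have h2 := DFunLike.congr_fun h1 x₀
      change ρW (u * w) (Nat.card Z • φ x₀) = ρW (w * u) (Nat.card Z • φ x₀) at h2
      rw [map_nsmul, map_nsmul, hφ] at h2
      have h3 : Nat.card Z • ρ (u * w) v = Nat.card Z • ρ (w * u) v := congrArg Subtype.val h2
      rw [← hk (ρ (u * w) v), h3, hk]
    · -- all vectors are fixed by `Z`
      have hvC : v ∈ C := by
        haveI := (Nat.card_eq_one_iff_unique.1 hW1).1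
        have h0 : Nat.card Z • v - π v = 0 := congrArg Subtype.val (Subsingleton.elim
          (⟨Nat.card Z • v - π v, AddMonoidHom.mem_ker.2 (by
            rw [map_sub, map_nsmul, hπc _ (fun z hz => hπfix v z hz), sub_self])⟩ : W) 0)
        intro z hz
        rw [← hk v, map_nsmul, sub_eq_zero.1 h0, hπfix v z hz]
      refine congrArg Subtype.val (hcomm hU1 ?_ (mk u) ⟨u, hu, rfl⟩ (mk w) ⟨w, hw, rfl⟩ ⟨v, hvC⟩)
      exact (Nat.le_mul_of_pos_right _ (Nat.card_pos_iff.2 ⟨⟨0, fun s _ => map_zero (ρW s)⟩, inferInstance⟩)).trans hEp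

end Elementary

theorem group_formula {X : Type u} [Group X] [Finite X] (U E : Subgroup X) (hUE : U ⊓ E = ⊥)
    (hUn : ∀ e ∈ E, ∀ y ∈ U, e * y * e⁻¹ ∈ U)
    (hfpf : ∀ e ∈ E, e ≠ 1 → ∀ y ∈ U, e * y = y * e → y = 1) :
    ∀ (n : ℕ) (H : Subgroup X), Nat.card H ≤ n → (∀ x ∈ U ⊔ E, ∀ h ∈ H, x * h * x⁻¹ ∈ H) →
      Group.IsSolvable H → Nat.Coprime (Nat.card H) (Nat.card ↥(U ⊔ E)) →
      Nat.card ↥(H ⊓ centralizer ((U ⊔ E : Subgroup X) : Set X)) ^ Nat.card E * Nat.card H =
          Nat.card ↥(H ⊓ centralizer (E : Set X)) ^ Nat.card E * Nat.card ↥(H ⊓ centralizer (U : Set X)) ∧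
        (H ⊓ centralizer (U : Set X) = ⊥ → IsCyclic ↥(H ⊓ centralizer (E : Set X)) →
          ⁅U, U⁆ ≤ centralizer (H : Set X)) := by
  intro n
  induction n using Nat.strong_induction_on with
  | _ n ih =>
  intro H hn hHn hsolv hcop
  classical
  by_cases hH : H = ⊥
  · subst hH
    refine ⟨?_, fun _ _ => fun x _ => Subgroup.mem_centralizer_iff.2 fun h hh => ?_⟩
    · simp only [bot_inf_eq, Subgroup.card_bot, one_pow, mul_one]
    · rw [Subgroup.mem_bot.1 hh, one_mul, mul_one]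
  haveI := hsolv
  haveI : Nontrivial H := (Subgroup.nontrivial_iff_ne_bot H).2 hH
  -- a prime dividing the order of the abelianisation
  have hab : Nat.card (Abelianization H) ≠ 1 := by
    intro h1
    have : (commutator H).index = 1 := h1
    rw [Subgroup.index_eq_one] at this
    exact (Group.IsSolvable.commutator_lt_top_of_nontrivial H).ne this
  obtain ⟨p, hp, hpd⟩ := Nat.exists_prime_and_dvd hab
  haveI := Fact.mk hp
  let P : Subgroup (Abelianization H) := (powMonoidHom p).range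
  have hP : P ≠ ⊤ := by
    intro h
    obtain ⟨x, hx⟩ := exists_prime_orderOf_dvd_card' p hpd
    have hs : Function.Surjective (powMonoidHom p : Abelianization H →* Abelianization H) := MonoidHom.range_eq_top.1 h
    have hi := (Finite.injective_iff_surjective.2 hs) (a₁ := x) (a₂ := 1) (by
      show x ^ p = 1 ^ p
      rw [one_pow, ← hx, pow_orderOf_eq_one])
    rw [hi, orderOf_one] at hx
    exact hp.ne_one hx.symm
  let q : H →* Abelianization H ⧸ P := (QuotientGroup.mk' P).comp Abelianization.of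
  have hq : Function.Surjective q :=
    (QuotientGroup.mk'_surjective P).comp fun x => QuotientGroup.mk_surjective x
  -- the action of `U ⊔ E`
  let ca : ↥(U ⊔ E) → (H →* H) := fun a =>
    { toFun := fun h => ⟨(a : X) * h * (a : X)⁻¹, hHn a a.2 h h.2⟩
      map_one' := Subtype.ext (by simp)
      map_mul' := fun x y => Subtype.ext (by simp [mul_assoc]) }
  have hPmap : ∀ a, P ≤ P.comap (Abelianization.map (ca a)) := by
    rintro a x ⟨y, rfl⟩
    exact ⟨Abelianization.map (ca a) y, (map_pow _ y p).symm⟩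
  let σ : ↥(U ⊔ E) → AddMonoid.End (Additive (Abelianization H ⧸ P)) := fun a =>
    MonoidHom.toAdditive (QuotientGroup.map P P (Abelianization.map (ca a)) (hPmap a))
  have hσ : ∀ a h, σ a (Additive.ofMul (q h)) = Additive.ofMul (q (ca a h)) := fun a h => rfl
  let ρ : ↥(U ⊔ E) →* AddMonoid.End (Additive (Abelianization H ⧸ P)) :=
    { toFun := σ
      map_one' := AddMonoidHom.ext fun v => by
        obtain ⟨h, hh⟩ := hq (Additive.toMul v)
        have e : ca 1 h = h := Subtype.ext (by show (1 : X) * h * (1 : X)⁻¹ = h; group)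
        show σ 1 v = v
        rw [show v = Additive.ofMul (q h) from congrArg Additive.ofMul hh.symm, hσ, e]
      map_mul' := fun a b => AddMonoidHom.ext fun v => by
        obtain ⟨h, hh⟩ := hq (Additive.toMul v)
        have e : ca (a * b) h = ca a (ca b h) := Subtype.ext (by
          show ((a : X) * b) * h * ((a : X) * b)⁻¹ = (a : X) * ((b : X) * h * (b : X)⁻¹) * (a : X)⁻¹
          group)
        show σ (a * b) v = σ a (σ b v)
        rw [show v = Additive.ofMul (q h) from congrArg Additive.ofMul hh.symm, hσ, hσ, hσ, e] }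
  have hexp : ∀ v : Additive (Abelianization H ⧸ P), p • v = 0 := by
    intro v
    obtain ⟨x, hx⟩ := QuotientGroup.mk'_surjective P (Additive.toMul v)
    show Additive.ofMul ((Additive.toMul v) ^ p) = Additive.ofMul 1
    congr 1
    rw [← hx, ← map_pow]
    exact (QuotientGroup.eq_one_iff _).2 ⟨x, rfl⟩
  -- the kernel
  set N : Subgroup X := q.ker.map H.subtype with hNdef
  have hNH : N ≤ H := Subgroup.map_subtype_le _
  have hNmem : ∀ x : H, (x : X) ∈ N ↔ q x = 1 := fun x =>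
    (Subgroup.mem_map_iff_mem H.subtype_injective).trans MonoidHom.mem_ker
  have hNn : ∀ x ∈ U ⊔ E, ∀ h ∈ N, x * h * x⁻¹ ∈ N := by
    rintro x hx _ ⟨h, hh, rfl⟩
    have h1 : q (ca ⟨x, hx⟩ h) = 1 := by
      have h2 : Additive.ofMul (q (ca ⟨x, hx⟩ h)) = 0 := by
        rw [← hσ, MonoidHom.mem_ker.1 hh]
        exact map_zero (σ ⟨x, hx⟩)
      exact h2
    exact (hNmem _).2 h1
  have hHcard : Nat.card H = Nat.card N * Nat.card (Additive (Abelianization H ⧸ P)) := by
    rw [hNdef, Subgroup.card_map_of_injective H.subtype_injective, q.ker.card_eq_card_quotient_mul_card_subgroup, mul_comm]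
    congr 1
    exact Nat.card_congr ((QuotientGroup.quotientKerEquivOfSurjective q hq).toEquiv.trans Additive.ofMul)
  have hQ1 : 1 < Nat.card (Additive (Abelianization H ⧸ P)) := by
    have : P.index ≠ 1 := fun h => hP (Subgroup.index_eq_one.1 h)
    have h2 : Nat.card (Additive (Abelianization H ⧸ P)) = P.index := rfl
    have h3 : P.index ≠ 0 := Subgroup.index_ne_zero_of_finite
    omega
  have hNlt : Nat.card N < n := by
    refine lt_of_lt_of_le ?_ hn
    rw [hHcard]
    exact lt_mul_of_one_lt_right Nat.card_pos hQ1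
  have hNsolv : Group.IsSolvable N := Cfsg.Agent.Solv.isSolvable_of_le hNH hsolv
  have hNcop : Nat.Coprime (Nat.card N) (Nat.card ↥(U ⊔ E)) :=
    Nat.Coprime.coprime_dvd_left (Subgroup.card_dvd_of_le hNH) hcop
  obtain ⟨hNf, hNc⟩ := ih _ hNlt N le_rfl hNn hNsolv hNcop
  have hAN : ∀ K : Subgroup X, K ≤ H → (∀ x ∈ U ⊔ E, ∀ h ∈ K, x * h * x⁻¹ ∈ K) → U ⊔ E ≤ normalizer (K : Set X) := by
    intro K _ hK x hx
    rw [Subgroup.mem_normalizer_iff]
    refine fun h => ⟨hK x hx h, fun h' => ?_⟩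
    simpa [mul_assoc] using hK x⁻¹ (inv_mem hx) _ h'
  have hHnormN : H ≤ normalizer (N : Set X) := by
    intro x hx
    rw [Subgroup.mem_normalizer_iff]
    have key : ∀ x ∈ H, ∀ h ∈ N, x * h * x⁻¹ ∈ N := by
      rintro x hx _ ⟨h, hh, rfl⟩
      exact (hNmem (⟨x, hx⟩ * h * ⟨x, hx⟩⁻¹)).2 (MonoidHom.mem_ker.1 (q.normal_ker.conj_mem h hh ⟨x, hx⟩))
    refine fun h => ⟨key x hx h, fun h' => ?_⟩
    simpa [mul_assoc] using key x⁻¹ (inv_mem hx) _ h'
  -- fixed points multiply
  have hlift : ∀ S : Subgroup X, S ≤ U ⊔ E → ∀ h : H,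
      (∀ s : ↥(U ⊔ E), (s : X) ∈ S → ρ s (Additive.ofMul (q h)) = Additive.ofMul (q h)) →
      ∃ c : H, (c : X) ∈ centralizer (S : Set X) ∧ q c = q h := by
    intro S hS h hfix
    obtain ⟨c, ⟨hcH, hcC⟩, hcn⟩ := Cfsg.Agent.Solv.exists_centralizer_lift S H (hS.trans (hAN H le_rfl hHn))
      (Nat.Coprime.coprime_dvd_left (Subgroup.card_dvd_of_le hS) hcop.symm) (Or.inr hsolv) N hNH hHnormN
      (hS.trans (hAN N hNH hNn)) h h.2 (fun a ha => by
        have h1 : q (ca ⟨a, hS ha⟩ h) = q h := by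
          have := hfix ⟨a, hS ha⟩ ha
          exact this
        exact (hNmem ((ca ⟨a, hS ha⟩ h) * h⁻¹)).2 (by rw [map_mul, map_inv, h1, mul_inv_cancel]))
    refine ⟨⟨c, hcH⟩, hcC, ?_⟩
    have h2 := (hNmem (h⁻¹ * ⟨c, hcH⟩)).1 hcn
    rw [map_mul, map_inv, inv_mul_eq_one] at h2
    exact h2.symm
  have hmult : ∀ S : Subgroup X, S ≤ U ⊔ E → Nat.card ↥(H ⊓ centralizer (S : Set X)) =
      Nat.card ↥(N ⊓ centralizer (S : Set X)) *
        Nat.card (fixedSet ρ (((↑) : ↥(U ⊔ E) → X) ⁻¹' (S : Set X))) := by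
    intro S hS
    let r : ↥(H ⊓ centralizer (S : Set X)) →* Abelianization H ⧸ P := q.comp (Subgroup.inclusion inf_le_left)
    rw [r.ker.card_eq_card_quotient_mul_card_subgroup, mul_comm]
    congr 1
    · exact Nat.card_congr
        { toFun := fun x => ⟨(x.1 : X), (hNmem (Subgroup.inclusion inf_le_left x.1)).2 (MonoidHom.mem_ker.1 x.2), x.1.2.2⟩
          invFun := fun x => ⟨⟨(x : X), hNH x.2.1, x.2.2⟩, MonoidHom.mem_ker.2 ((hNmem ⟨(x : X), hNH x.2.1⟩).1 x.2.1)⟩
          left_inv := fun x => rfl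
          right_inv := fun x => rfl }
    · refine (Nat.card_congr (QuotientGroup.quotientKerEquivRange r).toEquiv).trans ?_
      refine Nat.card_congr (Equiv.subtypeEquiv Additive.ofMul fun y => ?_)
      constructor
      · rintro ⟨⟨x, hxH, hxC⟩, rfl⟩ s hs
        show σ s (Additive.ofMul (q ⟨x, hxH⟩)) = Additive.ofMul (q ⟨x, hxH⟩)
        rw [hσ]
        have : ca s ⟨x, hxH⟩ = ⟨x, hxH⟩ := Subtype.ext (by
          show (s : X) * x * (s : X)⁻¹ = x
          rw [Subgroup.mem_centralizer_iff.1 hxC s hs, mul_inv_cancel_right])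
        rw [this]
      · intro hy
        obtain ⟨h, rfl⟩ := hq y
        obtain ⟨c, hc, hce⟩ := hlift S hS h (fun s hs => hy s hs)
        exact ⟨⟨c, c.2, hc⟩, hce⟩
  have hsupA : U.subgroupOf (U ⊔ E) ⊔ E.subgroupOf (U ⊔ E) = ⊤ := by
    rw [← Subgroup.subgroupOf_sup le_sup_left le_sup_right, Subgroup.subgroupOf_self]
  have hUnA : (U.subgroupOf (U ⊔ E)).Normal := Subgroup.normal_subgroupOf_of_le_normalizer
    (sup_le le_normalizer fun e he => Subgroup.mem_normalizer_iff.2 fun h => ⟨hUn e he h, fun h' => by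
      simpa [mul_assoc] using hUn e⁻¹ (inv_mem he) _ h'⟩)
  obtain ⟨hVf, hVc⟩ := elem_formula (Nat.card ↥(U ⊔ E)) ↥(U ⊔ E) le_rfl (Additive (Abelianization H ⧸ P)) ρ
    (U.subgroupOf (U ⊔ E)) (E.subgroupOf (U ⊔ E)) p hUnA hsupA
    (by rw [Subgroup.subgroupOf, Subgroup.subgroupOf, ← Subgroup.comap_inf, hUE]; exact (MonoidHom.comap_bot _).trans (Subgroup.ker_subtype _))
    (fun e he he1 y hy h => Subtype.ext (hfpf e he (fun h' => he1 (Subtype.ext h')) y hy (congrArg Subtype.val h)))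
    hexp (by
      rw [Nat.card_congr (Subgroup.subgroupOfEquivOfLe (le_sup_left : U ≤ U ⊔ E)).toEquiv]
      refine Nat.Coprime.coprime_dvd_left (Subgroup.card_dvd_of_le (le_sup_left : U ≤ U ⊔ E)) ?_
      refine Nat.Coprime.coprime_dvd_right ?_ hcop.symm
      exact hpd.trans (Subgroup.card_quotient_dvd_card _))
  rw [Nat.card_congr (Subgroup.subgroupOfEquivOfLe (le_sup_right : E ≤ U ⊔ E)).toEquiv] at hVf
  have e1 : (((↑) : ↥(U ⊔ E) → X) ⁻¹' ((U ⊔ E : Subgroup X) : Set X)) = Set.univ :=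
    Set.eq_univ_of_forall fun s => s.2
  refine ⟨?_, fun hU1 hcyc => ?_⟩
  · rw [hmult _ le_rfl, hmult E le_sup_right, hmult U le_sup_left, e1, hHcard, mul_pow, mul_pow]
    calc _ = (Nat.card ↥(N ⊓ centralizer ((U ⊔ E : Subgroup X) : Set X)) ^ Nat.card E * Nat.card N) *
          (Nat.card (fixedSet ρ Set.univ) ^ Nat.card E * Nat.card (Additive (Abelianization H ⧸ P))) := by ring
      _ = _ := by rw [hNf, hVf]; simp only [Subgroup.coe_subgroupOf, Subgroup.coe_subtype]; ring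
  · haveI := hcyc
    have hNU : N ⊓ centralizer (U : Set X) = ⊥ := eq_bot_iff.2 ((inf_le_inf_right _ hNH).trans hU1.le)
    have hNcyc : IsCyclic ↥(N ⊓ centralizer (E : Set X)) := isCyclic_of_injective
      (Subgroup.inclusion (inf_le_inf_right _ hNH)) (Subgroup.inclusion_injective _)
    have hNcent := hNc hNU hNcyc
    have h1 : Nat.card (fixedSet ρ ((U.subgroupOf (U ⊔ E) : Subgroup ↥(U ⊔ E)) : Set ↥(U ⊔ E))) = 1 := by
      have := hmult U le_sup_left
      rw [hU1, hNU, Subgroup.card_bot, one_mul] at this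
      exact this.symm
    have h2 : Nat.card (fixedSet ρ ((E.subgroupOf (U ⊔ E) : Subgroup ↥(U ⊔ E)) : Set ↥(U ⊔ E))) ≤ p := by
      obtain ⟨g, hg⟩ := IsCyclic.exists_generator (α := ↥(H ⊓ centralizer (E : Set X)))
      set g' : Additive (Abelianization H ⧸ P) := Additive.ofMul (q ⟨g, g.2.1⟩) with hg'
      have hsub : fixedSet ρ ((E.subgroupOf (U ⊔ E) : Subgroup ↥(U ⊔ E)) : Set ↥(U ⊔ E)) ⊆
          (AddSubgroup.zmultiples g' : Set (Additive (Abelianization H ⧸ P))) := by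
        intro v hv
        obtain ⟨h, hh⟩ := hq (Additive.toMul v)
        obtain ⟨c, hc, hce⟩ := hlift E le_sup_right h (fun s hs => by
          have := hv s hs
          rwa [show v = Additive.ofMul (q h) from congrArg Additive.ofMul hh.symm] at this)
        obtain ⟨i, hi⟩ := Subgroup.mem_zpowers_iff.1 (hg ⟨c, c.2, hc⟩)
        refine AddSubgroup.mem_zmultiples_iff.2 ⟨i, ?_⟩
        have hi' : (⟨(g : X), g.2.1⟩ : H) ^ i = c := Subtype.ext (by
          rw [Subgroup.coe_zpow]; exact congrArg Subtype.val hi)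
        rw [hg', ← ofMul_zpow, ← map_zpow, hi', hce, hh]
        rfl
      refine (Nat.card_mono (Set.toFinite _) hsub).trans ?_
      rw [SetLike.coe_sort_coe, Nat.card_zmultiples]
      exact Nat.le_of_dvd hp.pos (addOrderOf_dvd_of_nsmul_eq_zero (hexp g'))
    have hVU := hVc h1 h2
    -- the derived subgroup centralises the quotient and the kernel
    have hUU : ⁅U, U⁆ ≤ U := Subgroup.commutator_le_self U
    have hker : ⁅U, U⁆ ≤ ρ.ker.map (U ⊔ E).subtype := by
      refine Subgroup.commutator_le.2 fun x hx y hy => ?_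
      set x' : ↥(U ⊔ E) := ⟨x, Subgroup.mem_sup_left hx⟩ with hx'
      set y' : ↥(U ⊔ E) := ⟨y, Subgroup.mem_sup_left hy⟩ with hy'
      refine ⟨⁅x', y'⁆, ?_, rfl⟩
      have h3 : ρ (x' * y') = ρ (y' * x') := AddMonoidHom.ext fun v => hVU x' hx y' hy v
      rw [SetLike.mem_coe, MonoidHom.mem_ker]
      have h4 : ⁅x', y'⁆ = (x' * y') * (y' * x')⁻¹ := by
        rw [commutatorElement_def]; group
      rw [h4, map_mul, h3, ← map_mul, mul_inv_cancel, map_one]
    intro y hy
    rw [Subgroup.mem_centralizer_iff]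
    intro h hh
    obtain ⟨c, hc, hce⟩ := hlift ⁅U, U⁆ (hUU.trans le_sup_left) ⟨h, hh⟩ (fun s hs => by
      obtain ⟨s', hs', hss⟩ := hker hs
      rw [Subtype.ext (hss.symm : (s : X) = s'), MonoidHom.mem_ker.1 hs']
      rfl)
    have hn : ((c⁻¹ * ⟨h, hh⟩ : H) : X) ∈ N := (hNmem _).2 (by rw [map_mul, map_inv, hce, inv_mul_cancel])
    have hyn := Subgroup.mem_centralizer_iff.1 (hNcent hy) _ hn
    have hyc := Subgroup.mem_centralizer_iff.1 hc y hy
    have e : h = (c : X) * ((c⁻¹ * ⟨h, hh⟩ : H) : X) := by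
      rw [Subgroup.coe_mul, Subgroup.coe_inv, mul_inv_cancel_left]
    rw [e, mul_assoc, hyn, ← mul_assoc, ← hyc, mul_assoc]

end Cfsg.Agent.Struct.FrobFixed
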