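import Mathlib.GroupTheory.FiniteAbelian.Duality
import Mathlib.RingTheory.RootsOfUnity.EnoughRootsOfUnity
import Mathlib.FieldTheory.Finite.GaloisField
import Mathlib.LinearAlgebra.FreeModule.Finite.Basic
import Mathlib.GroupTheory.GroupAction.Quotient
import Mathlib.Algebra.Ring.Subring.Units

/-!
A group with an abelian subgroup `Z` normalised without fixed points by `E`, acting on a finite
elementary abelian group on which `Z` has no non-zero fixed vector: the group is free for `E`.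
The characters of `Z` over a large enough finite field `F` decompose `F →+ V`.
-/

set_option autoImplicit false

namespace Cfsg.Agent.Struct.FrobFixed

variable {A V : Type*} [Group A] [Finite A] [AddCommGroup V] [Finite V] (ρ : A →* AddMonoid.End V)

/-- The vectors fixed by a set of operators. -/
def fixedSet (S : Set A) : Set V := {v | ∀ s ∈ S, ρ s v = v}

theorem zero_mem_fixedSet (S : Set A) : (0 : V) ∈ fixedSet ρ S := fun s _ => map_zero (ρ s)

omit [Finite A] [Finite V] in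
theorem rho_mul (a b : A) (v : V) : ρ (a * b) v = ρ a (ρ b v) := by rw [map_mul]; rfl

section Field

variable {p : ℕ} [hp : Fact p.Prime] {F : Type} [Field F] [Finite F] [CharP F p]

/-- Fixed maps from `F` are tuples of fixed vectors. -/
theorem card_fixed_hom (hV : ∀ v : V, p • v = 0) :
    ∃ f : ℕ, 0 < f ∧ Nat.card F = p ^ f ∧ ∀ S : Set A,
      Nat.card {φ : F →+ V // ∀ s ∈ S, ∀ x, ρ s (φ x) = φ x} = Nat.card (fixedSet ρ S) ^ f := by
  classical
  letI : Algebra (ZMod p) F := ZMod.algebra F p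
  letI : Module (ZMod p) V := AddCommGroup.zmodModule hV
  haveI := Fintype.ofFinite F
  let b := Module.finBasis (ZMod p) F
  refine ⟨Module.finrank (ZMod p) F, Module.finrank_pos, ?_, fun S => ?_⟩
  · rw [Module.natCard_eq_pow_finrank (K := ZMod p), Nat.card_zmod]
  · have hb : Nat.card (Fin (Module.finrank (ZMod p) F) → fixedSet ρ S) =
        Nat.card (fixedSet ρ S) ^ Module.finrank (ZMod p) F := by
      rw [Nat.card_fun, Nat.card_fin]
    rw [← hb]
    refine Nat.card_congr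
      { toFun := fun φ i => ⟨φ.1 (b i), fun s hs => φ.2 s hs (b i)⟩
        invFun := fun v => ⟨(b.constr ℕ fun i => (v i : V)).toAddMonoidHom, fun s hs x => ?_⟩
        left_inv := fun φ => ?_
        right_inv := fun v => funext fun i => Subtype.ext (b.constr_basis ℕ _ i) }
    · have : ((ρ s : V →+ V).toZModLinearMap p).comp (b.constr ℕ fun i => (v i : V)) =
          (b.constr ℕ fun i => (v i : V)) := b.ext fun i => by
        show ρ s (b.constr ℕ (fun i => (v i : V)) (b i)) = _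
        rw [b.constr_basis]
        exact (v i).2 s hs
      exact LinearMap.congr_fun this x
    · refine Subtype.ext (AddMonoidHom.ext fun x => ?_)
      have : (b.constr ℕ fun i => φ.1 (b i)) = φ.1.toZModLinearMap p := b.ext fun i => b.constr_basis ℕ _ i
      exact LinearMap.congr_fun this x

end Field

section Eigen

variable {Z : Subgroup A} [IsMulCommutative Z] {F : Type} [Field F] [Finite F]
  [HasEnoughRootsOfUnity F (Monoid.exponent Z)]

/-- The eigenspace of a character. -/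
def Wt (l : Z →* Fˣ) : Set (F →+ V) := {φ | ∀ w : Z, ∀ x, ρ w (φ x) = φ ((l w : F) * x)}

/-- The projection to an eigenspace, up to the factor `|Z|`. -/
noncomputable def Pr (l : Z →* Fˣ) (φ : F →+ V) : F →+ V :=
  letI := Fintype.ofFinite Z
  ∑ u : Z, ((ρ u : V →+ V)).comp (φ.comp (AddMonoidHom.mulLeft ((l u⁻¹ : Fˣ) : F)))

theorem Pr_apply [Fintype Z] (l : Z →* Fˣ) (φ : F →+ V) (x : F) :
    Pr ρ l φ x = ∑ u : Z, ρ u (φ (((l u⁻¹ : Fˣ) : F) * x)) := by
  have h : (Fintype.ofFinite Z : Fintype Z) = ‹Fintype Z› := Subsingleton.elim _ _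
  unfold Pr
  rw [AddMonoidHom.finsetSum_apply, h]
  rfl

theorem Pr_mem (l : Z →* Fˣ) (φ : F →+ V) : Pr ρ l φ ∈ Wt ρ l := by
  intro w x
  letI := Fintype.ofFinite Z
  rw [Pr_apply, Pr_apply, map_sum]
  refine Fintype.sum_equiv (Equiv.mulLeft w) _ _ fun u => ?_
  show ρ w (ρ u (φ (((l u⁻¹ : Fˣ) : F) * x))) = ρ ((w * u : Z) : A) (φ (((l (w * u)⁻¹ : Fˣ) : F) * ((l w : F) * x)))
  rw [Subgroup.coe_mul, rho_mul, ← mul_assoc ((l (w * u)⁻¹ : Fˣ) : F), ← Units.val_mul, ← map_mul,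
    show (w * u)⁻¹ * w = u⁻¹ by group]

theorem sum_char_eq_zero [Fintype Z] {l : Z →* Fˣ} (hl : l ≠ 1) : ∑ u : Z, ((l u : Fˣ) : F) = 0 := by
  obtain ⟨v, hv⟩ : ∃ v : Z, l v ≠ 1 := by
    by_contra h
    simp only [not_exists, not_not] at h
    exact hl (MonoidHom.ext h)
  have h1 : ((l v : Fˣ) : F) * ∑ u : Z, ((l u : Fˣ) : F) = ∑ u : Z, ((l u : Fˣ) : F) := by
    rw [Finset.mul_sum]
    exact Fintype.sum_equiv (Equiv.mulLeft v) _ _ fun u => by
      show _ = ((l (v * u) : Fˣ) : F)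
      rw [map_mul, Units.val_mul]
  rcases mul_left_eq_self₀.1 h1 with h | h
  · exact absurd (Units.ext h) hv
  · exact h

theorem Pr_of_ne {l m : Z →* Fˣ} (h : m ≠ l) {φ : F →+ V} (hφ : φ ∈ Wt ρ l) : Pr ρ m φ = 0 := by
  refine AddMonoidHom.ext fun x => ?_
  letI := Fintype.ofFinite Z
  rw [Pr_apply]
  have h1 : ∀ u : Z, ρ u (φ (((m u⁻¹ : Fˣ) : F) * x)) = φ ((((l / m) u : Fˣ) : F) * x) := fun u => by
    rw [hφ u, ← mul_assoc, ← Units.val_mul, MonoidHom.div_apply, div_eq_mul_inv, map_inv]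
  rw [Finset.sum_congr rfl (fun u _ => h1 u), ← map_sum, ← Finset.sum_mul,
    sum_char_eq_zero (fun e => h (div_eq_one.1 e).symm), zero_mul, map_zero]
  rfl

theorem Pr_of_mem {l : Z →* Fˣ} {φ : F →+ V} (hφ : φ ∈ Wt ρ l) : Pr ρ l φ = Nat.card Z • φ := by
  refine AddMonoidHom.ext fun x => ?_
  letI := Fintype.ofFinite Z
  rw [Pr_apply]
  have h1 : ∀ u : Z, ρ u (φ (((l u⁻¹ : Fˣ) : F) * x)) = φ x := fun u => by
    rw [hφ u, ← mul_assoc, ← Units.val_mul, ← map_mul, mul_inv_cancel, map_one, Units.val_one, one_mul]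
  rw [Finset.sum_congr rfl (fun u _ => h1 u), Finset.sum_const, Finset.card_univ, Nat.card_eq_fintype_card]
  rfl

theorem Pr_sum {ι : Type*} (l : Z →* Fˣ) (s : Finset ι) (g : ι → F →+ V) :
    Pr ρ l (∑ i ∈ s, g i) = ∑ i ∈ s, Pr ρ l (g i) := by
  refine AddMonoidHom.ext fun x => ?_
  letI := Fintype.ofFinite Z
  simp only [AddMonoidHom.finsetSum_apply, Pr_apply, map_sum]
  rw [Finset.sum_comm]

theorem sum_Pr [Fintype (Z →* Fˣ)] (hone : ρ 1 = 1) (φ : F →+ V) :
    ∑ l : Z →* Fˣ, Pr ρ l φ = Nat.card Z • φ := by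
  classical
  open scoped IsMulCommutative in
  refine AddMonoidHom.ext fun x => ?_
  letI := Fintype.ofFinite Z
  rw [AddMonoidHom.finsetSum_apply]
  simp only [Pr_apply]
  rw [Finset.sum_comm, Finset.sum_eq_single 1]
  · simp only [inv_one, map_one, Units.val_one, one_mul, Subgroup.coe_one]
    rw [Finset.sum_const, Finset.card_univ, ← Nat.card_eq_fintype_card,
      CommGroup.card_monoidHom_of_hasEnoughRootsOfUnity]
    rfl
  · intro u _ hu
    rw [← map_sum, ← map_sum, ← Finset.sum_mul]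
    have h0 : ∑ l : Z →* Fˣ, ((l u⁻¹ : Fˣ) : F) = 0 := by
      obtain ⟨m, hm⟩ := CommGroup.exists_apply_ne_one_of_hasEnoughRootsOfUnity Z F (a := u⁻¹) (inv_ne_one.2 hu)
      have h1 : ((m u⁻¹ : Fˣ) : F) * ∑ l : Z →* Fˣ, ((l u⁻¹ : Fˣ) : F) = ∑ l : Z →* Fˣ, ((l u⁻¹ : Fˣ) : F) := by
        rw [Finset.mul_sum]
        exact Fintype.sum_equiv (Equiv.mulLeft m) _ _ fun l => by
          show _ = (((m * l) u⁻¹ : Fˣ) : F)
          rw [MonoidHom.mul_apply, Units.val_mul]
      rcases mul_left_eq_self₀.1 h1 with h | h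
      · exact absurd (Units.ext h) hm
      · exact h
    rw [h0, zero_mul, map_zero, map_zero]
  · exact fun h => absurd (Finset.mem_univ 1) h

theorem Pr_one (hfix : ∀ v : V, (∀ z ∈ Z, ρ z v = v) → v = 0) (φ : F →+ V) :
    Pr ρ (1 : Z →* Fˣ) φ = 0 := by
  refine AddMonoidHom.ext fun x => hfix _ fun z hz => ?_
  have h := Pr_mem ρ (1 : Z →* Fˣ) φ ⟨z, hz⟩ x
  rwa [MonoidHom.one_apply, Units.val_one, one_mul] at h

/-- The composition with an operator. -/
def act (e : A) (φ : F →+ V) : F →+ V := (ρ e : V →+ V).comp φ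

variable {E : Subgroup A} (hn : ∀ e ∈ E, ∀ z ∈ Z, e * z * e⁻¹ ∈ Z)

/-- Conjugation of the characters by an element of `E`. -/
def conjChar (e : E) (l : Z →* Fˣ) : Z →* Fˣ :=
  l.comp
    { toFun := fun z => ⟨(e : A)⁻¹ * z * e, by simpa using hn (e : A)⁻¹ (inv_mem e.2) z z.2⟩
      map_one' := Subtype.ext (by simp)
      map_mul' := fun z w => Subtype.ext (by simp [mul_assoc]) }

theorem conjChar_mul (d e : E) (l : Z →* Fˣ) : conjChar hn (d * e) l = conjChar hn d (conjChar hn e l) :=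
  MonoidHom.ext fun z => congrArg l (Subtype.ext (by
    show ((d : A) * e)⁻¹ * z * ((d : A) * e) = (e : A)⁻¹ * ((d : A)⁻¹ * z * d) * e
    group))

theorem conjChar_one' (l : Z →* Fˣ) : conjChar hn (1 : E) l = l :=
  MonoidHom.ext fun z => congrArg l (Subtype.ext (by
    show ((1 : A))⁻¹ * z * 1 = z
    group))

theorem act_Pr (e : E) (l : Z →* Fˣ) (φ : F →+ V) :
    act ρ (e : A) (Pr ρ l φ) = Pr ρ (conjChar hn e l) (act ρ (e : A) φ) := by
  refine AddMonoidHom.ext fun x => ?_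
  letI := Fintype.ofFinite Z
  show ρ e (Pr ρ l φ x) = _
  rw [Pr_apply, Pr_apply, map_sum]
  let c : Z → Z := fun z => ⟨(e : A) * z * (e : A)⁻¹, hn e e.2 z z.2⟩
  have hc : Function.Bijective c := Finite.injective_iff_bijective.1 fun z w h =>
    Subtype.ext (mul_left_cancel (mul_right_cancel (congrArg Subtype.val h)))
  refine Fintype.sum_equiv (Equiv.ofBijective c hc) _ _ fun u => ?_
  show ρ e (ρ u (φ _)) = ρ ((c u : Z) : A) (act ρ (e : A) φ (((conjChar hn e l (c u)⁻¹ : Fˣ) : F) * x))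
  have h2 : conjChar hn e l (c u)⁻¹ = l u⁻¹ := congrArg l (Subtype.ext (by
    show (e : A)⁻¹ * ((e : A) * u * (e : A)⁻¹)⁻¹ * e = ((u : A))⁻¹
    group))
  rw [h2]
  show _ = ρ ((e : A) * u * (e : A)⁻¹) (ρ e _)
  rw [← rho_mul, ← rho_mul, inv_mul_cancel_right]

theorem act_mem (e : E) {l : Z →* Fˣ} {φ : F →+ V} (hφ : φ ∈ Wt ρ l) :
    act ρ (e : A) φ ∈ Wt ρ (conjChar hn e l) := by
  intro w x
  show ρ w (ρ e (φ x)) = ρ e (φ _)
  have h := hφ ⟨(e : A)⁻¹ * w * e, by simpa using hn (e : A)⁻¹ (inv_mem e.2) w w.2⟩ x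
  show ρ w (ρ e (φ x)) = ρ e (φ (((l ⟨_, _⟩ : Fˣ) : F) * x))
  rw [← h, ← rho_mul, ← rho_mul]
  show ρ ((w : A) * e) (φ x) = ρ ((e : A) * ((e : A)⁻¹ * w * e)) (φ x)
  rw [← mul_assoc (e : A) _ (e : A), mul_inv_cancel_left]

variable (hfpf : ∀ e ∈ E, e ≠ 1 → ∀ z ∈ Z, e * z = z * e → z = 1)
include hn hfpf

theorem conjChar_free {e : E} {l : Z →* Fˣ} (hl : l ≠ 1) (h : conjChar hn e l = l) : e = 1 := by
  by_contra he
  apply hl
  let c : Z → Z := fun z => z⁻¹ * ⟨(e : A)⁻¹ * z * e, by simpa using hn (e : A)⁻¹ (inv_mem e.2) z z.2⟩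
  have hc : Function.Surjective c := by
    refine Finite.injective_iff_surjective.1 fun z w hzw => ?_
    have h' : (z : A)⁻¹ * ((e : A)⁻¹ * z * e) = (w : A)⁻¹ * ((e : A)⁻¹ * w * e) := congrArg Subtype.val hzw
    have h2 : (e : A) * ((w : A) * (z : A)⁻¹) = ((w : A) * (z : A)⁻¹) * e := by
      calc (e : A) * ((w : A) * (z : A)⁻¹) =
            (e : A) * w * ((z : A)⁻¹ * ((e : A)⁻¹ * z * e)) * (e : A)⁻¹ * (z : A)⁻¹ * e := by group
        _ = ((w : A) * (z : A)⁻¹) * e := by rw [h']; group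
    exact Subtype.ext (mul_inv_eq_one.1 (hfpf e e.2 (fun h => he (Subtype.ext h)) _
      (mul_mem w.2 (inv_mem z.2)) h2)).symm
  refine MonoidHom.ext fun y => ?_
  obtain ⟨z, rfl⟩ := hc y
  show l (z⁻¹ * _) = 1
  rw [map_mul, map_inv, inv_mul_eq_one]
  exact (DFunLike.congr_fun h z).symm

theorem conjChar_eq_one {e : E} {l : Z →* Fˣ} (h : conjChar hn e l = 1) : l = 1 := by
  have h1 := congrArg (conjChar hn e⁻¹) h
  rw [← conjChar_mul, inv_mul_cancel, conjChar_one'] at h1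
  rw [h1]; rfl

variable {p : ℕ} [Fact p.Prime] (hV : ∀ v : V, p • v = 0) (hpZ : (Nat.card Z).Coprime p)
  (hfix : ∀ v : V, (∀ z ∈ Z, ρ z v = v) → v = 0) (hone : ρ 1 = 1)
include hV hpZ hfix hone

omit hn hfpf hone hfix in
theorem smul_card_eq_zero {φ : F →+ V} (h : Nat.card Z • φ = 0) : φ = 0 := by
  refine AddMonoidHom.ext fun x => ?_
  have h1 : Nat.card Z • φ x = 0 := DFunLike.congr_fun h x
  exact AddMonoid.addOrderOf_eq_one_iff.1 (Nat.eq_one_of_dvd_coprimes hpZ
    (addOrderOf_dvd_of_nsmul_eq_zero h1) (addOrderOf_dvd_of_nsmul_eq_zero (hV _)))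

omit hn hfpf in
theorem eq_zero_of_Pr {φ : F →+ V} (h : ∀ l : Z →* Fˣ, l ≠ 1 → Pr ρ l φ = 0) : φ = 0 := by
  haveI := Fintype.ofFinite (Z →* Fˣ)
  refine smul_card_eq_zero hV hpZ ?_
  rw [← sum_Pr ρ hone φ]
  refine Finset.sum_eq_zero fun l _ => ?_
  by_cases hl : l = 1
  · rw [hl]; exact Pr_one ρ hfix φ
  · exact h l hl

theorem card_hom_eq_pow :
    Nat.card (F →+ V) = Nat.card {φ : F →+ V // ∀ e ∈ (E : Set A), ∀ x, ρ e (φ x) = φ x} ^ Nat.card E := by
  classical
  haveI := Fintype.ofFinite E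
  haveI := Fintype.ofFinite (Z →* Fˣ)
  haveI : Finite (F →+ V) := Finite.of_injective _ DFunLike.coe_injective
  letI : MulAction E (Z →* Fˣ) :=
    { smul := fun e l => conjChar hn e l
      one_smul := conjChar_one' hn
      mul_smul := conjChar_mul hn }
  let R : Finset (Z →* Fˣ) := Finset.univ.filter fun l => l ≠ 1 ∧ (Quotient.mk (MulAction.orbitRel E _) l).out = l
  have hR1 : ∀ r ∈ R, r ≠ 1 := fun r hr => (Finset.mem_filter.1 hr).2.1
  have hRu : ∀ r ∈ R, ∀ r' ∈ R, ∀ d e : E, conjChar hn d r' = conjChar hn e r → r' = r ∧ d = e := by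
    intro r hr r' hr' d e h
    have hq : Quotient.mk (MulAction.orbitRel E _) r' = Quotient.mk (MulAction.orbitRel E _) r := by
      apply Quotient.sound
      refine ⟨d⁻¹ * e, ?_⟩
      show conjChar hn (d⁻¹ * e) r = r'
      rw [conjChar_mul, ← h, ← conjChar_mul, inv_mul_cancel, conjChar_one']
    have hrr : r' = r := by rw [← (Finset.mem_filter.1 hr).2.2, ← (Finset.mem_filter.1 hr').2.2, hq]
    subst hrr
    refine ⟨rfl, ?_⟩
    have : conjChar hn (e⁻¹ * d) r' = r' := by rw [conjChar_mul, h, ← conjChar_mul, inv_mul_cancel, conjChar_one']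
    exact (inv_mul_eq_one.1 (conjChar_free hn hfpf (hR1 r' hr') this)).symm
  have hRc : ∀ l : Z →* Fˣ, l ≠ 1 → ∃ r ∈ R, ∃ e : E, conjChar hn e r = l := by
    intro l hl
    obtain ⟨e, he⟩ := Quotient.mk_out (s := MulAction.orbitRel E (Z →* Fˣ)) l
    have he' : conjChar hn e l = (Quotient.mk (MulAction.orbitRel E (Z →* Fˣ)) l).out := he
    refine ⟨(Quotient.mk (MulAction.orbitRel E (Z →* Fˣ)) l).out, Finset.mem_filter.2 ⟨Finset.mem_univ _, fun h1 => hl ?_, congrArg Quotient.out (Quotient.out_eq _)⟩, e⁻¹, ?_⟩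
    · exact conjChar_eq_one hn hfpf (he'.trans h1)
    · rw [← he', ← conjChar_mul, inv_mul_cancel, conjChar_one']
  have hPs : ∀ (l : Z →* Fˣ) (s : Finset (Z →* Fˣ)) (g : (Z →* Fˣ) → F →+ V),
      Pr ρ l (∑ i ∈ s, g i) = ∑ i ∈ s, Pr ρ l (g i) := fun l s g => Pr_sum ρ l s g
  have hact0 : ∀ (d : A), act ρ d (0 : F →+ V) = 0 := fun d => AddMonoidHom.ext fun x => map_zero (ρ d)
  let T := {φ : F →+ V // ∀ e ∈ (E : Set A), ∀ x, ρ e (φ x) = φ x}
  have hTsum : ∀ g : F →+ V, ∀ e ∈ (E : Set A), ∀ x, ρ e ((∑ d : E, act ρ (d : A) g) x) = (∑ d : E, act ρ (d : A) g) x := by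
    intro g e he x
    rw [AddMonoidHom.finsetSum_apply, map_sum]
    exact Fintype.sum_equiv (Equiv.mulLeft (⟨e, he⟩ : E)) _ _ fun d => (rho_mul ρ e (d : A) (g x)).symm
  have hnc : Nat.card T ^ Nat.card E = Nat.card (E → T) := by rw [Nat.card_fun]
  show Nat.card (F →+ V) = Nat.card T ^ Nat.card E
  rw [hnc]
  refine le_antisymm ?_ ?_
  · refine Nat.card_le_card_of_injective (fun φ (e : E) => (⟨∑ d : E, act ρ (d : A) (∑ r ∈ R, Pr ρ (conjChar hn e r) φ),
      hTsum _⟩ : T)) fun φ φ' h => ?_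
    rw [← sub_eq_zero]
    refine eq_zero_of_Pr ρ hV hpZ hfix hone fun l hl => ?_
    obtain ⟨r, hr, e, rfl⟩ := hRc l hl
    refine smul_card_eq_zero hV hpZ ?_
    have hkey : ∀ ψ : F →+ V, Pr ρ (conjChar hn e r) (∑ d : E, act ρ (d : A) (∑ r' ∈ R, Pr ρ (conjChar hn e r') ψ)) =
        Nat.card Z • Pr ρ (conjChar hn e r) ψ := by
      intro ψ
      have hd : ∀ d : E, act ρ (d : A) (∑ r' ∈ R, Pr ρ (conjChar hn e r') ψ) =
          ∑ r' ∈ R, act ρ (d : A) (Pr ρ (conjChar hn e r') ψ) := fun d => AddMonoidHom.ext fun x => by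
        show ρ d ((∑ r' ∈ R, Pr ρ (conjChar hn e r') ψ) x) = _
        rw [AddMonoidHom.finsetSum_apply, map_sum, AddMonoidHom.finsetSum_apply]
        rfl
      rw [Pr_sum, Fintype.sum_eq_single 1]
      · rw [hd, hPs, Finset.sum_eq_single r]
        · have h1 : act ρ ((1 : E) : A) (Pr ρ (conjChar hn e r) ψ) = Pr ρ (conjChar hn e r) ψ :=
            AddMonoidHom.ext fun x => by
              show ρ 1 _ = _
              rw [hone]; rfl
          rw [h1, Pr_of_mem ρ (Pr_mem ρ _ _)]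
        · intro r' hr' hne
          refine Pr_of_ne ρ ?_ (act_mem ρ hn 1 (Pr_mem ρ _ _))
          rw [conjChar_one']
          exact fun h => hne (hRu r hr r' hr' e e h.symm).1
        · exact fun h => absurd hr h
      · intro d hd1
        rw [hd, hPs]
        refine Finset.sum_eq_zero fun r' hr' => ?_
        refine Pr_of_ne ρ ?_ (act_mem ρ hn d (Pr_mem ρ _ _))
        rw [← conjChar_mul]
        exact fun h => hd1 (mul_eq_right.1 (hRu r hr r' hr' (d * e) e h.symm).2)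
    have h' := congrArg (fun t : T => Pr ρ (conjChar hn e r) t.1) (congrFun h e)
    simp only [hkey] at h'
    have hsub : Pr ρ (conjChar hn e r) (φ - φ') = Pr ρ (conjChar hn e r) φ - Pr ρ (conjChar hn e r) φ' := by
      refine AddMonoidHom.ext fun x => ?_
      letI := Fintype.ofFinite Z
      simp only [AddMonoidHom.sub_apply, Pr_apply, map_sub, Finset.sum_sub_distrib]
    rw [hsub, nsmul_sub, h', sub_self]
  · refine Nat.card_le_card_of_injective (fun f : E → T => ∑ e : E, ∑ r ∈ R, Pr ρ (conjChar hn e r) (f e).1)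
      fun f f' h => ?_
    funext e
    refine Subtype.ext (sub_eq_zero.1 ?_)
    have hT : ∀ d ∈ (E : Set A), ∀ x, ρ d (((f e).1 - (f' e).1) x) = ((f e).1 - (f' e).1) x := fun d hd x => by
      rw [AddMonoidHom.sub_apply, map_sub, (f e).2 d hd, (f' e).2 d hd]
    have hkey : ∀ g : E → T, ∀ r ∈ R, Pr ρ (conjChar hn e r) (∑ d : E, ∑ r' ∈ R, Pr ρ (conjChar hn d r') (g d).1) =
        Nat.card Z • Pr ρ (conjChar hn e r) (g e).1 := by
      intro g r hr
      rw [Pr_sum, Fintype.sum_eq_single e]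
      · rw [hPs, Finset.sum_eq_single r]
        · exact Pr_of_mem ρ (Pr_mem ρ _ _)
        · intro r' hr' hne
          exact Pr_of_ne ρ (fun h => hne (hRu r hr r' hr' e e h.symm).1) (Pr_mem ρ _ _)
        · exact fun h => absurd hr h
      · intro d hd1
        rw [hPs]
        exact Finset.sum_eq_zero fun r' hr' =>
          Pr_of_ne ρ (fun h => hd1 (hRu r hr r' hr' d e h.symm).2) (Pr_mem ρ _ _)
    refine eq_zero_of_Pr ρ hV hpZ hfix hone fun l hl => ?_
    obtain ⟨r, hr, d, rfl⟩ := hRc l hl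
    -- move the equation from `e` to `d` by a fixed vector
    have h1 : Pr ρ (conjChar hn e r) ((f e).1 - (f' e).1) = 0 := by
      refine smul_card_eq_zero hV hpZ ?_
      have hsub : Pr ρ (conjChar hn e r) ((f e).1 - (f' e).1) =
          Pr ρ (conjChar hn e r) (f e).1 - Pr ρ (conjChar hn e r) (f' e).1 := by
        refine AddMonoidHom.ext fun x => ?_
        letI := Fintype.ofFinite Z
        simp only [AddMonoidHom.sub_apply, Pr_apply, map_sub, Finset.sum_sub_distrib]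
      rw [hsub, nsmul_sub, ← hkey f r hr, ← hkey f' r hr]
      exact sub_eq_zero.2 (congrArg (Pr ρ (conjChar hn e r)) h)
    have h2 := congrArg (act ρ ((d * e⁻¹ : E) : A)) h1
    rw [act_Pr ρ hn, ← conjChar_mul, inv_mul_cancel_right, hact0] at h2
    rw [← h2]
    congr 1
    exact AddMonoidHom.ext fun x => (hT _ (d * e⁻¹).2 x).symm

/-- If the fixed maps of `E` form at most a line, each eigenspace is a line. -/
theorem exists_scalar (hline : Nat.card {φ : F →+ V // ∀ e ∈ (E : Set A), ∀ x, ρ e (φ x) = φ x} ≤ Nat.card F)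
    {l : Z →* Fˣ} (hl : l ≠ 1) {φ ψ : F →+ V} (hφ : φ ∈ Wt ρ l) (hψ : ψ ∈ Wt ρ l) (hφ0 : φ ≠ 0) :
    ∃ c : F, ψ = φ.comp (AddMonoidHom.mulLeft c) := by
  classical
  haveI := Fintype.ofFinite E
  haveI : Finite (F →+ V) := Finite.of_injective _ DFunLike.coe_injective
  have hscal : ∀ c : F, φ.comp (AddMonoidHom.mulLeft c) ∈ Wt ρ l := fun c w x => by
    show ρ w (φ (c * x)) = φ (c * _)
    rw [hφ w, mul_left_comm]
  let g : F → Wt ρ l := fun c => ⟨φ.comp (AddMonoidHom.mulLeft c), hscal c⟩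
  have hg : Function.Injective g := by
    intro c c' h
    by_contra hne
    refine hφ0 (AddMonoidHom.ext fun y => ?_)
    have h' : φ (c * ((c - c')⁻¹ * y)) = φ (c' * ((c - c')⁻¹ * y)) :=
      DFunLike.congr_fun (congrArg Subtype.val h) _
    rw [← sub_eq_zero, ← map_sub, ← sub_mul, ← mul_assoc, mul_inv_cancel₀ (sub_ne_zero.2 hne), one_mul] at h'
    exact h'
  have hle : Nat.card (Wt ρ l) ≤ Nat.card F := by
    refine le_trans (Nat.card_le_card_of_injective
      (β := {φ : F →+ V // ∀ e ∈ (E : Set A), ∀ x, ρ e (φ x) = φ x})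
      (fun χ => ⟨∑ d : E, act ρ (d : A) χ.1, fun e he x => ?_⟩) fun χ χ' h => ?_) hline
    · rw [AddMonoidHom.finsetSum_apply, map_sum]
      exact Fintype.sum_equiv (Equiv.mulLeft (⟨e, he⟩ : E)) _ _ fun d => (rho_mul ρ e (d : A) (χ.1 x)).symm
    · have hkey : ∀ χ : Wt ρ l, Pr ρ l (∑ d : E, act ρ (d : A) χ.1) = Nat.card Z • χ.1 := by
        intro χ
        refine AddMonoidHom.ext fun x => ?_
        have hs : Pr ρ l (∑ d : E, act ρ (d : A) χ.1) = ∑ d : E, Pr ρ l (act ρ (d : A) χ.1) := by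
          refine AddMonoidHom.ext fun x => ?_
          letI := Fintype.ofFinite Z
          simp only [AddMonoidHom.finsetSum_apply, Pr_apply, map_sum]
          rw [Finset.sum_comm]
        rw [hs, Fintype.sum_eq_single 1]
        · have h1 : act ρ ((1 : E) : A) χ.1 = χ.1 := AddMonoidHom.ext fun x => by
            show ρ 1 _ = _
            rw [hone]; rfl
          rw [h1, Pr_of_mem ρ χ.2]
        · exact fun d hd => Pr_of_ne ρ (fun h => hd (conjChar_free hn hfpf hl h.symm)) (act_mem ρ hn d χ.2)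
      have h' := congrArg (fun t => Pr ρ l t) (congrArg Subtype.val h)
      simp only [hkey] at h'
      exact Subtype.ext (sub_eq_zero.1 (smul_card_eq_zero hV hpZ (by rw [nsmul_sub, h', sub_self])))
  obtain ⟨c, hc⟩ := (((Nat.bijective_iff_injective_and_card g).2
    ⟨hg, le_antisymm (Nat.card_le_card_of_injective g hg) hle⟩).2) ⟨ψ, hψ⟩
  exact ⟨c, (congrArg Subtype.val hc).symm⟩

end Eigen

end Cfsg.Agent.Struct.FrobFixed
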