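import Mathlib.LinearAlgebra.Matrix.SpecialLinearGroup
import Mathlib.LinearAlgebra.Matrix.NonsingularInverse
import Mathlib.Tactic

/-!
Gauss decomposition with a prescribed diagonal for non-scalar `3 × 3` matrices, up to similarity.
-/

set_option autoImplicit false

namespace Cfsg.Agent.Struct.GaussThree

open Matrix

variable {F : Type*} [Field F]

/-- Similarity. -/
def Sim (A B : Matrix (Fin 3) (Fin 3) F) : Prop :=
  ∃ Q : Matrix (Fin 3) (Fin 3) F, Q.det ≠ 0 ∧ A * Q = Q * B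

theorem Sim.symm {A B : Matrix (Fin 3) (Fin 3) F} (h : Sim A B) : Sim B A := by
  obtain ⟨Q, hQ, he⟩ := h
  have hu : IsUnit Q.det := isUnit_iff_ne_zero.2 hQ
  refine ⟨Q⁻¹, fun e => ?_, ?_⟩
  · have h1 := congrArg Matrix.det (Matrix.mul_nonsing_inv Q hu)
    rw [Matrix.det_mul, e, mul_zero, Matrix.det_one] at h1
    exact zero_ne_one h1
  · calc B * Q⁻¹ = Q⁻¹ * (Q * B) * Q⁻¹ := by rw [← Matrix.mul_assoc, Matrix.nonsing_inv_mul Q hu, Matrix.one_mul]
      _ = Q⁻¹ * A := by rw [← he, Matrix.mul_assoc, Matrix.mul_assoc, Matrix.mul_nonsing_inv Q hu, Matrix.mul_one]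

theorem Sim.trans {A B C : Matrix (Fin 3) (Fin 3) F} (h : Sim A B) (h' : Sim B C) : Sim A C := by
  obtain ⟨Q, hQ, he⟩ := h
  obtain ⟨R, hR, he'⟩ := h'
  refine ⟨Q * R, by rw [Matrix.det_mul]; exact mul_ne_zero hQ hR, ?_⟩
  rw [← Matrix.mul_assoc, he, Matrix.mul_assoc, he', Matrix.mul_assoc]

theorem Sim.det_eq {A B : Matrix (Fin 3) (Fin 3) F} (h : Sim A B) : A.det = B.det := by
  obtain ⟨Q, hQ, he⟩ := h
  have h1 := congrArg Matrix.det he
  rw [Matrix.det_mul, Matrix.det_mul, mul_comm Q.det] at h1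
  exact mul_right_cancel₀ hQ h1

theorem col_eq (X : Matrix (Fin 3) (Fin 3) F) (a b c : F) (j : Fin 3)
    (h : X *ᵥ Pi.single j 1 = ![a, b, c]) : X 0 j = a ∧ X 1 j = b ∧ X 2 j = c := by
  rw [Matrix.mulVec_single_one] at h
  exact ⟨congrFun h 0, congrFun h 1, congrFun h 2⟩

/-- A basis `v, A v, t` gives a matrix whose first column is `(0,1,0)`. -/
theorem sim_of_basis (A : Matrix (Fin 3) (Fin 3) F) (v t : Fin 3 → F)
    (h : (!![v 0, (A *ᵥ v) 0, t 0; v 1, (A *ᵥ v) 1, t 1; v 2, (A *ᵥ v) 2, t 2]).det ≠ 0) :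
    ∃ d s e p r l, Sim A !![0, d, p; 1, s, r; 0, e, l] := by
  set Q := !![v 0, (A *ᵥ v) 0, t 0; v 1, (A *ᵥ v) 1, t 1; v 2, (A *ᵥ v) 2, t 2] with hQd
  have hu : IsUnit Q.det := isUnit_iff_ne_zero.2 h
  set X := Q⁻¹ * A * Q with hX
  have h0 : X *ᵥ Pi.single 0 1 = ![0, 1, 0] := by
    have e0 : Q *ᵥ Pi.single 0 1 = v := by
      rw [Matrix.mulVec_single_one]; ext i; fin_cases i <;> simp [hQd]
    have e1 : Q *ᵥ ![0, 1, 0] = A *ᵥ v := by
      ext i; fin_cases i <;> simp [hQd, Matrix.mulVec, dotProduct, Fin.sum_univ_three]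
    rw [hX, ← Matrix.mulVec_mulVec, e0, ← Matrix.mulVec_mulVec, ← e1, Matrix.mulVec_mulVec,
      Matrix.nonsing_inv_mul Q hu, Matrix.one_mulVec]
  obtain ⟨a0, a1, a2⟩ := col_eq X 0 1 0 0 h0
  refine ⟨X 0 1, X 1 1, X 2 1, X 0 2, X 1 2, X 2 2, Q, h, ?_⟩
  have e : !![0, X 0 1, X 0 2; 1, X 1 1, X 1 2; 0, X 2 1, X 2 2] = X := by
    conv_rhs => rw [Matrix.eta_fin_three X, a0, a1, a2]
  rw [e, hX, ← Matrix.mul_assoc, ← Matrix.mul_assoc, Matrix.mul_nonsing_inv Q hu, Matrix.one_mul]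

theorem exists_basis (A : Matrix (Fin 3) (Fin 3) F) (hA : ∀ c : F, A ≠ Matrix.scalar (Fin 3) c) :
    ∃ v t : Fin 3 → F, (!![v 0, (A *ᵥ v) 0, t 0; v 1, (A *ᵥ v) 1, t 1; v 2, (A *ᵥ v) 2, t 2]).det ≠ 0 := by
  by_contra hc
  push Not at hc
  have h1 := hc ![1, 0, 0] ![0, 0, 1]
  have h2 := hc ![1, 0, 0] ![0, 1, 0]
  have h3 := hc ![0, 1, 0] ![0, 0, 1]
  have h4 := hc ![0, 1, 0] ![1, 0, 0]
  have h5 := hc ![0, 0, 1] ![0, 1, 0]
  have h6 := hc ![0, 0, 1] ![1, 0, 0]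
  have h7 := hc ![1, 1, 0] ![0, 0, 1]
  have h8 := hc ![1, 0, 1] ![0, 1, 0]
  simp [Matrix.det_fin_three, Matrix.mulVec, dotProduct, Fin.sum_univ_three] at h1 h2 h3 h4 h5 h6 h7 h8
  refine hA (A 0 0) ?_
  ext i j
  fin_cases i <;> fin_cases j <;> simp [Matrix.scalar_apply, h1, h2, h3, h4, h5, h6] <;> first
    | linear_combination h7 - h1 + h3
    | linear_combination -h8 - h2 + h5

/-- A cyclic vector gives a companion matrix. -/
theorem sim_of_cyclic (A : Matrix (Fin 3) (Fin 3) F) (w : Fin 3 → F)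
    (h : (!![w 0, (A *ᵥ w) 0, (A *ᵥ (A *ᵥ w)) 0; w 1, (A *ᵥ w) 1, (A *ᵥ (A *ᵥ w)) 1;
      w 2, (A *ᵥ w) 2, (A *ᵥ (A *ᵥ w)) 2]).det ≠ 0) :
    ∃ a b c, Sim A !![0, 0, a; 1, 0, b; 0, 1, c] := by
  set Q := !![w 0, (A *ᵥ w) 0, (A *ᵥ (A *ᵥ w)) 0; w 1, (A *ᵥ w) 1, (A *ᵥ (A *ᵥ w)) 1;
      w 2, (A *ᵥ w) 2, (A *ᵥ (A *ᵥ w)) 2] with hQd
  have hu : IsUnit Q.det := isUnit_iff_ne_zero.2 h
  set X := Q⁻¹ * A * Q with hX
  have e0 : Q *ᵥ Pi.single 0 1 = w := by
    rw [Matrix.mulVec_single_one]; ext i; fin_cases i <;> simp [hQd]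
  have e1 : Q *ᵥ ![0, 1, 0] = A *ᵥ w := by
    ext i; fin_cases i <;> simp [hQd, Matrix.mulVec, dotProduct, Fin.sum_univ_three]
  have e1' : Q *ᵥ Pi.single 1 1 = A *ᵥ w := by
    rw [Matrix.mulVec_single_one]; ext i; fin_cases i <;> simp [hQd]
  have e2 : Q *ᵥ ![0, 0, 1] = A *ᵥ (A *ᵥ w) := by
    ext i; fin_cases i <;> simp [hQd, Matrix.mulVec, dotProduct, Fin.sum_univ_three]
  have h0 : X *ᵥ Pi.single 0 1 = ![0, 1, 0] := by
    rw [hX, ← Matrix.mulVec_mulVec, e0, ← Matrix.mulVec_mulVec, ← e1, Matrix.mulVec_mulVec,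
      Matrix.nonsing_inv_mul Q hu, Matrix.one_mulVec]
  have h1 : X *ᵥ Pi.single 1 1 = ![0, 0, 1] := by
    rw [hX, ← Matrix.mulVec_mulVec, e1', ← Matrix.mulVec_mulVec, ← e2, Matrix.mulVec_mulVec,
      Matrix.nonsing_inv_mul Q hu, Matrix.one_mulVec]
  obtain ⟨a0, a1, a2⟩ := col_eq X 0 1 0 0 h0
  obtain ⟨b0, b1, b2⟩ := col_eq X 0 0 1 1 h1
  refine ⟨X 0 2, X 1 2, X 2 2, Q, h, ?_⟩
  have e : !![0, 0, X 0 2; 1, 0, X 1 2; 0, 1, X 2 2] = X := by
    conv_rhs => rw [Matrix.eta_fin_three X, a0, a1, a2, b0, b1, b2]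
  rw [e, hX, ← Matrix.mul_assoc, ← Matrix.mul_assoc, Matrix.mul_nonsing_inv Q hu, Matrix.one_mul]

/-- A non-scalar matrix is similar to a companion matrix or to a scalar plus a rank one matrix. -/
theorem normal_form (A : Matrix (Fin 3) (Fin 3) F) (hA : ∀ c : F, A ≠ Matrix.scalar (Fin 3) c) :
    (∃ a b c, Sim A !![0, 0, a; 1, 0, b; 0, 1, c]) ∨ ∃ l κ, Sim A !![l, 0, 0; 1, l + κ, 0; 0, 0, l] := by
  obtain ⟨v, t, hvt⟩ := exists_basis A hA
  obtain ⟨d, s, e, p, r, l, hX⟩ := sim_of_basis A v t hvt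
  set X : Matrix (Fin 3) (Fin 3) F := !![0, d, p; 1, s, r; 0, e, l] with hXd
  have cyc : ∀ w : Fin 3 → F, (!![w 0, (X *ᵥ w) 0, (X *ᵥ (X *ᵥ w)) 0; w 1, (X *ᵥ w) 1, (X *ᵥ (X *ᵥ w)) 1;
      w 2, (X *ᵥ w) 2, (X *ᵥ (X *ᵥ w)) 2]).det ≠ 0 → ∃ a b c, Sim A !![0, 0, a; 1, 0, b; 0, 1, c] := fun w hw => by
    obtain ⟨a, b, c, hc⟩ := sim_of_cyclic X w hw
    exact ⟨a, b, c, hX.trans hc⟩
  rcases eq_or_ne e 0 with rfl | he
  · by_cases hpr : p + l * r = 0
    · by_cases hm : d + l * s - l ^ 2 = 0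
      · refine Or.inr ⟨l, s - 2 * l, hX.trans ⟨!![1, -l, -r; 0, 1, 0; 0, 0, 1], by simp [Matrix.det_fin_three], ?_⟩⟩
        have hd : d = l ^ 2 - l * s := by linear_combination hm
        have hp : p = -(l * r) := by linear_combination hpr
        rw [hXd, hd, hp]
        ext i j
        fin_cases i <;> fin_cases j <;> simp [Matrix.mul_apply, Fin.sum_univ_three] <;> ring
      · refine Or.inl (cyc ![-r - (s - l), 1, 1] fun h => hm ?_)
        have hp : p = -(l * r) := by linear_combination hpr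
        simp [hXd, hp, Matrix.det_fin_three, Matrix.mulVec, dotProduct, Fin.sum_univ_three] at h
        have h2 : (d + l * s - l ^ 2) ^ 2 = 0 := by
          first | linear_combination h | linear_combination -h
        exact (pow_eq_zero_iff two_ne_zero).1 h2
    · refine Or.inl (cyc ![-r, 0, 1] fun h => hpr ?_)
      simp [hXd, Matrix.det_fin_three, Matrix.mulVec, dotProduct, Fin.sum_univ_three] at h
      have h2 : (p + l * r) ^ 2 = 0 := by
        first | linear_combination h | linear_combination -h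
      exact (pow_eq_zero_iff two_ne_zero).1 h2
  · refine Or.inl (cyc ![1, 0, 0] fun h => he ?_)
    simpa [hXd, Matrix.det_fin_three, Matrix.mulVec, dotProduct, Fin.sum_univ_three] using h

/-- A non-scalar invertible matrix is similar to one with prescribed leading minors. -/
theorem exists_sim_minors (A : Matrix (Fin 3) (Fin 3) F) (hdet : A.det ≠ 0)
    (hA : ∀ c : F, A ≠ Matrix.scalar (Fin 3) c) (δ₁ δ₂ : F) :
    ∃ B, Sim A B ∧ B 0 0 = δ₁ ∧ B 0 0 * B 1 1 - B 0 1 * B 1 0 = δ₂ := by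
  rcases normal_form A hA with ⟨a, b, c, h⟩ | ⟨l, κ, h⟩
  · set B : Matrix (Fin 3) (Fin 3) F :=
      !![1, δ₁, δ₁ ^ 2 - δ₂; 0, 1, δ₁; 0, 0, 1] * !![0, 0, a; 1, 0, b; 0, 1, c] * !![1, -δ₁, δ₂; 0, 1, -δ₁; 0, 0, 1] with hB
    refine ⟨B, h.trans ⟨!![1, -δ₁, δ₂; 0, 1, -δ₁; 0, 0, 1], by simp [Matrix.det_fin_three], ?_⟩, ?_, ?_⟩
    · have e : (!![1, -δ₁, δ₂; 0, 1, -δ₁; 0, 0, 1] : Matrix (Fin 3) (Fin 3) F) * !![1, δ₁, δ₁ ^ 2 - δ₂; 0, 1, δ₁; 0, 0, 1] = 1 := by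
        ext i j
        fin_cases i <;> fin_cases j <;> simp [Matrix.mul_apply, Fin.sum_univ_three] <;> ring
      rw [hB, ← Matrix.mul_assoc, ← Matrix.mul_assoc, e, Matrix.one_mul]
    · simp [hB, Matrix.mul_apply, Fin.sum_univ_three]
    · simp [hB, Matrix.mul_apply, Fin.sum_univ_three]; ring
  · have hl : l ≠ 0 := fun e => hdet (by rw [h.det_eq, e]; simp [Matrix.det_fin_three])
    set p : F := δ₁ - l with hp
    set q : F := δ₂ / l - l - p with hq
    set r : F := κ - p - q with hr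
    set B : Matrix (Fin 3) (Fin 3) F := !![l + p, q, r; p, l + q, r; p, q, l + r] with hB
    have hm : B 0 0 = δ₁ ∧ B 0 0 * B 1 1 - B 0 1 * B 1 0 = δ₂ := by
      refine ⟨by simp [hB, hp], ?_⟩
      simp [hB, hq]; field_simp; ring
    have hk : κ = p + q + r := by rw [hr]; ring
    by_cases hp0 : p = 0
    · by_cases hq0 : q = 0
      · by_cases hr0 : r = 0
        · refine ⟨!![l, 0, 1; 0, l, 0; 0, 0, l], h.trans (Sim.symm
            ⟨!![0, 1, 0; 0, 0, 1; 1, 0, 0], by simp [Matrix.det_fin_three], ?_⟩), by rw [hp] at hp0; simp; linear_combination -hp0, ?_⟩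
          · ext i j
            fin_cases i <;> fin_cases j <;> simp [Matrix.mul_apply, Fin.sum_univ_three, hk, hp0, hq0, hr0]
          · have e1 : δ₂ / l - l - p = 0 := hq ▸ hq0
            rw [hp0, sub_zero, sub_eq_zero, div_eq_iff hl] at e1
            simp [e1]
        · refine ⟨B, h.trans (Sim.symm ⟨!![0, 1, 1; 0, 1, 0; r⁻¹, 1, 0], by simp [Matrix.det_fin_three, hr0], ?_⟩), hm⟩
          ext i j
          fin_cases i <;> fin_cases j <;> simp [hB, hk, hp0, hq0, hr0, Matrix.mul_apply, Fin.sum_univ_three] <;> (try field_simp) <;> ring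
      · refine ⟨B, h.trans (Sim.symm ⟨!![0, 1, 1; q⁻¹, 1, 0; 0, 1, 0], by simp [Matrix.det_fin_three, hq0], ?_⟩), hm⟩
        ext i j
        fin_cases i <;> fin_cases j <;> simp [hB, hk, hp0, hq0, Matrix.mul_apply, Fin.sum_univ_three] <;> (try field_simp) <;> ring
    · refine ⟨B, h.trans (Sim.symm ⟨!![p⁻¹, 1, -r; 0, 1, 0; 0, 1, p], by simp [Matrix.det_fin_three, hp0], ?_⟩), hm⟩
      ext i j
      fin_cases i <;> fin_cases j <;> simp [hB, hk, hp0, Matrix.mul_apply, Fin.sum_univ_three] <;> (try field_simp) <;> ring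

/-- Similar matrices: adjust the determinant of the conjugating matrix keeping the leading minors. -/
theorem exists_sl_conj_minors (g : SpecialLinearGroup (Fin 3) F)
    (hg : ∀ c : F, (g : Matrix (Fin 3) (Fin 3) F) ≠ Matrix.scalar (Fin 3) c) (δ₁ δ₂ : F) :
    ∃ P B : SpecialLinearGroup (Fin 3) F, g = P * B * P⁻¹ ∧ (B : Matrix (Fin 3) (Fin 3) F) 0 0 = δ₁ ∧
      (B : Matrix (Fin 3) (Fin 3) F) 0 0 * (B : Matrix (Fin 3) (Fin 3) F) 1 1 -
        (B : Matrix (Fin 3) (Fin 3) F) 0 1 * (B : Matrix (Fin 3) (Fin 3) F) 1 0 = δ₂ := by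
  obtain ⟨B, ⟨Q, hQ, he⟩, h1, h2⟩ := exists_sim_minors (g : Matrix (Fin 3) (Fin 3) F) (by rw [g.2]; exact one_ne_zero) hg δ₁ δ₂
  let P : SpecialLinearGroup (Fin 3) F := ⟨Q * Matrix.diagonal ![1, 1, Q.det⁻¹], by
    rw [Matrix.det_mul, Matrix.det_diagonal, Fin.prod_univ_three]; simp [mul_inv_cancel₀ hQ]⟩
  refine ⟨P, P⁻¹ * g * P, by group, ?_⟩
  have e : ((P⁻¹ * g * P : SpecialLinearGroup (Fin 3) F) : Matrix (Fin 3) (Fin 3) F) =
      Matrix.diagonal ![1, 1, Q.det] * B * Matrix.diagonal ![1, 1, Q.det⁻¹] := by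
    have hP : (P : Matrix (Fin 3) (Fin 3) F) * (Matrix.diagonal ![1, 1, Q.det] * B * Matrix.diagonal ![1, 1, Q.det⁻¹]) =
        (g : Matrix (Fin 3) (Fin 3) F) * (P : Matrix (Fin 3) (Fin 3) F) := by
      show Q * Matrix.diagonal ![1, 1, Q.det⁻¹] * _ = _ * (Q * Matrix.diagonal ![1, 1, Q.det⁻¹])
      rw [← Matrix.mul_assoc (g : Matrix (Fin 3) (Fin 3) F), he]
      have e1 : Matrix.diagonal ![1, 1, Q.det⁻¹] * Matrix.diagonal ![1, 1, Q.det] = (1 : Matrix (Fin 3) (Fin 3) F) := by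
        rw [Matrix.diagonal_mul_diagonal, ← Matrix.diagonal_one]
        congr 1; funext i; fin_cases i <;> simp [inv_mul_cancel₀ hQ]
      rw [Matrix.mul_assoc Q, ← Matrix.mul_assoc (Matrix.diagonal ![1, 1, Q.det⁻¹]), ← Matrix.mul_assoc (Matrix.diagonal ![1, 1, Q.det⁻¹]), e1,
        Matrix.one_mul, Matrix.mul_assoc Q]
    have hinv : ((P⁻¹ : SpecialLinearGroup (Fin 3) F) : Matrix (Fin 3) (Fin 3) F) * (P : Matrix (Fin 3) (Fin 3) F) = 1 :=
      congrArg Subtype.val (inv_mul_cancel P)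
    show ((P⁻¹ : SpecialLinearGroup (Fin 3) F) : Matrix (Fin 3) (Fin 3) F) * (g : Matrix (Fin 3) (Fin 3) F) * _ = _
    rw [Matrix.mul_assoc, ← hP, ← Matrix.mul_assoc, hinv, Matrix.one_mul]
  simp only [e, Matrix.diagonal_mul, Matrix.mul_diagonal]
  simp [h1, ← h2]

theorem conj_of_upper_lower {a b c : F} (hab : a ≠ b) (hac : a ≠ c) (hbc : b ≠ c)
    (d M : SpecialLinearGroup (Fin 3) F) (hd : (d : Matrix (Fin 3) (Fin 3) F) = Matrix.diagonal ![a, b, c]) (p r s : F)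
    (hM : (M : Matrix (Fin 3) (Fin 3) F) = !![a, 0, 0; p, b, 0; r, s, c] ∨
      (M : Matrix (Fin 3) (Fin 3) F) = !![a, p, r; 0, b, s; 0, 0, c]) :
    ∃ P : SpecialLinearGroup (Fin 3) F, M = P * d * P⁻¹ := by
  have k1 := sub_ne_zero.2 hab
  have k2 := sub_ne_zero.2 hac
  have k3 := sub_ne_zero.2 hbc
  have k1' := sub_ne_zero.2 hab.symm
  have k2' := sub_ne_zero.2 hac.symm
  have k3' := sub_ne_zero.2 hbc.symm
  rcases hM with hM | hM
  · let P : SpecialLinearGroup (Fin 3) F :=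
      ⟨!![1, 0, 0; p / (a - b), 1, 0; (r + s * (p / (a - b))) / (a - c), s / (b - c), 1], by simp [Matrix.det_fin_three]⟩
    refine ⟨P, ?_⟩
    rw [eq_mul_inv_iff_mul_eq]
    refine Subtype.ext ?_
    show (M : Matrix (Fin 3) (Fin 3) F) * (P : Matrix (Fin 3) (Fin 3) F) = (P : Matrix (Fin 3) (Fin 3) F) * (d : Matrix (Fin 3) (Fin 3) F)
    rw [hM, hd]
    ext i j
    fin_cases i <;> fin_cases j <;> simp [P, Matrix.mul_apply, Fin.sum_univ_three, Matrix.diagonal] <;> field_simp <;> ring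
  · let P : SpecialLinearGroup (Fin 3) F :=
      ⟨!![1, p / (b - a), (r + p * (s / (c - b))) / (c - a); 0, 1, s / (c - b); 0, 0, 1], by simp [Matrix.det_fin_three]⟩
    refine ⟨P, ?_⟩
    rw [eq_mul_inv_iff_mul_eq]
    refine Subtype.ext ?_
    show (M : Matrix (Fin 3) (Fin 3) F) * (P : Matrix (Fin 3) (Fin 3) F) = (P : Matrix (Fin 3) (Fin 3) F) * (d : Matrix (Fin 3) (Fin 3) F)
    rw [hM, hd]
    ext i j
    fin_cases i <;> fin_cases j <;> simp [P, Matrix.mul_apply, Fin.sum_univ_three, Matrix.diagonal] <;> field_simp <;> ring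

/-- Every non-scalar element of `SL₃` is a product of two conjugates of a regular split diagonal element. -/
theorem product_two_conj {a b c : F} (hab : a ≠ b) (hac : a ≠ c) (hbc : b ≠ c) (d : SpecialLinearGroup (Fin 3) F)
    (hd : (d : Matrix (Fin 3) (Fin 3) F) = Matrix.diagonal ![a, b, c]) (g : SpecialLinearGroup (Fin 3) F)
    (hg : ∀ t : F, (g : Matrix (Fin 3) (Fin 3) F) ≠ Matrix.scalar (Fin 3) t) :
    ∃ u v : SpecialLinearGroup (Fin 3) F, g = (u * d * u⁻¹) * (v * d * v⁻¹) := by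
  have habc : a * b * c = 1 := by
    have h := d.2
    rw [hd, Matrix.det_diagonal, Fin.prod_univ_three] at h
    simpa using h
  have ha : a ≠ 0 := fun e => by simp [e] at habc
  have hb : b ≠ 0 := fun e => by simp [e] at habc
  have hc : c ≠ 0 := fun e => by simp [e] at habc
  obtain ⟨P, B, hB, h1, h2⟩ := exists_sl_conj_minors g hg (a * a) (a * a * (b * b))
  have hdet : (B : Matrix (Fin 3) (Fin 3) F).det = 1 := B.2
  rw [Matrix.det_fin_three] at hdet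
  set m := (B : Matrix (Fin 3) (Fin 3) F) with hm
  set u12 := m 0 1 / a with hu12
  set u13 := m 0 2 / a with hu13
  set l21 := m 1 0 / a with hl21
  set l31 := m 2 0 / a with hl31
  set u23 := (m 1 2 - l21 * u13) / b with hu23
  set l32 := (m 2 1 - l31 * u12) / b with hl32
  let L : SpecialLinearGroup (Fin 3) F := ⟨!![a, 0, 0; l21, b, 0; l31, l32, c], by simp [Matrix.det_fin_three, habc]⟩
  let U : SpecialLinearGroup (Fin 3) F := ⟨!![a, u12, u13; 0, b, u23; 0, 0, c], by simp [Matrix.det_fin_three, habc]⟩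
  have hLU : B = L * U := by
    refine Subtype.ext ?_
    show m = !![a, 0, 0; l21, b, 0; l31, l32, c] * !![a, u12, u13; 0, b, u23; 0, 0, c]
    have h11 : m 1 1 = l21 * u12 + b * b := by
      rw [hl21, hu12]; field_simp
      rw [h1] at h2
      linear_combination h2
    have e01 : m 0 1 = a * u12 := by rw [hu12]; field_simp
    have e02 : m 0 2 = a * u13 := by rw [hu13]; field_simp
    have e10 : m 1 0 = l21 * a := by rw [hl21]; field_simp
    have e20 : m 2 0 = l31 * a := by rw [hl31]; field_simp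
    have e12 : m 1 2 = l21 * u13 + b * u23 := by rw [hu23]; field_simp; ring
    have e21 : m 2 1 = l31 * u12 + l32 * b := by rw [hl32]; field_simp; ring
    have h22 : m 2 2 = l31 * u13 + l32 * u23 + c * c := by
      rw [h1, h11, e01, e02, e10, e20, e12, e21] at hdet
      refine mul_right_cancel₀ (mul_ne_zero (mul_ne_zero ha ha) (mul_ne_zero hb hb)) ?_
      linear_combination hdet - (a * b * c + 1) * habc
    ext i j
    fin_cases i <;> fin_cases j <;> simp [Matrix.mul_apply, Fin.sum_univ_three, h1, h11, h22, e01, e02, e10, e20, e12, e21] <;> ring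
  obtain ⟨u, hu⟩ := conj_of_upper_lower hab hac hbc d L hd l21 l31 l32 (Or.inl rfl)
  obtain ⟨v, hv⟩ := conj_of_upper_lower hab hac hbc d U hd u12 u13 u23 (Or.inr rfl)
  refine ⟨P * u, P * v, ?_⟩
  rw [hB, hLU, hu, hv]
  group

end Cfsg.Agent.Struct.GaussThree
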