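import Mathlib
import Cfsg.Agent.Lib.Struct.UniqueOrderP

/-!
# `p`-adic valuation of geometric sums
-/

set_option autoImplicit false
set_option linter.style.haveILetI false
set_option linter.unusedSectionVars false

namespace Cfsg.Agent.Struct.GeomSum

/-- `1 + x + ⋯ + x ^ (d - 1)`. -/
def T (x : ℤ) (d : ℕ) : ℤ := ∑ i ∈ Finset.range d, x ^ i

theorem T_mul (x : ℤ) (k d : ℕ) : T x (k * d) = T x k * T (x ^ k) d := by
  induction d with
  | zero => simp [T]
  | succ d ih =>
    have h1 : T (x ^ k) (d + 1) = T (x ^ k) d + (x ^ k) ^ d := Finset.sum_range_succ _ _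
    have h2 : T x (k * (d + 1)) = T x (k * d) + x ^ (k * d) * T x k := by
      rw [Nat.mul_succ]
      simp only [T]
      rw [Finset.sum_range_add, Finset.mul_sum]
      exact congrArg _ (Finset.sum_congr rfl fun i _ => pow_add x (k * d) i)
    rw [h1, h2, ih, ← pow_mul]
    ring

theorem T_succ' (x : ℤ) (d : ℕ) : T x (d + 1) = 1 + x * T x d := by
  simp only [T, Finset.sum_range_succ', pow_zero, Finset.mul_sum, ← pow_succ']
  ring

theorem T_sub_self {p : ℕ} {x : ℤ} (hx : (p : ℤ) ∣ x - 1) (d : ℕ) : (p : ℤ) ∣ T x d - d := by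
  induction d with
  | zero => simp [T]
  | succ d ih =>
    obtain ⟨u, hu⟩ := ih
    obtain ⟨v, hv⟩ := hx
    rw [T_succ']
    exact ⟨x * u + d * v, by push_cast; linear_combination x * hu + (d : ℤ) * hv⟩

theorem dvd_pow_sub_one {p : ℕ} {x : ℤ} (hx : (p : ℤ) ∣ x - 1) (k : ℕ) : (p : ℤ) ∣ x ^ k - 1 :=
  hx.trans (by simpa using sub_dvd_pow_sub_pow x 1 k)

variable {p : ℕ} [hp : Fact p.Prime]

theorem dvd_T_iff (hp2 : p ≠ 2) : ∀ (d e : ℕ) (x : ℤ), (p : ℤ) ∣ x - 1 →
    ((p : ℤ) ^ e ∣ T x d ↔ p ^ e ∣ d) := by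
  intro d
  induction d using Nat.strong_induction_on with
  | _ d ih =>
  intro e x hx
  rcases Nat.eq_zero_or_pos d with rfl | hd
  · simp [T]
  have hpi : Prime (p : ℤ) := Nat.prime_iff_prime_int.1 hp.out
  by_cases hpd : p ∣ d
  swap
  · have hT : ¬ (p : ℤ) ∣ T x d := fun h => hpd (by
      have := dvd_sub h (T_sub_self hx d)
      simpa [Int.natCast_dvd_natCast] using this)
    rcases e with _ | e
    · simp
    · exact ⟨fun h => absurd ((dvd_pow_self _ e.succ_ne_zero).trans h) hT,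
        fun h => absurd ((dvd_pow_self p e.succ_ne_zero).trans h) hpd⟩
  obtain ⟨d', rfl⟩ := hpd
  have hd' : d' < p * d' := lt_mul_of_one_lt_left (by rcases Nat.eq_zero_or_pos d' with rfl | h <;> simp_all) hp.out.one_lt
  obtain ⟨w, hw⟩ := Cfsg.Agent.Struct.geomSum_mod_sq (p := p) hx hp2
  have hTp : T x p = p * (1 + p * w) := by
    rw [T]; linear_combination hw
  have hu : ¬ (p : ℤ) ∣ 1 + p * w := fun h => hpi.not_dvd_one ((dvd_add_left (dvd_mul_right _ _)).1 h)
  rw [T_mul, hTp]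
  rcases e with _ | e
  · simp
  rw [pow_succ', pow_succ', mul_assoc, mul_dvd_mul_iff_left hpi.ne_zero, Nat.mul_dvd_mul_iff_left hp.out.pos,
    ← ih d' hd' e (x ^ p) (dvd_pow_sub_one hx p)]
  exact ⟨fun h => hpi.pow_dvd_of_dvd_mul_left e hu h, fun h => h.mul_left _⟩

/-- The sums run through all residues modulo `p ^ n`. -/
theorem exists_T_eq (hp2 : p ≠ 2) {x : ℤ} (hx : (p : ℤ) ∣ x - 1) (n : ℕ) (z : ZMod (p ^ n)) :
    ∃ k : ℕ, ((T x k : ℤ) : ZMod (p ^ n)) = z := by
  haveI : NeZero (p ^ n) := ⟨pow_ne_zero _ hp.out.ne_zero⟩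
  have hinj : Function.Injective fun k : Fin (p ^ n) => ((T x k : ℤ) : ZMod (p ^ n)) := by
    have key : ∀ a b : ℕ, a ≤ b → b < p ^ n → ((T x a : ℤ) : ZMod (p ^ n)) = ((T x b : ℤ) : ZMod (p ^ n)) → a = b := by
      intro a b hab hb h
      obtain ⟨c, rfl⟩ := Nat.exists_eq_add_of_le hab
      have h2 : T x (a + c) = T x a + x ^ a * T x c := by
        simp only [T]
        rw [Finset.sum_range_add, Finset.mul_sum]
        exact congrArg _ (Finset.sum_congr rfl fun i _ => pow_add x a i)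
      rw [h2, Int.cast_add] at h
      have h3 : (((x ^ a * T x c : ℤ)) : ZMod (p ^ n)) = 0 := (left_eq_add.1 h)
      rw [ZMod.intCast_zmod_eq_zero_iff_dvd, Nat.cast_pow] at h3
      have hxa : ¬ (p : ℤ) ∣ x ^ a := fun hh => (Nat.prime_iff_prime_int.1 hp.out).not_dvd_one
        (by have := dvd_sub hh (dvd_pow_sub_one hx a); simpa using this)
      have h4 := (dvd_T_iff hp2 c n x hx).1 ((Nat.prime_iff_prime_int.1 hp.out).pow_dvd_of_dvd_mul_left n hxa h3)
      rcases Nat.eq_zero_or_pos c with rfl | hc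
      · rfl
      · have := Nat.le_of_dvd hc h4; omega
    intro a b hab
    rcases le_total (a : ℕ) b with h | h
    · exact Fin.ext (key a b h b.2 hab)
    · exact (Fin.ext (key b a h a.2 hab.symm)).symm
  obtain ⟨k, hk⟩ := ((Fintype.bijective_iff_injective_and_card _).2 ⟨hinj, by simp⟩).2 z
  exact ⟨k, hk⟩

end Cfsg.Agent.Struct.GeomSum
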