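import Mathlib

/-!
Lie rings graded by `ZMod p` with trivial component of degree zero: Kreknin's bound on the derived
length and Higman's bound on the nilpotency class.

A graded subring is given by its family of components `F : ZMod p → AddSubgroup M`.
-/

set_option autoImplicit false

namespace Cfsg.Agent.Struct.GradedLie

variable {M : Type*} [LieRing M] {p : ℕ}

/-- Brackets of components with total degree `k`. -/
def brak (F H : ZMod p → AddSubgroup M) (k : ZMod p) : AddSubgroup M :=
  AddSubgroup.closure {z | ∃ i j, ∃ x ∈ F i, ∃ y ∈ H j, i + j = k ∧ ⁅x, y⁆ = z}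

theorem mem_brak {F H : ZMod p → AddSubgroup M} {i j : ZMod p} {x y : M} (hx : x ∈ F i)
    (hy : y ∈ H j) : ⁅x, y⁆ ∈ brak F H (i + j) :=
  AddSubgroup.subset_closure ⟨i, j, x, hx, y, hy, rfl, rfl⟩

theorem brak_le {F H C : ZMod p → AddSubgroup M}
    (h : ∀ i j, ∀ x ∈ F i, ∀ y ∈ H j, ⁅x, y⁆ ∈ C (i + j)) : brak F H ≤ C := fun k => by
  refine (AddSubgroup.closure_le _).2 ?_
  rintro z ⟨i, j, x, hx, y, hy, rfl, rfl⟩
  exact h i j x hx y hy

theorem brak_mono {F F' H H' : ZMod p → AddSubgroup M} (h : F ≤ F') (h' : H ≤ H') :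
    brak F H ≤ brak F' H' :=
  brak_le fun i j _ hx _ hy => mem_brak (h i hx) (h' j hy)

theorem lie_closure {S T : Set M} {C : AddSubgroup M} (h : ∀ s ∈ S, ∀ t ∈ T, ⁅s, t⁆ ∈ C) {x y : M}
    (hx : x ∈ AddSubgroup.closure S) (hy : y ∈ AddSubgroup.closure T) : ⁅x, y⁆ ∈ C := by
  induction hx using AddSubgroup.closure_induction with
  | zero => rw [zero_lie]; exact C.zero_mem
  | add a b _ _ iha ihb => rw [add_lie]; exact C.add_mem iha ihb
  | neg a _ iha => rw [neg_lie]; exact C.neg_mem iha
  | mem s hs =>
    induction hy using AddSubgroup.closure_induction with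
    | zero => rw [lie_zero]; exact C.zero_mem
    | add a b _ _ iha ihb => rw [lie_add]; exact C.add_mem iha ihb
    | neg a _ iha => rw [lie_neg]; exact C.neg_mem iha
    | mem t ht => exact h s hs t ht

/-- One step of the derived series. -/
def der (F : ZMod p → AddSubgroup M) : ZMod p → AddSubgroup M := brak F F

theorem iterate_der_mono {F F' : ZMod p → AddSubgroup M} (h : F ≤ F') :
    ∀ n, der^[n] F ≤ der^[n] F'
  | 0 => h
  | n + 1 => by
    rw [Function.iterate_succ_apply', Function.iterate_succ_apply']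
    exact brak_mono (iterate_der_mono h n) (iterate_der_mono h n)

section Kreknin

variable (F : ZMod p → AddSubgroup M) (t : ℕ)

/-- Left-normed words in the components of degree above `t`. -/
inductive Word : ZMod p → M → Prop
  | base (j : ZMod p) (g : M) (hj : t < j.val) (hg : g ∈ F j) : Word j g
  | step (i j : ZMod p) (r g : M) (hr : Word i r) (hj : t < j.val) (hg : g ∈ F j) :
      Word (i + j) ⁅r, g⁆

/-- The subring generated by the components of degree above `t`. -/
def W (k : ZMod p) : AddSubgroup M := AddSubgroup.closure {x | Word F t k x}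

/-- Its part spanned by words of length at least two. -/
def W2 (k : ZMod p) : AddSubgroup M :=
  AddSubgroup.closure {z | ∃ i j, ∃ r, Word F t i r ∧ ∃ g, t < j.val ∧ g ∈ F j ∧ i + j = k ∧ ⁅r, g⁆ = z}

variable {F t}

theorem W2_le_W : W2 F t ≤ W F t := fun k => by
  refine (AddSubgroup.closure_le _).2 ?_
  rintro z ⟨i, j, r, hr, g, hj, hg, rfl, rfl⟩
  exact AddSubgroup.subset_closure (Word.step i j r g hr hj hg)

theorem word_bracket {i j : ZMod p} {r s : M} (hr : Word F t i r) (hs : Word F t j s) :
    ⁅r, s⁆ ∈ W2 F t (i + j) := by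
  induction hs generalizing i r with
  | base j g hj hg => exact AddSubgroup.subset_closure ⟨i, j, r, hr, g, hj, hg, rfl, rfl⟩
  | step j' j s g hs hj hg ih =>
    have h1 : ⁅⁅r, s⁆, g⁆ ∈ W2 F t (i + (j' + j)) := by
      rw [← add_assoc]
      refine lie_closure (T := {g}) (C := W2 F t (i + j' + j)) ?_ (W2_le_W _ (ih hr))
        (AddSubgroup.subset_closure rfl)
      intro w hw g' hg'
      rw [Set.mem_singleton_iff.1 hg']
      exact AddSubgroup.subset_closure ⟨i + j', j, w, hw, g, hj, hg, rfl, rfl⟩
    have h2 : ⁅⁅r, g⁆, s⁆ ∈ W2 F t (i + (j' + j)) := by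
      rw [add_comm j' j, ← add_assoc]
      exact ih (Word.step i j r g hr hj hg)
    rw [leibniz_lie, ← lie_skew s ⁅r, g⁆]
    exact add_mem h1 (neg_mem h2)

theorem W_bracket : brak (W F t) (W F t) ≤ W2 F t :=
  brak_le fun i j _ hx _ hy =>
    lie_closure (C := W2 F t (i + j)) (fun _ hr _ hs => word_bracket hr hs) hx hy

theorem W_le (hF : brak F F ≤ F) : W F t ≤ F := fun k => by
  refine (AddSubgroup.closure_le _).2 fun x hx => ?_
  induction hx with
  | base j g hj hg => exact hg
  | step i j r g hr hj hg ih => exact hF _ (mem_brak ih hg)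

end Kreknin

variable [Fact p.Prime]

/-- Kreknin's lemma. -/
theorem iterate_der_le_W : ∀ (t : ℕ), t < p → ∀ F : ZMod p → AddSubgroup M, brak F F ≤ F →
    F 0 = ⊥ → der^[2 ^ t - 1] F ≤ W F t := by
  intro t
  induction t with
  | zero =>
    intro _ F _ h0 k
    rcases eq_or_ne k 0 with rfl | hk
    · intro x hx
      have hx' : x ∈ F 0 := hx
      rw [h0, AddSubgroup.mem_bot] at hx'
      rw [hx']; exact zero_mem _
    · exact fun x hx => AddSubgroup.subset_closure
        (Word.base k x (Nat.pos_of_ne_zero (mt (ZMod.val_eq_zero k).1 hk)) hx)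
  | succ t ih =>
    intro ht F hF h0
    have hF' : W2 F t ≤ F := le_trans W2_le_W (W_le hF)
    have hcl : brak (W2 F t) (W2 F t) ≤ W2 F t := (brak_mono W2_le_W W2_le_W).trans W_bracket
    have h0' : W2 F t 0 = ⊥ := le_bot_iff.1 (h0 ▸ hF' 0)
    have h1 : der^[2 ^ t] F ≤ W2 F t := by
      rw [← Nat.sub_add_cancel (Nat.one_le_two_pow (n := t)), Function.iterate_succ_apply']
      have h := ih (by omega) F hF h0
      exact (brak_mono h h).trans W_bracket
    have hpow : 2 ^ (t + 1) - 1 = (2 ^ t - 1) + 2 ^ t := by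
      have := Nat.one_le_two_pow (n := t); rw [pow_succ]; omega
    rw [hpow, Function.iterate_add_apply]
    refine (iterate_der_mono h1 _).trans ((ih (by omega) _ hcl h0').trans fun k => ?_)
    refine (AddSubgroup.closure_le _).2 fun x hx => ?_
    have key : ∀ j : ZMod p, t < j.val → W2 F t j ≤ W F (t + 1) j := by
      intro j hj
      rcases Nat.lt_or_ge (t + 1) j.val with hlt | hge
      · exact fun g hg => AddSubgroup.subset_closure (Word.base j g hlt (hF' j hg))
      · refine (AddSubgroup.closure_le _).2 ?_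
        rintro z ⟨i, j', r, hr, g, hj', hg, rfl, rfl⟩
        have hrF : r ∈ F i := W_le hF i (AddSubgroup.subset_closure hr)
        rcases Nat.lt_or_ge (t + 1) j'.val with hlt' | hge'
        · have hi : t + 1 < i.val := by
            have h2 := ZMod.val_add i j'
            have h3 := i.val_lt
            have h4 := j'.val_lt
            rcases Nat.lt_or_ge (i.val + j'.val) p with h5 | h5
            · rw [Nat.mod_eq_of_lt h5] at h2; omega
            · rw [Nat.mod_eq_sub_mod h5, Nat.mod_eq_of_lt (by omega)] at h2; omega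
          exact AddSubgroup.subset_closure
            (Word.step i j' r g (Word.base i r hi hrF) hlt' hg)
        · have e : j' = i + j' := ZMod.val_injective p (by omega)
          have hi : i = 0 := by simpa using e.symm
          rw [hi, h0, AddSubgroup.mem_bot] at hrF
          rw [hrF, zero_lie]
          exact zero_mem _
    induction hx with
    | base j g hj hg => exact key j hj hg
    | step i j r g hr hj hg hih =>
      exact W2_le_W _ (W_bracket _ (mem_brak hih (key j hj hg)))

/-- Kreknin: the derived length is at most `2 ^ (p - 1) - 1`. -/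
theorem kreknin (F : ZMod p → AddSubgroup M) (hF : brak F F ≤ F) (h0 : F 0 = ⊥) :
    der^[2 ^ (p - 1) - 1] F = ⊥ := by
  have hp := (Fact.out : p.Prime).pos
  refine le_bot_iff.1 ((iterate_der_le_W (p - 1) (by omega) F hF h0).trans fun k => ?_)
  refine (AddSubgroup.closure_le _).2 fun x hx => ?_
  exfalso
  induction hx with
  | base j g hj hg => have := j.val_lt; omega
  | step i j r g hr hj hg ih => exact ih

section Higman

variable {E : ZMod p → AddSubgroup M}

/-- Brackets of `n + 1` components. -/
def gam (E : ZMod p → AddSubgroup M) : ℕ → ZMod p → AddSubgroup M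
  | 0 => E
  | n + 1 => brak (gam E n) E

theorem gam_le (hE : brak E E ≤ E) : ∀ n, gam E n ≤ E
  | 0 => le_rfl
  | n + 1 => (brak_mono (gam_le hE n) le_rfl).trans hE

theorem gam_anti (hE : brak E E ≤ E) {m n : ℕ} (h : m ≤ n) : gam E n ≤ gam E m := by
  have step : ∀ n, gam E (n + 1) ≤ gam E n := by
    intro n
    induction n with
    | zero => exact hE
    | succ k ih => exact brak_mono ih le_rfl
  induction h with
  | refl => exact le_rfl
  | step _ ih => exact (step _).trans ih

theorem gam_bracket : ∀ (m n : ℕ) (i j : ZMod p) (x y : M), x ∈ gam E n i → y ∈ gam E m j →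
    ⁅x, y⁆ ∈ gam E (n + m + 1) (i + j) := by
  intro m
  induction m with
  | zero => intro n i j x y hx hy; exact mem_brak hx hy
  | succ m ih =>
    intro n i j x y hx hy
    refine lie_closure (S := {x}) (C := gam E (n + (m + 1) + 1) (i + j)) ?_
      (AddSubgroup.subset_closure rfl) hy
    intro x' hx' z hz
    obtain rfl : x' = x := hx'
    obtain ⟨j', l, u, hu, g, hg, rfl, rfl⟩ := hz
    have h1 : ⁅⁅x', u⁆, g⁆ ∈ gam E (n + (m + 1) + 1) (i + (j' + l)) := by
      rw [← add_assoc i]; exact mem_brak (ih n i j' x' u hx hu) hg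
    have h2 : ⁅⁅x', g⁆, u⁆ ∈ gam E (n + (m + 1) + 1) (i + (j' + l)) := by
      rw [show i + (j' + l) = i + l + j' by ring, show n + (m + 1) + 1 = n + 1 + m + 1 by ring]
      exact ih (n + 1) (i + l) j' _ u (mem_brak hx hg) hu
    rw [leibniz_lie, ← lie_skew u ⁅x', g⁆]
    exact add_mem h1 (neg_mem h2)

/-- A sequence of elements, each with a degree and a position in `gam`, applied to `a`. -/
def opFold (a : M) (l : List (ZMod p × ℕ × M)) : M := l.foldl (fun b e => ⁅b, e.2.2⁆) a

/-- Total degree. -/
def deg (l : List (ZMod p × ℕ × M)) : ZMod p := (l.map fun e => e.1).sum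

/-- Total weight. -/
def wt (l : List (ZMod p × ℕ × M)) : ℕ := (l.map fun e => e.2.1 + 1).sum

theorem opFold_add (l : List (ZMod p × ℕ × M)) :
    ∀ a b : M, opFold (a + b) l = opFold a l + opFold b l := by
  induction l with
  | nil => intro a b; rfl
  | cons e l ih => intro a b; simp only [opFold, List.foldl_cons, add_lie] at *; rw [ih]

theorem opFold_mem {A : ZMod p → AddSubgroup M} (hA : brak A E ≤ A) (hE : brak E E ≤ E)
    (l : List (ZMod p × ℕ × M)) : ∀ {u : ZMod p} {a : M}, (∀ e ∈ l, e.2.2 ∈ gam E e.2.1 e.1) →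
      a ∈ A u → opFold a l ∈ A (u + deg l) := by
  induction l with
  | nil => intro u a _ ha; simpa [deg, opFold] using ha
  | cons e l ih =>
    intro u a hl ha
    have h1 : ⁅a, e.2.2⁆ ∈ A (u + e.1) := by
      refine hA _ (mem_brak ha ?_)
      have h2 : ∀ n, gam E n ≤ E := by
        intro n
        induction n with
        | zero => exact le_rfl
        | succ k ihk => exact (brak_mono ihk le_rfl).trans hE
      exact h2 _ _ (hl e (by simp))
    have h3 := ih (fun e' he' => hl e' (by simp [he'])) h1
    simpa [opFold, deg, add_assoc] using h3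

theorem exists_prefix_sum (u : ZMod p) : ∀ l : List (ZMod p), (∀ d ∈ l, d ≠ 0) → p ≤ l.length + 1 →
    ∀ w : ZMod p, ∃ l1 l2, List.Perm l (l1 ++ l2) ∧ u + l1.sum = w := by
  classical
  intro l hl hlen
  have key : ∀ l : List (ZMod p), (∀ d ∈ l, d ≠ 0) → ∃ S : Finset (ZMod p),
      min p (l.length + 1) ≤ S.card ∧ ∀ w ∈ S, ∃ l1 l2, List.Perm l (l1 ++ l2) ∧ u + l1.sum = w := by
    intro l
    induction l with
    | nil =>
      intro _
      refine ⟨{u}, by simp, fun w hw => ⟨[], [], List.Perm.refl _, ?_⟩⟩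
      simp [Finset.mem_singleton.1 hw]
    | cons d l ih =>
      intro hd
      obtain ⟨S, hS, hS'⟩ := ih fun x hx => hd x (by simp [hx])
      refine ⟨S ∪ S.image (· + d), ?_, ?_⟩
      · by_cases hss : S.image (· + d) ⊆ S
        · have hne : S.Nonempty := by
            rw [← Finset.card_pos]
            have := (Fact.out : p.Prime).pos
            omega
          obtain ⟨s, hs⟩ := hne
          have hn : ∀ n : ℕ, s + n • d ∈ S := by
            intro n
            induction n with
            | zero => simpa using hs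
            | succ k ihk =>
              rw [succ_nsmul, ← add_assoc]
              exact hss (Finset.mem_image_of_mem _ ihk)
          have hu : S = Finset.univ := by
            refine Finset.eq_univ_of_forall fun w => ?_
            have h := hn ((w - s) / d).val
            rw [nsmul_eq_mul, ZMod.natCast_zmod_val, div_mul_cancel₀ _ (hd d (by simp)),
              add_sub_cancel] at h
            exact h
          have : (S ∪ S.image (· + d)).card = p := by
            rw [Finset.union_eq_left.2 hss, hu, Finset.card_univ, ZMod.card]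
          rw [this]; exact min_le_left _ _
        · have hlt : S.card < (S ∪ S.image (· + d)).card := by
            refine Finset.card_lt_card ⟨Finset.subset_union_left, fun h => hss ?_⟩
            exact Finset.subset_union_right.trans h
          simp only [List.length_cons]
          omega
      · intro w hw
        rcases Finset.mem_union.1 hw with h | h
        · obtain ⟨l1, l2, hp', he⟩ := hS' w h
          exact ⟨l1, d :: l2, (hp'.cons d).trans List.perm_middle.symm, he⟩
        · obtain ⟨s, hs, rfl⟩ := Finset.mem_image.1 h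
          obtain ⟨l1, l2, hp', he⟩ := hS' s hs
          exact ⟨d :: l1, l2, hp'.cons d, by rw [List.sum_cons, ← he]; ring⟩
  obtain ⟨S, hS, hS'⟩ := key l hl
  intro w
  have hu : S = Finset.univ := Finset.eq_univ_of_card S (le_antisymm (Finset.card_le_univ S) (by
    rw [ZMod.card]; omega))
  exact hS' w (hu ▸ Finset.mem_univ w)

/-- Long products of operators on an abelian graded ideal section vanish. -/
theorem opFold_mem_der {A : ZMod p → AddSubgroup M} (hA : brak A E ≤ A) (hE : brak E E ≤ E)
    (hAE : A ≤ E) (hB : brak (der A) E ≤ der A) (h0 : E 0 = ⊥) {c : ℕ} (hc : gam E c ≤ A) :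
    ∀ (m : ℕ) (l : List (ZMod p × ℕ × M)), l.length = m →
      (∀ e ∈ l, e.2.2 ∈ gam E e.2.1 e.1) → (p - 2) * c < wt l →
      ∀ (u : ZMod p) (a : M), a ∈ A u → opFold a l ∈ der A (u + deg l) := by
  intro m
  induction m using Nat.strong_induction_on with
  | _ m ih =>
  intro l hlm hl hwl u a ha
  by_cases hbig : ∃ e ∈ l, c ≤ e.2.1
  · obtain ⟨e, he, hce⟩ := hbig
    obtain ⟨l1, l2, rfl⟩ := List.append_of_mem he
    have h1 : opFold a l1 ∈ A (u + deg l1) :=
      opFold_mem hA hE l1 (fun e' he' => hl e' (by simp [he'])) ha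
    have h2 : ⁅opFold a l1, e.2.2⁆ ∈ der A (u + deg l1 + e.1) :=
      mem_brak h1 (hc _ (gam_anti hE hce _ (hl e (by simp))))
    have h3 := opFold_mem hB hE l2 (fun e' he' => hl e' (by simp [he'])) h2
    simpa [opFold, deg, List.foldl_append, add_assoc] using h3
  by_cases hzero : ∃ e ∈ l, e.1 = 0
  · obtain ⟨e, he, he0⟩ := hzero
    obtain ⟨l1, l2, rfl⟩ := List.append_of_mem he
    have h1 : e.2.2 = 0 := by
      have h := gam_le hE _ _ (hl e (by simp))
      rwa [he0, h0, AddSubgroup.mem_bot] at h
    have h2 : ⁅opFold a l1, e.2.2⁆ ∈ der A (u + deg l1 + e.1) := by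
      rw [h1, lie_zero]; exact zero_mem _
    have h3 := opFold_mem hB hE l2 (fun e' he' => hl e' (by simp [he'])) h2
    simpa [opFold, deg, List.foldl_append, add_assoc] using h3
  push Not at hbig hzero
  -- hence there are at least p - 1 operators
  have hlen : p ≤ l.length + 1 := by
    have h1 : wt l ≤ l.length * c := by
      have h := List.sum_le_card_nsmul (l.map fun e => e.2.1 + 1) c (by
        intro x hx
        obtain ⟨e, he, rfl⟩ := List.mem_map.1 hx
        exact hbig e he)
      simpa [wt, List.length_map] using h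
    by_contra hlt
    push Not at hlt
    have : l.length * c ≤ (p - 2) * c := Nat.mul_le_mul_right _ (by omega)
    omega
  obtain ⟨d1, d2, hperm, hsum⟩ := exists_prefix_sum u (l.map fun e => e.1)
    (fun d hd => by obtain ⟨e, he, rfl⟩ := List.mem_map.1 hd; exact hzero e he)
    (by simpa using hlen) 0
  obtain ⟨l', hl'p, hl'm⟩ : ∃ l', List.Perm l l' ∧ l'.map (fun e => e.1) = d1 ++ d2 := by
    clear * - hperm
    generalize hd : d1 ++ d2 = d at hperm ⊢
    clear hd
    generalize hld : l.map (fun e => e.1) = ld at hperm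
    induction hperm generalizing l with
    | nil => exact ⟨l, List.Perm.refl _, hld⟩
    | cons x _ ihp =>
      obtain ⟨e, l0, rfl, rfl, h0⟩ := List.map_eq_cons_iff.1 hld
      obtain ⟨l', hp', hm'⟩ := ihp l0 h0
      exact ⟨e :: l', hp'.cons e, by simp [hm']⟩
    | swap x y l2 =>
      obtain ⟨e, l0, rfl, rfl, h0⟩ := List.map_eq_cons_iff.1 hld
      obtain ⟨e', l1, rfl, rfl, h1⟩ := List.map_eq_cons_iff.1 h0
      exact ⟨e' :: e :: l1, List.Perm.swap e' e l1, by simp [h1]⟩
    | trans _ _ ih1 ih2 =>
      obtain ⟨l', hp', hm'⟩ := ih1 l hld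
      obtain ⟨l'', hp'', hm''⟩ := ih2 l' hm'
      exact ⟨l'', hp'.trans hp'', hm''⟩
  -- modulo the derived ideal the operators commute up to shorter products
  have hswap : ∀ {l1 l2 : List (ZMod p × ℕ × M)}, List.Perm l1 l2 →
      ∀ pre : List (ZMod p × ℕ × M), (pre ++ l1).length = m → (p - 2) * c < wt (pre ++ l1) →
        (∀ e ∈ pre ++ l1, e.2.2 ∈ gam E e.2.1 e.1) →
        opFold a (pre ++ l1) - opFold a (pre ++ l2) ∈ der A (u + deg (pre ++ l1)) := by
    intro l1 l2 hp'
    induction hp' with
    | nil => intro pre _ _ _; simp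
    | cons x _ ihp =>
      intro pre h1 h2 h3
      have := ihp (pre ++ [x]) (by simpa using h1) (by simpa using h2) (by simpa using h3)
      simpa using this
    | swap x y l0 =>
      intro pre h1 h2 h3
      let z : ZMod p × ℕ × M := (y.1 + x.1, y.2.1 + x.2.1 + 1, ⁅y.2.2, x.2.2⁆)
      have hz : ∀ e ∈ pre ++ z :: l0, e.2.2 ∈ gam E e.2.1 e.1 := by
        intro e he
        rcases List.mem_append.1 he with he | he
        · exact h3 e (List.mem_append_left _ he)
        rcases List.mem_cons.1 he with rfl | he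
        · exact gam_bracket _ _ _ _ _ _ (h3 y (by simp)) (h3 x (by simp))
        · exact h3 e (by simp [he])
      have hshort := ih (pre.length + l0.length + 1) (by simp at h1; omega) (pre ++ z :: l0)
        (by simp; omega) hz
        (lt_of_lt_of_le h2 (le_of_eq (by simp [wt, z]; omega))) u a ha
      have hd : deg (pre ++ z :: l0) = deg (pre ++ y :: x :: l0) := by simp [deg, z]; ring
      rw [← hd]
      have key : opFold a (pre ++ y :: x :: l0) - opFold a (pre ++ x :: y :: l0) =
          opFold a (pre ++ z :: l0) := by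
        have e : ∀ b : M, ⁅⁅b, y.2.2⁆, x.2.2⁆ = ⁅b, z.2.2⁆ + ⁅⁅b, x.2.2⁆, y.2.2⁆ := fun b => by
          show _ = ⁅b, ⁅y.2.2, x.2.2⁆⁆ + _
          rw [leibniz_lie b y.2.2 x.2.2, ← lie_skew y.2.2 ⁅b, x.2.2⁆, neg_add_cancel_right]
        simp only [opFold, List.foldl_append, List.foldl_cons]
        rw [e]
        exact sub_eq_iff_eq_add.2 (opFold_add l0 _ _)
      rw [key]; exact hshort
    | trans hp1 hp2 ih1 ih2 =>
      intro pre h1 h2 h3
      have hP := hp1.append_left pre
      have a1 := ih1 pre h1 h2 h3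
      have a2 := ih2 pre (hP.length_eq ▸ h1) (lt_of_lt_of_le h2 (le_of_eq (hP.map _).sum_eq))
        (fun e he => h3 e (hP.mem_iff.2 he))
      rw [show deg (pre ++ _) = deg (pre ++ _) from (hP.map _).sum_eq.symm] at a2
      have := add_mem a1 a2
      rwa [sub_add_sub_cancel] at this
  have hdiff := hswap hl'p [] (by simpa using hlm) (by simpa using hwl) (by simpa using hl)
  simp only [List.nil_append] at hdiff
  obtain ⟨l1, l2, rfl, rfl, rfl⟩ := List.map_eq_append_iff.1 hl'm
  have hl' : ∀ e ∈ l1 ++ l2, e.2.2 ∈ gam E e.2.1 e.1 := fun e he => hl e (hl'p.mem_iff.2 he)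
  have h1 : opFold a l1 ∈ A (u + deg l1) :=
    opFold_mem hA hE l1 (fun e he => hl' e (List.mem_append_left _ he)) ha
  have h2 : opFold a l1 = 0 := by
    have h := hAE _ h1
    rwa [show u + deg l1 = 0 from hsum, h0, AddSubgroup.mem_bot] at h
  have h3 : opFold a (l1 ++ l2) = 0 := by
    have hz := opFold_add l2 (0 : M) 0
    rw [add_zero] at hz
    show List.foldl _ a (l1 ++ l2) = 0
    rw [List.foldl_append]
    show opFold (opFold a l1) l2 = 0
    rw [h2]; exact left_eq_add.1 hz
  rwa [h3, sub_zero] at hdiff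

/-- Higman's bound relative to the derived series. -/
theorem gam_le_iterate_der (hE : brak E E ≤ E) (h0 : E 0 = ⊥) :
    ∀ s, gam E (∑ i ∈ Finset.range s, (p - 1) ^ i) ≤ der^[s] E := by
  have hp := (Fact.out : p.Prime).two_le
  have hideal : ∀ s, der^[s] E ≤ E ∧ brak (der^[s] E) E ≤ der^[s] E := by
    intro s
    induction s with
    | zero => exact ⟨le_rfl, hE⟩
    | succ n ih =>
      rw [Function.iterate_succ_apply']
      refine ⟨(brak_mono ih.1 ih.1).trans hE, brak_le fun i j x hx y hy => ?_⟩
      refine lie_closure (T := {y}) ?_ hx (AddSubgroup.subset_closure rfl)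
      rintro z ⟨i1, i2, a, ha, b, hb, rfl, rfl⟩ y' hy'
      obtain rfl : y' = y := hy'
      have h1 : ⁅a, ⁅b, y'⁆⁆ ∈ der (der^[n] E) (i1 + i2 + j) := by
        rw [add_assoc]; exact mem_brak ha (ih.2 _ (mem_brak hb hy))
      have h2 : ⁅b, ⁅a, y'⁆⁆ ∈ der (der^[n] E) (i1 + i2 + j) := by
        rw [show i1 + i2 + j = i2 + (i1 + j) by ring]; exact mem_brak hb (ih.2 _ (mem_brak ha hy))
      have e := leibniz_lie a b y'
      rw [eq_sub_of_add_eq e.symm]
      exact sub_mem h1 h2
  intro s
  induction s with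
  | zero => exact le_rfl
  | succ n ih =>
    set c := ∑ i ∈ Finset.range n, (p - 1) ^ i with hc
    set A := der^[n] E with hA
    have hB : brak (der A) E ≤ der A := by
      have := (hideal (n + 1)).2; rwa [Function.iterate_succ_apply'] at this
    have main : ∀ (K : ℕ) (k : ZMod p) (x : M), x ∈ gam E (c + K) k →
        ∀ l : List (ZMod p × ℕ × M), (∀ e ∈ l, e.2.2 ∈ gam E e.2.1 e.1) →
          (p - 2) * c < K + wt l → opFold x l ∈ der A (k + deg l) := by
      intro K
      induction K with
      | zero =>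
        intro k x hx l hl hw
        exact opFold_mem_der (hideal n).2 hE (hideal n).1 hB h0 ih _ l rfl hl (by simpa using hw)
          k x (ih k hx)
      | succ K ihK =>
        intro k x hx l hl hw
        let S : AddSubgroup M :=
          (der A (k + deg l)).comap (AddMonoidHom.mk' (fun x => opFold x l) (opFold_add l))
        suffices h : gam E (c + (K + 1)) k ≤ S from h hx
        refine (AddSubgroup.closure_le _).2 ?_
        rintro z ⟨i, j, y, hy, g, hg, rfl, rfl⟩
        have := ihK i y hy ((j, 0, g) :: l)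
          (fun e he => by rcases List.mem_cons.1 he with rfl | he; exacts [hg, hl e he])
          (lt_of_lt_of_le hw (le_of_eq (by simp [wt]; omega)))
        show opFold ⁅y, g⁆ l ∈ der A (i + j + deg l)
        simpa [opFold, deg, add_assoc] using this
    intro k x hx
    rw [Function.iterate_succ_apply']
    have he : ∑ i ∈ Finset.range (n + 1), (p - 1) ^ i = c + ((p - 2) * c + 1) := by
      rw [Finset.sum_range_succ', pow_zero, hc, ← add_assoc, add_left_inj]
      simp only [pow_succ, ← Finset.sum_mul]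
      obtain ⟨q, rfl⟩ : ∃ q, p = q + 2 := ⟨p - 2, by omega⟩
      simp only [show q + 2 - 1 = q + 1 by omega, Nat.add_sub_cancel]; ring
    rw [he] at hx
    have := main _ k x hx [] (by simp) (by simp [wt])
    simpa [opFold, deg] using this

/-- Higman–Kreknin–Kostrikin. -/
theorem gam_eq_bot (hE : brak E E ≤ E) (h0 : E 0 = ⊥) :
    gam E (∑ i ∈ Finset.range (2 ^ (p - 1) - 1), (p - 1) ^ i) = ⊥ :=
  le_bot_iff.1 ((gam_le_iterate_der hE h0 _).trans (le_of_eq (kreknin E hE h0)))

theorem gam_two_eq_bot {E : ZMod 3 → AddSubgroup M} (hE : brak E E ≤ E) (h0 : E 0 = ⊥) :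
    gam E 2 = ⊥ := by
  refine le_bot_iff.1 (brak_le fun ij k x hx y hy => ?_)
  refine lie_closure (T := {y}) ?_ hx (AddSubgroup.subset_closure rfl)
  rintro z ⟨i, j, a, ha, b, hb, rfl, rfl⟩ y' hy'
  obtain rfl : y' = y := hy'
  have zero_of : ∀ (d e : ZMod 3) (u v : M), u ∈ E d → v ∈ E e → d + e = 0 → ⁅u, v⁆ = 0 := by
    intro d e u v hu hv hde
    have h := hE _ (mem_brak hu hv)
    rwa [hde, h0, AddSubgroup.mem_bot] at h
  have zero_deg : ∀ (d : ZMod 3) (u : M), u ∈ E d → d = 0 → u = 0 := by
    intro d u hu hd; rwa [hd, h0, AddSubgroup.mem_bot] at hu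
  show ⁅⁅a, b⁆, y'⁆ ∈ (⊥ : AddSubgroup M)
  rw [AddSubgroup.mem_bot]
  have cases3 : ∀ i j k : ZMod 3,
      i = 0 ∨ j = 0 ∨ k = 0 ∨ i + j = 0 ∨ i + j + k = 0 ∨ (i + k = 0 ∧ j + k = 0) := by decide
  rcases cases3 i j k with h | h | h | h | h | ⟨h, h'⟩
  · rw [zero_deg i a ha h, zero_lie, zero_lie]
  · rw [zero_deg j b hb h, lie_zero, zero_lie]
  · rw [zero_deg k y' hy h, lie_zero]
  · rw [zero_of i j a b ha hb h, zero_lie]
  · exact zero_of _ k _ y' (hE _ (mem_brak ha hb)) hy h
  · have e := leibniz_lie a b y'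
    rw [zero_of i k a y' ha hy h, zero_of j k b y' hb hy h', lie_zero, lie_zero, add_zero] at e
    exact e.symm

/-- The lower central series of the Lie ring. -/
def gamTot (M : Type*) [LieRing M] : ℕ → AddSubgroup M
  | 0 => ⊤
  | n + 1 => AddSubgroup.closure {z | ∃ x ∈ gamTot M n, ∃ y : M, ⁅x, y⁆ = z}

theorem gamTot_le_iSup (hspan : (⊤ : AddSubgroup M) ≤ ⨆ k, E k) :
    ∀ n, gamTot M n ≤ ⨆ k, gam E n k
  | 0 => hspan
  | n + 1 => by
    refine (AddSubgroup.closure_le _).2 ?_
    rintro z ⟨x, hx, y, rfl⟩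
    have hx' := gamTot_le_iSup hspan n hx
    have hy' := hspan (AddSubgroup.mem_top y)
    rw [AddSubgroup.iSup_eq_closure] at hx' hy'
    refine lie_closure ?_ hx' hy'
    intro s hs t ht
    obtain ⟨i, hi⟩ := Set.mem_iUnion.1 hs
    obtain ⟨j, hj⟩ := Set.mem_iUnion.1 ht
    exact AddSubgroup.mem_iSup_of_mem (i + j) (mem_brak hi hj)

end Higman

end Cfsg.Agent.Struct.GradedLie
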