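import Cfsg.Agent.Lib.Struct.HallHigmanCore
import Mathlib.GroupTheory.Frattini
import Mathlib.GroupTheory.Sylow
import Mathlib.GroupTheory.Nilpotent

/-!
# Hall–Higman for prime order: general `q`-groups
-/

set_option autoImplicit false
set_option linter.style.haveILetI false

namespace Cfsg.Agent.Struct.HallHigman

open Module

variable {k : Type*} [Field k] {L : Type*} [Group L]

theorem conj_pow_mem {x : L} {R : Subgroup L} (hxR : ∀ a ∈ R, x * a * x⁻¹ ∈ R) (n : ℕ) :
    ∀ a ∈ R, x ^ n * a * (x ^ n)⁻¹ ∈ R := by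
  induction n with
  | zero => intro a ha; simpa using ha
  | succ n ih =>
    intro a ha
    rw [show x ^ (n + 1) * a * (x ^ (n + 1))⁻¹ = x * (x ^ n * a * (x ^ n)⁻¹) * x⁻¹ by rw [pow_succ']; group]
    exact hxR _ (ih a ha)

/-- Restriction of a representation to an invariant subspace. -/
def resRep {U : Type*} [AddCommGroup U] [Module k U] (ρ : L →* End k U) (W : Submodule k U)
    (hW : ∀ a, ∀ w ∈ W, ρ a w ∈ W) : L →* End k W where
  toFun a := (ρ a).restrict (hW a)
  map_one' := by ext w; simp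
  map_mul' a b := by ext w; simp

/-- The representation on the quotient by an invariant subspace. -/
def quotRep {U : Type*} [AddCommGroup U] [Module k U] (ρ : L →* End k U) (W : Submodule k U)
    (hW : ∀ a, ∀ w ∈ W, ρ a w ∈ W) : L →* End k (U ⧸ W) where
  toFun a := W.mapQ W (ρ a) (hW a)
  map_one' := by ext u; simp
  map_mul' a b := by ext u; simp

theorem sub_one_pow_of_sq {U : Type*} [AddCommGroup U] [Module k U] (f : End k U)
    (h : (f - 1) * (f - 1) = 0) (n : ℕ) : f ^ n = 1 + (n : k) • (f - 1) := by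
  induction n with
  | zero => simp
  | succ n ih =>
    rw [pow_succ, ih]
    nth_rewrite 2 [show f = 1 + (f - 1) by abel]
    rw [add_mul, mul_add, smul_mul_assoc, mul_add, h, Nat.cast_succ, add_smul, one_smul]
    simp only [one_mul, mul_one, add_zero, mul_sub]
    abel

theorem eq_one_of_sq {U : Type*} [AddCommGroup U] [Module k U] (f : End k U) {N : ℕ}
    (hN : (N : k) ≠ 0) (hfN : f ^ N = 1) (h : (f - 1) * (f - 1) = 0) : f = 1 := by
  have := sub_one_pow_of_sq f h N
  rw [hfN] at this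
  have h0 : (N : k) • (f - 1) = 0 := by simpa using this.symm
  exact sub_eq_zero.1 ((smul_eq_zero.1 h0).resolve_left hN)

/-- No fixed vectors on a quotient. -/
theorem quot_fix {U : Type*} [AddCommGroup U] [Module k U] (ρ : L →* End k U) (W : Submodule k U)
    (hW : ∀ a, ∀ w ∈ W, ρ a w ∈ W) {x : L} {r : ℕ} (hx : x ^ r = 1) (hrk : (r : k) ≠ 0)
    (hfix : ∀ u : U, ρ x u = u → u = 0) : ∀ u : U ⧸ W, quotRep ρ W hW x u = u → u = 0 := by
  intro v hv
  obtain ⟨u, rfl⟩ := Submodule.Quotient.mk_surjective W v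
  have hn : ∀ n : ℕ, quotRep ρ W hW (x ^ n) (Submodule.Quotient.mk u) = Submodule.Quotient.mk u := by
    intro n
    induction n with
    | zero => simp
    | succ n ih => rw [pow_succ, map_mul, End.mul_apply, hv, ih]
  set w := ∑ i ∈ Finset.range r, ρ (x ^ i) u with hw
  have hw0 : w = 0 := by
    refine hfix w ?_
    rw [hw, map_sum]
    have step : ∀ i, ρ x (ρ (x ^ i) u) = ρ (x ^ (i + 1)) u := fun i => by
      rw [pow_succ', map_mul]; rfl
    simp only [step]
    have h1 := Finset.sum_range_succ' (fun i => ρ (x ^ i) u) r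
    have h2 := Finset.sum_range_succ (fun i => ρ (x ^ i) u) r
    rw [h2, hx, pow_zero, add_left_inj] at h1
    exact h1.symm
  have h3 : Submodule.mkQ W w = (r : k) • Submodule.mkQ W u := by
    rw [hw, map_sum, Nat.cast_smul_eq_nsmul k]
    trans ∑ i ∈ Finset.range r, Submodule.mkQ W u
    · exact Finset.sum_congr rfl fun i _ => hn i
    · simp
  rw [hw0, map_zero] at h3
  exact (smul_eq_zero.1 h3.symm).resolve_left hrk

/-- Operators commuting with an irreducible family are scalars. -/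
theorem scalar_of_commute [IsAlgClosed k] {U : Type*} [AddCommGroup U] [Module k U]
    [FiniteDimensional k U] [Nontrivial U] (T : End k U) (S : Set (End k U))
    (hirr : ∀ W : Submodule k U, (∀ s ∈ S, ∀ w ∈ W, s w ∈ W) → W = ⊥ ∨ W = ⊤)
    (hc : ∀ s ∈ S, s * T = T * s) : ∃ c : k, T = c • (1 : End k U) := by
  obtain ⟨c, hce⟩ := Module.End.exists_eigenvalue T
  refine ⟨c, ?_⟩
  rcases hirr (T.eigenspace c) (fun s hs w hw => by
    rw [Module.End.mem_eigenspace_iff] at hw ⊢
    rw [← End.mul_apply, ← hc s hs, End.mul_apply, hw, map_smul]) with h | h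
  · exact absurd h hce
  · refine LinearMap.ext fun u => ?_
    have : u ∈ T.eigenspace c := h ▸ Submodule.mem_top
    simpa [Module.End.mem_eigenspace_iff] using this

section Main

variable [IsAlgClosed k]

/-- The abelian case. -/
theorem commute_of_abelian [Finite L] {U : Type*} [AddCommGroup U] [Module k U] [FiniteDimensional k U]
    [Nontrivial U] {ρ : L →* End k U} {R : Subgroup L} {x : L} {r : ℕ} (hr : r.Prime) (hx : x ^ r = 1)
    (hxR : ∀ a ∈ R, x * a * x⁻¹ ∈ R)
    (hirr : ∀ W : Submodule k U, (∀ a ∈ R, ∀ w ∈ W, ρ a w ∈ W) → (∀ w ∈ W, ρ x w ∈ W) → W = ⊥ ∨ W = ⊤)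
    (hfix : ∀ u : U, ρ x u = u → u = 0)
    (hab : ∀ a ∈ R, ∀ b ∈ R, ρ (a * b) = ρ (b * a)) :
    ∀ a ∈ R, ρ (x * a * x⁻¹) = ρ a := by
  classical
  -- a subspace on which `R` acts by scalars
  have hex : ∃ n, ∃ W : Submodule k U, W ≠ ⊥ ∧ (∀ a ∈ R, ∀ w ∈ W, ρ a w ∈ W) ∧ finrank k W = n :=
    ⟨_, ⊤, top_ne_bot, fun _ _ _ _ => Submodule.mem_top, rfl⟩
  obtain ⟨W, hW0, hWinv, hWn⟩ := Nat.find_spec hex
  haveI : Nontrivial W := Submodule.nontrivial_iff_ne_bot.2 hW0
  have hscal : ∀ a : R, ∃ c : k, ∀ w ∈ W, ρ (a : L) w = c • w := by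
    intro a
    obtain ⟨c, hc⟩ := scalar_of_commute ((ρ (a : L)).restrict (hWinv a a.2))
      {f | ∃ b : R, f = (ρ (b : L)).restrict (hWinv b b.2)} (fun V hV => by
        by_cases hV0 : V = ⊥
        · exact Or.inl hV0
        refine Or.inr (Submodule.eq_top_of_finrank_eq (le_antisymm (Submodule.finrank_le V) ?_))
        rw [hWn, ← (Submodule.equivMapOfInjective W.subtype W.injective_subtype V).symm.finrank_eq]
        refine Nat.find_le ⟨V.map W.subtype, ?_, ?_, rfl⟩
        · exact fun e => hV0 (Submodule.map_injective_of_injective W.injective_subtype (by simpa using e))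
        · rintro b hb _ ⟨v, hv, rfl⟩
          exact ⟨_, hV _ ⟨⟨b, hb⟩, rfl⟩ v hv, rfl⟩)
      (by
        rintro _ ⟨b, rfl⟩
        refine LinearMap.ext fun w => Subtype.ext ?_
        show ρ (b : L) (ρ (a : L) w) = ρ (a : L) (ρ (b : L) w)
        rw [← End.mul_apply, ← map_mul, hab b b.2 a a.2, map_mul]; rfl)
    exact ⟨c, fun w hw => congrArg Subtype.val (LinearMap.congr_fun hc ⟨w, hw⟩)⟩
  choose lam hlam using hscal
  obtain ⟨w₀, hw₀, hw₀0⟩ := W.exists_mem_ne_zero_of_ne_bot hW0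
  let cj : ℕ → R → R := fun i a => ⟨x ^ i * a * (x ^ i)⁻¹, conj_pow_mem hxR i a a.2⟩
  have hone : lam 1 = 1 := smul_left_injective k hw₀0 (by
    show lam 1 • w₀ = (1 : k) • w₀
    rw [← hlam 1 w₀ hw₀, OneMemClass.coe_one, map_one, one_smul]; rfl)
  have hmul : ∀ a b, lam (a * b) = lam a * lam b := fun a b => smul_left_injective k hw₀0 (by
    show lam (a * b) • w₀ = (lam a * lam b) • w₀
    rw [← hlam (a * b) w₀ hw₀, Subgroup.coe_mul, map_mul, End.mul_apply, hlam b w₀ hw₀, map_smul,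
      hlam a w₀ hw₀, smul_smul, mul_comm])
  obtain ⟨r', hr'⟩ := Nat.exists_eq_succ_of_ne_zero hr.ne_zero
  have hper : ∀ (i : ℕ) a, cj (i + r) a = cj i a := fun i a => Subtype.ext (by
    show x ^ (i + r) * (a : L) * (x ^ (i + r))⁻¹ = _
    rw [pow_add, hx, mul_one])
  have hv : ∀ (i : ℕ), ∀ w ∈ W, ∀ a : R, ρ (a : L) (ρ (x ^ i) w) = lam (cj (r' * i) a) • ρ (x ^ i) w := by
    intro i w hw a
    rw [← map_smul, ← hlam _ w hw, ← End.mul_apply, ← End.mul_apply, ← map_mul, ← map_mul]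
    congr 2
    show (a : L) * x ^ i = x ^ i * (x ^ (r' * i) * a * (x ^ (r' * i))⁻¹)
    have e : x ^ i * x ^ (r' * i) = 1 := by
      rw [← pow_add, show i + r' * i = r * i by rw [hr', Nat.succ_eq_add_one]; ring, pow_mul, hx, one_pow]
    have e2 : (x ^ (r' * i))⁻¹ = x ^ i := inv_eq_of_mul_eq_one_left e
    rw [e2, ← mul_assoc, ← mul_assoc, e, one_mul]
  let χ : ℕ → (R →* k) := fun i =>
    { toFun := fun a => lam (cj (r' * i) a)
      map_one' := by rw [show cj (r' * i) 1 = 1 from Subtype.ext (by simp [cj])]; exact hone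
      map_mul' := fun a b => by
        rw [show cj (r' * i) (a * b) = cj (r' * i) a * cj (r' * i) b from
          Subtype.ext (by simp [cj, mul_assoc])]
        exact hmul _ _ }
  by_cases hinj : Function.Injective fun i : Fin r => χ i
  · exfalso
    have hne : ∀ i : Fin r, ρ (x ^ (i : ℕ)) w₀ ≠ 0 := fun i e => hw₀0 (by
      have := congrArg (ρ (x ^ (i : ℕ))⁻¹) e
      rwa [← End.mul_apply, ← map_mul, inv_mul_cancel, map_one, map_zero] at this)
    have hli : LinearIndependent k fun i : Fin r => ρ (x ^ (i : ℕ)) w₀ :=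
      linearIndependent_of_eigen (C := fun a : R => ρ (a : L)) _ hne (fun i : Fin r => χ i) hinj
        fun a i => hv i w₀ hw₀ a
    have hsum : ∑ i : Fin r, ρ (x ^ (i : ℕ)) w₀ = 0 := by
      refine hfix _ ?_
      rw [map_sum]
      simp only [← End.mul_apply, ← map_mul, ← pow_succ']
      rw [Fin.sum_univ_eq_sum_range (fun i => ρ (x ^ (i + 1)) w₀),
        Fin.sum_univ_eq_sum_range (fun i => ρ (x ^ i) w₀)]
      have h1 := Finset.sum_range_succ' (fun i => ρ (x ^ i) w₀) r
      have h2 := Finset.sum_range_succ (fun i => ρ (x ^ i) w₀) r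
      rw [h2, hx, pow_zero, add_left_inj] at h1
      exact h1.symm
    have := Fintype.linearIndependent_iff.1 hli (fun _ => 1) (by simpa using hsum) ⟨0, hr.pos⟩
    exact one_ne_zero this
  · -- the character is invariant under `x`
    simp only [Function.Injective, not_forall] at hinj
    obtain ⟨i, j, hij, hne⟩ := hinj
    have hiter : ∀ a, lam (cj 1 a) = lam a := by
      have hcomp : ∀ m l a, cj m (cj l a) = cj (m + l) a := fun m l a => Subtype.ext (by
        simp [cj, pow_add, mul_assoc])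
      have hmod : ∀ m a, cj m a = cj (m % r) a := fun m a => Subtype.ext (by
        show x ^ m * (a : L) * (x ^ m)⁻¹ = x ^ (m % r) * (a : L) * (x ^ (m % r))⁻¹
        rw [← pow_eq_pow_mod m hx])
      have hd : ∀ a, lam (cj (r' * (i : ℕ)) a) = lam (cj (r' * (j : ℕ)) a) := fun a =>
        congrArg (fun f : R →* k => f a) hij
      -- shift to a single step
      obtain ⟨d, hd0, hdd⟩ : ∃ d, ¬ r ∣ d ∧ ∀ a, lam (cj d a) = lam a := by
        refine ⟨r' * (i : ℕ) + (r - (r' * (j : ℕ)) % r), ?_, fun a => ?_⟩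
        · intro hdvd
          apply hne
          have hlt := Nat.mod_lt (r' * (j : ℕ)) hr.pos
          have h1 : (r' * (i : ℕ)) % r = (r' * (j : ℕ)) % r := by
            have h2 : (r' * (i : ℕ) + (r - (r' * (j : ℕ)) % r) + (r' * (j : ℕ)) % r) % r =
                ((r' * (j : ℕ)) % r) % r := by
              rw [Nat.add_mod, Nat.dvd_iff_mod_eq_zero.1 hdvd, zero_add, Nat.mod_mod]
            rw [add_assoc, Nat.sub_add_cancel hlt.le, Nat.add_mod_right, Nat.mod_mod] at h2
            exact h2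
          have hco : Nat.Coprime r r' := by rw [hr', Nat.succ_eq_add_one]; simp
          have h3 : (i : ℕ) % r = (j : ℕ) % r :=
            Nat.ModEq.cancel_left_of_coprime (c := r') hco h1
          rw [Nat.mod_eq_of_lt i.2, Nat.mod_eq_of_lt j.2] at h3
          exact Fin.ext h3
        · rw [← hcomp, hd, hcomp, hmod,
            show (r' * (j : ℕ) + (r - r' * (j : ℕ) % r)) % r = 0 by
              have h1 := Nat.div_add_mod (r' * (j : ℕ)) r
              have h2 := (Nat.mod_lt (r' * (j : ℕ)) hr.pos).le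
              rw [show r' * (j : ℕ) + (r - r' * (j : ℕ) % r) = r * (r' * (j : ℕ) / r) + r by omega]
              simp]
          exact congrArg lam (Subtype.ext (by simp [cj]))
      have hmult : ∀ m a, lam (cj (d * m) a) = lam a := by
        intro m
        induction m with
        | zero => intro a; exact congrArg lam (Subtype.ext (by simp [cj]))
        | succ m ih =>
          intro a
          rw [show d * (m + 1) = d + d * m by ring, ← hcomp, hdd, ih]
      intro a
      obtain ⟨m, -, hm⟩ := Nat.exists_mul_mod_eq_one_of_coprime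
        ((hr.coprime_iff_not_dvd.2 hd0).symm) hr.one_lt
      have := hmult m a
      rwa [hmod, hm] at this
    let E : Submodule k U := ⨅ a : R, (ρ (a : L)).eigenspace (lam a)
    have hEmem : ∀ u, u ∈ E ↔ ∀ a : R, ρ (a : L) u = lam a • u := fun u => by
      simp [E, Module.End.mem_eigenspace_iff]
    have hEtop : E = ⊤ := by
      refine (hirr E (fun b hb u hu => ?_) fun u hu => ?_).resolve_left fun e => hw₀0 ?_
      · rw [hEmem] at hu ⊢
        intro a
        rw [← End.mul_apply, ← map_mul, hab _ a.2 _ hb, map_mul, End.mul_apply, hu a, map_smul]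
      · rw [hEmem] at hu ⊢
        intro a
        have h5 : cj 1 (cj r' a) = a := Subtype.ext (by
          show x ^ 1 * (x ^ r' * (a : L) * (x ^ r')⁻¹) * (x ^ 1)⁻¹ = a
          have e : x ^ 1 * x ^ r' = 1 := by rw [← pow_add, add_comm, ← Nat.succ_eq_add_one, ← hr', hx]
          rw [← mul_assoc, ← mul_assoc, mul_assoc (x ^ 1 * x ^ r' * (a : L)), ← mul_inv_rev, e]
          simp)
        have h6 : lam (cj r' a) = lam a := by rw [← hiter (cj r' a), h5]
        have h7 : (a : L) * x = x * (cj r' a : L) := by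
          have := congrArg Subtype.val h5
          simp only [cj, pow_one] at this ⊢
          nth_rewrite 1 [← this]
          rw [inv_mul_cancel_right]
        rw [← End.mul_apply, ← map_mul, h7, map_mul, End.mul_apply, hu (cj r' a), map_smul, h6]
      · have : w₀ ∈ E := (hEmem _).2 fun a => hlam a w₀ hw₀
        rw [e] at this
        exact (Submodule.mem_bot k).1 this
    have hs : ∀ a : R, ρ (a : L) = lam a • (1 : End k U) := fun a => LinearMap.ext fun u =>
      (hEmem u).1 (hEtop ▸ Submodule.mem_top) a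
    intro a ha
    have e1 := hs ⟨x * a * x⁻¹, hxR a ha⟩
    have e2 := hs ⟨a, ha⟩
    simp only at e1 e2
    rw [e1, e2, ← hiter ⟨a, ha⟩]
    simp [cj]

/-- A nontrivially moved minimal `R` on an irreducible module. -/
theorem minimal_case [Finite L] {U : Type*} [AddCommGroup U] [Module k U] [FiniteDimensional k U]
    [Nontrivial U] {ρ : L →* End k U} {R : Subgroup L} {q : ℕ} [hq : Fact q.Prime] (hR : IsPGroup q R)
    {x : L} {r : ℕ} (hr : r.Prime) (hqr : q ≠ r) (hx : x ^ r = 1) (hrk : (r : k) ≠ 0)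
    (hxR : ∀ a ∈ R, x * a * x⁻¹ ∈ R)
    (hirr : ∀ W : Submodule k U, (∀ a ∈ R, ∀ w ∈ W, ρ a w ∈ W) → (∀ w ∈ W, ρ x w ∈ W) → W = ⊥ ∨ W = ⊤)
    (hfix : ∀ u : U, ρ x u = u → u = 0)
    (hne : ∃ a ∈ R, ρ (x * a * x⁻¹) ≠ ρ a)
    (hmin : ∀ S : Subgroup L, S < R → (∀ a ∈ S, x * a * x⁻¹ ∈ S) → ∀ a ∈ S, ρ (x * a * x⁻¹) = ρ a) :
    q = 2 ∧ (∃ n : ℕ, r = 2 ^ n + 1) ∧ ∃ a ∈ R, ∃ b ∈ R, ρ (a * b) ≠ ρ (b * a) := by
  classical
  have hnab : ∃ a ∈ R, ∃ b ∈ R, ρ (a * b) ≠ ρ (b * a) := by
    by_contra hcon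
    push Not at hcon
    obtain ⟨a, ha, hne⟩ := hne
    exact hne (commute_of_abelian hr hx hxR hirr hfix hcon a ha)
  obtain ⟨r', hr'⟩ := Nat.exists_eq_succ_of_ne_zero hr.ne_zero
  have hfixed : ∀ S : Subgroup L, S ≤ R → S ≠ R → (∀ a ∈ S, x * a * x⁻¹ ∈ S) →
      ∀ a ∈ S, ρ (x * a * x⁻¹) = ρ a := fun S hle hne' => hmin S (lt_of_le_of_ne hle hne')
  -- the subgroup generated by commutators and `q`-th powers
  let gens : Set L := {f | ∃ a ∈ R, ∃ b ∈ R, f = a * b * a⁻¹ * b⁻¹} ∪ {f | ∃ a ∈ R, f = a ^ q}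
  let P : Subgroup L := Subgroup.closure gens
  have hPR : P ≤ R := by
    rw [Subgroup.closure_le]
    rintro f (⟨a, ha, b, hb, rfl⟩ | ⟨a, ha, rfl⟩)
    · exact mul_mem (mul_mem (mul_mem ha hb) (inv_mem ha)) (inv_mem hb)
    · exact pow_mem ha q
  have hPne : P ≠ R := by
    intro e
    haveI := hR.isNilpotent
    haveI : Nontrivial R := by
      obtain ⟨a, ha, hne⟩ := hne
      refine ⟨⟨⟨a, ha⟩, 1, fun c => hne ?_⟩⟩
      have : a = 1 := congrArg Subtype.val c
      simp [this]
    obtain ⟨M, hM, -⟩ := (eq_top_or_exists_le_coatom (⊥ : Subgroup R)).resolve_left bot_ne_top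
    haveI hMn : M.Normal := Subgroup.NormalizerCondition.normal_of_coatom M Group.normalizerCondition_of_isNilpotent hM
    have hidx : M.index = q := by
      haveI : IsSimpleGroup (R ⧸ M) := by
        haveI : Nontrivial (R ⧸ M) := (QuotientGroup.nontrivial_iff).2 hM.1
        refine ⟨fun N hN => ?_⟩
        rcases eq_or_lt_of_le (show M ≤ N.comap (QuotientGroup.mk' M) from fun y hy => by
          show QuotientGroup.mk' M y ∈ N
          rw [show QuotientGroup.mk' M y = 1 from (QuotientGroup.eq_one_iff y).2 hy]; exact one_mem N) with h | h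
        · left
          rw [← Subgroup.map_comap_eq_self_of_surjective (QuotientGroup.mk'_surjective M) N, ← h,
            QuotientGroup.map_mk'_self]
        · right
          rw [← Subgroup.map_comap_eq_self_of_surjective (QuotientGroup.mk'_surjective M) N, hM.2 _ h,
            Subgroup.map_top_of_surjective _ (QuotientGroup.mk'_surjective M)]
      obtain ⟨n, hn⟩ := (hR.to_quotient M).exists_card_eq
      haveI : Group.IsNilpotent (R ⧸ M) := (hR.to_quotient M).isNilpotent
      have hp : (Nat.card (R ⧸ M)).Prime := by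
        haveI : IsMulCommutative (R ⧸ M) := by
          rcases (hR.to_quotient M).center_nontrivial.exists_pair_ne with ⟨c, d, hcd⟩
          rcases (IsSimpleGroup.eq_bot_or_eq_top_of_normal (Subgroup.center (R ⧸ M)) inferInstance) with h | h
          · exact absurd (Subtype.ext ((Subgroup.mem_bot.1 (h ▸ c.2)).trans (Subgroup.mem_bot.1 (h ▸ d.2)).symm)) hcd
          · exact ⟨⟨fun a b => (Subgroup.mem_center_iff.1 (h ▸ Subgroup.mem_top b) a)⟩⟩
        letI : CommGroup (R ⧸ M) := { (inferInstance : Group (R ⧸ M)) with mul_comm := mul_comm' }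
        exact IsSimpleGroup.prime_card
      rw [Subgroup.index_eq_card]
      rw [hn] at hp ⊢
      rw [(Nat.Prime.eq_one_of_pow hp), pow_one]
    have hsub : P ≤ M.map R.subtype := by
      have hq' : ∀ a : R, (QuotientGroup.mk' M a) ^ q = 1 := fun a => by
        rw [← hidx, Subgroup.index_eq_card]; exact pow_card_eq_one'
      haveI : IsCyclic (R ⧸ M) := isCyclic_of_prime_card (p := q) (by rw [← Subgroup.index_eq_card, hidx])
      rw [Subgroup.closure_le]
      rintro f (⟨a, ha, b, hb, rfl⟩ | ⟨a, ha, rfl⟩)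
      · refine ⟨⟨a, ha⟩ * ⟨b, hb⟩ * ⟨a, ha⟩⁻¹ * ⟨b, hb⟩⁻¹, (QuotientGroup.eq_one_iff _).1 ?_, rfl⟩
        show QuotientGroup.mk' M _ = 1
        haveI := IsCyclic.isMulCommutative (α := R ⧸ M)
        have hc : Commute (QuotientGroup.mk' M (⟨a, ha⟩ : R)) (QuotientGroup.mk' M (⟨b, hb⟩ : R)) :=
          mul_comm' _ _
        simp only [map_mul, map_inv]
        rw [hc.eq]; group
      · exact ⟨(⟨a, ha⟩ : R) ^ q, (QuotientGroup.eq_one_iff _).1
          (show QuotientGroup.mk' M ((⟨a, ha⟩ : R) ^ q) = 1 by rw [map_pow]; exact hq' _), rfl⟩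
    rw [e] at hsub
    refine hM.1 (eq_top_iff.2 fun y _ => ?_)
    obtain ⟨y', hy', he⟩ := hsub y.2
    rwa [Subtype.ext he] at hy'
  have hPx : ∀ a ∈ P, x * a * x⁻¹ ∈ P := by
    intro a ha
    have : P.map (MulAut.conj x : L ≃* L).toMonoidHom ≤ P := by
      rw [MonoidHom.map_closure, Subgroup.closure_le]
      rintro _ ⟨f, hf, rfl⟩
      refine Subgroup.subset_closure ?_
      rcases hf with ⟨a, ha, b, hb, rfl⟩ | ⟨a, ha, rfl⟩
      · exact Or.inl ⟨_, hxR a ha, _, hxR b hb, by simp [mul_assoc]⟩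
      · refine Or.inr ⟨_, hxR a ha, ?_⟩
        show x * a ^ q * x⁻¹ = (x * a * x⁻¹) ^ q
        rw [conj_pow]
    exact this ⟨a, ha, rfl⟩
  have hPfix := hfixed P hPR hPne hPx
  -- the fixed subgroup
  let C : Subgroup L :=
    { carrier := {a | a ∈ R ∧ ρ (x * a * x⁻¹) = ρ a}
      one_mem' := ⟨one_mem R, by simp⟩
      mul_mem' := fun {a b} ha hb => ⟨mul_mem ha.1 hb.1, by
        rw [show x * (a * b) * x⁻¹ = (x * a * x⁻¹) * (x * b * x⁻¹) by group, map_mul, ha.2, hb.2, map_mul]⟩
      inv_mem' := fun {a} ha => ⟨inv_mem ha.1, by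
        have h1 : ρ (x * a⁻¹ * x⁻¹) * ρ (x * a * x⁻¹) = 1 := by
          rw [← map_mul, show x * a⁻¹ * x⁻¹ * (x * a * x⁻¹) = 1 by group, map_one]
        calc ρ (x * a⁻¹ * x⁻¹) = ρ (x * a⁻¹ * x⁻¹) * (ρ a * ρ a⁻¹) := by
              rw [← map_mul ρ a, mul_inv_cancel, map_one, mul_one]
          _ = ρ (x * a⁻¹ * x⁻¹) * ρ (x * a * x⁻¹) * ρ a⁻¹ := by rw [ha.2, mul_assoc (ρ _) (ρ a)]
          _ = ρ a⁻¹ := by rw [h1, one_mul]⟩ }
  have hCconj : ∀ a ∈ R, ∀ f ∈ C, a * f * a⁻¹ ∈ C := by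
    intro a ha f hf
    have hc : a * f * a⁻¹ * f⁻¹ ∈ P := Subgroup.subset_closure (Or.inl ⟨a, ha, f, hf.1, rfl⟩)
    have := C.mul_mem (show a * f * a⁻¹ * f⁻¹ ∈ C from ⟨hPR hc, hPfix _ hc⟩) hf
    simpa [mul_assoc] using this
  have hCx : ∀ f ∈ C, x * f * x⁻¹ ∈ C := fun f hf => ⟨hxR f hf.1, by
    rw [map_mul, map_mul ρ x (x * f * x⁻¹), hf.2]
    simp only [← map_mul]
    exact hf.2⟩
  -- every element of `R` commutes with `C` in the image
  have hCcent : ∀ a ∈ R, ∀ f ∈ C, ρ a * ρ f = ρ f * ρ a := by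
    let N : Subgroup L :=
      { carrier := {a | a ∈ R ∧ ∀ f ∈ C, ρ a * ρ f = ρ f * ρ a}
        one_mem' := ⟨one_mem R, fun f _ => by simp⟩
        mul_mem' := fun {a b} ha hb => ⟨mul_mem ha.1 hb.1, fun f hf => by
          rw [map_mul, mul_assoc, hb.2 f hf, ← mul_assoc, ha.2 f hf, mul_assoc]⟩
        inv_mem' := fun {a} ha => ⟨inv_mem ha.1, fun f hf => by
          calc ρ a⁻¹ * ρ f = ρ a⁻¹ * (ρ f * ρ a) * ρ a⁻¹ := by
                rw [mul_assoc (ρ a⁻¹), mul_assoc (ρ f), ← map_mul ρ a, mul_inv_cancel, map_one, mul_one]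
            _ = ρ f * ρ a⁻¹ := by
                rw [← ha.2 f hf, ← mul_assoc, ← map_mul, inv_mul_cancel, map_one, one_mul]⟩ }
    let S : Subgroup L := Subgroup.closure {d | ∃ a ∈ R, d = a⁻¹ * (x * a * x⁻¹)}
    have hSN : S ≤ N := by
      rw [Subgroup.closure_le]
      rintro _ ⟨a, ha, rfl⟩
      refine ⟨mul_mem (inv_mem ha) (hxR a ha), fun f hf => ?_⟩
      have h1 := (hCconj a ha f hf).2
      rw [show x * (a * f * a⁻¹) * x⁻¹ = (x * a * x⁻¹) * (x * f * x⁻¹) * (x * a * x⁻¹)⁻¹ by group,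
        map_mul, map_mul, hf.2] at h1
      have h2 : ρ ((x * a * x⁻¹) * f * (x * a * x⁻¹)⁻¹) = ρ (a * f * a⁻¹) := by
        rw [map_mul, map_mul]; exact h1
      have h3 := congrArg (fun M => ρ a⁻¹ * M * ρ (x * a * x⁻¹)) h2
      simp only [← map_mul] at h3 ⊢
      convert h3 using 2 <;> group
    have hSR : S = R := by
      by_contra hne'
      have hle : S ≤ R := by
        rw [Subgroup.closure_le]; rintro _ ⟨a, ha, rfl⟩; exact mul_mem (inv_mem ha) (hxR a ha)
      have hSx : ∀ s ∈ S, x * s * x⁻¹ ∈ S := by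
        intro s hs
        have : S.map (MulAut.conj x : L ≃* L).toMonoidHom ≤ S := by
          rw [MonoidHom.map_closure, Subgroup.closure_le]
          rintro _ ⟨_, ⟨a, ha, rfl⟩, rfl⟩
          exact Subgroup.subset_closure ⟨_, hxR a ha, by simp [mul_assoc]⟩
        exact this ⟨s, hs, rfl⟩
      obtain ⟨a, ha, hna⟩ := hne
      apply hna
      set d := a⁻¹ * (x * a * x⁻¹) with hd
      have hdS : d ∈ S := Subgroup.subset_closure ⟨a, ha, rfl⟩
      have hdfix := hfixed S hle hne' hSx d hdS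
      have hn : ∀ n : ℕ, ρ (x ^ n * a * (x ^ n)⁻¹) = ρ a * ρ d ^ n := by
        intro n
        induction n with
        | zero => simp
        | succ n ih =>
          rw [show x ^ (n + 1) * a * (x ^ (n + 1))⁻¹ = x * (x ^ n * a * (x ^ n)⁻¹) * x⁻¹ by
            rw [pow_succ']; group, map_mul, map_mul, ih]
          have hcd : ρ x * ρ d = ρ d * ρ x := by
            have := congrArg (fun M => M * ρ x) hdfix
            simpa only [← map_mul, inv_mul_cancel_right] using this
          have hcomm : Commute (ρ x) (ρ d ^ n) := (show Commute (ρ x) (ρ d) from hcd).pow_right n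
          rw [pow_succ', ← mul_assoc, mul_assoc _ (ρ d ^ n), show ρ d ^ n * ρ x⁻¹ = ρ x⁻¹ * ρ d ^ n by
            calc ρ d ^ n * ρ x⁻¹ = ρ x⁻¹ * (ρ x * ρ d ^ n) * ρ x⁻¹ := by
                  rw [← mul_assoc (ρ x⁻¹), ← map_mul, inv_mul_cancel, map_one, one_mul]
              _ = ρ x⁻¹ * ρ d ^ n := by
                  rw [hcomm.eq, mul_assoc, mul_assoc, ← map_mul, mul_inv_cancel, map_one, mul_one],
            ← mul_assoc, ← mul_assoc, ← map_mul, ← map_mul ρ a, ← map_mul ρ (x * a)]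
          congr 1
          rw [hd, mul_inv_cancel_left]
      have h1 := hn r
      rw [hx] at h1
      have h1' : ρ d ^ r = 1 := by
        have := congrArg (fun M => ρ a⁻¹ * M) h1
        simp only [one_mul, inv_one, mul_one, ← mul_assoc, ← map_mul, inv_mul_cancel, map_one] at this
        exact this.symm
      obtain ⟨e, he⟩ := hR.exists_card_eq
      have h2 : ρ d ^ (q ^ e) = 1 := by
        rw [← map_pow, ← he, show d ^ Nat.card R = 1 from
          congrArg Subtype.val (pow_card_eq_one' (x := (⟨d, hle hdS⟩ : R))), map_one]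
      have h3 := pow_gcd_eq_one.2 ⟨h1', h2⟩
      rw [Nat.Coprime.pow_right e ((Nat.coprime_primes hr hq.out).2 hqr.symm), pow_one] at h3
      calc ρ (x * a * x⁻¹) = ρ a * ρ d := by rw [← map_mul, hd, mul_inv_cancel_left]
        _ = ρ a := by rw [h3, mul_one]
    intro a ha f hf
    exact (hSN (hSR.symm ▸ ha)).2 f hf
  have hCscal : ∀ f ∈ C, ∃ c : k, ρ f = c • (1 : End k U) := by
    intro f hf
    refine scalar_of_commute (ρ f) (Set.insert (ρ x) {M | ∃ a ∈ R, M = ρ a}) (fun W hW => ?_) ?_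
    · exact hirr W (fun a ha => hW _ (Or.inr ⟨a, ha, rfl⟩)) (hW _ (Or.inl rfl))
    · rintro s (rfl | ⟨a, ha, rfl⟩)
      · have := congrArg (fun M => M * ρ x) hf.2
        simpa only [← map_mul, inv_mul_cancel_right] using this
      · exact hCcent a ha f hf
  -- apply the core lemma
  have hnd : IsNondeg ρ R C := by
    refine ⟨fun f hf => hf.1, hCscal, fun a ha b hb => ?_, fun a ha hab => ?_⟩
    · obtain ⟨c, hc⟩ := hCscal (b * a * b⁻¹ * a⁻¹) ⟨hPR (Subgroup.subset_closure (Or.inl ⟨b, hb, a, ha, rfl⟩)),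
        hPfix _ (Subgroup.subset_closure (Or.inl ⟨b, hb, a, ha, rfl⟩))⟩
      exact ⟨c, by rw [← inv_mul_cancel_right (b * a * b⁻¹) a, map_mul, hc, smul_mul_assoc, one_mul]⟩
    · refine ⟨ha, ?_⟩
      let D : Subgroup L :=
        { carrier := {a | a ∈ R ∧ ∀ b ∈ R, ρ a * ρ b = ρ b * ρ a}
          one_mem' := ⟨one_mem R, fun b _ => by simp⟩
          mul_mem' := fun {a b} ha hb => ⟨mul_mem ha.1 hb.1, fun f hf => by
            rw [map_mul, mul_assoc, hb.2 f hf, ← mul_assoc, ha.2 f hf, mul_assoc]⟩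
          inv_mem' := fun {a} ha => ⟨inv_mem ha.1, fun f hf => by
            calc ρ a⁻¹ * ρ f = ρ a⁻¹ * (ρ f * ρ a) * ρ a⁻¹ := by
                  rw [mul_assoc (ρ a⁻¹), mul_assoc (ρ f), ← map_mul ρ a, mul_inv_cancel, map_one, mul_one]
              _ = ρ f * ρ a⁻¹ := by
                  rw [← ha.2 f hf, ← mul_assoc, ← map_mul, inv_mul_cancel, map_one, one_mul]⟩ }
      have hDne : D ≠ R := fun e => by
        obtain ⟨c, hc, d, hd, hcd⟩ := hnab
        exact hcd (by rw [map_mul, map_mul]; exact (e.symm ▸ hc : c ∈ D).2 d hd)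
      refine hfixed D (fun _ h => h.1) hDne (fun f hf => ⟨hxR f hf.1, fun b hb => ?_⟩) a ⟨ha, fun b hb => ?_⟩
      · have hb' : x⁻¹ * b * x ∈ R := by
          have := conj_pow_mem hxR r' b hb
          have e : x ^ r' = x⁻¹ := eq_inv_of_mul_eq_one_left (by rw [← pow_succ, ← Nat.succ_eq_add_one, ← hr', hx])
          simpa [e] using this
        have := congrArg (fun M => ρ x * M * ρ x⁻¹) (hf.2 _ hb')
        simp only [← map_mul] at this ⊢
        convert this using 2 <;> group
      · have := congrArg (fun M => M * ρ b) (hab b hb)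
        simp only [← map_mul, inv_mul_cancel_right] at this
        rw [← map_mul, ← map_mul]
        exact this.symm
  have hRC : ¬ R ≤ C := fun h => by
    obtain ⟨a, ha, hna⟩ := hne
    exact hna (h ha).2
  have hfpf : ∀ a ∈ R, a⁻¹ * (x * a * x⁻¹) ∈ C → a ∈ C := by
    intro a ha hd
    refine ⟨ha, ?_⟩
    obtain ⟨c, hc⟩ := hCscal _ hd
    have h1 : ρ (x * a * x⁻¹) = c • ρ a := by
      rw [← mul_inv_cancel_left a (x * a * x⁻¹), map_mul, hc, mul_smul_comm, mul_one]
    have hn : ∀ n : ℕ, ρ (x ^ n * a * (x ^ n)⁻¹) = c ^ n • ρ a := by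
      intro n
      induction n with
      | zero => simp
      | succ n ih =>
        rw [show x ^ (n + 1) * a * (x ^ (n + 1))⁻¹ = x * (x ^ n * a * (x ^ n)⁻¹) * x⁻¹ by rw [pow_succ']; group,
          map_mul, map_mul, ih, mul_smul_comm, smul_mul_assoc, ← map_mul, ← map_mul, h1, smul_smul, ← pow_succ]
    have hcr : c ^ r = 1 := by
      have := hn r
      rw [hx] at this
      simp only [one_mul, inv_one, mul_one] at this
      exact smul_left_injective k (rho_ne_zero ρ a) (by simpa using this.symm)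
    have hcq : c ^ q = 1 := by
      have hm : a ^ q ∈ P := Subgroup.subset_closure (Or.inr ⟨a, ha, rfl⟩)
      have h2 : ρ (x * a ^ q * x⁻¹) = c ^ q • ρ (a ^ q) := by
        rw [← conj_pow, map_pow, h1, smul_pow, map_pow]
      rw [hPfix _ hm] at h2
      exact smul_left_injective k (rho_ne_zero ρ (a ^ q)) (by simpa using h2.symm)
    have hc1 := pow_gcd_eq_one.2 ⟨hcr, hcq⟩
    rw [(Nat.coprime_primes hr hq.out).2 hqr.symm, pow_one] at hc1
    rw [h1, hc1, one_smul]
  obtain ⟨D, hD, hrD⟩ := core hnd hRC hr hx hrk hxR hCx hfpf hfix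
  obtain ⟨e, he⟩ := hR.exists_card_eq
  have hdvd : D ∣ q ^ e := by
    rw [← he]
    exact (dvd_pow_self D two_ne_zero).trans (hD ▸ Subgroup.index_dvd_card _)
  obtain ⟨m, -, rfl⟩ := (Nat.dvd_prime_pow hq.out).1 hdvd
  have hq2 : q = 2 := by
    rcases hq.out.eq_two_or_odd' with h | h
    · exact h
    · have h2 : Even r := by rw [hrD]; exact (h.pow).add_one
      have : r = 2 := (Nat.Prime.even_iff hr).1 h2
      have hm : q ^ m = 1 := by omega
      exact absurd (Subgroup.relIndex_eq_one.1 (by rw [hD, hm, one_pow])) hRC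
  subst hq2
  exact ⟨rfl, ⟨m, hrD⟩, hnab⟩

/-- **Hall–Higman for an element of prime order.** If `x` of prime order `r` fixes no nonzero vector and
does not centralise the image of the `q`-group `Q`, then `q = 2`, `r = 2^n + 1` and the image of `Q` is
not abelian. -/
theorem prime_order [Finite L] {U : Type*} [AddCommGroup U] [Module k U] [FiniteDimensional k U]
    {ρ : L →* End k U} {Q : Subgroup L} {q : ℕ} [hq : Fact q.Prime] (hQ : IsPGroup q Q)
    {x : L} {r : ℕ} (hr : r.Prime) (hqr : q ≠ r) (hqk : (q : k) ≠ 0) (hx : x ^ r = 1) (hrk : (r : k) ≠ 0)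
    (hxQ : ∀ a ∈ Q, x * a * x⁻¹ ∈ Q) (hfix : ∀ u : U, ρ x u = u → u = 0)
    (hne : ∃ a ∈ Q, ρ (x * a * x⁻¹) ≠ ρ a) :
    q = 2 ∧ (∃ n : ℕ, r = 2 ^ n + 1) ∧ ∃ a ∈ Q, ∃ b ∈ Q, ρ (a * b) ≠ ρ (b * a) := by
  classical
  -- minimal invariant subgroup moved by `x`
  obtain ⟨R, ⟨hRQ, hRx, hRne⟩, hRmin⟩ := (Set.toFinite
    {R : Subgroup L | R ≤ Q ∧ (∀ a ∈ R, x * a * x⁻¹ ∈ R) ∧ ∃ a ∈ R, ρ (x * a * x⁻¹) ≠ ρ a}).exists_minimal
    ⟨Q, le_rfl, hxQ, hne⟩
  have hmin : ∀ S : Subgroup L, S < R → (∀ a ∈ S, x * a * x⁻¹ ∈ S) → ∀ a ∈ S, ρ (x * a * x⁻¹) = ρ a := by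
    intro S hS hSx a ha
    by_contra hna
    exact hS.not_ge (hRmin ⟨hS.le.trans hRQ, hSx, a, ha, hna⟩ hS.le)
  have hR : IsPGroup q R := hQ.to_le hRQ
  let B : Subgroup L := R ⊔ Subgroup.zpowers x
  let xB : B := ⟨x, Subgroup.mem_sup_right (Subgroup.mem_zpowers x)⟩
  let RB : Subgroup B := R.subgroupOf B
  have hRB : IsPGroup q RB := hR.of_equiv (Subgroup.subgroupOfEquivOfLe (show R ≤ B from le_sup_left)).symm
  have hxB : xB ^ r = 1 := Subtype.ext (by simpa using hx)
  have hxRB : ∀ a ∈ RB, xB * a * xB⁻¹ ∈ RB := fun a ha => hRx _ ha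
  obtain ⟨e, he⟩ := hR.exists_card_eq
  suffices main : ∀ (n : ℕ) (V : Type _) [AddCommGroup V] [Module k V] [FiniteDimensional k V]
      (σ : B →* End k V), finrank k V = n → (∀ v, σ xB v = v → v = 0) →
      (∀ S : Subgroup B, S < RB → (∀ a ∈ S, xB * a * xB⁻¹ ∈ S) → ∀ a ∈ S, σ (xB * a * xB⁻¹) = σ a) →
      (∀ a b : B, ρ (a : L) = ρ (b : L) → σ a = σ b) →
      (∃ a ∈ RB, σ (xB * a * xB⁻¹) ≠ σ a) →
      q = 2 ∧ (∃ n : ℕ, r = 2 ^ n + 1) ∧ ∃ a ∈ Q, ∃ b ∈ Q, ρ (a * b) ≠ ρ (b * a) by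
    refine main _ U (ρ.comp B.subtype) rfl hfix (fun S hS hSx a ha => ?_) (fun a b h => h) ?_
    · refine hmin (S.map B.subtype) ?_ ?_ _ ⟨a, ha, rfl⟩
      · refine lt_of_le_of_ne ?_ fun e' => hS.ne ?_
        · rintro _ ⟨b, hb, rfl⟩; exact hS.le hb
        · ext b
          refine ⟨fun hb => hS.le hb, fun hb => ?_⟩
          have : (b : L) ∈ S.map B.subtype := e'.symm ▸ hb
          obtain ⟨c, hc, hcb⟩ := this
          rwa [← Subtype.ext hcb]
      · rintro _ ⟨b, hb, rfl⟩; exact ⟨_, hSx b hb, rfl⟩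
    · obtain ⟨a, ha, hna⟩ := hRne
      exact ⟨⟨a, Subgroup.mem_sup_left ha⟩, ha, hna⟩
  intro n
  induction n using Nat.strong_induction_on with
  | _ n ih =>
    intro V _ _ _ σ hn hfixV hminV hfac hneV
    obtain ⟨a, ha, hna⟩ := hneV
    haveI : Nontrivial V := by
      by_contra hnt
      haveI := not_nontrivial_iff_subsingleton.1 hnt
      exact hna (LinearMap.ext fun v => Subsingleton.elim _ _)
    by_cases hirr : ∀ W : Submodule k V, (∀ b ∈ RB, ∀ w ∈ W, σ b w ∈ W) → (∀ w ∈ W, σ xB w ∈ W) → W = ⊥ ∨ W = ⊤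
    · obtain ⟨h1, h2, c, hc, d, hd, hcd⟩ :=
        minimal_case hRB hr hqr hxB hrk hxRB hirr hfixV ⟨a, ha, hna⟩ hminV
      exact ⟨h1, h2, c, hRQ hc, d, hRQ hd, fun h => hcd (hfac (c * d) (d * c) h)⟩
    · push Not at hirr
      obtain ⟨W, hWR, hWx, hW0, hWtop⟩ := hirr
      have hWinv : ∀ b : B, ∀ w ∈ W, σ b w ∈ W := by
        let St : Subgroup B :=
          { carrier := {b | (∀ w ∈ W, σ b w ∈ W) ∧ ∀ w ∈ W, σ b⁻¹ w ∈ W}
            one_mem' := by simp
            mul_mem' := fun {b c} hb hc =>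
              ⟨fun w hw => by rw [map_mul]; exact hb.1 _ (hc.1 w hw),
               fun w hw => by rw [mul_inv_rev, map_mul]; exact hc.2 _ (hb.2 w hw)⟩
            inv_mem' := fun {b} hb => ⟨hb.2, by rw [inv_inv]; exact hb.1⟩ }
        have hxinv : ∀ w ∈ W, σ xB⁻¹ w ∈ W := by
          obtain ⟨r', hr'⟩ := Nat.exists_eq_succ_of_ne_zero hr.ne_zero
          have hpow : ∀ m : ℕ, ∀ w ∈ W, σ (xB ^ m) w ∈ W := by
            intro m
            induction m with
            | zero => intro w hw; simpa using hw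
            | succ m ih => intro w hw; rw [pow_succ', map_mul]; exact hWx _ (ih w hw)
          rw [show xB⁻¹ = xB ^ r' from inv_eq_of_mul_eq_one_right
            (by rw [← pow_succ', ← Nat.succ_eq_add_one, ← hr', hxB])]
          exact hpow r'
        have htop : ∀ b : B, b ∈ St := by
          have : B ≤ St.map B.subtype := sup_le
            (fun y hy => ⟨⟨y, Subgroup.mem_sup_left hy⟩, ⟨hWR _ hy, hWR _ (inv_mem hy)⟩, rfl⟩)
            (Subgroup.zpowers_le.2 ⟨xB, ⟨hWx, hxinv⟩, rfl⟩)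
          intro b
          obtain ⟨c, hc, hcb⟩ := this b.2
          rwa [← Subtype.ext hcb]
        exact fun b => (htop b).1
      let σ1 := resRep σ W hWinv
      let σ2 := quotRep σ W hWinv
      have hfac1 : ∀ b c : B, ρ (b : L) = ρ (c : L) → σ1 b = σ1 c := fun b c h =>
        LinearMap.ext fun w => Subtype.ext (LinearMap.congr_fun (hfac b c h) w)
      have hfac2 : ∀ b c : B, ρ (b : L) = ρ (c : L) → σ2 b = σ2 c := fun b c h => by
        refine Submodule.linearMap_qext _ (LinearMap.ext fun v => ?_)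
        show W.mkQ (σ b v) = W.mkQ (σ c v)
        rw [hfac b c h]
      by_cases hne1 : ∃ b ∈ RB, σ1 (xB * b * xB⁻¹) ≠ σ1 b
      · refine ih (finrank k W) ?_ W σ1 rfl ?_ ?_ hfac1 hne1
        · rw [← hn]; exact Submodule.finrank_lt hWtop
        · intro w hw; exact Subtype.ext (hfixV w (congrArg Subtype.val hw))
        · intro S hS hSx b hb
          exact LinearMap.ext fun w => Subtype.ext (LinearMap.congr_fun (hminV S hS hSx b hb) w)
      by_cases hne2 : ∃ b ∈ RB, σ2 (xB * b * xB⁻¹) ≠ σ2 b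
      · refine ih (finrank k (V ⧸ W)) ?_ (V ⧸ W) σ2 rfl (quot_fix σ W hWinv hxB hrk hfixV) ?_ hfac2 hne2
        · rw [← hn, ← W.finrank_quotient_add_finrank]
          have : 0 < finrank k W := by
            rw [Nat.pos_iff_ne_zero]; exact fun h => hW0 (Submodule.finrank_eq_zero.1 h)
          omega
        · intro S hS hSx b hb
          refine Submodule.linearMap_qext _ (LinearMap.ext fun v => ?_)
          show W.mkQ (σ (xB * b * xB⁻¹) v) = W.mkQ (σ b v)
          rw [hminV S hS hSx b hb]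
      exfalso
      push Not at hne1 hne2
      apply hna
      set d := a⁻¹ * (xB * a * xB⁻¹) with hd
      have hd1 : σ1 d = 1 := by rw [hd, map_mul, hne1 a ha, ← map_mul, inv_mul_cancel, map_one]
      have hd2 : σ2 d = 1 := by rw [hd, map_mul, hne2 a ha, ← map_mul, inv_mul_cancel, map_one]
      have hsq : (σ d - 1) * (σ d - 1) = 0 := by
        refine LinearMap.ext fun v => ?_
        have hmem : (σ d - 1) v ∈ W := by
          have := LinearMap.congr_fun hd2 (Submodule.Quotient.mk v)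
          rw [LinearMap.sub_apply, End.one_apply, ← Submodule.Quotient.eq]
          exact this
        have := congrArg Subtype.val (LinearMap.congr_fun hd1 ⟨_, hmem⟩)
        show (σ d - 1) ((σ d - 1) v) = 0
        rw [LinearMap.sub_apply, End.one_apply]
        exact sub_eq_zero.2 this
      have hdR : (d : L) ∈ R := mul_mem (inv_mem ha) (hRx _ ha)
      have hdpow : σ d ^ (q ^ e) = 1 := by
        rw [← map_pow, ← map_one σ]
        refine congrArg σ (Subtype.ext ?_)
        show (d : L) ^ (q ^ e) = 1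
        rw [← he]
        exact congrArg Subtype.val (pow_card_eq_one' (x := (⟨(d : L), hdR⟩ : R)))
      have := eq_one_of_sq (σ d) (N := q ^ e) (by push_cast; exact pow_ne_zero e hqk) hdpow hsq
      rw [show xB * a * xB⁻¹ = a * d by rw [hd]; group, map_mul, this, mul_one]

end Main

end Cfsg.Agent.Struct.HallHigman
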