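import Mathlib
import Cfsg.Agent.Lib.Struct.HallHigman

/-!
# From elementary abelian sections to representations over an algebraically closed field
-/

namespace Cfsg.Agent.Struct.HallHigman

open Module

/-- A `ZMod p`-representation extends to `𝔽̄_p` with the same kernel data and fixed point freeness. -/
theorem exists_rep_of_module {L : Type*} [Group L] {M : Type*} [AddCommGroup M] [Finite M] [Nontrivial M]
    (p : ℕ) [Fact p.Prime] [Module (ZMod p) M] (ψ : L → M →+ M) (h1 : ∀ v, ψ 1 v = v)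
    (hmul : ∀ a b v, ψ (a * b) v = ψ a (ψ b v)) :
    ∃ (n : ℕ) (ρ : L →* End (AlgebraicClosure (ZMod p)) (Fin n → AlgebraicClosure (ZMod p))),
      0 < n ∧ (∀ a b : L, ρ a = ρ b ↔ ψ a = ψ b) ∧
      (∀ x y : L, (∀ v : M, ψ x v = v → ψ y v = v → v = 0) →
        ∀ u, ρ x u = u → ρ y u = u → u = 0) := by
  classical
  let σ : L →* End (ZMod p) M :=
    { toFun := fun a => (ψ a).toZModLinearMap p
      map_one' := LinearMap.ext fun v => h1 v
      map_mul' := fun a b => LinearMap.ext fun v => hmul a b v }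
  have hσ : ∀ a b : L, σ a = σ b ↔ ψ a = ψ b := fun a b =>
    ⟨fun h => AddMonoidHom.ext fun v => congrArg (fun f : End (ZMod p) M => f v) h,
      fun h => LinearMap.ext fun v => DFunLike.congr_fun h v⟩
  let k := AlgebraicClosure (ZMod p)
  let n := finrank (ZMod p) M
  let e : End (ZMod p) M ≃ₐ[ZMod p] Matrix (Fin n) (Fin n) (ZMod p) :=
    LinearMap.toMatrixAlgEquiv (Module.finBasis (ZMod p) M)
  let Φ : End (ZMod p) M →+* End k (Fin n → k) :=
    ((Matrix.toLinAlgEquiv' : Matrix (Fin n) (Fin n) k ≃ₐ[k] End k (Fin n → k)).toRingEquiv.toRingHom.comp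
      (algebraMap (ZMod p) k).mapMatrix).comp e.toRingEquiv.toRingHom
  have hΦ : Function.Injective Φ := fun f g h =>
    e.injective ((Matrix.map_injective (algebraMap (ZMod p) k).injective)
      ((Matrix.toLinAlgEquiv' : Matrix (Fin n) (Fin n) k ≃ₐ[k] End k (Fin n → k)).injective h))
  refine ⟨n, Φ.toMonoidHom.comp σ, Module.finrank_pos,
    fun a b => ⟨fun h => (hσ a b).1 (hΦ h), fun h => congrArg Φ ((hσ a b).2 h)⟩, ?_⟩
  intro x y hxy u hux huy
  let F : M →ₗ[ZMod p] M × M := (σ x - 1).prod (σ y - 1)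
  obtain ⟨G', hG'⟩ := LinearMap.exists_leftInverse_of_injective F (by
    rw [LinearMap.ker_eq_bot']
    intro v hv
    exact hxy v (sub_eq_zero.1 (congrArg Prod.fst hv)) (sub_eq_zero.1 (congrArg Prod.snd hv)))
  have e : (G'.comp (LinearMap.inl (ZMod p) M M)) * (σ x - 1) +
      (G'.comp (LinearMap.inr (ZMod p) M M)) * (σ y - 1) = 1 := by
    refine LinearMap.ext fun v => ?_
    refine Eq.trans ?_ (LinearMap.congr_fun hG' v)
    show G' (LinearMap.inl (ZMod p) M M ((σ x - 1) v)) + G' (LinearMap.inr (ZMod p) M M ((σ y - 1) v)) = G' (F v)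
    rw [← map_add]
    simp [F]
  have e' := LinearMap.congr_fun (congrArg Φ e) u
  simp only [map_add, map_mul, map_sub, map_one, LinearMap.add_apply, Module.End.mul_apply,
    LinearMap.sub_apply, Module.End.one_apply] at e'
  simp only [show Φ (σ x) u = u from hux, show Φ (σ y) u = u from huy, sub_self, add_zero,
    map_zero] at e'
  exact e'.symm

/-- An action on an elementary abelian `p`-group gives a representation over `𝔽̄_p` with the same
kernel data and the same joint fixed point freeness. -/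
theorem exists_rep₂ {L : Type*} [Group L] {V : Type*} [CommGroup V] [Finite V] [Nontrivial V] (p : ℕ)
    [Fact p.Prime] (hexp : ∀ v : V, v ^ p = 1) (φ : L →* MulAut V) :
    ∃ (n : ℕ) (ρ : L →* End (AlgebraicClosure (ZMod p)) (Fin n → AlgebraicClosure (ZMod p))),
      0 < n ∧ (∀ a b : L, ρ a = ρ b ↔ φ a = φ b) ∧
      (∀ x y : L, (∀ v : V, φ x v = v → φ y v = v → v = 1) →
        ∀ u, ρ x u = u → ρ y u = u → u = 0) := by
  letI : Module (ZMod p) (Additive V) := AddCommGroup.zmodModule fun v => by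
    show Additive.ofMul (v.toMul ^ p) = 0
    rw [hexp]; rfl
  obtain ⟨n, ρ, hn, hρ, hfix⟩ := exists_rep_of_module (L := L) (M := Additive V) p
    (fun a => MonoidHom.toAdditive (φ a).toMonoidHom)
    (fun v => congrArg Additive.ofMul (show φ 1 v.toMul = v.toMul by rw [map_one]; rfl))
    (fun a b v => congrArg Additive.ofMul
      (show φ (a * b) v.toMul = φ a (φ b v.toMul) by rw [map_mul]; rfl))
  refine ⟨n, ρ, hn, fun a b => (hρ a b).trans ⟨fun h => MulEquiv.ext fun v => ?_, fun h => by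
      simp only [h]⟩, fun x y hx => hfix x y fun v hv hv' =>
      congrArg Additive.ofMul (hx v.toMul (congrArg Additive.toMul hv) (congrArg Additive.toMul hv'))⟩
  exact congrArg Additive.toMul (DFunLike.congr_fun h (Additive.ofMul v))

/-- An action on an elementary abelian `p`-group gives a representation over `𝔽̄_p` with the same
kernel data and the same fixed point freeness. -/
theorem exists_rep {L : Type*} [Group L] {V : Type*} [CommGroup V] [Finite V] [Nontrivial V] (p : ℕ)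
    [Fact p.Prime] (hexp : ∀ v : V, v ^ p = 1) (φ : L →* MulAut V) :
    ∃ (n : ℕ) (ρ : L →* End (AlgebraicClosure (ZMod p)) (Fin n → AlgebraicClosure (ZMod p))),
      0 < n ∧ (∀ a b : L, ρ a = ρ b ↔ φ a = φ b) ∧
      (∀ x : L, (∀ v : V, φ x v = v → v = 1) → ∀ u, ρ x u = u → u = 0) := by
  obtain ⟨n, ρ, hn, hρ, hfix⟩ := exists_rep₂ p hexp φ
  exact ⟨n, ρ, hn, hρ, fun x hx u hu => hfix x x (fun v hv _ => hx v hv) u hu hu⟩

/-- Group version of `prime_order`. -/
theorem prime_order_conj {G : Type*} [Group G] [Finite G] {p q r : ℕ} (hp : p.Prime) (hq : q.Prime)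
    (hr : r.Prime) (hpq : p ≠ q) (hpr : p ≠ r) (hqr : q ≠ r) {Q V : Subgroup G} {x : G}
    (hV : ∀ a ∈ V, ∀ b ∈ V, a * b = b * a) (hexp : ∀ v ∈ V, v ^ p = 1)
    (hQ : IsPGroup q Q) (hx : x ^ r = 1) (hQV : Q ≤ Subgroup.normalizer (V : Set G))
    (hxV : x ∈ Subgroup.normalizer (V : Set G)) (hxQ : ∀ a ∈ Q, x * a * x⁻¹ ∈ Q)
    (hfix : ∀ v ∈ V, x * v = v * x → v = 1)
    (hne : ∃ a ∈ Q, ∃ v ∈ V, (x * a * x⁻¹) * v * (x * a * x⁻¹)⁻¹ ≠ a * v * a⁻¹) :
    q = 2 ∧ (∃ n : ℕ, r = 2 ^ n + 1) ∧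
      ∃ a ∈ Q, ∃ b ∈ Q, ∃ v ∈ V, (a * b) * v * (a * b)⁻¹ ≠ (b * a) * v * (b * a)⁻¹ := by
  haveI := Fact.mk hp
  haveI := Fact.mk hq
  obtain ⟨a, ha, v, hv, hav⟩ := hne
  haveI : Nontrivial V := ⟨⟨⟨v, hv⟩, 1, fun e => hav (by
    have : v = 1 := congrArg Subtype.val e
    simp [this])⟩⟩
  letI : CommGroup V :=
    { (inferInstance : Group V) with mul_comm := fun a b => Subtype.ext (hV _ a.2 _ b.2) }
  obtain ⟨n, ρ, -, hρ, hρfix⟩ := exists_rep p (V := V) (fun v => Subtype.ext (by simpa using hexp _ v.2))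
    V.normalizerMonoidHom
  let N := Subgroup.normalizer (V : Set G)
  let xN : N := ⟨x, hxV⟩
  have key : ∀ a b : N, ρ a ≠ ρ b → ∃ v ∈ V, (a : G) * v * (a : G)⁻¹ ≠ (b : G) * v * (b : G)⁻¹ := by
    intro a b h
    by_contra hcon
    push Not at hcon
    exact h ((hρ a b).2 (MulEquiv.ext fun v => Subtype.ext (hcon v v.2)))
  have hr0 : (r : AlgebraicClosure (ZMod p)) ≠ 0 := fun h =>
    hpr ((Nat.prime_dvd_prime_iff_eq hp hr).1 ((CharP.cast_eq_zero_iff _ p r).1 h))
  have hq0 : (q : AlgebraicClosure (ZMod p)) ≠ 0 := fun h =>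
    hpq ((Nat.prime_dvd_prime_iff_eq hp hq).1 ((CharP.cast_eq_zero_iff _ p q).1 h))
  have hne0 : ρ (xN * ⟨a, hQV ha⟩ * xN⁻¹) ≠ ρ (⟨a, hQV ha⟩ : N) := fun h => hav (by
    have := congrArg Subtype.val (DFunLike.congr_fun ((hρ _ _).1 h) (⟨v, hv⟩ : V))
    simpa [xN, mul_assoc] using this)
  obtain ⟨h2, h3, c, hc, d, hd, hcd⟩ := prime_order (ρ := ρ) (Q := Q.subgroupOf N) (q := q)
    (hQ.of_equiv (Subgroup.subgroupOfEquivOfLe hQV).symm) hr hqr hq0
    (x := xN) (Subtype.ext (by simpa using hx)) hr0 (fun a ha => hxQ _ ha)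
    (hρfix xN fun v hv' => Subtype.ext (hfix _ v.2 (by
      have : x * (v : G) * x⁻¹ = v := congrArg Subtype.val hv'
      exact mul_inv_eq_iff_eq_mul.1 this)))
    ⟨⟨a, hQV ha⟩, ha, hne0⟩
  obtain ⟨w, hw, hne'⟩ := key _ _ hcd
  exact ⟨h2, h3, c, hc, d, hd, w, hw, hne'⟩

end Cfsg.Agent.Struct.HallHigman
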