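import Mathlib.RingTheory.SimpleModule.Basic
import Mathlib.RepresentationTheory.AlgebraRepresentation.Basic
import Mathlib.LinearAlgebra.GeneralLinearGroup.AlgEquiv
import Mathlib.FieldTheory.IsAlgClosed.Basic
import Mathlib.LinearAlgebra.Eigenspace.Triangularizable
import Mathlib.GroupTheory.PGroup
import Mathlib.LinearAlgebra.Semisimple
import Mathlib.LinearAlgebra.Eigenspace.Semisimple
import Mathlib.FieldTheory.Separable
import Mathlib.GroupTheory.GroupAction.Quotient
import Mathlib.Algebra.Order.Chebyshev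
import Mathlib.Tactic.Linarith

/-!
# Burnside's density theorem and projective faithful families of operators
-/

set_option autoImplicit false
set_option linter.style.haveILetI false

namespace Cfsg.Agent.Struct.HallHigman

open Module

variable {k : Type*} [Field k] {W : Type*} [AddCommGroup W] [Module k W]

/-- **Burnside**: a set of operators closed under multiplication without invariant subspaces spans
all endomorphisms over an algebraically closed field. -/
theorem span_eq_top [IsAlgClosed k] [FiniteDimensional k W] [Nontrivial W] (S : Submonoid (End k W))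
    (hirr : ∀ U : Submodule k W, (∀ s ∈ S, ∀ u ∈ U, s u ∈ U) → U = ⊥ ∨ U = ⊤) :
    Submodule.span k (S : Set (End k W)) = ⊤ := by
  let A : Subalgebra k (End k W) := Algebra.adjoin k (S : Set (End k W))
  have hA : Subalgebra.toSubmodule A = Submodule.span k (S : Set (End k W)) := by
    rw [Algebra.adjoin_eq_span, Submonoid.closure_eq]
  haveI : IsSimpleModule A W := by
    rw [isSimpleModule_iff]
    refine ⟨fun U => ?_⟩
    rcases hirr (U.restrictScalars k) (fun s hs u hu =>
      U.smul_mem (⟨s, Algebra.subset_adjoin hs⟩ : A) hu) with h | h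
    · exact Or.inl (Submodule.restrictScalars_injective k A W (h.trans (Submodule.restrictScalars_bot k A W).symm))
    · exact Or.inr (Submodule.restrictScalars_injective k A W (h.trans (Submodule.restrictScalars_top k A W).symm))
  have hend : Function.Bijective (algebraMap k (End A W)) :=
    IsSimpleModule.algebraMap_end_bijective_of_isAlgClosed k
  rw [eq_top_iff]
  intro f _
  classical
  let f' : End (End A W) W :=
    { toFun := f
      map_add' := f.map_add
      map_smul' := fun g w => by
        obtain ⟨c, rfl⟩ := hend.2 g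
        simp }
  let b := Module.finBasis k W
  obtain ⟨a, ha⟩ := jacobson_density f' (Finset.univ.image b)
  have : f = (a : End k W) := b.ext fun i => ha (b i) (Finset.mem_image_of_mem _ (Finset.mem_univ i))
  rw [this, ← hA]
  exact a.2

/-- Operators which are eigenvectors, with distinct eigenvalue characters, of a common family of
linear maps are independent. -/
theorem linearIndependent_of_eigen {M ι B : Type*} [AddCommGroup M] [Module k M] [MulOneClass B]
    (C : B → End k M) (v : ι → M) (hv : ∀ i, v i ≠ 0) (χ : ι → B →* k)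
    (hχ : Function.Injective χ) (heig : ∀ b i, C b (v i) = χ i b • v i) :
    LinearIndependent k v := by
  rw [linearIndependent_iff']
  intro s c hsum i hi
  have hfun : ∀ φ : Dual k M, ∑ j ∈ s, (c j * φ (v j)) • (χ j : B → k) = 0 := by
    intro φ
    funext b
    have := congrArg (fun m => φ (C b m)) hsum
    simp only [map_sum, map_smul, heig, map_zero, smul_eq_mul] at this
    simp only [Finset.sum_apply, Pi.smul_apply, smul_eq_mul, Pi.zero_apply]
    rw [← this]
    exact Finset.sum_congr rfl fun j _ => by ring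
  have hli := linearIndependent_iff'.1 ((linearIndependent_monoidHom B k).comp χ hχ) s
  by_contra hci
  obtain ⟨φ, hφ⟩ := Projective.exists_dual_ne_zero k (hv i)
  rcases mul_eq_zero.1 (hli _ (hfun φ) i hi) with h | h
  · exact hci h
  · exact hφ h

end Cfsg.Agent.Struct.HallHigman

namespace Cfsg.Agent.Struct.HallHigman

open Module

variable {k : Type*} [Field k] {L : Type*} [Group L]

section Basis

variable {U : Type*} [AddCommGroup U] [Module k U]

/-- The data of a projectively faithful family: `Z` acts by scalars and nondegenerate commutators. -/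
structure IsNondeg (ρ : L →* End k U) (Q Z : Subgroup L) : Prop where
  le : Z ≤ Q
  scalar : ∀ z ∈ Z, ∃ c : k, ρ z = c • (1 : End k U)
  comm : ∀ a ∈ Q, ∀ b ∈ Q, ∃ c : k, ρ (b * a * b⁻¹) = c • ρ a
  nondeg : ∀ a ∈ Q, (∀ b ∈ Q, ρ (b * a * b⁻¹) = ρ a) → a ∈ Z

theorem rho_ne_zero [Nontrivial U] (ρ : L →* End k U) (a : L) : ρ a ≠ 0 := by
  intro h
  have : (1 : End k U) = 0 := by rw [← map_one ρ, ← mul_inv_cancel a, map_mul, h, zero_mul]
  exact one_ne_zero this

/-- Any system of representatives of the cosets of `Z` in `Q` gives independent operators. -/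
theorem linearIndependent_reps [Nontrivial U] {ρ : L →* End k U} {Q Z : Subgroup L}
    (h : IsNondeg ρ Q Z) {ι : Type*} (rep : ι → Q)
    (hrep : ∀ i j, ((rep i : L))⁻¹ * rep j ∈ Z → i = j) :
    LinearIndependent k (fun i => ρ (rep i : L)) := by
  choose c hc using fun (i : ι) (b : Q) => h.comm (rep i) (rep i).2 b b.2
  have hinj : ∀ i, Function.Injective fun t : k => t • ρ (rep i : L) :=
    fun i => smul_left_injective k (rho_ne_zero ρ _)
  let χ : ι → (Q →* k) := fun i =>
    { toFun := c i
      map_one' := hinj i (by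
        show c i 1 • ρ (rep i : L) = (1 : k) • ρ (rep i : L)
        rw [← hc i 1]; simp)
      map_mul' := fun b b' => hinj i (by
        show c i (b * b') • ρ (rep i : L) = (c i b * c i b') • ρ (rep i : L)
        rw [← hc i (b * b'), Subgroup.coe_mul,
          show (b : L) * b' * rep i * ((b : L) * b')⁻¹ = b * ((b' : L) * rep i * (b' : L)⁻¹) * (b : L)⁻¹ by group,
          map_mul, map_mul, hc i b', mul_smul_comm, smul_mul_assoc, ← map_mul, ← map_mul, hc i b,
          smul_smul, mul_comm]) }
  refine linearIndependent_of_eigen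
    (C := fun b : Q => LinearMap.mulLeft k (ρ (b : L)) ∘ₗ LinearMap.mulRight k (ρ (b : L)⁻¹))
    _ (fun i => rho_ne_zero ρ _) χ ?_ ?_
  · intro i j hij
    refine hrep i j (h.nondeg _ (mul_mem (inv_mem (rep i).2) (rep j).2) fun b hb => ?_)
    have e1 := hc i ⟨b, hb⟩
    have e2 := hc j ⟨b, hb⟩
    have e3 : c i ⟨b, hb⟩ = c j ⟨b, hb⟩ := congrArg (fun f : Q →* k => f ⟨b, hb⟩) hij
    simp only at e1 e2
    have : ρ (b * (rep i : L) * b⁻¹) * ρ (b * ((rep i : L)⁻¹ * rep j) * b⁻¹) =
        ρ (b * (rep i : L) * b⁻¹) * ρ ((rep i : L)⁻¹ * rep j) := by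
      rw [← map_mul, show b * (rep i : L) * b⁻¹ * (b * ((rep i : L)⁻¹ * rep j) * b⁻¹) = b * rep j * b⁻¹ by group,
        e2, e1, smul_mul_assoc, ← map_mul, e3, mul_inv_cancel_left]
    have hu := congrArg (fun f => ρ (b * (rep i : L) * b⁻¹)⁻¹ * f) this
    simp only [← map_mul] at hu
    rwa [inv_mul_cancel_left, inv_mul_cancel_left] at hu
  · intro b i
    show ρ (b : L) * (ρ (rep i : L) * ρ (b : L)⁻¹) = c i b • ρ (rep i : L)
    rw [← map_mul, ← map_mul, ← mul_assoc, hc i b]

end Basis

theorem injective_of_eigen {W : Type*} [AddCommGroup W] [Module k W] [FiniteDimensional k W]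
    [Nontrivial W] {U : Type*} [AddCommGroup U] [Module k U] (Φ : End k W →ₐ[k] End k U)
    (E : Submodule k U) (hEΦ : ∀ g, ∀ u ∈ E, Φ g u ∈ E) (hE : E ≠ ⊥)
    (f : End k W) (hf : ∀ u ∈ E, Φ f u = 0 → u = 0) : Function.Injective f := by
  rw [injective_iff_map_eq_zero]
  intro w hw
  by_contra hw0
  have key : ∀ φ : Dual k W, ∀ u ∈ E, Φ (φ.smulRight w) u = 0 := fun φ u hu => by
    refine hf _ (hEΦ _ u hu) ?_
    rw [← End.mul_apply, ← map_mul,
      show f * φ.smulRight w = 0 by ext v; simp [hw], map_zero, LinearMap.zero_apply]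
  obtain ⟨φ, hφ⟩ := Projective.exists_dual_ne_zero k hw0
  let b := Module.finBasis k W
  have hone : (1 : End k W) =
      ∑ i, ((φ w)⁻¹ • φ).smulRight (b i) * (b.coord i).smulRight w := by
    ext v
    simp [hφ, b.sum_repr]
  refine hE ((Submodule.eq_bot_iff E).2 fun u hu => ?_)
  have := congrArg (fun g => Φ g u) hone
  simpa [map_sum, key _ u hu] using this

/-- The centraliser of a diagonalisable map, bounded through its eigenvalues. -/
theorem centralizer_dim {W : Type*} [AddCommGroup W] [Module k W] {ι : Type*} [Fintype ι]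
    [DecidableEq k] (b : Basis ι k W) (T : End k W) (ev : ι → k) (hT : ∀ i, T (b i) = ev i • b i) :
    Module.finrank k (LinearMap.ker (LinearMap.mulLeft k T - LinearMap.mulRight k T)) =
      Nat.card {p : ι × ι // ev p.1 = ev p.2} := by
  classical
  let e : End k W ≃ₗ[k] (ι × ι → k) :=
    (LinearMap.toMatrix b b).trans (LinearEquiv.curry k k ι ι).symm
  have hM : LinearMap.toMatrix b b T = Matrix.diagonal ev := by
    ext i j
    rw [LinearMap.toMatrix_apply, hT, map_smul, Basis.repr_self, Finsupp.smul_single, smul_eq_mul,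
      mul_one, Finsupp.single_apply, Matrix.diagonal_apply]
    by_cases h : i = j
    · subst h; simp
    · simp [h, Ne.symm h]
  have hmem : ∀ f : End k W, f ∈ LinearMap.ker (LinearMap.mulLeft k T - LinearMap.mulRight k T) ↔
      ∀ p : ι × ι, ev p.1 ≠ ev p.2 → e f p = 0 := by
    intro f
    rw [LinearMap.mem_ker, LinearMap.sub_apply, sub_eq_zero]
    show T * f = f * T ↔ _
    rw [← (LinearMap.toMatrix b b).injective.eq_iff, LinearMap.toMatrix_mul, LinearMap.toMatrix_mul,
      hM, ← Matrix.ext_iff]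
    simp only [Matrix.diagonal_mul, Matrix.mul_diagonal, Prod.forall]
    refine forall₂_congr fun i j => ?_
    show _ ↔ (ev i ≠ ev j → LinearMap.toMatrix b b f i j = 0)
    constructor
    · intro h hne
      have : (ev i - ev j) * LinearMap.toMatrix b b f i j = 0 := by rw [sub_mul, h]; ring
      exact (mul_eq_zero.1 this).resolve_left (sub_ne_zero.2 hne)
    · intro h
      by_cases hne : ev i = ev j
      · rw [hne, mul_comm]
      · rw [h hne]; simp
  let K := LinearMap.ker (LinearMap.mulLeft k T - LinearMap.mulRight k T)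
  let res : K →ₗ[k] ({p : ι × ι // ev p.1 = ev p.2} → k) :=
    (LinearMap.funLeft k k Subtype.val) ∘ₗ e.toLinearMap ∘ₗ K.subtype
  have hbij : Function.Bijective res := by
    constructor
    · intro f g h
      refine Subtype.ext (e.injective (funext fun p => ?_))
      by_cases hp : ev p.1 = ev p.2
      · exact congrFun h ⟨p, hp⟩
      · rw [(hmem _).1 f.2 p hp, (hmem _).1 g.2 p hp]
    · intro g
      let g' : ι × ι → k := fun p => if hp : ev p.1 = ev p.2 then g ⟨p, hp⟩ else 0
      refine ⟨⟨e.symm g', (hmem _).2 fun p hp => ?_⟩, funext fun p => ?_⟩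
      · rw [e.apply_symm_apply]; simp [g', hp]
      · show e (e.symm g') p.1 = g p
        rw [e.apply_symm_apply]; simp [g', p.2]
  rw [(LinearEquiv.ofBijective res hbij).finrank_eq, Module.finrank_pi, Nat.card_eq_fintype_card]

/-- The fixed space of a freely permuted basis. -/
theorem fixed_dim {M : Type*} [AddCommGroup M] [Module k M] {O X : Type*} [Fintype O] [Group X]
    [Fintype X] (x : X) (hx : ∀ h : X, h ∈ Subgroup.zpowers x)
    (b : Basis (Option (O × X)) k M) (θ : M →ₗ[k] M) (h0 : θ (b none) = b none)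
    (hθ : ∀ o h, θ (b (some (o, h))) = b (some (o, x * h))) :
    Module.finrank k (LinearMap.ker (θ - 1)) = Fintype.card O + 1 := by
  classical
  have hcoord : ∀ (f : M) o h, b.repr (θ f) (some (o, x * h)) = b.repr f (some (o, h)) := by
    intro f o h
    have : (b.coord (some (o, x * h))) ∘ₗ θ = b.coord (some (o, h)) := by
      refine b.ext fun i => ?_
      rcases i with _ | ⟨o', h'⟩
      · simp [h0]
      · simp [hθ, Finsupp.single_apply]
    exact LinearMap.congr_fun this f
  let K := LinearMap.ker (θ - 1)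
  let res : K →ₗ[k] (Option O → k) :=
    LinearMap.pi fun o => (b.coord (o.map fun o => (o, (1 : X)))) ∘ₗ K.subtype
  have hfix : ∀ f : K, θ (f : M) = f := fun f => sub_eq_zero.1 f.2
  have hconst : ∀ (f : K) o h, b.repr (f : M) (some (o, h)) = b.repr (f : M) (some (o, 1)) := by
    intro f o
    have step : ∀ h, b.repr (f : M) (some (o, x * h)) = b.repr (f : M) (some (o, h)) := fun h => by
      conv_lhs => rw [← hfix f]
      exact hcoord _ o h
    intro h
    obtain ⟨n, rfl⟩ := (isOfFinOrder_of_finite x).mem_zpowers_iff_mem_range_orderOf.1 (hx h) |>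
      fun hh => (Finset.mem_image.1 hh).imp fun n hn => hn.2
    induction n with
    | zero => simp
    | succ n ih => rw [pow_succ', step, ih]
  have hbij : Function.Bijective res := by
    constructor
    · intro f g h
      refine Subtype.ext (b.repr.injective (Finsupp.ext fun i => ?_))
      rcases i with _ | ⟨o, e⟩
      · exact congrFun h none
      · rw [hconst f, hconst g]; exact congrFun h (some o)
    · intro g
      let c : Option (O × X) → k := fun i => g (i.map Prod.fst)
      let f := b.equivFun.symm c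
      have hfr : ∀ i, b.repr f i = c i := fun i => by
        show b.equivFun (b.equivFun.symm c) i = c i
        rw [b.equivFun.apply_symm_apply]
      refine ⟨⟨f, ?_⟩, funext fun o => ?_⟩
      · refine LinearMap.mem_ker.2 (sub_eq_zero.2 (b.repr.injective (Finsupp.ext fun i => ?_)))
        show b.repr (θ f) i = b.repr f i
        rcases i with _ | ⟨o, e⟩
        · have : (b.coord none) ∘ₗ θ = b.coord none := by
            refine b.ext fun i => ?_
            rcases i with _ | ⟨o', h'⟩
            · simp [h0]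
            · simp [hθ]
          exact LinearMap.congr_fun this f
        · have := hcoord f o (x⁻¹ * e)
          rw [mul_inv_cancel_left] at this
          rw [this, hfr, hfr]
          rfl
      · show b.repr f (o.map fun o => (o, (1 : X))) = g o
        rw [hfr]
        rcases o with _ | o <;> rfl
  rw [(LinearEquiv.ofBijective res hbij).finrank_eq, Module.finrank_pi, Fintype.card_option]

end Cfsg.Agent.Struct.HallHigman

namespace Cfsg.Agent.Struct.HallHigman

open Module

variable {k : Type*} [Field k] [IsAlgClosed k]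

theorem exists_eigenBasis {W : Type*} [AddCommGroup W] [Module k W] [FiniteDimensional k W]
    (T : End k W) {r : ℕ} (hrk : (r : k) ≠ 0) (hT : T ^ r = 1) :
    ∃ (n : ℕ) (b : Basis (Fin n) k W) (ev : Fin n → k), ∀ i, T (b i) = ev i • b i := by
  classical
  have hss : T.IsSemisimple := by
    refine Module.End.isSemisimple_of_squarefree_aeval_eq_zero (p := Polynomial.X ^ r - Polynomial.C 1)
      ((Polynomial.separable_X_pow_sub_C (1 : k) hrk one_ne_zero).squarefree) ?_
    simp [hT]
  have hint : DirectSum.IsInternal (fun μ => T.eigenspace μ) :=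
    DirectSum.isInternal_submodule_of_iSupIndep_of_iSup_eq_top T.eigenspaces_iSupIndep
      hss.iSup_eigenspace_eq_top
  let b0 := hint.collectedBasis fun μ => Module.finBasis k (T.eigenspace μ)
  haveI := FiniteDimensional.fintypeBasisIndex b0
  let e := Fintype.equivFin (Σ μ : k, Fin (Module.finrank k (T.eigenspace μ)))
  refine ⟨_, b0.reindex e, fun i => (e.symm i).1, fun i => ?_⟩
  rw [Basis.reindex_apply]
  exact Module.End.mem_eigenspace_iff.1 (hint.collectedBasis_mem _ (e.symm i))

variable {L : Type*} [Group L]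

/-- **Hall–Higman for prime order, the extraspecial case.** If `x` of prime order `r` has no fixed
vector and acts fixed point freely on the faithful symplectic family `Q/Z`, then `|Q : Z| = D²` with
`r = D + 1`. -/
theorem core [Finite L] {U : Type*} [AddCommGroup U] [Module k U] [FiniteDimensional k U]
    [Nontrivial U] {ρ : L →* End k U} {Q Z : Subgroup L} (h : IsNondeg ρ Q Z) (hQZ : ¬ Q ≤ Z)
    {x : L} {r : ℕ} (hr : r.Prime) (hx : x ^ r = 1) (hrk : (r : k) ≠ 0)
    (hxQ : ∀ a ∈ Q, x * a * x⁻¹ ∈ Q) (hxZ : ∀ z ∈ Z, x * z * x⁻¹ ∈ Z)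
    (hfpf : ∀ a ∈ Q, a⁻¹ * (x * a * x⁻¹) ∈ Z → a ∈ Z)
    (hfix : ∀ u : U, ρ x u = u → u = 0) :
    ∃ D : ℕ, Z.relIndex Q = D ^ 2 ∧ r = D + 1 := by
  classical
  haveI := Fintype.ofFinite L
  haveI := Fact.mk hr
  have hx1 : x ≠ 1 := by
    intro e
    obtain ⟨u, hu⟩ := exists_ne (0 : U)
    exact hu (hfix u (by rw [e, map_one]; rfl))
  have hxo : orderOf x = r := orderOf_eq_prime hx hx1
  -- a simple `Q`-invariant subspace
  have hex : ∃ n, ∃ W : Submodule k U, W ≠ ⊥ ∧ (∀ a ∈ Q, ∀ w ∈ W, ρ a w ∈ W) ∧ finrank k W = n :=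
    ⟨_, ⊤, top_ne_bot, fun _ _ _ _ => Submodule.mem_top, rfl⟩
  obtain ⟨W, hW0, hWinv, hWn⟩ := Nat.find_spec hex
  haveI : Nontrivial W := Submodule.nontrivial_iff_ne_bot.2 hW0
  let σ : Q →* End k W :=
    { toFun := fun a => (ρ (a : L)).restrict (hWinv a a.2)
      map_one' := by ext w; simp
      map_mul' := fun a b => by ext w; simp }
  have hσ : ∀ (a : Q) (c : k) (b : Q), ρ (a : L) = c • ρ (b : L) → σ a = c • σ b := fun a c b e =>
    LinearMap.ext fun w => Subtype.ext (LinearMap.congr_fun e (w : U))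
  have hσspan : Submodule.span k (Set.range σ) = ⊤ := by
    rw [← MonoidHom.coe_mrange]
    refine span_eq_top _ fun V hV => ?_
    by_cases hV0 : V = ⊥
    · exact Or.inl hV0
    refine Or.inr (Submodule.eq_top_of_finrank_eq ?_)
    refine le_antisymm (Submodule.finrank_le V) ?_
    rw [hWn, ← (Submodule.equivMapOfInjective W.subtype W.injective_subtype V).symm.finrank_eq]
    refine Nat.find_le ⟨V.map W.subtype, ?_, ?_, rfl⟩
    · exact fun e => hV0 (Submodule.map_injective_of_injective W.injective_subtype (by simpa using e))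
    · rintro a ha _ ⟨v, hv, rfl⟩
      exact ⟨σ ⟨a, ha⟩ v, hV (σ ⟨a, ha⟩) ⟨⟨a, ha⟩, rfl⟩ v hv, rfl⟩
  have hnd : IsNondeg σ ⊤ (Z.subgroupOf Q) := by
    refine ⟨le_top, fun z hz => ?_, fun a _ b _ => ?_, fun a _ hab => ?_⟩
    · obtain ⟨c, hc⟩ := h.scalar z hz
      refine ⟨c, ?_⟩
      rw [← map_one σ]
      exact hσ z c 1 (by rw [OneMemClass.coe_one, map_one]; exact hc)
    · obtain ⟨c, hc⟩ := h.comm a a.2 b b.2
      exact ⟨c, hσ _ c a (by simpa using hc)⟩
    · refine h.nondeg a a.2 fun b hb => ?_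
      obtain ⟨c, hc⟩ := h.comm a a.2 b hb
      have h2 := hσ (⟨b, hb⟩ * a * ⟨b, hb⟩⁻¹) c a (by simpa using hc)
      rw [hab ⟨b, hb⟩ trivial] at h2
      have h3 : (1 : k) = c := smul_left_injective k (rho_ne_zero σ a) (by simpa using h2)
      rw [hc, ← h3, one_smul]
  -- cosets and the action of `x`
  let X : Subgroup L := Subgroup.zpowers x
  let Z' : Subgroup Q := Z.subgroupOf Q
  have hXmem : ∀ g : X, (∀ a ∈ Q, (g : L) * a * (g : L)⁻¹ ∈ Q) ∧
      (∀ z ∈ Z, (g : L) * z * (g : L)⁻¹ ∈ Z) := by
    rintro ⟨g, hg⟩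
    obtain ⟨n, -, rfl⟩ := Finset.mem_image.1 ((isOfFinOrder_of_finite x).mem_zpowers_iff_mem_range_orderOf.1 hg)
    show (∀ a ∈ Q, x ^ n * a * (x ^ n)⁻¹ ∈ Q) ∧ ∀ z ∈ Z, x ^ n * z * (x ^ n)⁻¹ ∈ Z
    clear hg
    induction n with
    | zero => exact ⟨fun a ha => by simpa using ha, fun a ha => by simpa using ha⟩
    | succ n ih =>
      refine ⟨fun a ha => ?_, fun a ha => ?_⟩
      · show x ^ (n + 1) * a * (x ^ (n + 1))⁻¹ ∈ Q
        rw [show x ^ (n + 1) * a * (x ^ (n + 1))⁻¹ = x * (x ^ n * a * (x ^ n)⁻¹) * x⁻¹ by rw [pow_succ']; group]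
        exact hxQ _ (ih.1 a ha)
      · show x ^ (n + 1) * a * (x ^ (n + 1))⁻¹ ∈ Z
        rw [show x ^ (n + 1) * a * (x ^ (n + 1))⁻¹ = x * (x ^ n * a * (x ^ n)⁻¹) * x⁻¹ by rw [pow_succ']; group]
        exact hxZ _ (ih.2 a ha)
  let cj : X → Q → Q := fun g a => ⟨(g : L) * a * (g : L)⁻¹, (hXmem g).1 a a.2⟩
  have hcj1 : ∀ a, cj 1 a = a := fun a => Subtype.ext (by simp [cj])
  have hcjm : ∀ g g' a, cj (g * g') a = cj g (cj g' a) := fun g g' a => Subtype.ext (by simp [cj, mul_assoc])
  have hwd : ∀ g a b, a⁻¹ * b ∈ Z' → (cj g a)⁻¹ * cj g b ∈ Z' := fun g a b hab => by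
    show ((g : L) * a * (g : L)⁻¹)⁻¹ * ((g : L) * b * (g : L)⁻¹) ∈ Z
    rw [show ((g : L) * a * (g : L)⁻¹)⁻¹ * ((g : L) * b * (g : L)⁻¹) =
      (g : L) * ((a : L)⁻¹ * b) * (g : L)⁻¹ by group]
    exact (hXmem g).2 _ hab
  let i0 : Q ⧸ Z' := QuotientGroup.mk 1
  letI act : MulAction X (Q ⧸ Z') :=
    { smul := fun g => Quotient.map' (cj g) fun a b hab =>
        QuotientGroup.leftRel_apply.2 (hwd g a b (QuotientGroup.leftRel_apply.1 hab))
      one_smul := fun q => by
        induction q using QuotientGroup.induction_on with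
        | _ a => exact congrArg QuotientGroup.mk (hcj1 a)
      mul_smul := fun g g' q => by
        induction q using QuotientGroup.induction_on with
        | _ a => exact congrArg QuotientGroup.mk (hcjm g g' a) }
  have hsmul : ∀ (g : X) (a : Q), g • (QuotientGroup.mk a : Q ⧸ Z') = QuotientGroup.mk (cj g a) :=
    fun _ _ => rfl
  have hi0 : ∀ g : X, g • i0 = i0 := fun g => by
    rw [hsmul]; exact congrArg QuotientGroup.mk (Subtype.ext (by simp [cj]))
  let xX : X := ⟨x, Subgroup.mem_zpowers x⟩
  have hgen : ∀ g : X, g ∈ Subgroup.zpowers xX := fun g => by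
    obtain ⟨n, hn⟩ := Subgroup.mem_zpowers_iff.1 g.2
    exact Subgroup.mem_zpowers_iff.2 ⟨n, Subtype.ext (by simpa using hn)⟩
  have hfree : ∀ (g : X) (q : Q ⧸ Z'), g • q = q → g ≠ 1 → q = i0 := by
    intro g q hgq hg1
    have hcardX : Nat.card X = r := by rw [Nat.card_zpowers, hxo]
    have htop : Subgroup.zpowers g = ⊤ := by
      haveI : Fact r.Prime := ⟨hr⟩
      exact zpowers_eq_top_of_prime_card hcardX hg1
    have hx' : xX • q = q := by
      have hle : Subgroup.zpowers g ≤ MulAction.stabilizer X q := Subgroup.zpowers_le.2 hgq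
      exact hle (htop ▸ Subgroup.mem_top _)
    induction q using QuotientGroup.induction_on with
    | _ a =>
      rw [hsmul, QuotientGroup.eq] at hx'
      refine QuotientGroup.eq.2 ?_
      have hx'' := inv_mem hx'
      rw [mul_inv_rev, inv_inv] at hx''
      have : (a : L) ∈ Z := hfpf a a.2 hx''
      simpa [Z', Subgroup.mem_subgroupOf] using inv_mem this
  let ι' := {q : Q ⧸ Z' // q ≠ i0}
  letI act' : MulAction X ι' :=
    { smul := fun g q => ⟨g • q.1, fun e => q.2 (by rw [← inv_smul_smul g q.1, e, hi0])⟩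
      one_smul := fun q => Subtype.ext (one_smul X q.1)
      mul_smul := fun g g' q => Subtype.ext (mul_smul g g' q.1) }
  let O := MulAction.orbitRel.Quotient X ι'
  haveI : Fintype O := Fintype.ofFinite O
  haveI : Fintype X := Fintype.ofFinite X
  let rep : Option (O × X) → Q := fun i => i.elim 1 fun p => cj p.2 (p.1.out : ι').1.out
  let cls : Option (O × X) → Q ⧸ Z' := fun i => QuotientGroup.mk (rep i)
  have hclsS : ∀ o g, cls (some (o, g)) = (g • (o.out : ι')).1 := fun o g => by
    show QuotientGroup.mk (cj g (o.out : ι').1.out) = g • (o.out : ι').1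
    rw [← hsmul, QuotientGroup.out_eq']
  have hcls : Function.Bijective cls := by
    constructor
    · rintro (_ | ⟨o, g⟩) (_ | ⟨o', g'⟩) e
      · rfl
      · rw [hclsS] at e; exact absurd e.symm (g' • (o'.out : ι')).2
      · rw [hclsS] at e; exact absurd e (g • (o.out : ι')).2
      · rw [hclsS, hclsS] at e
        have e : g • (o.out : ι') = g' • (o'.out : ι') := Subtype.ext e
        have ho : o = o' := by
          have e' : (o.out : ι') = (g⁻¹ * g') • (o'.out : ι') := by
            rw [mul_smul, ← e, inv_smul_smul]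
          have h2 : (MulAction.orbitRel X ι') o.out o'.out := ⟨g⁻¹ * g', e'.symm⟩
          have := Quotient.sound (s := MulAction.orbitRel X ι') h2
          rwa [Quotient.out_eq, Quotient.out_eq] at this
        subst ho
        by_cases hg : g'⁻¹ * g = 1
        · rw [inv_mul_eq_one.1 hg]
        · exact absurd (hfree _ _ (congrArg Subtype.val (show (g'⁻¹ * g) • (o.out : ι') = o.out by
            rw [mul_smul, e, inv_smul_smul])) hg) (o.out : ι').2
    · intro q
      by_cases hq : q = i0
      · exact ⟨none, hq.symm⟩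
      · let o : O := Quotient.mk'' ⟨q, hq⟩
        obtain ⟨g, hg⟩ : ∃ g : X, g • (o.out : ι') = ⟨q, hq⟩ := by
          have : (MulAction.orbitRel X ι') ⟨q, hq⟩ o.out := Quotient.exact' (Quotient.out_eq' o).symm
          exact this
        exact ⟨some (o, g), by rw [hclsS, hg]⟩
  have hrep : ∀ i j, ((rep i))⁻¹ * rep j ∈ Z' → i = j := fun i j hij => hcls.1 (QuotientGroup.eq.2 hij)
  have hdec : ∀ a : Q, ∃ i, ∃ z : Q, (z : L) ∈ Z ∧ a = rep i * z := fun a => by
    obtain ⟨i, hi⟩ := hcls.2 (QuotientGroup.mk a)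
    exact ⟨i, (rep i)⁻¹ * a, (QuotientGroup.eq (s := Z')).1 hi, by group⟩
  have hscal : ∀ (a : Q) i (z : Q), (z : L) ∈ Z → a = rep i * z →
      ∃ c : k, ρ (a : L) = c • ρ (rep i : L) ∧ ρ (x * a * x⁻¹) = c • ρ (x * (rep i : L) * x⁻¹) := by
    intro a i z hz ha
    obtain ⟨c, hc⟩ := h.scalar z hz
    refine ⟨c, by rw [ha, Subgroup.coe_mul, map_mul, hc, mul_smul_comm, mul_one], ?_⟩
    rw [ha, Subgroup.coe_mul, show x * ((rep i : L) * z) * x⁻¹ = x * (rep i : L) * (z : L) * x⁻¹ by group,
      map_mul, map_mul _ _ (z : L), hc, mul_smul_comm, mul_one, smul_mul_assoc, ← map_mul]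
  -- bases
  have hliW : LinearIndependent k (fun i => σ (rep i)) :=
    linearIndependent_reps hnd (fun i => (⟨rep i, trivial⟩ : (⊤ : Subgroup Q))) hrep
  have hspW : ⊤ ≤ Submodule.span k (Set.range fun i => σ (rep i)) := by
    rw [← hσspan, Submodule.span_le]
    rintro _ ⟨a, rfl⟩
    obtain ⟨i, z, hz, ha⟩ := hdec a
    obtain ⟨c, hc, -⟩ := hscal a i z hz ha
    rw [hσ a c (rep i) hc]
    exact Submodule.smul_mem _ _ (Submodule.subset_span ⟨i, rfl⟩)
  let bW := Basis.mk hliW hspW
  have hbW : ∀ i, bW i = σ (rep i) := fun i => Basis.mk_apply hliW hspW i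
  let Φl : End k W →ₗ[k] End k U := bW.constr k fun i => ρ (rep i : L)
  have hΦσ : ∀ a : Q, Φl (σ a) = ρ (a : L) := fun a => by
    obtain ⟨i, z, hz, ha⟩ := hdec a
    obtain ⟨c, hc, -⟩ := hscal a i z hz ha
    rw [hσ a c (rep i) hc, map_smul, hc, ← hbW, Basis.constr_basis]
  have hΦ1 : Φl 1 = 1 := by rw [← map_one σ, hΦσ]; simp
  have hΦmul : ∀ f g, Φl (f * g) = Φl f * Φl g := by
    intro f g
    have : Φl ∘ₗ LinearMap.mulLeft k f = LinearMap.mulLeft k (Φl f) ∘ₗ Φl := by
      refine bW.ext fun j => ?_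
      show Φl (f * bW j) = Φl f * Φl (bW j)
      have : Φl ∘ₗ LinearMap.mulRight k (bW j) = LinearMap.mulRight k (Φl (bW j)) ∘ₗ Φl := by
        refine bW.ext fun i => ?_
        show Φl (bW i * bW j) = Φl (bW i) * Φl (bW j)
        rw [hbW, hbW, ← map_mul, hΦσ, hΦσ, hΦσ, Subgroup.coe_mul, map_mul]
      exact LinearMap.congr_fun this f
    exact LinearMap.congr_fun this g
  let Φ : End k W →ₐ[k] End k U := AlgHom.ofLinearMap Φl hΦ1 hΦmul
  let θl : End k W →ₗ[k] End k W := bW.constr k fun i => σ (cj xX (rep i))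
  have hθσ : ∀ a : Q, θl (σ a) = σ (cj xX a) := fun a => by
    obtain ⟨i, z, hz, ha⟩ := hdec a
    obtain ⟨c, hc, hc'⟩ := hscal a i z hz ha
    rw [hσ a c (rep i) hc, map_smul, ← hbW, Basis.constr_basis]
    exact (hσ (cj xX a) c (cj xX (rep i)) hc').symm
  have hθ1 : θl 1 = 1 := by
    rw [← map_one σ, hθσ, show cj xX 1 = 1 from Subtype.ext (by simp [cj])]
  have hθmul : ∀ f g, θl (f * g) = θl f * θl g := by
    intro f g
    have : θl ∘ₗ LinearMap.mulLeft k f = LinearMap.mulLeft k (θl f) ∘ₗ θl := by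
      refine bW.ext fun j => ?_
      show θl (f * bW j) = θl f * θl (bW j)
      have : θl ∘ₗ LinearMap.mulRight k (bW j) = LinearMap.mulRight k (θl (bW j)) ∘ₗ θl := by
        refine bW.ext fun i => ?_
        show θl (bW i * bW j) = θl (bW i) * θl (bW j)
        rw [hbW, hbW, ← map_mul, hθσ, hθσ, hθσ,
          show cj xX (rep i * rep j) = cj xX (rep i) * cj xX (rep j) from Subtype.ext (by simp [cj, mul_assoc]),
          map_mul]
      exact LinearMap.congr_fun this f
    exact LinearMap.congr_fun this g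
  have hθit : ∀ (n : ℕ) (a : Q), (θl ^ n) (σ a) = σ (cj (xX ^ n) a) := by
    intro n
    induction n with
    | zero => intro a; rw [pow_zero, pow_zero, hcj1]; rfl
    | succ n ih => intro a; rw [pow_succ', End.mul_apply, ih, hθσ, ← hcjm, ← pow_succ']
  have hθr : θl ^ r = 1 := bW.ext fun i => by
    rw [hbW, hθit, show xX ^ r = 1 from Subtype.ext (by simpa using hx), hcj1]; rfl
  have hθbij : Function.Bijective θl := by
    obtain ⟨r', hr'⟩ := Nat.exists_eq_succ_of_ne_zero hr.ne_zero
    refine ⟨fun a b e => ?_, fun a => ⟨(θl ^ r') a, ?_⟩⟩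
    · have := congrArg (θl ^ r') e
      rwa [← End.mul_apply, ← End.mul_apply, ← pow_succ, ← Nat.succ_eq_add_one, ← hr', hθr] at this
    · rw [← End.mul_apply, ← pow_succ', ← Nat.succ_eq_add_one, ← hr', hθr]; rfl
  let θ : End k W ≃ₐ[k] End k W := AlgEquiv.ofBijective (AlgHom.ofLinearMap θl hθ1 hθmul) hθbij
  obtain ⟨T0, hT0⟩ := θ.eq_linearEquivConjAlgEquiv
  let t : End k W := T0.toLinearMap
  have ht : ∀ f, θl f * t = t * f := fun f => by
    have := AlgEquiv.congr_fun hT0 f
    show θ f * t = t * f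
    rw [this]
    ext w
    simp [t, LinearEquiv.conjAlgEquiv_apply]
  have htn : ∀ (n : ℕ) f, (θl ^ n) f * t ^ n = t ^ n * f := by
    intro n
    induction n with
    | zero => intro f; simp
    | succ n ih =>
      intro f
      rw [pow_succ' θl, End.mul_apply, pow_succ' t, ← mul_assoc, ht, mul_assoc, ih, mul_assoc]
  obtain ⟨v0, hv0⟩ := exists_ne (0 : W)
  obtain ⟨φ, hφ⟩ := Projective.exists_dual_ne_zero k hv0
  obtain ⟨c, hc⟩ : ∃ c : k, t ^ r = c • (1 : End k W) := by
    refine ⟨(φ v0)⁻¹ * φ ((t ^ r) v0), LinearMap.ext fun w => ?_⟩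
    have := LinearMap.congr_fun (htn r (((φ v0)⁻¹ • φ).smulRight w)) v0
    simp [hθr, hφ] at this
    simpa [mul_smul] using this.symm
  have hc0 : c ≠ 0 := by
    intro e
    rw [e, zero_smul] at hc
    have hinj : Function.Injective (t ^ r) := by
      rw [Module.End.coe_pow]; exact T0.injective.iterate r
    exact hv0 (hinj (by rw [hc]; simp))
  obtain ⟨d, hd⟩ := IsAlgClosed.exists_pow_nat_eq c hr.pos
  have hd0 : d ≠ 0 := fun e => hc0 (by rw [← hd, e, zero_pow hr.ne_zero])
  let T : End k W := d⁻¹ • t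
  have hTr : T ^ r = 1 := by
    rw [smul_pow, hc, smul_smul, inv_pow, hd, inv_mul_cancel₀ hc0, one_smul]
  have hθT : ∀ f, θl f * T = T * f := fun f => by
    simp only [T, mul_smul_comm, smul_mul_assoc, ht]
  obtain ⟨r', hr'⟩ := Nat.exists_eq_succ_of_ne_zero hr.ne_zero
  have hTinv : T * T ^ r' = 1 := by rw [← pow_succ', ← Nat.succ_eq_add_one, ← hr', hTr]
  have hTinv' : T ^ r' * T = 1 := by rw [← pow_succ, ← Nat.succ_eq_add_one, ← hr', hTr]
  have hθTT : θl T = T := by
    calc θl T = θl T * T * T ^ r' := by rw [mul_assoc, hTinv, mul_one]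
      _ = T := by rw [hθT, mul_assoc, hTinv, mul_one]
  have hxΦ : ∀ f, ρ x * Φ f = Φ (θl f) * ρ x := by
    intro f
    have : LinearMap.mulLeft k (ρ x) ∘ₗ Φl = LinearMap.mulRight k (ρ x) ∘ₗ Φl ∘ₗ θl := by
      refine bW.ext fun i => ?_
      show ρ x * Φl (bW i) = Φl (θl (bW i)) * ρ x
      rw [hbW, hΦσ, hθσ, hΦσ, ← map_mul, ← map_mul]
      congr 1
      show x * (rep i : L) = x * (rep i : L) * x⁻¹ * x
      rw [inv_mul_cancel_right]
    exact LinearMap.congr_fun this f
  let S : End k U := Φ (T ^ r') * ρ x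
  have hScomm : ∀ f, S * Φ f = Φ f * S := fun f => by
    show Φ (T ^ r') * ρ x * Φ f = Φ f * (Φ (T ^ r') * ρ x)
    rw [mul_assoc, hxΦ, ← mul_assoc, ← map_mul, ← mul_assoc, ← map_mul]
    congr 2
    calc T ^ r' * θl f = T ^ r' * (θl f * T) * T ^ r' := by rw [mul_assoc, mul_assoc, hTinv, mul_one]
      _ = f * T ^ r' := by rw [hθT, ← mul_assoc, hTinv', one_mul]
  have hxT : Commute (ρ x) (Φ (T ^ r')) := by
    have h1 : Commute (ρ x) (Φ T) := by
      show ρ x * Φ T = Φ T * ρ x
      rw [hxΦ, hθTT]
    rw [map_pow]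
    exact h1.pow_right r'
  have hSr : S ^ r = 1 := by
    rw [show S = Φ (T ^ r') * ρ x from rfl, hxT.symm.mul_pow, ← map_pow, ← map_pow, hx, map_one,
      mul_one, ← pow_mul, mul_comm, pow_mul, hTr, one_pow, map_one]
  obtain ⟨s, hs⟩ := Module.End.exists_eigenvalue S
  have hsr : s ^ r = 1 := by
    obtain ⟨u, hu⟩ := hs.exists_hasEigenvector
    have hn : ∀ n : ℕ, (S ^ n) u = s ^ n • u := fun n => by
      induction n with
      | zero => simp
      | succ n ih =>
        rw [pow_succ', End.mul_apply, ih, map_smul, hu.apply_eq_smul, smul_smul, ← pow_succ]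
    have := hn r
    rw [hSr] at this
    exact smul_left_injective k hu.2 (by simpa using this.symm)
  have hinj : Function.Injective (s • T - 1 : End k W) := by
    refine injective_of_eigen Φ (S.eigenspace s) (fun g u hu => ?_) hs _ fun u hu h0 => ?_
    · rw [Module.End.mem_eigenspace_iff] at hu ⊢
      rw [← End.mul_apply, hScomm, End.mul_apply, hu, map_smul]
    · rw [Module.End.mem_eigenspace_iff] at hu
      refine hfix u ?_
      have h1 : Φ T * S = ρ x := by
        show Φ T * (Φ (T ^ r') * ρ x) = ρ x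
        rw [← mul_assoc, ← map_mul, hTinv, map_one, one_mul]
      rw [map_sub, map_smul, map_one, LinearMap.sub_apply, LinearMap.smul_apply, End.one_apply,
        sub_eq_zero] at h0
      rw [← h1, End.mul_apply, hu, map_smul]
      exact h0
  obtain ⟨n, b, ev, hev⟩ := exists_eigenBasis T hrk hTr
  have hevr : ∀ i, ev i ^ r = 1 := fun i => by
    have hn : ∀ m : ℕ, (T ^ m) (b i) = ev i ^ m • b i := fun m => by
      induction m with
      | zero => simp
      | succ m ih => rw [pow_succ', End.mul_apply, ih, map_smul, hev, smul_smul, ← pow_succ]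
    have := hn r
    rw [hTr] at this
    exact smul_left_injective k (b.ne_zero i) (by simpa using this.symm)
  have hevs : ∀ i, s * ev i ≠ 1 := fun i e => b.ne_zero i (hinj (by simp [hev, smul_smul, e]))
  -- dimensions
  have hW2 : n * n = Fintype.card O * r + 1 := by
    have h1 := Module.finrank_eq_card_basis bW
    rw [Module.finrank_linearMap, Module.finrank_eq_card_basis b, Fintype.card_fin,
      Fintype.card_option, Fintype.card_prod,
      show Fintype.card X = r by rw [← Nat.card_eq_fintype_card, Nat.card_zpowers, hxo]] at h1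
    exact h1
  have hfd := fixed_dim (k := k) xX hgen bW θl (by
      rw [hbW, hθσ]
      exact congrArg σ (Subtype.ext (by simp [cj, rep])))
    fun o g => by
      rw [hbW, hbW, hθσ]
      exact congrArg σ (hcjm xX g _).symm
  have hker : LinearMap.ker (θl - 1) = LinearMap.ker (LinearMap.mulLeft k T - LinearMap.mulRight k T) := by
    ext f
    simp only [LinearMap.mem_ker, LinearMap.sub_apply, sub_eq_zero]
    show θl f = f ↔ T * f = f * T
    constructor
    · intro e; rw [← hθT, e]
    · intro e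
      calc θl f = θl f * T * T ^ r' := by rw [mul_assoc, hTinv, mul_one]
        _ = f := by rw [hθT, e, mul_assoc, hTinv, mul_one]
  rw [hker, centralizer_dim b T ev hev, Nat.card_eq_fintype_card, Fintype.card_subtype] at hfd
  -- counting eigenvalue coincidences
  let m : k → ℕ := fun a => (Finset.univ.filter fun i => ev i = a).card
  let vals := Finset.univ.image ev
  have hsum : n = ∑ a ∈ vals, m a := by
    rw [← Finset.card_eq_sum_card_image]; simp
  have hsq : ∑ a ∈ vals, m a ^ 2 = Fintype.card O + 1 := by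
    rw [← hfd, Finset.card_eq_sum_card_fiberwise (f := fun p : Fin n × Fin n => ev p.1) (t := vals)
      (fun p _ => Finset.mem_image_of_mem _ (Finset.mem_univ _))]
    refine Finset.sum_congr rfl fun a _ => ?_
    rw [sq, ← Finset.card_product]
    congr 1
    ext ⟨i, j⟩
    simp only [Finset.mem_filter, Finset.mem_univ, true_and, Finset.mem_product]
    exact ⟨fun ⟨h1, h2⟩ => ⟨h1.trans h2.symm, h1⟩, fun ⟨h1, h2⟩ => ⟨h2, h1 ▸ h2⟩⟩
  have hs0 : s ≠ 0 := fun e => by rw [e, zero_pow hr.ne_zero] at hsr; exact zero_ne_one hsr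
  have hvals : vals.card ≤ r - 1 := by
    have hsub : vals ⊆ (Polynomial.nthRootsFinset r (1 : k)).erase s⁻¹ := by
      intro a ha
      obtain ⟨i, -, rfl⟩ := Finset.mem_image.1 ha
      refine Finset.mem_erase.2 ⟨fun e => hevs i (by rw [e, mul_inv_cancel₀ hs0]), ?_⟩
      rw [Polynomial.mem_nthRootsFinset hr.pos]
      exact hevr i
    refine le_trans (Finset.card_le_card hsub) ?_
    rw [Finset.card_erase_of_mem (by rw [Polynomial.mem_nthRootsFinset hr.pos, inv_pow, hsr, inv_one])]
    refine Nat.sub_le_sub_right ?_ 1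
    rw [Polynomial.nthRootsFinset_def]
    exact le_trans (Multiset.toFinset_card_le _) (Polynomial.card_nthRoots r 1)
  have hCS : n * n ≤ (r - 1) * (Fintype.card O + 1) := by
    rw [← hsq, hsum, ← sq]
    refine le_trans sq_sum_le_card_mul_sum_sq ?_
    exact Nat.mul_le_mul_right _ hvals
  have hge : n ≤ Fintype.card O + 1 := by
    rw [← hsq, hsum]
    exact Finset.sum_le_sum fun a _ => Nat.le_self_pow two_ne_zero _
  have hidx : Z.relIndex Q = n * n := by
    rw [hW2, show Z.relIndex Q = Nat.card (Q ⧸ Z') from rfl,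
      ← Nat.card_eq_of_bijective cls hcls, Nat.card_eq_fintype_card, Fintype.card_option, Fintype.card_prod,
      show Fintype.card X = r by rw [← Nat.card_eq_fintype_card, Nat.card_zpowers, hxo]]
  refine ⟨n, by rw [hidx, sq], ?_⟩
  have hn1 : n ≠ 1 := fun e => hQZ (Subgroup.relIndex_eq_one.1 (by rw [hidx, e]))
  obtain ⟨ρ', hρ'⟩ : ∃ r₁, r = r₁ + 1 := ⟨r', hr'⟩
  subst hρ'
  simp only [Nat.add_sub_cancel] at hCS
  have hn0 : 0 < n := Nat.pos_of_ne_zero fun e => by rw [e] at hW2; simp at hW2
  have h1 : n ≤ ρ' := by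
    refine Nat.mul_self_le_mul_self_iff.1 ?_
    nlinarith
  have h2 : ρ' ≤ n := by
    by_contra hlt
    push Not at hlt
    have h3 : 2 ≤ n := by omega
    nlinarith [Nat.mul_le_mul hge (le_refl (ρ' + 1))]
  omega

end Cfsg.Agent.Struct.HallHigman
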