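import Mathlib
import Cfsg.Agent.Lib.Solv.Basic

/-!
Elements inverted by conjugation.
-/

set_option autoImplicit false

namespace Cfsg.Agent.Struct.Inverted

open Subgroup

variable {G : Type*} [Group G]

/-- If `g` normalizes `C`, some odd power of `g` or `g²` lies in it, and the relative index is odd, then `g ∈ C`. -/
theorem mem_of_sq_mem [Finite G] {C : Subgroup G} {g : G} (hg : g ∈ normalizer (C : Set G))
    (h2 : g ^ 2 ∈ C) (hodd : ¬ 2 ∣ C.relIndex (C ⊔ zpowers g)) : g ∈ C := by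
  have hn : C ⊔ zpowers g ≤ normalizer (C : Set G) := sup_le le_normalizer (zpowers_le.2 hg)
  haveI : (C.subgroupOf (C ⊔ zpowers g)).Normal := normal_subgroupOf_of_le_normalizer hn
  have hgm : g ∈ C ⊔ zpowers g := mem_sup_right (mem_zpowers g)
  have h := pow_index_mem (C.subgroupOf (C ⊔ zpowers g)) (⟨g, hgm⟩ : ↥(C ⊔ zpowers g))
  rw [mem_subgroupOf] at h
  obtain ⟨k, hk⟩ : ∃ k, C.relIndex (C ⊔ zpowers g) = 2 * k + 1 :=
    ⟨C.relIndex (C ⊔ zpowers g) / 2, by omega⟩
  have h' : g ^ (2 * k + 1) ∈ C := hk ▸ h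
  rw [pow_succ, pow_mul] at h'
  exact (mul_mem_cancel_left (C.pow_mem h2 k)).1 h'

/-- An element centralizing a Sylow 2-subgroup which is conjugate to its inverse squares to one. -/
theorem sq_eq_one [Finite G] (S : Sylow 2 G) {x g : G}
    (hx : x ∈ centralizer ((S : Subgroup G) : Set G)) (hg : g * x * g⁻¹ = x⁻¹) : x ^ 2 = 1 := by
  set C := centralizer ({x} : Set G)
  have hSC : (S : Subgroup G) ≤ C := fun s hs =>
    mem_centralizer_singleton_iff.2 (mem_centralizer_iff.1 hx s hs)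
  have hg' : g⁻¹ * x * g = x⁻¹ := by
    have h := congrArg (fun y => g⁻¹ * y⁻¹ * g) hg
    simp only [mul_inv_rev, inv_inv, ← mul_assoc] at h
    simpa [mul_assoc] using h.symm
  have hgN : g ∈ normalizer (C : Set G) := by
    refine mem_normalizer_iff.2 fun c => ?_
    simp only [C, mem_centralizer_singleton_iff]
    have key : ∀ (a b : G), a * b * a⁻¹ = b⁻¹ → ∀ c, c * b = b * c → (a * c * a⁻¹) * b = b * (a * c * a⁻¹) := by
      intro a b hab c hc
      have hb : b = a * b⁻¹ * a⁻¹ := by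
        rw [show a * b⁻¹ * a⁻¹ = (a * b * a⁻¹)⁻¹ by group, hab, inv_inv]
      have hc' : c * b⁻¹ = b⁻¹ * c := ((Commute.inv_right (show Commute c b from hc))).eq
      calc a * c * a⁻¹ * b = a * c * a⁻¹ * (a * b⁻¹ * a⁻¹) := by rw [← hb]
        _ = a * (c * b⁻¹) * a⁻¹ := by group
        _ = a * (b⁻¹ * c) * a⁻¹ := by rw [hc']
        _ = (a * b⁻¹ * a⁻¹) * (a * c * a⁻¹) := by group
        _ = b * (a * c * a⁻¹) := by rw [← hb]
    refine ⟨key g x hg c, fun h => ?_⟩
    have h' := key g⁻¹ x (by rw [inv_inv]; exact hg') _ h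
    rwa [inv_inv, show g⁻¹ * (g * c * g⁻¹) * g = c by group] at h'
  have h2 : g ^ 2 ∈ C := by
    rw [mem_centralizer_singleton_iff]
    have : g ^ 2 * x * (g ^ 2)⁻¹ = x := by
      calc g ^ 2 * x * (g ^ 2)⁻¹ = g * (g * x * g⁻¹) * g⁻¹ := by rw [pow_two]; group
        _ = g * x⁻¹ * g⁻¹ := by rw [hg]
        _ = (g * x * g⁻¹)⁻¹ := by group
        _ = x := by rw [hg, inv_inv]
    calc g ^ 2 * x = g ^ 2 * x * (g ^ 2)⁻¹ * g ^ 2 := by group
      _ = x * g ^ 2 := by rw [this]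
  have hodd : ¬ 2 ∣ C.relIndex (C ⊔ zpowers g) := by
    intro hd
    haveI : Fact (Nat.Prime 2) := ⟨Nat.prime_two⟩
    exact S.not_dvd_index (hd.trans ((relIndex_dvd_index_of_le le_sup_left).trans (index_dvd_of_le hSC)))
  have hgC := mem_centralizer_singleton_iff.1 (mem_of_sq_mem hgN h2 hodd)
  rw [hgC, mul_inv_cancel_right] at hg
  rw [pow_two]
  calc x * x = x * x⁻¹⁻¹ := by rw [inv_inv]
    _ = 1 := by rw [← hg, mul_inv_cancel]

end Cfsg.Agent.Struct.Inverted
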