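import Mathlib
import Cfsg.Agent.Lib.Struct.LowerCentralBounds
import Cfsg.Agent.Lib.Struct.GradedLie
import Cfsg.Agent.Lib.Solv.FpfNilpotent

/-!
The associated Lie ring of the lower central series, and the class of a nilpotent group with a
fixed-point-free automorphism of prime order (Higman–Kreknin–Kostrikin).
-/

set_option autoImplicit false

namespace Cfsg.Agent.Struct.LieOfGroup

open Subgroup
open scoped commutatorElement DirectSum TensorProduct

universe u

variable (G : Type u) [Group G]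

/-- The lower central series. -/
abbrev lcs (n : ℕ) : Subgroup G := (⊤ : Subgroup G).lowerCentralSeries n

theorem lcs_normal (n : ℕ) : (lcs G n).Normal :=
  normalizer_eq_top_iff.1 (top_le_iff.1 ((⊤ : Subgroup G).self_le_normalizer_lowerCentralSeries n))

theorem commutator_lcs_le : ∀ j i : ℕ, ⁅lcs G i, lcs G j⁆ ≤ lcs G (i + j + 1) := by
  intro j
  induction j with
  | zero => intro i; exact le_of_eq (Subgroup.lowerCentralSeries_succ _ i).symm
  | succ j ih =>
    intro i
    have := lcs_normal G (i + (j + 1) + 1)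
    rw [commutator_comm]
    show ⁅(⊤ : Subgroup G).lowerCentralSeries (j + 1), _⁆ ≤ _
    rw [Subgroup.lowerCentralSeries_succ]
    refine LowerCentralBounds.rotate_le ?_ ?_
    · rw [commutator_comm (⊤ : Subgroup G)]
      show ⁅⁅lcs G i, ⊤⁆, lcs G j⁆ ≤ _
      rw [← Subgroup.lowerCentralSeries_succ]
      exact (ih (i + 1)).trans (le_of_eq (by rw [show i + 1 + j + 1 = i + (j + 1) + 1 by ring]))
    · calc ⁅⁅lcs G i, lcs G j⁆, (⊤ : Subgroup G)⁆ ≤ ⁅lcs G (i + j + 1), (⊤ : Subgroup G)⁆ :=
          commutator_mono (ih i) le_rfl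
        _ = lcs G (i + j + 1 + 1) := (Subgroup.lowerCentralSeries_succ _ _).symm
        _ = lcs G (i + (j + 1) + 1) := by rw [show i + j + 1 + 1 = i + (j + 1) + 1 by ring]

variable {G}

theorem comm_mem {i j : ℕ} {a b : G} (ha : a ∈ lcs G i) (hb : b ∈ lcs G j) :
    ⁅a, b⁆ ∈ lcs G (i + j + 1) :=
  commutator_lcs_le G j i (commutator_mem_commutator ha hb)

theorem lcs_mem_of_le {m n : ℕ} (h : m ≤ n) {a : G} (ha : a ∈ lcs G n) : a ∈ lcs G m :=
  Subgroup.lowerCentralSeries_antitone _ h ha

variable (G)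

instance lcsQuotNormal (n : ℕ) : ((lcs G (n + 1)).subgroupOf (lcs G n)).Normal :=
  (lcs_normal G (n + 1)).subgroupOf _

/-- A factor of the lower central series, written additively. -/
abbrev Gr (n : ℕ) : Type u := Additive (↥(lcs G n) ⧸ (lcs G (n + 1)).subgroupOf (lcs G n))

instance grCommGroup (n : ℕ) :
    CommGroup (↥(lcs G n) ⧸ (lcs G (n + 1)).subgroupOf (lcs G n)) :=
  { (inferInstance : Group (↥(lcs G n) ⧸ (lcs G (n + 1)).subgroupOf (lcs G n))) with
    mul_comm := by
      rintro ⟨a⟩ ⟨b⟩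
      refine (QuotientGroup.eq (s := (lcs G (n + 1)).subgroupOf (lcs G n))).2 ?_
      rw [mem_subgroupOf]
      have h := lcs_mem_of_le (G := G) (by omega : n + 1 ≤ n + n + 1)
        (comm_mem (a := (b : G)⁻¹) (b := (a : G)⁻¹) (inv_mem b.2) (inv_mem a.2))
      rw [commutatorElement_def] at h
      simpa [mul_assoc] using h }

/-- The Lie ring. -/
abbrev L : Type u := ⨁ n, Gr G n

variable {G}

/-- The class of an element of the `n`th term. -/
def ι (n : ℕ) (g : G) (h : g ∈ lcs G n) : L G :=
  DirectSum.of (Gr G) n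
    (Additive.ofMul (QuotientGroup.mk (s := (lcs G (n + 1)).subgroupOf (lcs G n)) ⟨g, h⟩))

theorem ι_congr {n m : ℕ} (hnm : n = m) {g g' : G} (hg : g = g') (h : g ∈ lcs G n) :
    ι n g h = ι m g' (hnm ▸ hg ▸ h) := by subst hnm; subst hg; rfl

theorem ι_eq {n : ℕ} {a b : G} (ha : a ∈ lcs G n) (hb : b ∈ lcs G n)
    (h : a⁻¹ * b ∈ lcs G (n + 1)) : ι n a ha = ι n b hb := by
  refine congrArg _ (congrArg Additive.ofMul ?_)
  refine (QuotientGroup.eq (s := (lcs G (n + 1)).subgroupOf (lcs G n))).2 ?_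
  exact mem_subgroupOf.2 (by simpa using h)

theorem ι_mul {n : ℕ} {a b : G} (ha : a ∈ lcs G n) (hb : b ∈ lcs G n) :
    ι n (a * b) (mul_mem ha hb) = ι n a ha + ι n b hb := by
  rw [ι, ι, ι, ← map_add]; rfl

theorem ι_one (n : ℕ) : ι n (1 : G) (one_mem _) = 0 := by
  rw [ι]; exact map_zero _

theorem ι_zero_iff {n : ℕ} {a : G} (ha : a ∈ lcs G n) : ι n a ha = 0 ↔ a ∈ lcs G (n + 1) := by
  constructor
  · intro h
    have h1 : Additive.ofMul (QuotientGroup.mk (s := (lcs G (n + 1)).subgroupOf (lcs G n)) ⟨a, ha⟩) = 0 :=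
      DirectSum.of_injective (β := Gr G) n (h.trans (map_zero _).symm)
    exact mem_subgroupOf.1 ((QuotientGroup.eq_one_iff _).1 h1)
  · intro h
    rw [← ι_one n]
    exact ι_eq ha (one_mem _) (by simpa using h)

theorem ι_inv {n : ℕ} {a : G} (ha : a ∈ lcs G n) : ι n a⁻¹ (inv_mem ha) = -ι n a ha := by
  rw [ι, ι, ← map_neg]; rfl

theorem ι_pow {n : ℕ} {a : G} (ha : a ∈ lcs G n) (k : ℕ) :
    ι n (a ^ k) (pow_mem ha k) = k • ι n a ha := by
  rw [ι, ι, ← map_nsmul]; rfl

theorem ι_conj {n : ℕ} {a x : G} (hx : x ∈ lcs G n) :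
    ι n (a * x * a⁻¹) ((lcs_normal G n).conj_mem x hx a) = ι n x hx := by
  refine ι_eq _ hx ?_
  have h : ⁅a, x⁻¹⁆ ∈ lcs G (n + 1) := by
    have := comm_mem (G := G) (i := 0) (a := a) (by simp [lcs]) (inv_mem hx)
    simpa [add_comm] using this
  rw [commutatorElement_def] at h
  simpa [mul_assoc] using h

theorem ι_comm_left {i j : ℕ} {a a' b : G} (ha : a ∈ lcs G i) (ha' : a' ∈ lcs G i)
    (hb : b ∈ lcs G j) :
    ι (i + j + 1) ⁅a * a', b⁆ (comm_mem (mul_mem ha ha') hb) =
      ι (i + j + 1) ⁅a, b⁆ (comm_mem ha hb) + ι (i + j + 1) ⁅a', b⁆ (comm_mem ha' hb) := by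
  have e : ⁅a * a', b⁆ = a * ⁅a', b⁆ * a⁻¹ * ⁅a, b⁆ := by
    simp only [commutatorElement_def]; group
  rw [ι_congr rfl e, ι_mul ((lcs_normal G _).conj_mem _ (comm_mem ha' hb) a) (comm_mem ha hb),
    ι_conj (comm_mem ha' hb), add_comm]

theorem ι_comm_right {i j : ℕ} {a b b' : G} (ha : a ∈ lcs G i) (hb : b ∈ lcs G j)
    (hb' : b' ∈ lcs G j) :
    ι (i + j + 1) ⁅a, b * b'⁆ (comm_mem ha (mul_mem hb hb')) =
      ι (i + j + 1) ⁅a, b⁆ (comm_mem ha hb) + ι (i + j + 1) ⁅a, b'⁆ (comm_mem ha hb') := by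
  have e : ⁅a, b * b'⁆ = ⁅a, b⁆ * (b * ⁅a, b'⁆ * b⁻¹) := by
    simp only [commutatorElement_def]; group
  rw [ι_congr rfl e, ι_mul (comm_mem ha hb) ((lcs_normal G _).conj_mem _ (comm_mem ha hb') b),
    ι_conj (comm_mem ha hb')]

/-- The bracket with a fixed element. -/
def brRight (i j : ℕ) (a : lcs G i) : Gr G j →+ L G :=
  MonoidHom.toAdditiveLeft (QuotientGroup.lift ((lcs G (j + 1)).subgroupOf (lcs G j))
    { toFun := fun b => Multiplicative.ofAdd (ι (i + j + 1) ⁅(a : G), (b : G)⁆ (comm_mem a.2 b.2))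
      map_one' := by
        show Multiplicative.ofAdd (ι (i + j + 1) ⁅(a : G), (1 : G)⁆ _) = _
        rw [ι_congr rfl (commutatorElement_one_right (a : G)), ι_one]; rfl
      map_mul' := fun b b' => congrArg Multiplicative.ofAdd (ι_comm_right a.2 b.2 b'.2) }
    (fun b hb => MonoidHom.mem_ker.2 (congrArg Multiplicative.ofAdd ((ι_zero_iff _).2
      (lcs_mem_of_le (by omega) (comm_mem a.2 (mem_subgroupOf.1 hb)))))))

theorem brRight_apply (i j : ℕ) (a : lcs G i) (b : lcs G j) :
    brRight i j a (Additive.ofMul (QuotientGroup.mk b)) =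
      ι (i + j + 1) ⁅(a : G), (b : G)⁆ (comm_mem a.2 b.2) := rfl

theorem gr_induction {n : ℕ} {motive : Gr G n → Prop}
    (h : ∀ a : lcs G n, motive (Additive.ofMul (QuotientGroup.mk a))) (x : Gr G n) : motive x := by
  obtain ⟨a, rfl⟩ := QuotientGroup.mk_surjective (Additive.toMul x)
  exact h a

/-- The bracket on two factors. -/
def br (i j : ℕ) : Gr G i →+ Gr G j →+ L G :=
  MonoidHom.toAdditiveLeft (QuotientGroup.lift ((lcs G (i + 1)).subgroupOf (lcs G i))
    { toFun := fun a => Multiplicative.ofAdd (brRight i j a)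
      map_one' := by
        refine congrArg Multiplicative.ofAdd (AddMonoidHom.ext (gr_induction fun b => ?_))
        rw [brRight_apply, AddMonoidHom.zero_apply, ι_zero_iff]
        simp [one_mem]
      map_mul' := fun a a' => by
        refine congrArg Multiplicative.ofAdd (AddMonoidHom.ext (gr_induction fun b => ?_))
        exact ι_comm_left a.2 a'.2 b.2 }
    (fun a ha => MonoidHom.mem_ker.2 (congrArg Multiplicative.ofAdd
      (AddMonoidHom.ext (gr_induction fun b => (ι_zero_iff _).2
        (lcs_mem_of_le (by omega) (comm_mem (mem_subgroupOf.1 ha) b.2)))))))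

/-- The bracket as a biadditive map. -/
noncomputable def brTot : L G →+ L G →+ L G :=
  DirectSum.toAddMonoid fun i => AddMonoidHom.flip
    (DirectSum.toAddMonoid fun j => AddMonoidHom.flip (br i j))

theorem brTot_ι {i j : ℕ} {a b : G} (ha : a ∈ lcs G i) (hb : b ∈ lcs G j) :
    brTot (ι i a ha) (ι j b hb) = ι (i + j + 1) ⁅a, b⁆ (comm_mem ha hb) := by
  simp only [brTot, ι, DirectSum.toAddMonoid_of, AddMonoidHom.flip_apply]
  rfl

theorem induction_ι {motive : L G → Prop} (x : L G) (h0 : motive 0)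
    (hι : ∀ n g h, motive (ι n g h)) (hadd : ∀ x y, motive x → motive y → motive (x + y)) :
    motive x := by
  induction x using DirectSum.induction_on with
  | zero => exact h0
  | of i x =>
    exact gr_induction (motive := fun y => motive (DirectSum.of (Gr G) i y))
      (fun a => hι i a a.2) x
  | add x y hx hy => exact hadd x y hx hy

theorem brTot_skew (x y : L G) : brTot x y + brTot y x = 0 := by
  induction x using induction_ι with
  | h0 => simp
  | hadd x x' hx hx' =>
    simp only [map_add, AddMonoidHom.add_apply]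
    rw [add_add_add_comm, hx, hx', add_zero]
  | hι i a ha =>
    induction y using induction_ι with
    | h0 => simp
    | hadd y y' hy hy' =>
      simp only [map_add, AddMonoidHom.add_apply]
      rw [add_add_add_comm, hy, hy', add_zero]
    | hι j b hb =>
      rw [brTot_ι, brTot_ι, ι_congr (show j + i + 1 = i + j + 1 by ring)
        (commutatorElement_inv a b).symm, ι_inv (comm_mem ha hb), add_neg_cancel]

theorem brTot_self (x : L G) : brTot x x = 0 := by
  induction x using induction_ι with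
  | h0 => simp
  | hι i a ha => rw [brTot_ι, ι_zero_iff]; simp [one_mem]
  | hadd x y hx hy =>
    simp only [map_add, AddMonoidHom.add_apply]
    rw [hx, hy, zero_add, add_zero]
    exact brTot_skew y x

theorem brTot_cyclic (x y z : L G) :
    brTot (brTot x y) z + brTot (brTot y z) x + brTot (brTot z x) y = 0 := by
  induction x using induction_ι with
  | h0 => simp
  | hadd x x' hx hx' =>
    simp only [map_add, AddMonoidHom.add_apply] at *
    have : ∀ a b c d e f : L G, a + c + e = 0 → b + d + f = 0 → (a + b) + (c + d) + (e + f) = 0 :=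
      fun a b c d e f h h' => by
        calc (a + b) + (c + d) + (e + f) = (a + c + e) + (b + d + f) := by abel
          _ = 0 := by rw [h, h', add_zero]
    exact this _ _ _ _ _ _ hx hx'
  | hι i a ha =>
  induction y using induction_ι with
  | h0 => simp
  | hadd y y' hy hy' =>
    simp only [map_add, AddMonoidHom.add_apply] at *
    have : ∀ a b c d e f : L G, a + c + e = 0 → b + d + f = 0 → (a + b) + (c + d) + (e + f) = 0 :=
      fun a b c d e f h h' => by
        calc (a + b) + (c + d) + (e + f) = (a + c + e) + (b + d + f) := by abel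
          _ = 0 := by rw [h, h', add_zero]
    exact this _ _ _ _ _ _ hy hy'
  | hι j b hb =>
  induction z using induction_ι with
  | h0 => simp
  | hadd z z' hz hz' =>
    simp only [map_add, AddMonoidHom.add_apply] at *
    have : ∀ a b c d e f : L G, a + c + e = 0 → b + d + f = 0 → (a + b) + (c + d) + (e + f) = 0 :=
      fun a b c d e f h h' => by
        calc (a + b) + (c + d) + (e + f) = (a + c + e) + (b + d + f) := by abel
          _ = 0 := by rw [h, h', add_zero]
    exact this _ _ _ _ _ _ hz hz'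
  | hι k c hc =>
    have hca := (lcs_normal G k).conj_mem c hc b
    have hab := (lcs_normal G i).conj_mem a ha c
    have hbc := (lcs_normal G j).conj_mem b hb a
    rw [← ι_conj (a := b) hc]
    conv_lhs => arg 1; arg 2; rw [← ι_conj (a := c) ha]; arg 1; rw [ι_conj (a := b) hc]
    conv_lhs => arg 2; rw [← ι_conj (a := a) hb]; arg 1; rw [ι_conj (a := b) hc]
    rw [brTot_ι, brTot_ι, brTot_ι, brTot_ι, brTot_ι, brTot_ι,
      ι_congr (show j + k + 1 + i + 1 = i + j + 1 + k + 1 by ring) rfl,
      ι_congr (show k + i + 1 + j + 1 = i + j + 1 + k + 1 by ring) rfl, ← ι_mul, ← ι_mul,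
      ι_zero_iff]
    rw [show ⁅⁅a, b⁆, b * c * b⁻¹⁆ * ⁅⁅b, c⁆, c * a * c⁻¹⁆ * ⁅⁅c, a⁆, a * b * a⁻¹⁆ = 1 by
      simp only [commutatorElement_def]; group]
    exact one_mem _

noncomputable instance lieRing : LieRing (L G) where
  bracket x y := brTot x y
  add_lie x y z := by show brTot (x + y) z = _; rw [map_add]; rfl
  lie_add x y z := map_add (brTot x) y z
  lie_self := brTot_self
  leibniz_lie x y z := by
    show brTot x (brTot y z) = brTot (brTot x y) z + brTot y (brTot x z)
    have h := brTot_cyclic x y z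
    have h1 := brTot_skew x (brTot y z)
    have h2 := brTot_skew y (brTot x z)
    have h3 : brTot z x = -brTot x z := eq_neg_of_add_eq_zero_left (brTot_skew z x)
    rw [h3, map_neg, AddMonoidHom.neg_apply] at h
    rw [eq_neg_of_add_eq_zero_left h1, eq_neg_of_add_eq_zero_left h2, neg_eq_iff_add_eq_zero,
      ← h]
    abel

theorem lie_ι {i j : ℕ} {a b : G} (ha : a ∈ lcs G i) (hb : b ∈ lcs G j) :
    ⁅ι i a ha, ι j b hb⁆ = ι (i + j + 1) ⁅a, b⁆ (comm_mem ha hb) := brTot_ι ha hb

theorem ι_mem_gamTot : ∀ (n : ℕ) (g : G) (h : g ∈ lcs G n),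
    ι n g h ∈ GradedLie.gamTot (L G) n := by
  intro n
  induction n with
  | zero => intro g h; exact AddSubgroup.mem_top _
  | succ n ih =>
    let T : Subgroup G :=
      { carrier := {g | ∃ h : g ∈ lcs G (n + 1), ι (n + 1) g h ∈ GradedLie.gamTot (L G) (n + 1)}
        one_mem' := ⟨one_mem _, by rw [ι_one]; exact zero_mem _⟩
        mul_mem' := by
          rintro a b ⟨ha, ha'⟩ ⟨hb, hb'⟩
          exact ⟨mul_mem ha hb, by rw [ι_mul ha hb]; exact add_mem ha' hb'⟩
        inv_mem' := by
          rintro a ⟨ha, ha'⟩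
          exact ⟨inv_mem ha, by rw [ι_inv ha]; exact neg_mem ha'⟩ }
    have hle : lcs G (n + 1) ≤ T := by
      conv_lhs => rw [lcs, Subgroup.lowerCentralSeries_succ]
      refine commutator_le.2 fun a ha b _ => ⟨?_, ?_⟩
      · exact comm_mem (j := 0) ha (by simp [lcs])
      · exact AddSubgroup.subset_closure ⟨ι n a ha, ih a ha, ι 0 b (by simp [lcs]),
          lie_ι ha (by simp [lcs])⟩
    intro g h
    exact (hle h).2

section Aut

variable (α : G ≃* G)

theorem map_mem {n : ℕ} {g : G} (h : g ∈ lcs G n) : α g ∈ lcs G n := by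
  have e := Subgroup.map_lowerCentralSeries (⊤ : Subgroup G) α.toMonoidHom n
  rw [Subgroup.map_top_of_surjective α.toMonoidHom α.surjective] at e
  exact (le_of_eq e) (mem_map_of_mem _ h)

/-- The automorphism induced on a factor. -/
def grMap (n : ℕ) : Gr G n →+ Gr G n :=
  MonoidHom.toAdditive (QuotientGroup.map ((lcs G (n + 1)).subgroupOf (lcs G n))
    ((lcs G (n + 1)).subgroupOf (lcs G n))
    { toFun := fun g => ⟨α (g : G), map_mem α g.2⟩
      map_one' := Subtype.ext (map_one α)
      map_mul' := fun a b => Subtype.ext (map_mul α (a : G) b) }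
    (fun g hg => show α (g : G) ∈ lcs G (n + 1) from map_mem α (mem_subgroupOf.1 hg)))

/-- The induced automorphism of the Lie ring. -/
noncomputable def lMap : L G →+ L G :=
  DirectSum.toAddMonoid fun n => (DirectSum.of (Gr G) n).comp (grMap α n)

theorem lMap_ι {n : ℕ} {g : G} (h : g ∈ lcs G n) : lMap α (ι n g h) = ι n (α g) (map_mem α h) := by
  simp only [lMap, ι, DirectSum.toAddMonoid_of]
  rfl

theorem lMap_lie (x y : L G) : lMap α ⁅x, y⁆ = ⁅lMap α x, lMap α y⁆ := by
  induction x using induction_ι with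
  | h0 => simp
  | hadd x x' hx hx' => simp only [add_lie, map_add, hx, hx']
  | hι i a ha =>
    induction y using induction_ι with
    | h0 => simp
    | hadd y y' hy hy' => simp only [lie_add, map_add, hy, hy']
    | hι j b hb =>
      rw [lie_ι, lMap_ι, lMap_ι, lMap_ι, lie_ι]
      exact ι_congr rfl (map_commutatorElement α a b) _

theorem lMap_iterate_ι {n : ℕ} {g : G} (h : g ∈ lcs G n) :
    ∀ k : ℕ, ∃ h', (lMap α)^[k] (ι n g h) = ι n (α^[k] g) h'
  | 0 => ⟨h, rfl⟩
  | k + 1 => by
    obtain ⟨h', e⟩ := lMap_iterate_ι h k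
    refine ⟨by rw [Function.iterate_succ_apply']; exact map_mem α h', ?_⟩
    rw [Function.iterate_succ_apply', e, lMap_ι]
    exact ι_congr rfl (Function.iterate_succ_apply' _ _ _).symm _

theorem lMap_pow {p : ℕ} (hp : ∀ g, α^[p] g = g) (x : L G) : (lMap α)^[p] x = x := by
  induction x using induction_ι with
  | h0 => exact iterate_map_zero _ _
  | hadd x y hx hy => rw [iterate_map_add, hx, hy]
  | hι n g h =>
    obtain ⟨h', e⟩ := lMap_iterate_ι α h p
    rw [e]; exact ι_congr rfl (hp g) _

theorem norm_eq_zero [Finite G] {p : ℕ} (hfpf : ∀ g, α g = g → g = 1) (hp : ∀ g, α^[p] g = g)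
    (x : L G) : ∑ i ∈ Finset.range p, (lMap α)^[i] x = 0 := by
  induction x using induction_ι with
  | h0 => simp [iterate_map_zero]
  | hadd x y hx hy => simp [iterate_map_add, Finset.sum_add_distrib, hx, hy]
  | hι n g h =>
    -- the sum is the class of an element fixed modulo the next term
    have hex : ∀ m : ℕ, ∃ (w : G) (hw : w ∈ lcs G n),
        ∑ i ∈ Finset.range m, (lMap α)^[i] (ι n g h) = ι n w hw := by
      intro m
      induction m with
      | zero => exact ⟨1, one_mem _, by simp [ι_one]⟩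
      | succ m ih =>
        obtain ⟨w, hw, e⟩ := ih
        obtain ⟨h', e'⟩ := lMap_iterate_ι α h m
        exact ⟨w * α^[m] g, mul_mem hw h', by rw [Finset.sum_range_succ, e, e', ι_mul hw h']⟩
    obtain ⟨w, hw, e⟩ := hex p
    have hfix : lMap α (ι n w hw) = ι n w hw := by
      rw [← e, map_sum]
      rcases p with _ | q
      · rfl
      rw [Finset.sum_range_succ, Finset.sum_range_succ',
        show lMap α ((lMap α)^[q] (ι n g h)) = (lMap α)^[0] (ι n g h) from
          (Function.iterate_succ_apply' _ _ _).symm.trans (lMap_pow α hp _)]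
      congr 1
      exact Finset.sum_congr rfl fun i _ => (Function.iterate_succ_apply' _ _ _).symm
    rw [e, ι_zero_iff]
    rw [lMap_ι, ← sub_eq_zero, sub_eq_add_neg, ← ι_inv hw, ← ι_mul, ι_zero_iff] at hfix
    have hN : ∀ u ∈ lcs G (n + 1), α u ∈ lcs G (n + 1) := fun u hu => map_mem α hu
    refine Cfsg.Agent.Solv.fpf_quotient (φ := α) (fun u hu => hfpf u hu) hN ?_
    have := (lcs_normal G (n + 1)).conj_mem _ (inv_mem hfix) (α w)⁻¹
    simpa [mul_assoc] using this

end Aut

theorem card_nsmul_eq_zero [Finite G] (x : L G) : Nat.card G • x = 0 := by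
  induction x using induction_ι with
  | h0 => simp
  | hadd x y hx hy => rw [nsmul_add, hx, hy, add_zero]
  | hι n g h =>
    rw [← ι_pow h, ι_zero_iff]
    simp [one_mem]

end Cfsg.Agent.Struct.LieOfGroup
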