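import Mathlib
import Cfsg.Agent.Lib.Struct.LieOfGroup

/-!
Eigenspaces of an automorphism of prime order on a scalar extension, and the class bound for
fixed-point-free automorphisms.
-/

set_option autoImplicit false

namespace Cfsg.Agent.Struct.Kreknin

open Subgroup Polynomial
open scoped TensorProduct

universe u

variable (p : ℕ)

/-- `ℤ[ω]`. -/
abbrev Rω : Type := AdjoinRoot (cyclotomic p ℤ)

variable [Fact p.Prime]

noncomputable def ω : Rω p := AdjoinRoot.root (cyclotomic p ℤ)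

theorem ω_geom : ∑ i ∈ Finset.range p, ω p ^ i = 0 := by
  have h := AdjoinRoot.eval₂_root (cyclotomic p ℤ)
  have h' := (congrArg (eval₂ (AdjoinRoot.of (cyclotomic p ℤ)) (AdjoinRoot.root (cyclotomic p ℤ)))
    (cyclotomic_prime ℤ p)).symm.trans h
  rw [eval₂_finsetSum] at h'
  simpa [ω] using h'

theorem ω_pow : ω p ^ p = 1 := by
  have h := geom_sum_mul (ω p) p
  rw [ω_geom, zero_mul] at h
  exact sub_eq_zero.1 h.symm

noncomputable def χ (j : ZMod p) : Rω p := ω p ^ j.val

theorem χ_add (i j : ZMod p) : χ p (i + j) = χ p i * χ p j := by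
  rw [χ, χ, χ, ← pow_add, ZMod.val_add]
  conv_rhs => rw [← Nat.mod_add_div (i.val + j.val) p, pow_add, pow_mul, ω_pow, one_pow, mul_one]

theorem χ_zero : χ p 0 = 1 := by simp [χ]

theorem χ_natCast (n : ℕ) : χ p (n : ZMod p) = ω p ^ n := by
  rw [χ, ZMod.val_natCast]
  conv_rhs => rw [← Nat.mod_add_div n p, pow_add, pow_mul, ω_pow, one_pow, mul_one]

theorem χ_sum : ∑ j : ZMod p, χ p j = 0 := by
  have e : ∑ i ∈ Finset.range p, ω p ^ i = ∑ j : ZMod p, χ p j := by
    refine Finset.sum_bij (fun i _ => (i : ZMod p)) (fun _ _ => Finset.mem_univ _) ?_ ?_ ?_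
    · intro a ha b hb h
      have := congrArg ZMod.val h
      rwa [ZMod.val_natCast_of_lt (Finset.mem_range.1 ha),
        ZMod.val_natCast_of_lt (Finset.mem_range.1 hb)] at this
    · intro j _
      exact ⟨j.val, Finset.mem_range.2 j.val_lt, ZMod.natCast_zmod_val j⟩
    · intro i _; rw [χ_natCast]
  rw [← e, ω_geom]

theorem χ_sum_mul {a : ZMod p} (ha : a ≠ 0) : ∑ j : ZMod p, χ p (a * j) = 0 := by
  rw [← χ_sum p]
  exact Fintype.sum_equiv (Equiv.mulLeft₀ a ha) _ _ fun j => rfl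

/-- The coefficient of `1`. -/
noncomputable def coeffZero : Rω p →ₗ[ℤ] ℤ :=
  (lcoeff ℤ 0).comp (AdjoinRoot.modByMonicHom (cyclotomic.monic p ℤ))

theorem coeffZero_one : coeffZero p 1 = 1 := by
  have hd : (1 : ℤ[X]).degree < (cyclotomic p ℤ).degree := by
    rw [degree_one, degree_cyclotomic, Nat.totient_prime (Fact.out : p.Prime)]
    have := (Fact.out : p.Prime).two_le
    exact_mod_cast (show 0 < p - 1 by omega)
  show lcoeff ℤ 0 (AdjoinRoot.modByMonicHom (cyclotomic.monic p ℤ) ((AdjoinRoot.mk _) 1)) = 1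
  rw [AdjoinRoot.modByMonicHom_mk, (modByMonic_eq_self_iff (cyclotomic.monic p ℤ)).2 hd]
  simp

section Ext

variable {L : Type u} [LieRing L] (σ : L →+ L)

/-- The extension of `σ`. -/
noncomputable def ext : (Rω p ⊗[ℤ] L) →ₗ[Rω p] (Rω p ⊗[ℤ] L) :=
  σ.toIntLinearMap.baseChange (Rω p)

/-- An eigenspace. -/
noncomputable def eig (j : ZMod p) : AddSubgroup (Rω p ⊗[ℤ] L) where
  carrier := {x | ext p σ x = χ p j • x}
  zero_mem' := by simp
  add_mem' := fun {a b} ha hb => by
    show ext p σ (a + b) = _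
    rw [map_add, show ext p σ a = _ from ha, show ext p σ b = _ from hb, smul_add]
  neg_mem' := fun {a} ha => by
    show ext p σ (-a) = _
    rw [map_neg, show ext p σ a = _ from ha, smul_neg]

theorem ext_tmul (r : Rω p) (x : L) : ext p σ (r ⊗ₜ x) = r ⊗ₜ σ x := rfl

theorem tlie_zero (x : Rω p ⊗[ℤ] L) : ⁅x, (0 : Rω p ⊗[ℤ] L)⁆ = 0 :=
  lie_zero (L := Rω p ⊗[ℤ] L) (M := Rω p ⊗[ℤ] L) x

theorem tlie_add (x y z : Rω p ⊗[ℤ] L) : ⁅x, y + z⁆ = ⁅x, y⁆ + ⁅x, z⁆ :=
  lie_add (L := Rω p ⊗[ℤ] L) (M := Rω p ⊗[ℤ] L) x y z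

theorem ext_lie (hσ : ∀ x y, σ ⁅x, y⁆ = ⁅σ x, σ y⁆) (x y : Rω p ⊗[ℤ] L) :
    ext p σ ⁅x, y⁆ = ⁅ext p σ x, ext p σ y⁆ := by
  induction x using TensorProduct.induction_on with
  | zero => simp
  | add a b ha hb => simp only [add_lie, map_add, ha, hb]
  | tmul r a =>
    induction y using TensorProduct.induction_on with
    | zero =>
      rw [map_zero]
      rw [tlie_zero, tlie_zero, map_zero]
    | add c d hc hd =>
      rw [map_add]
      rw [tlie_add, tlie_add, map_add, hc, hd]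
    | tmul s b => simp only [LieAlgebra.ExtendScalars.bracket_tmul, ext_tmul, hσ]

theorem brak_eig_le (hσ : ∀ x y, σ ⁅x, y⁆ = ⁅σ x, σ y⁆) :
    GradedLie.brak (eig p σ) (eig p σ) ≤ eig p σ :=
  GradedLie.brak_le fun i j x hx y hy => by
    show ext p σ ⁅x, y⁆ = _
    rw [ext_lie p σ hσ, show ext p σ x = _ from hx, show ext p σ y = _ from hy, χ_add, ← smul_smul]
    exact (smul_lie (χ p i) x (χ p j • y)).trans (congrArg (χ p i • ·) (lie_smul (χ p j) x y))

theorem norm_ext (hnorm : ∀ x, ∑ i ∈ Finset.range p, σ^[i] x = 0) (x : Rω p ⊗[ℤ] L) :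
    ∑ i ∈ Finset.range p, (ext p σ)^[i] x = 0 := by
  induction x using TensorProduct.induction_on with
  | zero => simp [iterate_map_zero]
  | add a b ha hb => simp [iterate_map_add, Finset.sum_add_distrib, ha, hb]
  | tmul r a =>
    have e : ∀ i, (ext p σ)^[i] (r ⊗ₜ a) = r ⊗ₜ (σ^[i] a) := by
      intro i
      induction i with
      | zero => rfl
      | succ k ih => rw [Function.iterate_succ_apply', ih, ext_tmul, Function.iterate_succ_apply']
    simp only [e]
    rw [← TensorProduct.tmul_sum, hnorm, TensorProduct.tmul_zero]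

theorem nsmul_ext_eq_zero {n : ℕ} (hn : ∀ x : L, n • x = 0) (x : Rω p ⊗[ℤ] L) : n • x = 0 := by
  induction x using TensorProduct.induction_on with
  | zero => simp
  | add a b ha hb => rw [nsmul_add, ha, hb, add_zero]
  | tmul r a => rw [← TensorProduct.tmul_smul, hn, TensorProduct.tmul_zero]

theorem eig_zero {n : ℕ} (hn : ∀ x : L, n • x = 0) (hnp : n.Coprime p)
    (hnorm : ∀ x, ∑ i ∈ Finset.range p, σ^[i] x = 0) : eig p σ 0 = ⊥ := by
  refine (AddSubgroup.eq_bot_iff_forall _).2 fun x hx => ?_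
  have h1 : ext p σ x = x := by
    have := (show ext p σ x = _ from hx)
    rwa [χ_zero, one_smul] at this
  have h2 : p • x = 0 := by
    have h := norm_ext p σ hnorm x
    rw [Finset.sum_congr rfl (fun i _ => Function.iterate_fixed h1 i), Finset.sum_const,
      Finset.card_range] at h
    exact h
  have h3 := nsmul_ext_eq_zero p hn x
  exact AddMonoid.addOrderOf_eq_one_iff.1
    (Nat.eq_one_of_dvd_coprimes hnp (addOrderOf_dvd_of_nsmul_eq_zero h3)
      (addOrderOf_dvd_of_nsmul_eq_zero h2))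

theorem eig_span {n : ℕ} (hn : ∀ x : L, n • x = 0) (hnp : n.Coprime p)
    (hper : ∀ x, σ^[p] x = x) :
    (⊤ : AddSubgroup (Rω p ⊗[ℤ] L)) ≤ ⨆ j, eig p σ j := by
  intro x _
  set S := ⨆ j, eig p σ j
  have hperx : ∀ y, (ext p σ)^[p] y = y := by
    intro y
    induction y using TensorProduct.induction_on with
    | zero => exact iterate_map_zero _ _
    | add a b ha hb => rw [iterate_map_add, ha, hb]
    | tmul r a =>
      have e : ∀ i, (ext p σ)^[i] (r ⊗ₜ a) = r ⊗ₜ (σ^[i] a) := by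
        intro i
        induction i with
        | zero => rfl
        | succ k ih => rw [Function.iterate_succ_apply', ih, ext_tmul, Function.iterate_succ_apply']
      rw [e, hper]
  let y : ZMod p → Rω p ⊗[ℤ] L := fun j =>
    ∑ i : ZMod p, χ p (-(i * j)) • (ext p σ)^[i.val] x
  have hy : ∀ j, y j ∈ eig p σ j := by
    intro j
    show ext p σ (y j) = χ p j • y j
    simp only [y, map_sum, map_smul, Finset.smul_sum, smul_smul, ← χ_add]
    refine Fintype.sum_equiv (Equiv.addRight (1 : ZMod p)) _ _ fun i => ?_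
    simp only [Equiv.coe_addRight]
    rw [show j + -((i + 1) * j) = -(i * j) by ring, ← Function.iterate_succ_apply' (ext p σ)]
    congr 1
    rw [ZMod.val_add, ZMod.val_one]
    rcases Nat.lt_or_ge (i.val + 1) p with h | h
    · rw [Nat.mod_eq_of_lt h]
    · have h' : i.val + 1 = p := le_antisymm i.val_lt h
      rw [show i.val.succ = p from h', h', Nat.mod_self, hperx]; rfl
  have hsum : ∑ j : ZMod p, y j = p • x := by
    simp only [y]
    rw [Finset.sum_comm]
    simp only [← Finset.sum_smul]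
    rw [Finset.sum_eq_single (0 : ZMod p)]
    · simp only [zero_mul, neg_zero, χ_zero, Finset.sum_const, Finset.card_univ, ZMod.card,
        ZMod.val_zero, Function.iterate_zero, id_eq]
      rw [smul_assoc, one_smul]
    · intro i _ hi
      rw [show (∑ j : ZMod p, χ p (-(i * j))) = 0 by
        simp only [← neg_mul]; exact χ_sum_mul p (neg_ne_zero.2 hi), zero_smul]
    · intro h; exact absurd (Finset.mem_univ _) h
  have hpx : p • x ∈ S := by
    rw [← hsum]
    exact AddSubgroup.sum_mem _ fun j _ => AddSubgroup.mem_iSup_of_mem j (hy j)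
  have hnx : n • x ∈ S := by rw [nsmul_ext_eq_zero p hn x]; exact zero_mem _
  have h1 := Nat.gcd_eq_gcd_ab n p
  rw [hnp, Nat.cast_one] at h1
  have e : x = Nat.gcdA n p • (n • x) + Nat.gcdB n p • (p • x) := by
    conv_lhs => rw [← one_zsmul x, h1]
    rw [add_zsmul, mul_zsmul, mul_zsmul, natCast_zsmul,
      natCast_zsmul, smul_comm n, smul_comm p]
  rw [e]
  exact add_mem (zsmul_mem hnx _) (zsmul_mem hpx _)

theorem gamTot_tmul : ∀ (n : ℕ) (x : L), x ∈ GradedLie.gamTot L n →
    (1 : Rω p) ⊗ₜ[ℤ] x ∈ GradedLie.gamTot (Rω p ⊗[ℤ] L) n := by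
  intro n
  induction n with
  | zero => intro x _; exact AddSubgroup.mem_top _
  | succ n ih =>
    intro x hx
    let f : L →+ Rω p ⊗[ℤ] L := ((TensorProduct.mk ℤ (Rω p) L) 1).toAddMonoidHom
    suffices h : GradedLie.gamTot L (n + 1) ≤ (GradedLie.gamTot (Rω p ⊗[ℤ] L) (n + 1)).comap f from
      h hx
    refine (AddSubgroup.closure_le _).2 ?_
    rintro z ⟨a, ha, b, rfl⟩
    refine AddSubgroup.subset_closure ⟨(1 : Rω p) ⊗ₜ a, ih a ha, (1 : Rω p) ⊗ₜ b, ?_⟩
    show _ = (1 : Rω p) ⊗ₜ[ℤ] ⁅a, b⁆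
    rw [LieAlgebra.ExtendScalars.bracket_tmul, one_mul]

theorem one_tmul_eq_zero {x : L} (h : (1 : Rω p) ⊗ₜ[ℤ] x = 0) : x = 0 := by
  have := congrArg (fun z => TensorProduct.lid ℤ L ((coeffZero p).rTensor L z)) h
  simpa [coeffZero_one] using this

end Ext

/-- The class of a nilpotent group with a fixed-point-free automorphism of order `p`, given that
all long products in the graded Lie rings vanish. -/
theorem lcs_eq_bot {G : Type u} [Group G] [Finite G] (hG : Group.IsNilpotent G) (α : G ≃* G)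
    (hfpf : ∀ g, α g = g → g = 1) (hper : ∀ g, α^[p] g = g) (hcop : (Nat.card G).Coprime p) {c : ℕ}
    (hc : ∀ (M : Type u) [LieRing M] (E : ZMod p → AddSubgroup M),
      GradedLie.brak E E ≤ E → E 0 = ⊥ → GradedLie.gam E c = ⊥) :
    (⊤ : Subgroup G).lowerCentralSeries c = ⊥ := by
  set σ := LieOfGroup.lMap α
  have hn : ∀ x : LieOfGroup.L G, Nat.card G • x = 0 := LieOfGroup.card_nsmul_eq_zero
  have hbot : GradedLie.gamTot (Rω p ⊗[ℤ] LieOfGroup.L G) c = ⊥ := by
    refine le_bot_iff.1 ((GradedLie.gamTot_le_iSup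
      (eig_span p σ hn hcop (fun x => LieOfGroup.lMap_pow α hper x)) c).trans ?_)
    refine iSup_le fun k => ?_
    rw [hc _ _ (brak_eig_le p σ (LieOfGroup.lMap_lie α))
      (eig_zero p σ hn hcop (LieOfGroup.norm_eq_zero α hfpf hper))]
    exact le_rfl
  have hstep : LieOfGroup.lcs G c ≤ LieOfGroup.lcs G (c + 1) := by
    intro g hg
    rw [← LieOfGroup.ι_zero_iff hg]
    have h := gamTot_tmul p c _ (LieOfGroup.ι_mem_gamTot c g hg)
    rw [hbot, AddSubgroup.mem_bot] at h
    exact one_tmul_eq_zero p h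
  have hall : ∀ k, LieOfGroup.lcs G c ≤ LieOfGroup.lcs G (c + k) := by
    intro k
    induction k with
    | zero => exact le_rfl
    | succ m ih =>
      refine hstep.trans ?_
      show LieOfGroup.lcs G (c + 1) ≤ LieOfGroup.lcs G (c + m + 1)
      rw [LieOfGroup.lcs, LieOfGroup.lcs, Subgroup.lowerCentralSeries_succ,
        Subgroup.lowerCentralSeries_succ]
      exact commutator_mono ih le_rfl
  obtain ⟨N, hN⟩ := (Subgroup.nilpotent_iff_lowerCentralSeries (G := G)).1 hG
  exact le_bot_iff.1 ((hall N).trans ((Subgroup.lowerCentralSeries_antitone _ (by omega)).trans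
    (le_of_eq hN)))

end Cfsg.Agent.Struct.Kreknin
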