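import Cfsg.Agent.Lib.Solv.Basic
import Cfsg.Agent.Lib.Struct.CoprimeMinimal
import Cfsg.Agent.Lib.Solv.LargeSimple
import Cfsg.Prelude.Def_Transfer
import Mathlib

/-! The subgroups `Q(u) = O₂(C(u))` for the conjugates `u` of an involution with large extraspecial `Q`. -/

set_option autoImplicit false
set_option linter.style.haveILetI false

namespace Cfsg.Agent.LargeEx

open Cfsg
open scoped Pointwise

variable {G : Type*} [Group G] [Finite G]

/-- The hypothesis. -/
structure Setup (Q : G → Subgroup G) (z : G) : Prop where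
  hQ : ∀ x : G, Q x = (pCore 2 ↥(Subgroup.centralizer ({x} : Set G))).map (Subgroup.centralizer ({x} : Set G)).subtype
  hz : orderOf z = 2
  hE : IsExtraspecial 2 ↥(Q z)
  hC : Subgroup.centralizer ((Q z : Subgroup G) : Set G) ≤ Q z

variable {Q : G → Subgroup G} {z : G} (h : Setup Q z)

include h

theorem Q_le_cent (u : G) {x : G} (hx : x ∈ Q u) : x * u = u * x := by
  rw [h.hQ] at hx
  obtain ⟨⟨y, hy⟩, -, rfl⟩ := hx
  exact Subgroup.mem_centralizer_singleton_iff.mp hy

theorem conj_mem_Q {u g x : G} (hg : g * u = u * g) (hx : x ∈ Q u) : g * x * g⁻¹ ∈ Q u := by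
  rw [h.hQ] at hx ⊢
  obtain ⟨y, hy, rfl⟩ := hx
  let g' : ↥(Subgroup.centralizer ({u} : Set G)) := ⟨g, Subgroup.mem_centralizer_singleton_iff.mpr hg⟩
  exact ⟨g' * y * g'⁻¹, (inferInstance : (pCore 2 _).Normal).conj_mem y hy g', rfl⟩

theorem le_Q {u : G} (R : Subgroup G) (h2 : IsPGroup 2 R) (hc : ∀ r ∈ R, r * u = u * r)
    (hn : ∀ g : G, g * u = u * g → ∀ r ∈ R, g * r * g⁻¹ ∈ R) : R ≤ Q u := by
  set C := Subgroup.centralizer ({u} : Set G) with hCdef
  have hRC : R ≤ C := fun r hr => Subgroup.mem_centralizer_singleton_iff.mpr (hc r hr)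
  have hN : (R.subgroupOf C).Normal :=
    ⟨fun r hr g => hn g (Subgroup.mem_centralizer_singleton_iff.mp g.2) r hr⟩
  have := Cfsg.Agent.Solv.le_pCore (p := 2) (N := R.subgroupOf C)
    (h2.of_equiv (Subgroup.subgroupOfEquivOfLe hRC).symm)
  intro r hr
  rw [h.hQ]
  exact ⟨⟨r, hRC hr⟩, this hr, rfl⟩

theorem Q_isPGroup (u : G) : IsPGroup 2 (Q u) := by
  rw [h.hQ]; exact (Cfsg.Agent.Solv.isPGroup_pCore 2 _).map _

theorem mem_Q_conj {u g x : G} (hx : x ∈ Q u) : g * x * g⁻¹ ∈ Q (g * u * g⁻¹) := by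
  have hle : (Q u).map (MulAut.conj g).toMonoidHom ≤ Q (g * u * g⁻¹) := by
    apply le_Q h _ ((Q_isPGroup h u).map _)
    · rintro _ ⟨r, hr, rfl⟩
      simp only [MulEquiv.coe_toMonoidHom, MulAut.conj_apply]
      have := Q_le_cent h u hr
      calc g * r * g⁻¹ * (g * u * g⁻¹) = g * (r * u) * g⁻¹ := by group
        _ = g * (u * r) * g⁻¹ := by rw [this]
        _ = _ := by group
    · rintro c hc _ ⟨r, hr, rfl⟩
      refine ⟨(g⁻¹ * c * g) * r * (g⁻¹ * c * g)⁻¹, conj_mem_Q h ?_ hr, ?_⟩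
      · calc g⁻¹ * c * g * u = g⁻¹ * (c * (g * u * g⁻¹)) * g := by group
          _ = g⁻¹ * ((g * u * g⁻¹) * c) * g := by rw [hc]
          _ = _ := by group
      · simp only [MulEquiv.coe_toMonoidHom, MulAut.conj_apply]; group
  exact hle ⟨x, hx, rfl⟩

theorem z_sq : z * z = 1 := by
  rw [← pow_two, ← h.hz]; exact pow_orderOf_eq_one z

theorem z_ne_one : z ≠ 1 := by
  intro e; have := h.hz; rw [e, orderOf_one] at this; omega

theorem z_mem : z ∈ Q z :=
  h.hC (Subgroup.mem_centralizer_iff.mpr fun x hx => Q_le_cent h z hx)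

theorem center_eq {x : G} (hx : x ∈ Q z) (hc : ∀ y ∈ Q z, y * x = x * y) : x = 1 ∨ x = z := by
  have hzc : (⟨z, z_mem h⟩ : Q z) ∈ Subgroup.center (Q z) :=
    Subgroup.mem_center_iff.mpr fun y => Subtype.ext (Q_le_cent h z y.2)
  have hxc : (⟨x, hx⟩ : Q z) ∈ Subgroup.center (Q z) :=
    Subgroup.mem_center_iff.mpr fun y => Subtype.ext (hc y y.2)
  by_contra hne
  push Not at hne
  have h2 : ({1, ⟨x, hx⟩, ⟨z, z_mem h⟩} : Set (Q z)) ⊆ Subgroup.center (Q z) := by
    rintro _ (rfl | rfl | rfl)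
    · exact one_mem _
    · exact hxc
    · exact hzc
  have := Set.ncard_le_ncard h2
  rw [← Nat.card_coe_set_eq (Subgroup.center (Q z) : Set (Q z))] at this
  have hcard : Nat.card (Subgroup.center (Q z)) = 2 := h.hE.2
  have hz1 := z_ne_one h
  rw [show Nat.card ((Subgroup.center (Q z) : Subgroup (Q z)) : Set (Q z)) = 2 from hcard,
    Set.ncard_insert_of_notMem (by simp [Subtype.ext_iff, hne.1.symm, hz1.symm]),
    Set.ncard_pair (by simp [Subtype.ext_iff, hne.2])] at this
  omega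

theorem comm_cases {a b : G} (ha : a ∈ Q z) (hb : b ∈ Q z) :
    a * b * a⁻¹ * b⁻¹ = 1 ∨ a * b * a⁻¹ * b⁻¹ = z := by
  have hm : (⟨a, ha⟩ * ⟨b, hb⟩ * (⟨a, ha⟩ : Q z)⁻¹ * (⟨b, hb⟩ : Q z)⁻¹) ∈ Subgroup.center (Q z) := by
    rw [← h.hE.1.2.2, ← commutatorElement_def]
    exact Subgroup.commutator_mem_commutator (Subgroup.mem_top _) (Subgroup.mem_top _)
  refine center_eq h (by exact (Q z).mul_mem ((Q z).mul_mem ((Q z).mul_mem ha hb) ((Q z).inv_mem ha)) ((Q z).inv_mem hb))
    fun y hy => ?_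
  exact congrArg Subtype.val (Subgroup.mem_center_iff.mp hm ⟨y, hy⟩)

theorem exists_mover {x : G} (hx : x ∈ Q z) (h1 : x ≠ 1) (hxz : x ≠ z) :
    ∃ q ∈ Q z, q * x * q⁻¹ = z * x := by
  by_contra hno
  push Not at hno
  have hall : ∀ y ∈ Q z, y * x = x * y := by
    intro y hy
    rcases comm_cases h hy hx with e | e
    · exact commutatorElement_eq_one_iff_mul_comm.mp e
    · exact absurd (mul_inv_eq_iff_eq_mul.mp e) (hno y hy)
  rcases center_eq h hx hall with e | e
  · exact h1 e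
  · exact hxz e

/-- The key: an intersection of two of the subgroups not containing the first involution is small. -/
theorem inf_small {x s : G} (hx : x ∈ Q z) (hxQ : x ∈ Q x) (hx2 : x * x = 1) (hz' : z ∉ Q x) (h1 : x ≠ 1) (hxz : x ≠ z)
    (hs : s ∈ Q z) (hs' : s ∈ Q x) : s = 1 ∨ s = x := by
  obtain ⟨q, hq, hqx⟩ := exists_mover h hx h1 hxz
  have hE : ∀ e ∈ Q z, e * x = x * e → s * e = e * s := by
    intro e he hex
    rcases comm_cases h he hs with c | c
    · exact (commutatorElement_eq_one_iff_mul_comm.mp c).symm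
    · exact absurd (c ▸ (Q x).mul_mem (conj_mem_Q h hex hs') ((Q x).inv_mem hs')) hz'
  have hzc : ∀ y ∈ Q z, y * z = z * y := fun y hy => Q_le_cent h z hy
  have hall : ∀ t : G, (∀ e ∈ Q z, e * x = x * e → t * e = e * t) → q * t = t * q →
      ∀ y ∈ Q z, y * t = t * y := by
    intro t ht htq y hy
    rcases comm_cases h hy hx with c | c
    · exact (ht y hy (commutatorElement_eq_one_iff_mul_comm.mp c)).symm
    · have hyx : y * x * y⁻¹ = z * x := mul_inv_eq_iff_eq_mul.mp c
      have he : (q⁻¹ * y) * x = x * (q⁻¹ * y) := by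
        calc q⁻¹ * y * x = q⁻¹ * (y * x * y⁻¹) * y := by group
          _ = q⁻¹ * (q * x * q⁻¹) * y := by rw [hyx, hqx]
          _ = _ := by group
      have h2 := ht _ ((Q z).mul_mem ((Q z).inv_mem hq) hy) he
      calc y * t = q * ((q⁻¹ * y) * t) := by group
        _ = q * (t * (q⁻¹ * y)) := by rw [h2]
        _ = (q * t) * (q⁻¹ * y) := by group
        _ = t * y := by rw [htq]; group
  rcases comm_cases h hq hs with c | c
  · rcases center_eq h hs (hall s hE (commutatorElement_eq_one_iff_mul_comm.mp c)) with e | e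
    · exact Or.inl e
    · exact absurd (e ▸ hs') hz'
  · have hqs : q * s * q⁻¹ = z * s := mul_inv_eq_iff_eq_mul.mp c
    have hsx : s * x = x * s := Q_le_cent h x hs'
    have hq2 : q * (s * x) = (s * x) * q := by
      apply mul_inv_eq_iff_eq_mul.mp
      calc q * (s * x) * q⁻¹ = (q * s * q⁻¹) * (q * x * q⁻¹) := by group
        _ = z * (s * z) * x := by rw [hqs, hqx]; group
        _ = z * (z * s) * x := by rw [hzc s hs]
        _ = s * x := by rw [← mul_assoc z z, z_sq h, one_mul]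
    have hsxE : ∀ e ∈ Q z, e * x = x * e → s * x * e = e * (s * x) := fun e he hex => by
      rw [mul_assoc, ← hex, ← mul_assoc, hE e he hex, mul_assoc]
    rcases center_eq h ((Q z).mul_mem hs hx) (hall (s * x) hsxE hq2) with e | e
    · exact Or.inr ((eq_inv_of_mul_eq_one_left e).trans (inv_eq_of_mul_eq_one_right hx2))
    · exact absurd (e ▸ (Q x).mul_mem hs' hxQ) hz'

omit h in
theorem conj_setup (hs : Setup Q z) {g : G} : Setup Q (g * z * g⁻¹) := by
  have heq : Q (g * z * g⁻¹) = (Q z).map (MulAut.conj g).toMonoidHom := by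
    refine le_antisymm ?_ ?_
    · intro x hx
      have := mem_Q_conj hs (g := g⁻¹) hx
      refine ⟨g⁻¹ * x * g, by simpa [mul_assoc] using this, ?_⟩
      show g * (g⁻¹ * x * g) * g⁻¹ = x
      group
    · rintro _ ⟨x, hx, rfl⟩
      exact mem_Q_conj hs hx
  refine ⟨hs.hQ, ?_, ?_, ?_⟩
  · rw [show g * z * g⁻¹ = MulAut.conj g z from rfl, MulEquiv.orderOf_eq, hs.hz]
  · rw [heq]
    exact Cfsg.Agent.Solv.LargeSimple.isExtraspecial_congr
      ((Q z).equivMapOfInjective _ (MulEquiv.injective _)) hs.hE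
  · intro x hx
    rw [heq]
    refine ⟨g⁻¹ * x * g, hs.hC (Subgroup.mem_centralizer_iff.mpr fun y hy => ?_), ?_⟩
    · have := Subgroup.mem_centralizer_iff.mp hx (g * y * g⁻¹) (mem_Q_conj hs hy)
      calc y * (g⁻¹ * x * g) = g⁻¹ * ((g * y * g⁻¹) * x) * g := by group
        _ = g⁻¹ * (x * (g * y * g⁻¹)) * g := by rw [this]
        _ = _ := by group
    · show g * (g⁻¹ * x * g) * g⁻¹ = x
      group

/-- If the centralizer of `x` in `Q z` is abelian, the centralizer of `z` is `Q z` itself. -/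
theorem degenerate {x q : G} (hx : x ∈ Q z) (h1 : x ≠ 1) (hxz : x ≠ z) (hx2 : x * x = 1)
    (hq : q ∈ Q z) (hqx : q * x * q⁻¹ = z * x)
    (hab : ∀ a ∈ Q z, a * x = x * a → ∀ b ∈ Q z, b * x = x * b → a * b = b * a)
    {g : G} (hg : g * z = z * g) : g ∈ Q z := by
  have hzc : ∀ y ∈ Q z, y * z = z * y := fun y hy => Q_le_cent h z hy
  have hzi : z⁻¹ = z := inv_eq_of_mul_eq_one_right (z_sq h)
  have hxi : x⁻¹ = x := inv_eq_of_mul_eq_one_right hx2
  have hzx : z * x = x * z := (hzc x hx).symm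
  have hqz : q * z = z * q := hzc q hq
  have hall : ∀ t : G, (∀ e ∈ Q z, e * x = x * e → t * e = e * t) → q * t = t * q →
      ∀ y ∈ Q z, y * t = t * y := by
    intro t ht htq y hy
    rcases comm_cases h hy hx with c | c
    · exact (ht y hy (commutatorElement_eq_one_iff_mul_comm.mp c)).symm
    · have hyx : y * x * y⁻¹ = z * x := mul_inv_eq_iff_eq_mul.mp c
      have he : (q⁻¹ * y) * x = x * (q⁻¹ * y) := by
        calc q⁻¹ * y * x = q⁻¹ * (y * x * y⁻¹) * y := by group
          _ = q⁻¹ * (q * x * q⁻¹) * y := by rw [hyx, hqx]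
          _ = _ := by group
      have h2 := ht _ ((Q z).mul_mem ((Q z).inv_mem hq) hy) he
      calc y * t = q * ((q⁻¹ * y) * t) := by group
        _ = q * (t * (q⁻¹ * y)) := by rw [h2]
        _ = (q * t) * (q⁻¹ * y) := by group
        _ = t * y := by rw [htq]; group
  have hE : ∀ e ∈ Q z, e * x = x * e → e = 1 ∨ e = z ∨ e = x ∨ e = z * x := by
    intro e he hex
    rcases comm_cases h hq he with c | c
    · rcases center_eq h he (hall e (hab e he hex) (commutatorElement_eq_one_iff_mul_comm.mp c)) with d | d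
      · exact Or.inl d
      · exact Or.inr (Or.inl d)
    · have hqe : q * e * q⁻¹ = z * e := mul_inv_eq_iff_eq_mul.mp c
      have hq2 : q * (e * x) = (e * x) * q := by
        apply mul_inv_eq_iff_eq_mul.mp
        calc q * (e * x) * q⁻¹ = (q * e * q⁻¹) * (q * x * q⁻¹) := by group
          _ = z * (e * z) * x := by rw [hqe, hqx]; group
          _ = z * (z * e) * x := by rw [hzc e he]
          _ = e * x := by rw [← mul_assoc z z, z_sq h, one_mul]
      have hexx : e * x * x = x * (e * x) := by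
        rw [← mul_assoc, ← hex]
      rcases center_eq h ((Q z).mul_mem he hx) (hall _ (hab _ ((Q z).mul_mem he hx) hexx) hq2) with d | d
      · exact Or.inr (Or.inr (Or.inl ((eq_inv_of_mul_eq_one_left d).trans hxi)))
      · refine Or.inr (Or.inr (Or.inr ?_))
        rw [← d, mul_assoc, hx2, mul_one]
  have hQ8 : ∀ y ∈ Q z, y ∈ Subgroup.closure ({q, x, z} : Set G) := by
    intro y hy
    have hmq : q ∈ Subgroup.closure ({q, x, z} : Set G) := Subgroup.subset_closure (by simp)
    have hmx : x ∈ Subgroup.closure ({q, x, z} : Set G) := Subgroup.subset_closure (by simp)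
    have hmz : z ∈ Subgroup.closure ({q, x, z} : Set G) := Subgroup.subset_closure (by simp)
    have hone : ∀ e ∈ Q z, e * x = x * e → e ∈ Subgroup.closure ({q, x, z} : Set G) := by
      intro e he hex
      rcases hE e he hex with d | d | d | d <;> rw [d]
      · exact one_mem _
      · exact hmz
      · exact hmx
      · exact mul_mem hmz hmx
    rcases comm_cases h hy hx with c | c
    · exact hone y hy (commutatorElement_eq_one_iff_mul_comm.mp c)
    · have hyx : y * x * y⁻¹ = z * x := mul_inv_eq_iff_eq_mul.mp c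
      have he : (q⁻¹ * y) * x = x * (q⁻¹ * y) := by
        calc q⁻¹ * y * x = q⁻¹ * (y * x * y⁻¹) * y := by group
          _ = q⁻¹ * (q * x * q⁻¹) * y := by rw [hyx, hqx]
          _ = _ := by group
      rw [show y = q * (q⁻¹ * y) by group]
      exact mul_mem hmq (hone _ ((Q z).mul_mem ((Q z).inv_mem hq) hy) he)
  have hq2 : q * q = 1 ∨ q * q = z := by
    have hm : (⟨q, hq⟩ : Q z) ^ 2 ∈ frattini (Q z) := Cfsg.Agent.Struct.CoprimeMinimal.pow_mem_frattini h.hE.1.1 _
    rw [h.hE.1.2.1, pow_two] at hm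
    exact center_eq h ((Q z).mul_mem hq hq)
      (fun y hy => congrArg Subtype.val (Subgroup.mem_center_iff.mp hm ⟨y, hy⟩))
  -- the element of order four
  obtain ⟨r, hr, hrr, hrx, hgen⟩ : ∃ r ∈ Q z, r * r = z ∧ r * x = z * x * r ∧
      ∀ c : G, c * r = r * c → c * x = x * c → c * z = z * c → c * q = q * c := by
    have hqx' : q * x = z * x * q := mul_inv_eq_iff_eq_mul.mp hqx
    rcases hq2 with e | e
    · refine ⟨q * x, (Q z).mul_mem hq hx, ?_, ?_, fun c c1 c2 _ => ?_⟩
      · calc q * x * (q * x) = (q * x) * q * x := by group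
          _ = z * x * (q * q) * x := by rw [hqx']; group
          _ = z := by rw [e, mul_one, mul_assoc, hx2, mul_one]
      · conv_lhs => rw [hqx']
        rw [mul_assoc (z * x) q x]
      · calc c * q = c * (q * x) * x⁻¹ := by group
          _ = (q * x) * (c * x⁻¹) := by rw [c1]; group
          _ = (q * x) * (x⁻¹ * c) := by rw [hxi, c2]
          _ = q * c := by group
    · exact ⟨q, hq, e, hqx', fun c c1 _ _ => c1⟩
  have hrz : r * z = z * r := hzc r hr
  have hrne : r ≠ r * z := fun e => z_ne_one h (mul_eq_left.mp e.symm)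
  -- elements of odd order centralizing `z` centralize `Q z`
  have hodd : ∀ c : G, c * z = z * c → Odd (orderOf c) → c = 1 := by
    intro c hc ho
    have hmem : ∀ y ∈ Q z, c * y * c⁻¹ ∈ Q z := fun y hy => conj_mem_Q h hc hy
    have hcz : c * z * c⁻¹ = z := by rw [hc, mul_inv_cancel_right]
    have hsq : ∀ y ∈ Q z, y * y = z → y = r ∨ y = r * z := by
      intro y hy hyy
      rcases comm_cases h hy hx with d | d
      · exfalso
        have hyx := commutatorElement_eq_one_iff_mul_comm.mp d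
        rcases hE y hy hyx with e | e | e | e <;> rw [e] at hyy
        · rw [one_mul] at hyy; exact z_ne_one h hyy.symm
        · rw [z_sq h] at hyy; exact z_ne_one h hyy.symm
        · rw [hx2] at hyy; exact z_ne_one h hyy.symm
        · rw [show z * x * (z * x) = z * (x * z) * x by group, ← hzx, ← mul_assoc z z, z_sq h, one_mul, hx2] at hyy
          exact z_ne_one h hyy.symm
      · have hyx : y * x = z * x * y := mul_inv_eq_iff_eq_mul.mp (mul_inv_eq_iff_eq_mul.mp d)
        have he : (r⁻¹ * y) * x = x * (r⁻¹ * y) := by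
          calc r⁻¹ * y * x = r⁻¹ * (z * x * r) * (r⁻¹ * y) := by rw [mul_assoc, hyx]; group
            _ = r⁻¹ * (r * x) * (r⁻¹ * y) := by rw [hrx]
            _ = _ := by group
        rcases hE _ ((Q z).mul_mem ((Q z).inv_mem hr) hy) he with e | e | e | e
        all_goals have e' := inv_mul_eq_iff_eq_mul.mp e
        · exact Or.inl (e'.trans (mul_one r))
        · exact Or.inr e'
        · exfalso
          rw [e'] at hyy
          have : r * x * (r * x) = 1 := by
            calc r * x * (r * x) = z * x * (r * r) * x := by rw [← mul_assoc, hrx]; group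
              _ = z * (x * z) * x := by rw [hrr]; group
              _ = 1 := by rw [← hzx, ← mul_assoc z z, z_sq h, one_mul, hx2]
          rw [this] at hyy; exact z_ne_one h hyy.symm
        · exfalso
          rw [e'] at hyy
          have hr1 : r * (z * x) = x * r := by
            rw [← mul_assoc, hrz, mul_assoc, hrx, ← mul_assoc, ← mul_assoc, z_sq h, one_mul]
          have : r * (z * x) * (r * (z * x)) = 1 := by
            calc r * (z * x) * (r * (z * x)) = x * (r * r) * (z * x) := by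
                  conv_lhs => arg 1; rw [hr1]
                  group
              _ = x * (z * z) * x := by rw [hrr]; group
              _ = 1 := by rw [z_sq h, mul_one, hx2]
          rw [this] at hyy; exact z_ne_one h hyy.symm
    have hord : c ^ orderOf c = 1 := pow_orderOf_eq_one c
    obtain ⟨k, hk⟩ := ho
    have hcr : c * r * c⁻¹ = r := by
      have hcc : c * r * c⁻¹ * (c * r * c⁻¹) = z := by
        rw [show c * r * c⁻¹ * (c * r * c⁻¹) = c * (r * r) * c⁻¹ by group, hrr, hcz]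
      rcases hsq _ (hmem r hr) hcc with e | e
      · exact e
      · exfalso
        have key : ∀ j : ℕ, c ^ (2 * j) * r * (c ^ (2 * j))⁻¹ = r := by
          intro j
          induction j with
          | zero => simp
          | succ j ih =>
            have h2 : c * (r * z) * c⁻¹ = r := by
              calc c * (r * z) * c⁻¹ = (c * r * c⁻¹) * (c * z * c⁻¹) := by group
                _ = r := by rw [e, hcz, mul_assoc, z_sq h, mul_one]
            calc c ^ (2 * (j + 1)) * r * (c ^ (2 * (j + 1)))⁻¹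
                = c * (c * (c ^ (2 * j) * r * (c ^ (2 * j))⁻¹) * c⁻¹) * c⁻¹ := by
                  rw [show 2 * (j + 1) = 2 * j + 1 + 1 by ring, pow_succ', pow_succ']; group
              _ = r := by rw [ih, e, h2]
        have h3 := key k
        have : c ^ (2 * k + 1) * r * (c ^ (2 * k + 1))⁻¹ = r * z := by
          calc c ^ (2 * k + 1) * r * (c ^ (2 * k + 1))⁻¹ = c * (c ^ (2 * k) * r * (c ^ (2 * k))⁻¹) * c⁻¹ := by
                rw [pow_succ']; group
            _ = r * z := by rw [h3, e]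
        rw [← hk, hord] at this
        exact hrne (by simpa using this)
    have hcx : c * x * c⁻¹ = x := by
      obtain ⟨i, hi⟩ : ∃ i : ℕ, c * x * c⁻¹ = x * r ^ i := by
        have hy := hmem x hx
        have hr2 : r ^ 2 = z := by rw [pow_two, hrr]
        have hr3 : r ^ 3 = r * z := by rw [pow_succ', hr2]
        rcases comm_cases h hy hx with d | d
        · rcases hE _ hy (commutatorElement_eq_one_iff_mul_comm.mp d) with e | e | e | e
          · exfalso; apply h1
            calc x = c⁻¹ * (c * x * c⁻¹) * c := by group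
              _ = 1 := by rw [e]; group
          · exfalso; apply hxz
            calc x = c⁻¹ * (c * x * c⁻¹) * c := by group
              _ = c⁻¹ * (c * z * c⁻¹) * c := by rw [e, hcz]
              _ = z := by group
          · exact ⟨0, by rw [e, pow_zero, mul_one]⟩
          · exact ⟨2, by rw [e, hr2, hzx]⟩
        · have hyx : c * x * c⁻¹ * x = z * x * (c * x * c⁻¹) := mul_inv_eq_iff_eq_mul.mp (mul_inv_eq_iff_eq_mul.mp d)
          set y := c * x * c⁻¹ with hydef
          have he : (r⁻¹ * y) * x = x * (r⁻¹ * y) := by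
            calc r⁻¹ * y * x = r⁻¹ * (z * x * r) * (r⁻¹ * y) := by rw [mul_assoc, hyx]; group
              _ = r⁻¹ * (r * x) * (r⁻¹ * y) := by rw [hrx]
              _ = _ := by group
          have hyy : y * y = 1 := by
            rw [hydef, show c * x * c⁻¹ * (c * x * c⁻¹) = c * (x * x) * c⁻¹ by group, hx2]; group
          rcases hE _ ((Q z).mul_mem ((Q z).inv_mem hr) hy) he with e | e | e | e
          all_goals have e' := inv_mul_eq_iff_eq_mul.mp e
          · rw [e', mul_one, hrr] at hyy; exact absurd hyy (z_ne_one h)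
          · rw [e', show r * z * (r * z) = r * (z * r) * z by group, ← hrz, ← mul_assoc r r, hrr,
              mul_assoc, z_sq h, mul_one] at hyy
            exact absurd hyy (z_ne_one h)
          · refine ⟨3, ?_⟩
            rw [e', hr3, hrx, hzx, mul_assoc, hrz]
          · refine ⟨1, ?_⟩
            rw [e', pow_one, ← mul_assoc, hrz, mul_assoc, hrx, ← mul_assoc, ← mul_assoc, z_sq h, one_mul]
      have key : ∀ m : ℕ, c ^ m * x * (c ^ m)⁻¹ = x * (r ^ i) ^ m := by
        intro m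
        induction m with
        | zero => simp
        | succ m ih =>
          calc c ^ (m + 1) * x * (c ^ (m + 1))⁻¹ = c * (c ^ m * x * (c ^ m)⁻¹) * c⁻¹ := by rw [pow_succ']; group
            _ = (c * x * c⁻¹) * (c * (r ^ i) ^ m * c⁻¹) := by rw [ih]; group
            _ = (x * r ^ i) * (r ^ i) ^ m := by
              rw [hi, ← conj_pow, ← conj_pow, hcr]
            _ = _ := by rw [pow_succ', mul_assoc]
      have h3 := key (orderOf c)
      rw [hord] at h3
      simp only [one_mul, inv_one, mul_one] at h3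
      have hri : (r ^ i) ^ orderOf c = 1 := mul_eq_left.mp h3.symm
      have hr4 : (r ^ i) ^ 4 = 1 := by
        rw [← pow_mul, mul_comm, pow_mul, show r ^ 4 = (r * r) * (r * r) by simp [pow_succ, mul_assoc],
          hrr, z_sq h, one_pow]
      have hg1 : orderOf (r ^ i) = 1 := by
        have hd1 := orderOf_dvd_of_pow_eq_one hri
        have hd2 : orderOf (r ^ i) ∣ 4 := orderOf_dvd_of_pow_eq_one hr4
        have hco : (orderOf c).Coprime 4 :=
          (Nat.coprime_pow_right_iff (n := 2) (by norm_num) _ 2).mpr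
            (Nat.coprime_two_right.mpr ⟨k, hk⟩)
        exact Nat.eq_one_of_dvd_coprimes hco hd1 hd2
      rw [hi, orderOf_eq_one_iff.mp hg1, mul_one]
    have hcq : c * q = q * c := hgen c (mul_inv_eq_iff_eq_mul.mp hcr) (mul_inv_eq_iff_eq_mul.mp hcx) hc
    have hcent : c ∈ Subgroup.centralizer ((Q z : Subgroup G) : Set G) := by
      rw [Subgroup.mem_centralizer_iff]
      intro y hy
      have : Subgroup.closure ({q, x, z} : Set G) ≤ Subgroup.centralizer ({c} : Set G) := by
        rw [Subgroup.closure_le]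
        rintro _ (rfl | rfl | rfl) <;> rw [SetLike.mem_coe, Subgroup.mem_centralizer_singleton_iff]
        · exact hcq.symm
        · exact (mul_inv_eq_iff_eq_mul.mp hcx).symm
        · exact hc.symm
      exact Subgroup.mem_centralizer_singleton_iff.mp (this (hQ8 y hy))
    obtain ⟨j, hj⟩ := Q_isPGroup h z ⟨c, h.hC hcent⟩
    have hj' : c ^ 2 ^ j = 1 := congrArg Subtype.val hj
    exact orderOf_eq_one_iff.mp (Nat.eq_one_of_dvd_coprimes
      (Nat.Coprime.pow_right j (Nat.coprime_two_right.mpr ⟨k, hk⟩)) dvd_rfl (orderOf_dvd_of_pow_eq_one hj'))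
  have h2 : IsPGroup 2 (Subgroup.centralizer ({z} : Set G)) := by
    intro c
    obtain ⟨j, m, hm, hjm⟩ := Nat.exists_eq_pow_mul_and_not_dvd (orderOf_pos (c : G)).ne' 2 (by norm_num)
    refine ⟨j, Subtype.ext ?_⟩
    rw [Subgroup.coe_pow, Subgroup.coe_one]
    refine hodd _ (Subgroup.mem_centralizer_singleton_iff.mp (pow_mem c.2 _)) ?_
    rw [orderOf_pow' _ (by positivity), hjm, Nat.gcd_eq_right (dvd_mul_right _ _),
      Nat.mul_div_cancel_left _ (by positivity)]
    exact Nat.odd_iff.mpr (Nat.two_dvd_ne_zero.mp hm)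
  exact le_Q h _ h2 (fun r hr => Subgroup.mem_centralizer_singleton_iff.mp hr)
    (fun a ha r hr => (Subgroup.centralizer ({z} : Set G)).mul_mem ((Subgroup.centralizer ({z} : Set G)).mul_mem
      (Subgroup.mem_centralizer_singleton_iff.mpr ha) hr) ((Subgroup.centralizer ({z} : Set G)).inv_mem
      (Subgroup.mem_centralizer_singleton_iff.mpr ha)))
    (Subgroup.mem_centralizer_singleton_iff.mpr hg)

/-- Symmetry of the relation. -/
theorem mem_Q_symm {g : G} (hx : g * z * g⁻¹ ∈ Q z) : z ∈ Q (g * z * g⁻¹) := by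
  set x := g * z * g⁻¹ with hxdef
  have hs : Setup Q x := conj_setup h
  by_cases hxz : x = z
  · rw [hxz]; exact z_mem h
  by_contra hz'
  have h1 : x ≠ 1 := z_ne_one hs
  have hxQ : x ∈ Q x := z_mem hs
  have hx2 : x * x = 1 := z_sq hs
  have hzx : z * x = x * z := (Q_le_cent h z hx).symm
  have hsmall := fun s => inf_small h (s := s) hx hxQ hx2 hz' h1 hxz
  obtain ⟨q, hq, hqx⟩ := exists_mover h hx h1 hxz
  -- no element of the second subgroup moves `z` to `z * x`
  have hexcl : ∀ w ∈ Q x, w * z * w⁻¹ ≠ z * x := by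
    intro w hw e
    have hwx : w * x * w⁻¹ = x := by rw [Q_le_cent h x hw, mul_inv_cancel_right]
    have hxy : x ∈ Q (z * x) := by
      rw [← e]
      have := mem_Q_conj h (g := w) hx
      rwa [hwx] at this
    have hs' : Setup Q (z * x) := e ▸ conj_setup h (g := w)
    have hyz : z * x ∈ Q z := (Q z).mul_mem (z_mem h) hx
    have hzy : z ∈ Q (z * x) := by
      by_contra hn
      rcases inf_small h hyz (z_mem hs') (z_sq hs') hn (fun e => hxz ((eq_inv_of_mul_eq_one_right e).trans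
        (inv_eq_of_mul_eq_one_right (z_sq h)))) (fun e => h1 (mul_eq_left.mp e)) hx hxy with c | c
      · exact h1 c
      · exact z_ne_one h (mul_eq_right.mp c.symm)
    have := mem_Q_conj h (g := q⁻¹) hzy
    rw [show q⁻¹ * z * q⁻¹⁻¹ = z by rw [inv_inv, mul_assoc, ← Q_le_cent h z hq, inv_mul_cancel_left],
      show q⁻¹ * (z * x) * q⁻¹⁻¹ = x by rw [← hqx]; group] at this
    exact hz' this
  have hxc : ∀ w ∈ Q x, w * x = x * w := fun w hw => Q_le_cent h x hw
  -- the centralizer of `x` in the first acts trivially on the centralizer of `z` in the second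
  have htriv : ∀ e ∈ Q z, e * x = x * e → ∀ d ∈ Q x, d * z = z * d →
      e * d * e⁻¹ = d ∨ e * d * e⁻¹ = x * d := by
    intro e he hex d hd hdz
    have m1 : e * d * e⁻¹ * d⁻¹ ∈ Q x := (Q x).mul_mem (conj_mem_Q h hex hd) ((Q x).inv_mem hd)
    have m2 : e * d * e⁻¹ * d⁻¹ ∈ Q z := by
      rw [show e * d * e⁻¹ * d⁻¹ = e * (d * e⁻¹ * d⁻¹) by group]
      exact (Q z).mul_mem he (conj_mem_Q h hdz ((Q z).inv_mem he))
    rcases hsmall _ m2 m1 with c | c
    · exact Or.inl (mul_inv_eq_one.mp c)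
    · exact Or.inr (mul_inv_eq_iff_eq_mul.mp c)
  -- commutators with `z`
  have hcz : ∀ w ∈ Q x, (w * z * w⁻¹ * z) * z = z * (w * z * w⁻¹ * z) ∧ w * z * w⁻¹ * z ∈ Q x := by
    intro w hw
    set c := w * z * w⁻¹ * z with hc
    have hzi : z⁻¹ = z := inv_eq_of_mul_eq_one_right (z_sq h)
    have hcQ : c ∈ Q x := by
      rw [hc, show w * z * w⁻¹ * z = w * (z * w⁻¹ * z⁻¹) by rw [hzi]; group]
      exact (Q x).mul_mem hw (conj_mem_Q h hzx ((Q x).inv_mem hw))
    refine ⟨?_, hcQ⟩
    have hinv : z * c * z = c⁻¹ := by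
      rw [hc]
      calc z * (w * z * w⁻¹ * z) * z = z * w * z * w⁻¹ * (z * z) := by group
        _ = z⁻¹ * w * z⁻¹ * w⁻¹ := by rw [z_sq h, mul_one, hzi]
        _ = _ := by group
    rcases comm_cases hs hcQ hcQ with c2 | c2
    all_goals
      have hsq : c * c = 1 ∨ c * c = x := by
        obtain ⟨⟨h2, hf, -⟩, -⟩ := hs.hE
        have hm : (⟨c, hcQ⟩ : Q x) ^ 2 ∈ frattini (Q x) := Cfsg.Agent.Struct.CoprimeMinimal.pow_mem_frattini h2 _
        rw [hf, pow_two] at hm
        exact center_eq hs ((Q x).mul_mem hcQ hcQ)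
          (fun y hy => congrArg Subtype.val (Subgroup.mem_center_iff.mp hm ⟨y, hy⟩))
      rcases hsq with e | e
      · have : z * c * z = c := hinv.trans (inv_eq_of_mul_eq_one_right e)
        calc c * z = z * c * z * z := by rw [this]
          _ = z * c := by rw [mul_assoc, z_sq h, mul_one]
      · exfalso
        refine hexcl c hcQ ?_
        have hci : c⁻¹ = z * c * z := hinv.symm
        calc c * z * c⁻¹ = c * z * (z * c * z) := by rw [hci]
          _ = c * (z * z) * c * z := by group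
          _ = (c * c) * z := by rw [z_sq h, mul_one]
          _ = z * x := by rw [e, hzx]
  have hxQm : ∀ i : ℕ, x ^ i ∈ Q x := fun i => (Q x).pow_mem hxQ i
  have hrel : ∀ a b : G, (a = b ∨ a = x * b) → ∃ i : ℕ, a = x ^ i * b := by
    rintro a b (e | e)
    · exact ⟨0, by rw [e, pow_zero, one_mul]⟩
    · exact ⟨1, by rw [e, pow_one]⟩
  have hxp : ∀ (i : ℕ), x ^ i = 1 ∨ x ^ i = x := by
    intro i
    obtain ⟨j, rfl | rfl⟩ := Nat.even_or_odd' i
    · exact Or.inl (by rw [pow_mul, pow_two, hx2, one_pow])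
    · exact Or.inr (by rw [pow_succ, pow_mul, pow_two, hx2, one_pow, one_mul])
  have hxcomm : ∀ (i : ℕ), ∀ v ∈ Q x, Commute (x ^ i) v := fun i v hv =>
    (show Commute x v from (hxc v hv).symm).pow_left i
  have hu : ∀ e ∈ Q z, e * x = x * e → ∀ w ∈ Q x,
      (e * w * e⁻¹ * w⁻¹) * z = z * (e * w * e⁻¹ * w⁻¹) := by
    intro e he hex w hw
    obtain ⟨hc1, hc2⟩ := hcz w hw
    set c := w * z * w⁻¹ * z with hc
    set u := e * w * e⁻¹ * w⁻¹ with hu
    have huQ : u ∈ Q x := (Q x).mul_mem (conj_mem_Q h hex hw) ((Q x).inv_mem hw)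
    have hez : e * z * e⁻¹ = z := by rw [Q_le_cent h z he, mul_inv_cancel_right]
    have hece : e * c * e⁻¹ = (u * w) * z * (u * w)⁻¹ * z := by
      calc e * c * e⁻¹ = (e * w * e⁻¹) * (e * z * e⁻¹) * (e * w * e⁻¹)⁻¹ * (e * z * e⁻¹) := by
            rw [hc]; group
        _ = _ := by rw [hez, hu, inv_mul_cancel_right]
    have hwz : w * z * w⁻¹ = c * z := by rw [hc, mul_assoc (w * z * w⁻¹) z z, z_sq h, mul_one]
    obtain ⟨i, hi⟩ := hrel _ _ (htriv e he hex c hc2 hc1)
    obtain ⟨j, hj⟩ : ∃ j : ℕ, u * c * u⁻¹ = x ^ j * c := by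
      rcases comm_cases hs huQ hc2 with d | d
      · exact ⟨0, by rw [pow_zero, one_mul]; exact mul_inv_eq_one.mp d⟩
      · exact ⟨1, by rw [pow_one]; exact mul_inv_eq_iff_eq_mul.mp d⟩
    have e2 : (u * w) * z * (u * w)⁻¹ * z = (u * c * u⁻¹) * (u * z * u⁻¹ * z) := by
      calc (u * w) * z * (u * w)⁻¹ * z = u * (w * z * w⁻¹) * u⁻¹ * z := by group
        _ = u * (c * z) * u⁻¹ * z := by rw [hwz]
        _ = _ := by group
    have e3 : u * z * u⁻¹ * z = (x ^ j)⁻¹ * x ^ i := by
      rw [hece, e2, hj, (hxcomm i c hc2).eq, (hxcomm j c hc2).eq, mul_assoc, mul_right_inj] at hi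
      rw [← hi]; group
    have e4 : u * z * u⁻¹ * z = 1 ∨ u * z * u⁻¹ * z = x := by
      rw [e3]
      rcases hxp i with a | a <;> rcases hxp j with b | b <;> rw [a, b] <;>
        simp [inv_eq_of_mul_eq_one_right hx2, hx2]
    rcases e4 with f | f
    · have := mul_eq_one_iff_eq_inv.mp f
      rw [inv_eq_of_mul_eq_one_right (z_sq h)] at this
      exact mul_inv_eq_iff_eq_mul.mp this
    · refine absurd ?_ (hexcl u huQ)
      rw [hzx, ← f, mul_assoc (u * z * u⁻¹) z z, z_sq h, mul_one]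
  by_cases hab : ∀ a ∈ Q z, a * x = x * a → ∀ b ∈ Q z, b * x = x * b → a * b = b * a
  · -- the centralizers have order eight
    refine hz' ?_
    have hg : g⁻¹ * z * g ∈ Q z := degenerate h hx h1 hxz hx2 hq hqx hab (g := g⁻¹ * z * g) (by
      have hk : x * z = z * x := hzx.symm
      rw [hxdef] at hk
      calc g⁻¹ * z * g * z = g⁻¹ * (z * (g * z * g⁻¹)) * g := by group
        _ = g⁻¹ * ((g * z * g⁻¹) * z) * g := by rw [hk]
        _ = _ := by group)
    have := mem_Q_conj h (g := g) hg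
    rwa [show g * (g⁻¹ * z * g) * g⁻¹ = z by group] at this
  push Not at hab
  obtain ⟨e₁, he₁, hx₁, e₂, he₂, hx₂, hne⟩ := hab
  have hz12 : e₁ * e₂ * e₁⁻¹ * e₂⁻¹ = z := (comm_cases h he₁ he₂).resolve_left
    (fun d => hne (commutatorElement_eq_one_iff_mul_comm.mp d))
  refine hz' (hs.hC (Subgroup.mem_centralizer_iff.mpr fun w hw => ?_))
  set u₁ := e₁ * w * e₁⁻¹ * w⁻¹ with hu1
  set u₂ := e₂ * w * e₂⁻¹ * w⁻¹ with hu2
  have m1 : u₁ ∈ Q x := (Q x).mul_mem (conj_mem_Q h hx₁ hw) ((Q x).inv_mem hw)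
  have m2 : u₂ ∈ Q x := (Q x).mul_mem (conj_mem_Q h hx₂ hw) ((Q x).inv_mem hw)
  obtain ⟨i, hi⟩ := hrel _ _ (htriv e₁ he₁ hx₁ u₂ m2 (hu e₂ he₂ hx₂ w hw))
  obtain ⟨j, hj⟩ := hrel _ _ (htriv e₂ he₂ hx₂ u₁ m1 (hu e₁ he₁ hx₁ w hw))
  obtain ⟨k, hk⟩ : ∃ k : ℕ, u₁ * u₂ = x ^ k * (u₂ * u₁) := by
    refine hrel _ _ ?_
    rcases comm_cases hs m1 m2 with d | d
    · exact Or.inl (commutatorElement_eq_one_iff_mul_comm.mp d)
    · right
      rw [← d]; group
  have f1 : (e₁ * e₂) * w * (e₁ * e₂)⁻¹ = x ^ i * (u₂ * u₁ * w) := by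
    rw [show (e₁ * e₂) * w * (e₁ * e₂)⁻¹ = (e₁ * u₂ * e₁⁻¹) * (u₁ * w) by rw [hu1, hu2]; group, hi]
    group
  have f2 : (e₂ * e₁) * w * (e₂ * e₁)⁻¹ = x ^ (j + k) * (u₂ * u₁ * w) := by
    rw [show (e₂ * e₁) * w * (e₂ * e₁)⁻¹ = (e₂ * u₁ * e₂⁻¹) * (u₂ * w) by rw [hu1, hu2]; group, hj,
      mul_assoc, ← mul_assoc u₁ u₂ w, hk, pow_add]
    group
  have hrel12 : e₁ * e₂ = z * (e₂ * e₁) := by rw [← hz12]; group
  have hzu : Commute z (x ^ (j + k) * (u₂ * u₁)) :=
    (show Commute z x from hzx).pow_right (j + k) |>.mul_right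
      ((show Commute z u₂ from (hu e₂ he₂ hx₂ w hw).symm).mul_right (hu e₁ he₁ hx₁ w hw).symm)
  have f3 : (x ^ (j + k) * (u₂ * u₁)) * (z * w * z⁻¹) = x ^ i * (u₂ * u₁ * w) := by
    calc (x ^ (j + k) * (u₂ * u₁)) * (z * w * z⁻¹)
        = (x ^ (j + k) * (u₂ * u₁) * z) * w * z⁻¹ := by group
      _ = z * (x ^ (j + k) * (u₂ * u₁ * w)) * z⁻¹ := by rw [← hzu.eq]; group
      _ = (z * (e₂ * e₁)) * w * (z * (e₂ * e₁))⁻¹ := by rw [← f2]; group
      _ = _ := by rw [← hrel12, f1]
  have f4 : z * w * z⁻¹ = (x ^ (j + k))⁻¹ * x ^ i * w := by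
    have hcm : Commute (x ^ i) (u₂ * u₁) := (hxcomm i _ ((Q x).mul_mem m2 m1))
    have hcm' : Commute ((x ^ (j + k))⁻¹) (u₂ * u₁) := (hxcomm (j + k) _ ((Q x).mul_mem m2 m1)).inv_left
    apply mul_left_cancel (a := x ^ (j + k) * (u₂ * u₁))
    rw [f3]
    calc x ^ i * (u₂ * u₁ * w) = (x ^ i * (u₂ * u₁)) * w := by group
      _ = (u₂ * u₁) * x ^ i * w := by rw [hcm.eq]
      _ = x ^ (j + k) * ((x ^ (j + k))⁻¹ * (u₂ * u₁)) * x ^ i * w := by group
      _ = x ^ (j + k) * ((u₂ * u₁) * (x ^ (j + k))⁻¹) * x ^ i * w := by rw [hcm'.eq]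
      _ = _ := by group
  have ha : z * w * z⁻¹ = w ∨ z * w * z⁻¹ = x * w := by
    rw [f4]
    rcases hxp i with a | a <;> rcases hxp (j + k) with b | b <;> rw [a, b] <;>
      simp [inv_eq_of_mul_eq_one_right hx2, hx2]
  rcases ha with hza | hza
  · exact (mul_inv_eq_iff_eq_mul.mp hza).symm
  · exfalso
    refine hexcl w hw ?_
    calc w * z * w⁻¹ = x⁻¹ * (x * w) * z * w⁻¹ := by group
      _ = x⁻¹ * (z * w * z⁻¹) * z * w⁻¹ := by rw [hza]
      _ = x⁻¹ * z := by group
      _ = z * x := by rw [inv_eq_of_mul_eq_one_right hx2, hzx]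

/-- Elements outside a subgroup generated by `z` and a list are moved by some element centralizing the list. -/
theorem exists_mover_list : ∀ (L : List G), (∀ m ∈ L, m ∈ Q z) → ∀ a ∈ Q z,
    a ∉ Subgroup.closure ({z} ∪ {m | m ∈ L}) →
    ∃ q ∈ Q z, (∀ m ∈ L, q * m = m * q) ∧ q * a * q⁻¹ = z * a := by
  intro L
  induction L with
  | nil =>
    intro _ a ha hna
    obtain ⟨q, hq, e⟩ := exists_mover h ha
      (fun e => hna (e ▸ one_mem _)) (fun e => hna (e ▸ Subgroup.subset_closure (Or.inl rfl)))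
    exact ⟨q, hq, fun m hm => absurd hm (by simp), e⟩
  | cons m L ih =>
    intro hL a ha hna
    have hmQ : m ∈ Q z := hL m (by simp)
    have hLQ : ∀ k ∈ L, k ∈ Q z := fun k hk => hL k (by simp [hk])
    set C := Subgroup.closure ({z} ∪ {k | k ∈ L}) with hC
    set C' := Subgroup.closure ({z} ∪ {k | k ∈ m :: L}) with hC'
    have hCC' : C ≤ C' := by
      refine Subgroup.closure_mono fun k hk => ?_
      rcases hk with hk | hk
      · exact Or.inl hk
      · exact Or.inr (List.mem_cons_of_mem _ hk)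
    have hmC' : m ∈ C' := Subgroup.subset_closure (Or.inr (by simp))
    have move : ∀ q ∈ Q z, ∀ b ∈ Q z, q * b = b * q ∨ q * b * q⁻¹ = z * b := fun q hq b hb =>
      (comm_cases h hq hb).imp commutatorElement_eq_one_iff_mul_comm.mp mul_inv_eq_iff_eq_mul.mp
    have hz2 := z_sq h
    have hzc : ∀ y ∈ Q z, y * z = z * y := fun y hy => Q_le_cent h z hy
    obtain ⟨q₁, hq₁, hL₁, ha₁⟩ := ih hLQ a ha (fun hh => hna (hCC' hh))
    rcases move q₁ hq₁ m hmQ with hm₁ | hm₁
    · exact ⟨q₁, hq₁, fun k hk => (List.mem_cons.mp hk).elim (fun e => e ▸ hm₁) (hL₁ k), ha₁⟩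
    obtain ⟨q₂, hq₂, hL₂, hma₂⟩ := ih hLQ (m * a) ((Q z).mul_mem hmQ ha) (fun hh => hna (by
      have := C'.mul_mem (C'.inv_mem hmC') (hCC' hh)
      rwa [inv_mul_cancel_left] at this))
    have hz1 := z_ne_one h
    have hsplit : q₂ * (m * a) * q₂⁻¹ = (q₂ * m * q₂⁻¹) * (q₂ * a * q₂⁻¹) := by group
    rcases move q₂ hq₂ m hmQ with hm₂ | hm₂
    · refine ⟨q₂, hq₂, fun k hk => (List.mem_cons.mp hk).elim (fun e => e ▸ hm₂) (hL₂ k), ?_⟩
      rw [hsplit, mul_inv_eq_iff_eq_mul.mpr hm₂, ← mul_assoc z m a, ← hzc m hmQ, mul_assoc m z a] at hma₂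
      exact mul_left_cancel hma₂
    · have ha₂ : q₂ * a = a * q₂ := by
        rw [hsplit, hm₂, mul_assoc z m] at hma₂
        exact mul_inv_eq_iff_eq_mul.mp (mul_left_cancel (mul_left_cancel hma₂))
      refine ⟨q₁ * q₂, (Q z).mul_mem hq₁ hq₂, ?_, ?_⟩
      · intro k hk
        rcases List.mem_cons.mp hk with e | hk
        · rw [e]
          apply mul_inv_eq_iff_eq_mul.mp
          calc q₁ * q₂ * m * (q₁ * q₂)⁻¹ = q₁ * (q₂ * m * q₂⁻¹) * q₁⁻¹ := by group
            _ = (q₁ * z * q₁⁻¹) * (q₁ * m * q₁⁻¹) := by rw [hm₂]; group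
            _ = m := by rw [hzc q₁ hq₁, mul_inv_cancel_right, hm₁, ← mul_assoc, hz2, one_mul]
        · rw [mul_assoc, hL₂ k hk, ← mul_assoc, hL₁ k hk, mul_assoc]
      · calc q₁ * q₂ * a * (q₁ * q₂)⁻¹ = q₁ * (q₂ * a * q₂⁻¹) * q₁⁻¹ := by group
          _ = z * a := by rw [mul_inv_eq_iff_eq_mul.mpr ha₂, ha₁]

/-- The same for a subgroup. -/
theorem exists_mover_subgroup {H : Subgroup G} (hH : H ≤ Q z) (hzH : z ∈ H) {a : G} (ha : a ∈ Q z)
    (hna : a ∉ H) : ∃ q ∈ Q z, (∀ m ∈ H, q * m = m * q) ∧ q * a * q⁻¹ = z * a := by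
  classical
  let L := (H : Set G).toFinite.toFinset.toList
  have hL : ∀ m, m ∈ L ↔ m ∈ H := fun m => by simp [L]
  obtain ⟨q, hq, hc, hqa⟩ := exists_mover_list h L (fun m hm => hH ((hL m).mp hm)) a ha (fun hh => hna (by
    refine (Subgroup.closure_le H).mpr ?_ hh
    rintro k (hk | hk)
    · rw [Set.mem_singleton_iff.mp hk]; exact hzH
    · exact (hL k).mp hk))
  exact ⟨q, hq, fun m hm => hc m ((hL m).mpr hm), hqa⟩

end Cfsg.Agent.LargeEx
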