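import Mathlib
import Cfsg.Agent.Lib.Struct.ExtremelyPrimitive

/-!
Manning: in a primitive group whose point stabilizer is primitive on each of its orbits, the stabilizer is
faithful on each non-trivial orbit.
-/

set_option autoImplicit false

namespace Cfsg.Agent.Struct.ExtremelyPrimitive

open Subgroup MulAction
open scoped Pointwise

variable {G : Type*} [Group G] {Ω : Type*} [MulAction G Ω]

theorem card_orbit_stab [Finite G] (x y : Ω) :
    Nat.card (orbit (stabilizer G x) y) * Nat.card (stabilizer G x ⊓ stabilizer G y : Subgroup G) =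
      Nat.card (stabilizer G x) := by
  have e1 : Nat.card (orbit (stabilizer G x) y) = (stabilizer (stabilizer G x) y).index := by
    rw [index_stabilizer, Nat.card_coe_set_eq]
  have e2 : stabilizer (stabilizer G x) y = (stabilizer G x ⊓ stabilizer G y).subgroupOf (stabilizer G x) := by
    ext a
    simp only [mem_stabilizer_iff, mem_subgroupOf, Subgroup.mem_inf]
    exact ⟨fun h => ⟨a.2, h⟩, fun h => h.2⟩
  rw [e1, e2, ← (stabilizer G x ⊓ stabilizer G y).subgroupOf (stabilizer G x) |>.index_mul_card]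
  congr 1
  exact Nat.card_congr (subgroupOfEquivOfLe inf_le_left).symm.toEquiv

theorem manning [Finite G] [FaithfulSMul G Ω] (hprim : IsPreprimitive G Ω)
    (hep : ∀ (α ω : Ω), IsPreprimitive (stabilizer G α) (orbit (stabilizer G α) ω))
    {α ω : Ω} (hω : ω ≠ α) (h : G) (hh : h ∈ stabilizer G α)
    (hfix : ∀ x ∈ orbit (stabilizer G α) ω, h • x = x) : h = 1 := by
  classical
  haveI := hprim
  haveI : Nontrivial Ω := ⟨⟨ω, α, hω⟩⟩
  haveI : Finite Ω := by
    refine Finite.of_surjective (fun g : G => g • α) fun x => exists_smul_eq G α x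
  set H := stabilizer G α with hH
  have hcoat : IsCoatom H := IsPreprimitive.isCoatom_stabilizer_of_isPreprimitive G α
  -- the kernel on the orbit
  let K : Subgroup G :=
    { carrier := {k | k ∈ H ∧ ∀ x ∈ orbit H ω, k • x = x}
      one_mem' := ⟨H.one_mem, fun x _ => one_smul _ _⟩
      mul_mem' := fun {a b} ha hb => ⟨H.mul_mem ha.1 hb.1, fun x hx => by
        rw [mul_smul, hb.2 x hx, ha.2 x hx]⟩
      inv_mem' := fun {a} ha => ⟨H.inv_mem ha.1, fun x hx => by
        rw [inv_smul_eq_iff, ha.2 x hx]⟩ }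
  have hKn : ∀ u ∈ H, ∀ k ∈ K, u * k * u⁻¹ ∈ K := by
    intro u hu k hk
    refine ⟨H.mul_mem (H.mul_mem hu hk.1) (H.inv_mem hu), fun x hx => ?_⟩
    have hx' : u⁻¹ • x ∈ orbit H ω := by
      obtain ⟨v, rfl⟩ := hx
      exact ⟨(⟨u, hu⟩ : H)⁻¹ * v, mul_smul (⟨u, hu⟩ : H)⁻¹ v ω⟩
    rw [mul_smul, mul_smul, hk.2 _ hx', smul_inv_smul]
  by_contra h1
  have hK : h ∈ K := ⟨hh, hfix⟩
  set F : Set Ω := {x | ∀ k ∈ K, k • x = x} with hF
  have hαF : α ∈ F := fun k hk => hk.1
  have hωF : ω ∈ F := fun k hk => hk.2 ω (mem_orbit_self ω)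
  obtain ⟨z₁, hz₁⟩ : ∃ z, z ∉ F := by
    by_contra hall
    push Not at hall
    exact h1 (FaithfulSMul.eq_of_smul_eq_smul (α := Ω) fun x => by rw [one_smul]; exact hall x h hK)
  have hHF : ∀ u ∈ H, ∀ x ∈ F, u • x ∈ F := by
    intro u hu x hx k hk
    have := hx _ (by simpa using hKn u⁻¹ (H.inv_mem hu) k hk : u⁻¹ * k * u ∈ K)
    rw [mul_smul, mul_smul, inv_smul_eq_iff] at this
    exact this
  -- the orbit of a moved point is an orbit of the kernel
  have hmove : ∀ z, z ∉ F → ∀ u ∈ H, ∃ k ∈ K, u • z = k • z := by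
    intro z hz u hu
    have hKH : K ≤ normalizer (K : Set G) := le_normalizer
    have hL : K ⊔ (H ⊓ stabilizer G z) = H := by
      by_contra hne
      apply hz
      have := orbitMax α (hep α) z (K ⊔ (H ⊓ stabilizer G z)) le_sup_right
        (sup_le (fun k hk => hk.1) inf_le_left) hne
      exact fun k hk => this (mem_sup_left hk)
    have hn : H ⊓ stabilizer G z ≤ normalizer (K : Set G) := fun v hv =>
      mem_normalizer_iff.2 fun k => ⟨hKn v hv.1 k, fun hk => by
        have := hKn v⁻¹ (H.inv_mem hv.1) _ hk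
        simpa [mul_assoc] using this⟩
    rw [← hL, ← SetLike.mem_coe, coe_mul_of_right_le_normalizer_left _ _ hn] at hu
    obtain ⟨k, hk, v, hv, rfl⟩ := hu
    exact ⟨k, hk, by show (k * v) • z = k • z; rw [mul_smul, show v • z = z from hv.2]⟩
  -- the largest fixed orbit
  obtain ⟨γ, hγ, hmax⟩ := Set.exists_max_image (F \ {α}) (fun x => Nat.card (orbit H x))
    (Set.toFinite _) ⟨ω, hωF, hω⟩
  obtain ⟨g, hg⟩ := exists_smul_eq G α γ
  have hsub : ∀ z0 ∈ F, g • z0 ∈ F := by
    intro z0 hz0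
    by_contra hz
    set z := g • z0 with hzdef
    have hz0α : z0 ≠ α := fun e => hz (by rw [hzdef, e, hg]; exact hγ.1)
    have hle : orbit H γ ⊆ orbit (stabilizer G z) γ := by
      rintro _ ⟨u, rfl⟩
      obtain ⟨k, hk, e⟩ := hmove z hz u u.2
      refine ⟨⟨k⁻¹ * u, mem_stabilizer_iff.2 (by rw [mul_smul, e, inv_smul_smul])⟩, ?_⟩
      show (k⁻¹ * (u : G)) • γ = (u : G) • γ
      rw [mul_smul, inv_smul_eq_iff, hHF u u.2 γ hγ.1 k hk]
    have hcard : Nat.card (orbit (stabilizer G z) γ) = Nat.card (orbit H z0) := by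
      have h1 := card_orbit_stab (G := G) z γ
      have h2 := card_orbit_stab (G := G) α z0
      have h3 : Nat.card (stabilizer G z) = Nat.card (stabilizer G α) := by
        obtain ⟨a, ha⟩ := exists_smul_eq G α z
        rw [← ha, stabilizer_smul_eq_stabilizer_map_conj]
        exact card_map_of_injective (MulEquiv.injective _)
      have h4 : Nat.card (stabilizer G z ⊓ stabilizer G γ : Subgroup G) =
          Nat.card (stabilizer G α ⊓ stabilizer G z0 : Subgroup G) := by
        rw [hzdef, ← hg, stabilizer_smul_eq_stabilizer_map_conj,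
          stabilizer_smul_eq_stabilizer_map_conj, ← map_inf _ _ _ (MulEquiv.injective _), inf_comm]
        exact card_map_of_injective (MulEquiv.injective _)
      rw [h3, h4] at h1
      rw [← h2] at h1
      exact Nat.eq_of_mul_eq_mul_right Nat.card_pos h1
    have hle' : Nat.card (orbit H z0) ≤ Nat.card (orbit H γ) := hmax z0 ⟨hz0, hz0α⟩
    have heq : orbit H γ = orbit (stabilizer G z) γ := by
      refine Set.eq_of_subset_of_ncard_le hle ?_ (Set.toFinite _)
      rw [← Nat.card_coe_set_eq, ← Nat.card_coe_set_eq, hcard]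
      exact hle'
    set S := stabilizer G (orbit H γ : Set Ω)
    have hHS : H ≤ S := fun u hu => by
      show u • orbit H γ = orbit H γ
      exact smul_orbit (⟨u, hu⟩ : H) γ
    have hzS : stabilizer G z ≤ S := fun u hu => by
      show u • orbit H γ = orbit H γ
      rw [heq]
      exact smul_orbit (⟨u, hu⟩ : stabilizer G z) γ
    rcases hcoat.le_iff.1 hHS with e | e
    · obtain ⟨a, ha⟩ := exists_smul_eq G γ α
      have : a • orbit H γ = orbit H γ := (e ▸ mem_top a : a ∈ S)
      have hα : α ∈ orbit H γ := this ▸ ⟨γ, mem_orbit_self γ, ha⟩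
      obtain ⟨u, hu⟩ := hα
      exact hγ.2 (smul_left_cancel (u : G) (hu.trans u.2.symm))
    · rw [e] at hzS
      obtain ⟨a, ha⟩ := exists_smul_eq G α z
      have heqH : stabilizer G z = H := eq_of_le_of_card_ge hzS (le_of_eq (by
        rw [hH, ← ha, stabilizer_smul_eq_stabilizer_map_conj]
        exact (card_map_of_injective (MulEquiv.injective _)).symm))
      exact hz fun k hk => (heqH ▸ hk.1 : k ∈ stabilizer G z)
  have hgF : g • F = F := by
    refine Set.eq_of_subset_of_ncard_le (fun _ ⟨x, hx, e⟩ => e ▸ hsub x hx) ?_ (Set.toFinite _)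
    rw [Set.ncard_smul_set]
  set S := stabilizer G F
  have hHS : H ≤ S := fun u hu => by
    show u • F = F
    refine Set.eq_of_subset_of_ncard_le (fun _ ⟨x, hx, e⟩ => e ▸ hHF u hu x hx) ?_ (Set.toFinite _)
    rw [Set.ncard_smul_set]
  rcases hcoat.le_iff.1 hHS with e | e
  · obtain ⟨a, ha⟩ := exists_smul_eq G α z₁
    have : a • F = F := (e ▸ mem_top a : a ∈ S)
    exact hz₁ (this ▸ ⟨α, hαF, ha⟩)
  · have hgH : g ∈ H := e ▸ (hgF : g ∈ S)
    exact hγ.2 (hg.symm.trans hgH)

end Cfsg.Agent.Struct.ExtremelyPrimitive
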