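import Mathlib

/-!
# Subgroups of `ZMod (p ^ n) × ZMod (p ^ n)` with the determinant pairing
-/

set_option autoImplicit false
set_option linter.style.haveILetI false
set_option linter.unusedSectionVars false

namespace Cfsg.Agent.Struct.SympPlane

variable {p n : ℕ}

/-- The determinant. -/
def det (v w : ZMod (p ^ n) × ZMod (p ^ n)) : ZMod (p ^ n) := v.1 * w.2 - v.2 * w.1

/-- The orthogonal subgroup. -/
def perp (N : AddSubgroup (ZMod (p ^ n) × ZMod (p ^ n))) : AddSubgroup (ZMod (p ^ n) × ZMod (p ^ n)) where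
  carrier := {v | ∀ w ∈ N, det v w = 0}
  zero_mem' := fun w _ => by simp [det]
  add_mem' := fun {u v} hu hv w hw => by
    have h1 := hu w hw
    have h2 := hv w hw
    simp only [det, Prod.fst_add, Prod.snd_add] at *
    linear_combination h1 + h2
  neg_mem' := fun {u} hu w hw => by
    have h1 := hu w hw
    simp only [det, Prod.fst_neg, Prod.snd_neg] at *
    linear_combination -h1

/-- All products vanish. -/
def Iso (N : AddSubgroup (ZMod (p ^ n) × ZMod (p ^ n))) : Prop := ∀ v ∈ N, ∀ w ∈ N, det v w = 0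

theorem le_perp_perp (N : AddSubgroup (ZMod (p ^ n) × ZMod (p ^ n))) : N ≤ perp (perp N) := by
  intro v hv w hw
  have h := hw v hv
  simp only [det] at *
  linear_combination -h

theorem iso_iff_le_perp {N : AddSubgroup (ZMod (p ^ n) × ZMod (p ^ n))} : Iso N ↔ N ≤ perp N :=
  Iff.rfl

/-- `N` has triangular shape with diagonal `p ^ α`, `p ^ β`. -/
structure Tri (N : AddSubgroup (ZMod (p ^ n) × ZMod (p ^ n))) (α β : ℕ) (c : ℤ) : Prop where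
  hα : α ≤ n
  hβ : β ≤ n
  hc : (p : ℤ) ^ β ∣ c * (p : ℤ) ^ (n - α)
  mem : ∀ v : ZMod (p ^ n) × ZMod (p ^ n),
    v ∈ N ↔ ∃ x y : ℤ, v = ((((p : ℤ) ^ α * x : ℤ) : ZMod (p ^ n)), (((c * x + (p : ℤ) ^ β * y : ℤ)) : ZMod (p ^ n)))

theorem cast_eq_zero_iff (z : ℤ) : (z : ZMod (p ^ n)) = 0 ↔ (p : ℤ) ^ n ∣ z := by
  rw [ZMod.intCast_zmod_eq_zero_iff_dvd, Nat.cast_pow]

theorem exists_tri [hp : Fact p.Prime] (N : AddSubgroup (ZMod (p ^ n) × ZMod (p ^ n))) :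
    ∃ α β c, Tri N α β c := by
  classical
  haveI : NeZero (p ^ n) := ⟨pow_ne_zero _ hp.out.ne_zero⟩
  have key : ∀ S : AddSubgroup ℤ, ((p : ℤ) ^ n) ∈ S → ∃ α, α ≤ n ∧ ∀ z, z ∈ S ↔ (p : ℤ) ^ α ∣ z := by
    intro S hS
    obtain ⟨d, rfl⟩ := Int.subgroup_cyclic S
    have hmem : ∀ z, z ∈ AddSubgroup.closure {d} ↔ d ∣ z := fun z => by
      rw [AddSubgroup.mem_closure_singleton]
      exact ⟨fun ⟨k, hk⟩ => ⟨k, by rw [← hk, smul_eq_mul, mul_comm]⟩,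
        fun ⟨k, hk⟩ => ⟨k, by rw [hk, smul_eq_mul, mul_comm]⟩⟩
    have hd : d ∣ (p : ℤ) ^ n := (hmem _).1 hS
    obtain ⟨i, hi, hid⟩ := (dvd_prime_pow (Nat.prime_iff_prime_int.1 hp.out) n).1 hd
    exact ⟨i, hi, fun z => by rw [hmem, hid.dvd_iff_dvd_left]⟩
  let f : ℤ × ℤ →+ ZMod (p ^ n) × ZMod (p ^ n) :=
    (Int.castAddHom (ZMod (p ^ n))).prodMap (Int.castAddHom (ZMod (p ^ n)))
  obtain ⟨α, hα, hαmem⟩ := key ((N.comap f).map (AddMonoidHom.fst ℤ ℤ))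
    ⟨((p : ℤ) ^ n, 0), by
      show f ((p : ℤ) ^ n, 0) ∈ N
      have : f ((p : ℤ) ^ n, 0) = 0 := Prod.ext ((cast_eq_zero_iff _).2 dvd_rfl) (by simp [f])
      rw [this]; exact zero_mem N, rfl⟩
  obtain ⟨β, hβ, hβmem⟩ := key ((N.comap f).comap (AddMonoidHom.inr ℤ ℤ)) (by
    show f (0, (p : ℤ) ^ n) ∈ N
    have : f (0, (p : ℤ) ^ n) = 0 := Prod.ext (by simp [f]) ((cast_eq_zero_iff _).2 dvd_rfl)
    rw [this]; exact zero_mem N)
  obtain ⟨⟨u, c⟩, huc, hu⟩ := (hαmem ((p : ℤ) ^ α)).2 dvd_rfl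
  change u = (p : ℤ) ^ α at hu
  subst hu
  refine ⟨α, β, c, hα, hβ, ?_, fun v => ?_⟩
  · rw [← hβmem]
    show f (0, c * (p : ℤ) ^ (n - α)) ∈ N
    have h1 : f ((p : ℤ) ^ α, c) ∈ N := huc
    have h2 := N.zsmul_mem h1 ((p : ℤ) ^ (n - α))
    rw [← map_zsmul] at h2
    have : f (((p : ℤ) ^ (n - α)) • ((p : ℤ) ^ α, c)) = f (0, c * (p : ℤ) ^ (n - α)) := by
      refine Prod.ext ?_ ?_
      · show (((p : ℤ) ^ (n - α) • (p : ℤ) ^ α : ℤ) : ZMod (p ^ n)) = ((0 : ℤ) : ZMod (p ^ n))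
        rw [Int.cast_zero, cast_eq_zero_iff, smul_eq_mul, ← pow_add, Nat.sub_add_cancel hα]
      · show (((p : ℤ) ^ (n - α) • c : ℤ) : ZMod (p ^ n)) = ((c * (p : ℤ) ^ (n - α) : ℤ) : ZMod (p ^ n))
        rw [smul_eq_mul, mul_comm]
    rwa [this] at h2
  constructor
  · intro hv
    obtain ⟨v₁, hv₁⟩ := ZMod.intCast_surjective v.1
    obtain ⟨v₂, hv₂⟩ := ZMod.intCast_surjective v.2
    have hf : f (v₁, v₂) = v := Prod.ext hv₁ hv₂
    obtain ⟨x, hx⟩ := (hαmem v₁).1 ⟨(v₁, v₂), show f (v₁, v₂) ∈ N from hf ▸ hv, rfl⟩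
    have h3 : f ((v₁, v₂) - x • ((p : ℤ) ^ α, c)) ∈ N := by
      rw [map_sub, map_zsmul, hf]
      exact sub_mem hv (N.zsmul_mem huc x)
    have h4 : (v₁, v₂) - x • ((p : ℤ) ^ α, c) = ((0 : ℤ), v₂ - c * x) :=
      Prod.ext (by simp [hx, mul_comm]) (by simp [mul_comm])
    rw [h4] at h3
    obtain ⟨y, hy⟩ := (hβmem (v₂ - c * x)).1 h3
    refine ⟨x, y, Prod.ext ?_ ?_⟩
    · rw [← hv₁, hx]
    · rw [← hv₂]; congr 1; linarith
  · rintro ⟨x, y, rfl⟩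
    have h1 : f ((p : ℤ) ^ α * x, c * x + (p : ℤ) ^ β * y) ∈ N := by
      have e : ((p : ℤ) ^ α * x, c * x + (p : ℤ) ^ β * y) = x • ((p : ℤ) ^ α, c) + ((0 : ℤ), (p : ℤ) ^ β * y) :=
        Prod.ext (by simp [mul_comm]) (by simp [mul_comm])
      rw [e, map_add, map_zsmul]
      exact add_mem (N.zsmul_mem huc x) ((hβmem _).2 (dvd_mul_right _ _))
    exact h1

theorem card_multiples [hp : Fact p.Prime] {α : ℕ} (hα : α ≤ n) :
    Nat.card (AddSubgroup.zmultiples ((((p : ℤ) ^ α : ℤ)) : ZMod (p ^ n))) = p ^ (n - α) := by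
  rw [Nat.card_zmultiples, show ((((p : ℤ) ^ α : ℤ)) : ZMod (p ^ n)) = ((p ^ α : ℕ) : ZMod (p ^ n)) by
    push_cast; rfl, ZMod.addOrderOf_coe _ (pow_ne_zero _ hp.out.ne_zero),
    Nat.gcd_eq_right (pow_dvd_pow p hα), Nat.pow_div hα hp.out.pos]

variable [hp : Fact p.Prime] {N : AddSubgroup (ZMod (p ^ n) × ZMod (p ^ n))} {α β : ℕ} {c : ℤ}

theorem Tri.card (h : Tri N α β c) : Nat.card N = p ^ ((n - α) + (n - β)) := by
  haveI : NeZero (p ^ n) := ⟨pow_ne_zero _ hp.out.ne_zero⟩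
  let g : N →+ ZMod (p ^ n) := (AddMonoidHom.fst _ _).comp N.subtype
  have hr : g.range = AddSubgroup.zmultiples ((((p : ℤ) ^ α : ℤ)) : ZMod (p ^ n)) := by
    ext z
    rw [AddSubgroup.mem_zmultiples_iff]
    constructor
    · rintro ⟨⟨v, hv⟩, rfl⟩
      obtain ⟨x, y, rfl⟩ := (h.mem v).1 hv
      exact ⟨x, by show _ = ((((p : ℤ) ^ α * x : ℤ)) : ZMod (p ^ n)); push_cast; rw [zsmul_eq_mul, mul_comm]⟩
    · rintro ⟨x, rfl⟩
      refine ⟨⟨_, (h.mem _).2 ⟨x, 0, rfl⟩⟩, ?_⟩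
      show ((((p : ℤ) ^ α * x : ℤ)) : ZMod (p ^ n)) = _
      push_cast; rw [zsmul_eq_mul, mul_comm]
  have hk : Nat.card g.ker = Nat.card (AddSubgroup.zmultiples ((((p : ℤ) ^ β : ℤ)) : ZMod (p ^ n))) := by
    let e : g.ker → AddSubgroup.zmultiples ((((p : ℤ) ^ β : ℤ)) : ZMod (p ^ n)) := fun v => ⟨v.1.1.2, by
      obtain ⟨x, y, hxy⟩ := (h.mem _).1 v.1.2
      have h0 : ((((p : ℤ) ^ α * x : ℤ)) : ZMod (p ^ n)) = 0 := by
        have := v.2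
        rw [AddMonoidHom.mem_ker] at this
        rw [← this]
        show _ = (v.1.1).1
        rw [hxy]
      rw [cast_eq_zero_iff] at h0
      have h1 : (p : ℤ) ^ (n - α) ∣ x := by
        rw [show (p : ℤ) ^ n = (p : ℤ) ^ α * (p : ℤ) ^ (n - α) by
          rw [← pow_add, Nat.add_sub_cancel' h.hα]] at h0
        exact (mul_dvd_mul_iff_left (pow_ne_zero _ (Int.natCast_ne_zero.2 hp.out.ne_zero))).1 h0
      obtain ⟨x', rfl⟩ := h1
      obtain ⟨w, hw⟩ := h.hc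
      rw [AddSubgroup.mem_zmultiples_iff]
      refine ⟨w * x' + y, ?_⟩
      rw [hxy, zsmul_eq_mul, ← Int.cast_mul]
      show _ = (((c * ((p : ℤ) ^ (n - α) * x') + (p : ℤ) ^ β * y : ℤ)) : ZMod (p ^ n))
      congr 1
      rw [← mul_assoc c, hw]; ring⟩
    refine Nat.card_eq_of_bijective e ⟨fun u v huv => ?_, fun z => ?_⟩
    · have h2 : u.1.1.2 = v.1.1.2 := congrArg Subtype.val huv
      exact Subtype.ext (Subtype.ext (Prod.ext ((AddMonoidHom.mem_ker.1 u.2).trans (AddMonoidHom.mem_ker.1 v.2).symm) h2))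
    · obtain ⟨y, hy⟩ := AddSubgroup.mem_zmultiples_iff.1 z.2
      refine ⟨⟨⟨_, (h.mem _).2 ⟨0, y, rfl⟩⟩, ?_⟩, Subtype.ext ?_⟩
      · rw [AddMonoidHom.mem_ker]
        show ((((p : ℤ) ^ α * 0 : ℤ)) : ZMod (p ^ n)) = 0
        simp
      · show (((c * 0 + (p : ℤ) ^ β * y : ℤ)) : ZMod (p ^ n)) = z
        rw [← hy, zsmul_eq_mul]
        push_cast; ring
  have hci := g.ker.card_mul_index
  rw [AddSubgroup.index_ker, hk, hr, card_multiples h.hβ, card_multiples h.hα, ← pow_add] at hci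
  rw [← hci, add_comm]

theorem Tri.iso_iff (h : Tri N α β c) : Iso N ↔ n ≤ α + β := by
  constructor
  · intro hi
    have h1 := hi _ ((h.mem _).2 ⟨1, 0, rfl⟩) _ ((h.mem _).2 ⟨0, 1, rfl⟩)
    have h2 : (((p : ℤ) ^ (α + β) : ℤ) : ZMod (p ^ n)) = 0 := by
      rw [← h1, det]; push_cast; rw [pow_add]; ring
    rw [cast_eq_zero_iff] at h2
    have h3 : p ^ n ∣ p ^ (α + β) := by exact_mod_cast h2
    exact (Nat.pow_dvd_pow_iff_le_right hp.out.one_lt).1 h3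
  · intro hle v hv w hw
    obtain ⟨x, y, rfl⟩ := (h.mem v).1 hv
    obtain ⟨x', y', rfl⟩ := (h.mem w).1 hw
    rw [det, ← Int.cast_mul, ← Int.cast_mul, ← Int.cast_sub, cast_eq_zero_iff]
    refine (pow_dvd_pow (p : ℤ) hle).trans ⟨x * y' - y * x', ?_⟩
    rw [pow_add]; ring

theorem iso_iff_card (N : AddSubgroup (ZMod (p ^ n) × ZMod (p ^ n))) : Iso N ↔ Nat.card N ≤ p ^ n := by
  obtain ⟨α, β, c, h⟩ := exists_tri N
  rw [h.iso_iff, h.card, Nat.pow_le_pow_iff_right hp.out.one_lt]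
  have := h.hα; have := h.hβ
  omega

theorem exists_perp_tri (h : Tri N α β c) :
    ∃ e : ℤ, (α + β ≤ n → e = c * (p : ℤ) ^ (n - α - β)) ∧ Tri (perp N) (n - β) (n - α) e := by
  have hp0 : (p : ℤ) ≠ 0 := Int.natCast_ne_zero.2 hp.out.ne_zero
  obtain ⟨e, he, he'⟩ : ∃ e : ℤ, (p : ℤ) ^ α * e = c * (p : ℤ) ^ (n - β) ∧
      (α + β ≤ n → e = c * (p : ℤ) ^ (n - α - β)) := by
    by_cases hab : α + β ≤ n
    · refine ⟨c * (p : ℤ) ^ (n - α - β), ?_, fun _ => rfl⟩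
      rw [mul_left_comm, ← pow_add]; congr 2; omega
    · obtain ⟨w, hw⟩ := h.hc
      refine ⟨w, ?_, fun hh => absurd hh hab⟩
      refine mul_left_cancel₀ (pow_ne_zero (n - α) hp0) ?_
      have e1 : (p : ℤ) ^ (n - α) * (p : ℤ) ^ α = (p : ℤ) ^ n := by rw [← pow_add, Nat.sub_add_cancel h.hα]
      have e2 : (p : ℤ) ^ β * (p : ℤ) ^ (n - β) = (p : ℤ) ^ n := by rw [← pow_add, Nat.add_sub_cancel' h.hβ]
      linear_combination w * e1 - w * e2 - (p : ℤ) ^ (n - β) * hw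
  refine ⟨e, he', Nat.sub_le _ _, Nat.sub_le _ _, ?_, fun v => ?_⟩
  · refine ⟨c, ?_⟩
    have := h.hβ; have := h.hα
    rw [show n - (n - β) = β by omega]
    refine mul_left_cancel₀ (pow_ne_zero α hp0) ?_
    rw [← mul_assoc, he, mul_assoc, ← pow_add, ← mul_assoc, ← pow_add, Nat.sub_add_cancel h.hβ,
      Nat.add_sub_cancel' h.hα, mul_comm]
  constructor
  · intro hv
    obtain ⟨v₁, hv₁⟩ := ZMod.intCast_surjective v.1
    obtain ⟨v₂, hv₂⟩ := ZMod.intCast_surjective v.2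
    have h1 := hv _ ((h.mem _).2 ⟨0, 1, rfl⟩)
    have h2 := hv _ ((h.mem _).2 ⟨1, 0, rfl⟩)
    rw [det, ← hv₁, ← hv₂, ← Int.cast_mul, ← Int.cast_mul, ← Int.cast_sub, cast_eq_zero_iff] at h1 h2
    simp only [mul_zero, mul_one, zero_add, add_zero, sub_zero] at h1 h2
    have h3 : (p : ℤ) ^ (n - β) ∣ v₁ := by
      rw [show (p : ℤ) ^ n = (p : ℤ) ^ (n - β) * (p : ℤ) ^ β by
        rw [← pow_add, Nat.sub_add_cancel h.hβ]] at h1
      exact (mul_dvd_mul_iff_right (pow_ne_zero _ hp0)).1 h1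
    obtain ⟨x, rfl⟩ := h3
    have h4 : (p : ℤ) ^ (n - α) ∣ v₂ - e * x := by
      rw [show (p : ℤ) ^ (n - β) * x * c = (p : ℤ) ^ α * e * x by rw [he]; ring,
        show (p : ℤ) ^ α * e * x - v₂ * (p : ℤ) ^ α = (p : ℤ) ^ α * -(v₂ - e * x) by ring,
        show (p : ℤ) ^ n = (p : ℤ) ^ α * (p : ℤ) ^ (n - α) by rw [← pow_add, Nat.add_sub_cancel' h.hα]] at h2
      exact dvd_neg.1 ((mul_dvd_mul_iff_left (pow_ne_zero _ hp0)).1 h2)
    obtain ⟨y, hy⟩ := h4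
    exact ⟨x, y, Prod.ext hv₁.symm (hv₂.symm.trans (congrArg _ (by linarith)))⟩
  · rintro ⟨x, y, rfl⟩ w hw
    obtain ⟨x', y', rfl⟩ := (h.mem w).1 hw
    rw [det, ← Int.cast_mul, ← Int.cast_mul, ← Int.cast_sub, cast_eq_zero_iff]
    refine ⟨x * y' - y * x', ?_⟩
    have e1 : (p : ℤ) ^ (n - β) * (p : ℤ) ^ β = (p : ℤ) ^ n := by rw [← pow_add, Nat.sub_add_cancel h.hβ]
    have e2 : (p : ℤ) ^ (n - α) * (p : ℤ) ^ α = (p : ℤ) ^ n := by rw [← pow_add, Nat.sub_add_cancel h.hα]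
    linear_combination (x * y') * e1 - (y * x') * e2 - (x * x') * he

theorem card_mul_perp (N : AddSubgroup (ZMod (p ^ n) × ZMod (p ^ n))) :
    Nat.card N * Nat.card (perp N) = p ^ (n + n) := by
  obtain ⟨α, β, c, h⟩ := exists_tri N
  obtain ⟨e, -, he⟩ := exists_perp_tri h
  rw [h.card, he.card, ← pow_add]
  have := h.hα; have := h.hβ
  congr 1; omega

theorem perp_perp (N : AddSubgroup (ZMod (p ^ n) × ZMod (p ^ n))) : perp (perp N) = N := by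
  haveI : NeZero (p ^ n) := ⟨pow_ne_zero _ hp.out.ne_zero⟩
  refine (AddSubgroup.eq_of_le_of_card_ge (le_perp_perp N) ?_).symm
  have h1 := card_mul_perp N
  have h2 := card_mul_perp (perp N)
  rw [← h1, mul_comm (Nat.card N)] at h2
  exact (Nat.eq_of_mul_eq_mul_left Nat.card_pos h2).le

theorem perp_le_of_not_iso {N : AddSubgroup (ZMod (p ^ n) × ZMod (p ^ n))} (hN : ¬ Iso N) : perp N ≤ N := by
  obtain ⟨α, β, c, h⟩ := exists_tri N
  obtain ⟨e, he, ht⟩ := exists_perp_tri h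
  have hab : α + β < n := not_le.1 (h.iso_iff.not.1 hN)
  intro v hv
  obtain ⟨x, y, rfl⟩ := (ht.mem v).1 hv
  rw [h.mem]
  refine ⟨(p : ℤ) ^ (n - α - β) * x, (p : ℤ) ^ (n - α - β) * y, ?_⟩
  refine Prod.ext (congrArg (fun z : ℤ => (z : ZMod (p ^ n))) ?_) (congrArg (fun z : ℤ => (z : ZMod (p ^ n))) ?_)
  · rw [← mul_assoc, ← pow_add, show α + (n - α - β) = n - β by omega]
  · rw [he hab.le, ← mul_assoc c, ← mul_assoc ((p : ℤ) ^ β), ← pow_add,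
      show β + (n - α - β) = n - α by omega]

theorem last_le_of_not_iso {N : AddSubgroup (ZMod (p ^ n) × ZMod (p ^ n))} (hN : ¬ Iso N)
    (v : ZMod (p ^ n) × ZMod (p ^ n)) : (p ^ (n - 1)) • v ∈ N := by
  obtain ⟨α, β, c, h⟩ := exists_tri N
  have hab : α + β < n := not_le.1 (h.iso_iff.not.1 hN)
  obtain ⟨v₁, hv₁⟩ := ZMod.intCast_surjective v.1
  obtain ⟨v₂, hv₂⟩ := ZMod.intCast_surjective v.2
  rw [h.mem]
  refine ⟨(p : ℤ) ^ (n - 1 - α) * v₁, (p : ℤ) ^ (n - 1 - β) * v₂ - c * (p : ℤ) ^ (n - 1 - α - β) * v₁,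
    Prod.ext ?_ ?_⟩
  · show (p ^ (n - 1)) • v.1 = _
    rw [← hv₁, nsmul_eq_mul, Nat.cast_pow, ← mul_assoc, ← pow_add, Int.cast_mul, Int.cast_pow, Int.cast_natCast,
      Nat.add_sub_cancel' (show α ≤ n - 1 by omega)]
  · show (p ^ (n - 1)) • v.2 = _
    rw [← hv₂, nsmul_eq_mul, Nat.cast_pow, ← Int.cast_natCast, ← Int.cast_pow, ← Int.cast_mul]
    congr 1
    have e1 : (p : ℤ) ^ β * (p : ℤ) ^ (n - 1 - β) = (p : ℤ) ^ (n - 1) := by
      rw [← pow_add]; congr 1; omega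
    have e2 : (p : ℤ) ^ β * (p : ℤ) ^ (n - 1 - α - β) = (p : ℤ) ^ (n - 1 - α) := by
      rw [← pow_add]; congr 1; omega
    linear_combination (c * v₁) * e2 - v₂ * e1

end Cfsg.Agent.Struct.SympPlane
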