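import Mathlib
import Cfsg.Prelude
import Cfsg.Agent.Lib.Struct.GeomSum
import Cfsg.Agent.Lib.Struct.SympPlane
import Cfsg.Agent.Lib.Struct.CoprimeMinimal

/-!
# Metacyclic `p`-groups, `p` odd: coordinates modulo the centre
-/

set_option autoImplicit false
set_option linter.style.haveILetI false
set_option linter.unusedSectionVars false

namespace Cfsg.Agent.Struct.Metacyclic

open Subgroup Cfsg.Agent.Struct.GeomSum Cfsg.Agent.Struct.SympPlane

/-- Coordinates on a metacyclic group. -/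
structure Coord (G : Type*) [Group G] (p n : ℕ) where
  a : G
  b : G
  gen : ∀ g : G, ∃ i j : ℕ, g = a ^ i * b ^ j
  φ : G → ZMod (p ^ n) × ZMod (p ^ n)
  χ : G → ℤ
  hχ : ∀ g, (p : ℤ) ∣ χ g - 1
  hχa : ((χ a : ℤ) : ZMod (p ^ n)) = 1
  map_mul : ∀ g h, φ (g * h) = φ g + χ g • φ h
  φa : φ a = (-1, 0)
  φb : φ b = (0, 1)
  comm_iff : ∀ g h, g * h = h * g ↔ det (φ g) (φ h) = 0

theorem exists_coord {G : Type*} [Group G] [Finite G] {p : ℕ} [Fact p.Prime] (hG : IsPGroup p G)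
    (hmc : Cfsg.IsMetacyclic G) (n : ℕ) (hn : Nat.card ↥(_root_.commutator G) = p ^ n) :
    Nonempty (Coord G p n) := by
  classical
  have hp : p.Prime := Fact.out
  obtain ⟨N, hN, hNc, hQc⟩ := hmc
  obtain ⟨⟨a, haN⟩, ha⟩ := hNc.exists_generator
  obtain ⟨bb, hbb⟩ := hQc.exists_generator
  obtain ⟨b, rfl⟩ := QuotientGroup.mk_surjective bb
  have hNa : N = zpowers a := le_antisymm (fun x hx => by
    obtain ⟨i, hi⟩ := ha ⟨x, hx⟩
    exact ⟨i, by simpa using congrArg Subtype.val hi⟩) (zpowers_le.2 haN)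
  have gen : ∀ g : G, ∃ i j : ℕ, g = a ^ i * b ^ j := by
    intro g
    obtain ⟨j, hj⟩ := mem_powers_iff_mem_zpowers.2 (hbb (g : G ⧸ N))
    change (b : G ⧸ N) ^ j = g at hj
    have h1 : g * (b ^ j)⁻¹ ∈ zpowers a := by
      rw [← hNa, ← QuotientGroup.eq_one_iff, QuotientGroup.mk_mul, QuotientGroup.mk_inv,
        QuotientGroup.mk_pow, hj, mul_inv_cancel]
    obtain ⟨i, hi⟩ := mem_powers_iff_mem_zpowers.2 h1
    exact ⟨i, j, by rw [show a ^ i = g * (b ^ j)⁻¹ from hi, inv_mul_cancel_right]⟩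
  have ht : ∀ g : G, ∃ t : ℤ, a ^ t = g * a * g⁻¹ := fun g =>
    mem_zpowers_iff.1 (hNa ▸ hN.conj_mem a haN g)
  choose t ht using ht
  set c := b * a * b⁻¹ * a⁻¹ with hc
  obtain ⟨w, hw⟩ : ∃ w : ℤ, a ^ w = c := ⟨t b - 1, by rw [zpow_sub, zpow_one, ht]⟩
  have hconj : ∀ (g : G) (x : ℤ), g * c ^ x * g⁻¹ = c ^ (t g * x) := by
    intro g x
    rw [← hw, ← zpow_mul, ← conj_zpow, ← ht, ← zpow_mul, ← zpow_mul]
    congr 1; ring
  set C := zpowers c with hC
  haveI hCn : C.Normal := ⟨fun x hx g => by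
    obtain ⟨k, rfl⟩ := mem_zpowers_iff.1 hx
    exact ⟨t g * k, (hconj g k).symm⟩⟩
  have hcom : ∀ g h : G, g * h * g⁻¹ * h⁻¹ ∈ C := by
    intro g h
    rw [← QuotientGroup.eq_one_iff]
    simp only [QuotientGroup.mk_mul, QuotientGroup.mk_inv]
    have hab : Commute (b : G ⧸ C) (a : G ⧸ C) := by
      have h1 : ((c : G) : G ⧸ C) = 1 := (QuotientGroup.eq_one_iff c).2 (mem_zpowers c)
      rw [hc] at h1
      simp only [QuotientGroup.mk_mul, QuotientGroup.mk_inv] at h1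
      exact mul_inv_eq_iff_eq_mul.1 (mul_inv_eq_one.1 h1)
    obtain ⟨i, j, rfl⟩ := gen g
    obtain ⟨k, l, rfl⟩ := gen h
    simp only [QuotientGroup.mk_mul, QuotientGroup.mk_pow]
    have hh : Commute ((a : G ⧸ C) ^ i * (b : G ⧸ C) ^ j) ((a : G ⧸ C) ^ k * (b : G ⧸ C) ^ l) :=
      ((((Commute.refl _).pow_pow i k).mul_right (hab.symm.pow_pow i l))).mul_left
        ((hab.pow_pow j k).mul_right ((Commute.refl _).pow_pow j l))
    rw [hh.eq]; group
  have hC' : _root_.commutator G = C := by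
    refine le_antisymm ?_ (zpowers_le.2 ?_)
    · rw [_root_.commutator_def, commutator_le]
      exact fun g _ h _ => hcom g h
    · rw [_root_.commutator_def, hc]
      exact commutator_mem_commutator (mem_top b) (mem_top a)
  have hco : orderOf c = p ^ n := by rw [← Nat.card_zpowers, ← hC, ← hC', hn]
  have hzeq : ∀ x y : ℤ, c ^ x = c ^ y ↔ (x : ZMod (p ^ n)) = (y : ZMod (p ^ n)) := fun x y => by
    rw [zpow_eq_zpow_iff_modEq, hco, ZMod.intCast_eq_intCast_iff]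
  choose D hD using fun g h => mem_zpowers_iff.1 (hcom g h)
  have crossed : ∀ g g' h : G, (D (g * g') h : ZMod (p ^ n)) = D g h + t g * D g' h := by
    intro g g' h
    rw [← Int.cast_mul, ← Int.cast_add, ← hzeq, hD, zpow_add, hD, ← hconj, hD]
    have hcm : Commute (g * h * g⁻¹ * h⁻¹) (g * (g' * h * g'⁻¹ * h⁻¹) * g⁻¹) := by
      rw [← hD g h, ← hD g' h, hconj]
      exact Commute.zpow_zpow (Commute.refl c) _ _
    rw [hcm.eq]; group
  have hDaa : ∀ g : G, (D g g : ZMod (p ^ n)) = 0 := fun g => by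
    rw [← Int.cast_zero, ← hzeq, hD, zpow_zero]; group
  have hanti : ∀ g h : G, (D g h : ZMod (p ^ n)) = -D h g := fun g h => by
    rw [← Int.cast_neg, ← hzeq, hD, zpow_neg, hD]; group
  have hba : (D b a : ZMod (p ^ n)) = 1 := by
    rw [← Int.cast_one, ← hzeq, hD, zpow_one]
  have hone : ∀ h : G, (D 1 h : ZMod (p ^ n)) = 0 := fun h => by
    rw [← Int.cast_zero, ← hzeq, hD, zpow_zero]; group
  have hta : ((t a : ℤ) : ZMod (p ^ n)) = 1 := by
    have h1 := hconj a 1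
    rw [zpow_one, mul_one] at h1
    rw [← Int.cast_one, ← hzeq, ← h1, zpow_one]
    rw [← hw, mul_inv_eq_iff_eq_mul]
    exact ((Commute.refl a).zpow_right w).eq
  let χ : G → ℤ := fun g => if n = 0 then 1 else t g
  have hχt : ∀ g, ((χ g : ℤ) : ZMod (p ^ n)) = t g := fun g => by
    simp only [χ]
    split
    · next h =>
      subst h
      exact (@Subsingleton.elim (ZMod (p ^ 0)) (by rw [pow_zero]; infer_instance) _ _)
    · rfl
  have hχ1 : ∀ g, (p : ℤ) ∣ χ g - 1 := by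
    intro g
    simp only [χ]
    split
    · simp
    next hn0 =>
    obtain ⟨k, hk⟩ := hG g
    have hiter : ∀ j : ℕ, g ^ j * c * (g ^ j)⁻¹ = c ^ (t g ^ j) := by
      intro j
      induction j with
      | zero => simp
      | succ j ih =>
        rw [show g ^ (j + 1) * c * (g ^ (j + 1))⁻¹ = g * (g ^ j * c * (g ^ j)⁻¹) * g⁻¹ by rw [pow_succ']; group,
          ih, hconj, pow_succ']
    have h1 := hiter (p ^ k)
    rw [hk, one_mul, inv_one, mul_one] at h1
    nth_rw 1 [← zpow_one c] at h1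
    rw [zpow_eq_zpow_iff_modEq, hco] at h1
    have h2 : ((1 : ℤ) : ZMod p) = ((t g ^ p ^ k : ℤ) : ZMod p) := by
      rw [ZMod.intCast_eq_intCast_iff]
      exact Int.ModEq.of_dvd (Int.natCast_dvd_natCast.2 (dvd_pow_self p hn0)) h1
    rw [Int.cast_pow, ZMod.pow_card_pow, Int.cast_one] at h2
    rw [← ZMod.intCast_zmod_eq_zero_iff_dvd, Int.cast_sub, Int.cast_one, ← h2, sub_self]
  let φ : G → ZMod (p ^ n) × ZMod (p ^ n) := fun g => ((D g b : ZMod (p ^ n)), (D g a : ZMod (p ^ n)))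
  have hform : ∀ g h : G, (D g h : ZMod (p ^ n)) = det (φ g) (φ h) := by
    intro g h
    have hA : (D a h : ZMod (p ^ n)) = det (φ a) (φ h) := by
      simp only [det, φ]
      rw [hDaa, hanti a b, hba, hanti a h]
      ring
    have hB : (D b h : ZMod (p ^ n)) = det (φ b) (φ h) := by
      simp only [det, φ]
      rw [hDaa, hba, hanti b h]
      ring
    have step : ∀ u y : G, (D u h : ZMod (p ^ n)) = det (φ u) (φ h) → (D y h : ZMod (p ^ n)) = det (φ y) (φ h) →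
        (D (u * y) h : ZMod (p ^ n)) = det (φ (u * y)) (φ h) := by
      intro u y h1 h2
      simp only [det, φ] at *
      rw [crossed, crossed u y b, crossed u y a, h1, h2]
      ring
    have h1 : (D 1 h : ZMod (p ^ n)) = det (φ 1) (φ h) := by
      simp only [det, φ]; rw [hone, hone, hone]; ring
    have hbj : ∀ j : ℕ, (D (b ^ j) h : ZMod (p ^ n)) = det (φ (b ^ j)) (φ h) := by
      intro j
      induction j with
      | zero => rw [pow_zero]; exact h1
      | succ j ih => rw [pow_succ']; exact step b _ hB ih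
    obtain ⟨i, j, rfl⟩ := gen g
    induction i with
    | zero => rw [pow_zero, one_mul]; exact hbj j
    | succ i ih => rw [pow_succ', mul_assoc]; exact step a _ hA ih
  exact ⟨{ a := a, b := b, gen := gen, φ := φ, χ := χ, hχ := hχ1
           hχa := (hχt a).trans hta
           map_mul := fun g h => by
             refine Prod.ext ?_ ?_
             · show (D (g * h) b : ZMod (p ^ n)) = D g b + χ g • (D h b : ZMod (p ^ n))
               rw [crossed, zsmul_eq_mul, hχt]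
             · show (D (g * h) a : ZMod (p ^ n)) = D g a + χ g • (D h a : ZMod (p ^ n))
               rw [crossed, zsmul_eq_mul, hχt]
           φa := Prod.ext (show (D a b : ZMod (p ^ n)) = -1 by rw [hanti, hba]) (hDaa a)
           φb := Prod.ext (hDaa b) hba
           comm_iff := fun g h => by
             rw [← hform, ← Int.cast_zero, ← hzeq, hD, zpow_zero, mul_inv_eq_one, mul_inv_eq_iff_eq_mul] }⟩

namespace Coord

variable {G : Type*} [Group G] {p n : ℕ} [hp : Fact p.Prime] (D : Coord G p n)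

theorem smul_pair (z : ℤ) (v : ZMod (p ^ n) × ZMod (p ^ n)) :
    z • v = ((z : ZMod (p ^ n)) * v.1, (z : ZMod (p ^ n)) * v.2) :=
  Prod.ext (zsmul_eq_mul _ _) (zsmul_eq_mul _ _)

theorem pow_smul_eq_zero (v : ZMod (p ^ n) × ZMod (p ^ n)) : (p ^ n) • v = 0 :=
  Prod.ext (by rw [Prod.smul_fst, nsmul_eq_mul, ZMod.natCast_self, zero_mul]; rfl)
    (by rw [Prod.smul_snd, nsmul_eq_mul, ZMod.natCast_self, zero_mul]; rfl)

theorem eq_zero_of_smul {z : ℤ} (hz : (p : ℤ) ∣ z - 1) {v : ZMod (p ^ n) × ZMod (p ^ n)} (h : z • v = 0) :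
    v = 0 := by
  have hu : IsUnit ((z : ℤ) : ZMod (p ^ n)) := by
    have hc : IsCoprime z (((p ^ n : ℕ)) : ℤ) := by
      rw [Nat.cast_pow]
      refine IsCoprime.pow_right ((Nat.prime_iff_prime_int.1 hp.out).coprime_iff_not_dvd.2 fun h' => ?_).symm
      exact (Nat.prime_iff_prime_int.1 hp.out).not_dvd_one (by have := dvd_sub h' hz; simpa using this)
    exact (ZMod.unitOfCoprime z.natAbs (by
      rw [Int.isCoprime_iff_nat_coprime, Int.natAbs_natCast] at hc
      exact hc)).isUnit |> fun hu' => by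
        rcases Int.natAbs_eq z with e | e
        · rw [e, Int.cast_natCast]; simpa using hu'
        · rw [e, Int.cast_neg, Int.cast_natCast]; simpa using hu'.neg
  rw [smul_pair] at h
  exact Prod.ext (hu.mul_right_eq_zero.1 (congrArg Prod.fst h)) (hu.mul_right_eq_zero.1 (congrArg Prod.snd h))

theorem φ_one : D.φ 1 = 0 := by
  have h := D.map_mul 1 1
  rw [one_mul, left_eq_add] at h
  exact eq_zero_of_smul (D.hχ 1) h

theorem mem_center_iff_φ {g : G} : g ∈ center G ↔ D.φ g = 0 := by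
  rw [mem_center_iff]
  constructor
  · intro h
    have h1 := (D.comm_iff g D.a).1 (h D.a).symm
    have h2 := (D.comm_iff g D.b).1 (h D.b).symm
    simp only [det, D.φa, D.φb] at h1 h2
    exact Prod.ext (by simpa using h2) (by simpa using h1)
  · intro h x
    exact ((D.comm_iff g x).2 (by simp [det, h])).symm

theorem φ_pow (g : G) (k : ℕ) : D.φ (g ^ k) = T (D.χ g) k • D.φ g := by
  induction k with
  | zero => simp [T, D.φ_one]
  | succ k ih => rw [pow_succ', D.map_mul, ih, T_succ', add_smul, one_smul, mul_smul]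

theorem φ_coord (i j : ℕ) :
    D.φ (D.a ^ i * D.b ^ j) = ((((-i : ℤ)) : ZMod (p ^ n)), ((T (D.χ D.b) j : ℤ) : ZMod (p ^ n))) := by
  induction i with
  | zero => rw [pow_zero, one_mul, φ_pow, D.φb, smul_pair]; simp
  | succ i ih =>
    rw [pow_succ', mul_assoc, D.map_mul, ih, smul_pair, D.hχa, D.φa]
    push_cast
    simp [add_comm]

variable (hp2 : p ≠ 2)
include hp2

theorem exists_pow_eq (g : G) (z : ℤ) : ∃ k : ℕ, D.φ (g ^ k) = z • D.φ g := by
  obtain ⟨k, hk⟩ := exists_T_eq hp2 (D.hχ g) n (z : ZMod (p ^ n))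
  exact ⟨k, by rw [φ_pow, smul_pair, smul_pair, hk]⟩

/-- The image of a subgroup. -/
def img (L : Subgroup G) : AddSubgroup (ZMod (p ^ n) × ZMod (p ^ n)) where
  carrier := D.φ '' L
  zero_mem' := ⟨1, one_mem L, D.φ_one⟩
  add_mem' := by
    rintro _ _ ⟨g, hg, rfl⟩ ⟨h, hh, rfl⟩
    obtain ⟨u, v, huv⟩ : IsCoprime (D.χ g) ((p : ℤ) ^ n) :=
      IsCoprime.pow_right ((Nat.prime_iff_prime_int.1 hp.out).coprime_iff_not_dvd.2 fun h' =>
        (Nat.prime_iff_prime_int.1 hp.out).not_dvd_one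
          (by have := dvd_sub h' (D.hχ g); simpa using this)).symm
    obtain ⟨k, hk⟩ := D.exists_pow_eq hp2 h u
    refine ⟨g * h ^ k, mul_mem hg (pow_mem hh k), ?_⟩
    rw [D.map_mul, hk, ← mul_smul]
    congr 1
    have h1 : (((D.χ g * u : ℤ)) : ZMod (p ^ n)) = 1 := by
      rw [← Int.cast_one, ← huv, Int.cast_add, Int.cast_mul v,
        (cast_eq_zero_iff _).2 (dvd_refl ((p : ℤ) ^ n)), mul_zero, add_zero, mul_comm]
    rw [smul_pair, h1, one_mul, one_mul]
  neg_mem' := by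
    rintro _ ⟨g, hg, rfl⟩
    obtain ⟨k, hk⟩ := D.exists_pow_eq hp2 g (-1)
    exact ⟨g ^ k, pow_mem hg k, by rw [hk, neg_smul, one_smul]⟩

theorem mem_img {L : Subgroup G} {v : ZMod (p ^ n) × ZMod (p ^ n)} : v ∈ D.img hp2 L ↔ ∃ g ∈ L, D.φ g = v :=
  Iff.rfl

variable [Finite G]

/-- The preimage of an additive subgroup. -/
def pre (N : AddSubgroup (ZMod (p ^ n) × ZMod (p ^ n))) : Subgroup G where
  carrier := {g | D.φ g ∈ N}
  one_mem' := by show D.φ 1 ∈ N; rw [D.φ_one]; exact zero_mem N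
  mul_mem' := fun {g h} hg hh => by
    show D.φ (g * h) ∈ N
    rw [D.map_mul]; exact add_mem hg (N.zsmul_mem hh _)
  inv_mem' := fun {g} hg => by
    show D.φ g⁻¹ ∈ N
    obtain ⟨k, hk⟩ := mem_powers_iff_mem_zpowers.2 (inv_mem (mem_zpowers g))
    change g ^ k = g⁻¹ at hk
    rw [← hk, φ_pow]
    exact N.zsmul_mem hg _

theorem img_top : D.img hp2 (⊤ : Subgroup G) = ⊤ := by
  refine eq_top_iff.2 fun v _ => ?_
  obtain ⟨v₁, hv₁⟩ := ZMod.intCast_surjective v.1
  obtain ⟨v₂, hv₂⟩ := ZMod.intCast_surjective v.2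
  have h1 : v = (-v₁) • D.φ D.a + v₂ • D.φ D.b := by
    rw [smul_pair, smul_pair, D.φa, D.φb]
    ext <;> simp [hv₁, hv₂]
  rw [h1]
  exact add_mem ((D.img hp2 ⊤).zsmul_mem ⟨D.a, mem_top _, rfl⟩ _)
    ((D.img hp2 ⊤).zsmul_mem ⟨D.b, mem_top _, rfl⟩ _)

theorem img_pre (N : AddSubgroup (ZMod (p ^ n) × ZMod (p ^ n))) : D.img hp2 (D.pre N) = N := by
  ext v
  refine ⟨fun ⟨g, hg, h⟩ => h ▸ hg, fun hv => ?_⟩
  obtain ⟨g, -, rfl⟩ := (D.img_top hp2).ge (AddSubgroup.mem_top v)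
  exact ⟨g, hv, rfl⟩

theorem inv_mul_mem_center {g h : G} (e : D.φ g = D.φ h) : g⁻¹ * h ∈ center G := by
  rw [D.mem_center_iff_φ]
  refine eq_zero_of_smul (D.hχ g) (add_left_cancel (a := D.φ g) ?_)
  rw [← D.map_mul, mul_inv_cancel_left, add_zero, e]

theorem pre_img (L : Subgroup G) : D.pre (D.img hp2 L) = L ⊔ center G := by
  refine le_antisymm ?_ (sup_le ?_ ?_)
  · rintro g ⟨l, hl, hlg⟩
    rw [← mul_inv_cancel_left l g]
    exact mul_mem (mem_sup_left hl) (mem_sup_right (D.inv_mul_mem_center hp2 hlg))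
  · exact fun l hl => ⟨l, hl, rfl⟩
  · intro z hz
    show D.φ z ∈ D.img hp2 L
    rw [D.mem_center_iff_φ.1 hz]; exact zero_mem _

theorem card_eq (L : Subgroup G) :
    Nat.card L = Nat.card (D.img hp2 L) * Nat.card ↥(L ⊓ center G) := by
  have h0 : Nat.card ↥(L ⊓ center G) = Nat.card ((center G).subgroupOf L) := by
    rw [← inf_subgroupOf_left (center G) L, Nat.card_congr (subgroupOfEquivOfLe inf_le_left).toEquiv]
  rw [h0, card_eq_card_quotient_mul_card_subgroup ((center G).subgroupOf L)]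
  congr 1
  have hwd : ∀ x y : L, (QuotientGroup.leftRel ((center G).subgroupOf L)) x y →
      (⟨D.φ x, ⟨x, x.2, rfl⟩⟩ : D.img hp2 L) = ⟨D.φ y, ⟨y, y.2, rfl⟩⟩ := by
    intro x y hxy
    rw [QuotientGroup.leftRel_apply, mem_subgroupOf] at hxy
    refine Subtype.ext ?_
    show D.φ x = D.φ y
    have e : (y : G) = x * ((x : G)⁻¹ * y) := by group
    rw [e, D.map_mul, D.mem_center_iff_φ.1 (show (x : G)⁻¹ * y ∈ center G from hxy), smul_zero, add_zero]
  refine Nat.card_eq_of_bijective (fun q : L ⧸ (center G).subgroupOf L => Quotient.liftOn' q _ hwd) ⟨?_, ?_⟩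
  · rintro ⟨x⟩ ⟨y⟩ hxy
    refine QuotientGroup.eq.2 ?_
    exact mem_subgroupOf.2 (D.inv_mul_mem_center hp2 (congrArg Subtype.val hxy))
  · rintro ⟨v, l, hl, rfl⟩
    exact ⟨QuotientGroup.mk ⟨l, hl⟩, rfl⟩

include D in
theorem card_univ : Nat.card G = p ^ (n + n) * Nat.card (center G) := by
  have h := D.card_eq hp2 (⊤ : Subgroup G)
  rwa [card_top, D.img_top hp2, top_inf_eq, AddSubgroup.card_top, Nat.card_prod, Nat.card_zmod, ← pow_add] at h

theorem card_of_center_le {L : Subgroup G} (hL : center G ≤ L) :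
    Nat.card L = Nat.card (D.img hp2 L) * Nat.card (center G) := by
  rw [D.card_eq hp2 L, inf_eq_right.2 hL]

theorem commutative_iff (L : Subgroup G) : IsMulCommutative L ↔ Iso (D.img hp2 L) := by
  constructor
  · rintro h v ⟨g, hg, rfl⟩ w ⟨k, hk, rfl⟩
    exact (D.comm_iff g k).1 (congrArg Subtype.val (mul_comm' (⟨g, hg⟩ : L) ⟨k, hk⟩))
  · intro h
    exact ⟨⟨fun g k => Subtype.ext ((D.comm_iff g k).2 (h _ ⟨g, g.2, rfl⟩ _ ⟨k, k.2, rfl⟩))⟩⟩

theorem centralizer_eq (L : Subgroup G) : centralizer (L : Set G) = D.pre (perp (D.img hp2 L)) := by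
  ext g
  rw [mem_centralizer_iff]
  constructor
  · rintro h w ⟨l, hl, rfl⟩
    exact (D.comm_iff g l).1 (h l hl).symm
  · intro h l hl
    exact ((D.comm_iff g l).2 (h _ ⟨l, hl, rfl⟩)).symm

theorem exists_coord_powers {s : ℕ} (hs : s ≤ n) {g : G}
    (hg : ∃ v : ZMod (p ^ n) × ZMod (p ^ n), D.φ g = (p ^ s) • v) :
    ∃ i j : ℕ, g = (D.a ^ i) ^ p ^ s * (D.b ^ j) ^ p ^ s := by
  obtain ⟨v, hv⟩ := hg
  obtain ⟨i, j, rfl⟩ := D.gen g
  rw [φ_coord] at hv
  have key : ∀ (z : ℤ) (w : ZMod (p ^ n)), (z : ZMod (p ^ n)) = (p ^ s) • w → (p : ℤ) ^ s ∣ z := by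
    intro z w h
    obtain ⟨w', rfl⟩ := ZMod.intCast_surjective w
    rw [nsmul_eq_mul, ← Int.cast_natCast, ← Int.cast_mul, ← sub_eq_zero, ← Int.cast_sub, cast_eq_zero_iff] at h
    have h2 := (pow_dvd_pow (p : ℤ) hs).trans h
    rw [Nat.cast_pow] at h2
    exact (dvd_sub_left (dvd_mul_right _ _)).1 h2
  have h1 : p ^ s ∣ i := by
    have := key _ _ (congrArg Prod.fst hv)
    rw [dvd_neg, ← Nat.cast_pow, Int.natCast_dvd_natCast] at this
    exact this
  have h2 : p ^ s ∣ j := (dvd_T_iff hp2 j s _ (D.hχ D.b)).1 (key _ _ (congrArg Prod.snd hv))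
  obtain ⟨i', rfl⟩ := h1
  obtain ⟨j', rfl⟩ := h2
  exact ⟨i', j', by rw [← pow_mul, ← pow_mul, mul_comm i', mul_comm j']⟩

theorem φ_pow_prime (g : G) (s : ℕ) : ∃ v : ZMod (p ^ n) × ZMod (p ^ n), D.φ (g ^ p ^ s) = (p ^ s) • v := by
  obtain ⟨w, hw⟩ := (dvd_T_iff hp2 (p ^ s) s _ (D.hχ g)).2 dvd_rfl
  refine ⟨w • D.φ g, ?_⟩
  rw [φ_pow, hw, mul_smul, ← natCast_zsmul, Nat.cast_pow]

theorem mem_powers_iff (s : ℕ) (hs : s ≤ n) (g : G) :
    g ∈ closure {x : G | ∃ y : G, y ^ p ^ s = x} ↔ ∃ v : ZMod (p ^ n) × ZMod (p ^ n), D.φ g = (p ^ s) • v := by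
  let N : AddSubgroup (ZMod (p ^ n) × ZMod (p ^ n)) := (nsmulAddMonoidHom (p ^ s)).range
  constructor
  · intro hg
    have hle : closure {x : G | ∃ y : G, y ^ p ^ s = x} ≤ D.pre N := by
      rw [closure_le]
      rintro _ ⟨y, rfl⟩
      obtain ⟨v, hv⟩ := D.φ_pow_prime hp2 y s
      exact ⟨v, hv.symm⟩
    obtain ⟨v, hv⟩ := hle hg
    exact ⟨v, hv.symm⟩
  · intro h
    obtain ⟨i, j, hij⟩ := D.exists_coord_powers hp2 hs h
    rw [hij]
    exact mul_mem (subset_closure ⟨_, rfl⟩) (subset_closure ⟨_, rfl⟩)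

include D in
/-- Nonabelian subgroups contain the centre. -/
theorem center_le_of_not_comm (hG : IsPGroup p G) {L : Subgroup G} (hL : ¬ IsMulCommutative L) :
    center G ≤ L := by
  have hni : ¬ Iso (D.img hp2 L) := fun h => hL ((D.commutative_iff hp2 L).2 h)
  have hn : 1 ≤ n := by
    by_contra h
    refine hni fun v _ w _ => ?_
    have hn0 : n = 0 := by omega
    subst hn0
    exact @Subsingleton.elim (ZMod (p ^ 0)) (by rw [pow_zero]; infer_instance) _ _
  rw [← subgroupOf_eq_top]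
  refine frattini_nongenerating (eq_top_iff.2 fun z _ => ?_)
  have hpw : ∀ w : G, ∃ x ∈ L.subgroupOf (center G), ∃ y : center G,
      x * y ^ p = (⟨w ^ p ^ n, by
        rw [D.mem_center_iff_φ]
        obtain ⟨v, hv⟩ := D.φ_pow_prime hp2 w n
        rw [hv]; exact pow_smul_eq_zero v⟩ : center G) := by
    intro w
    obtain ⟨v, hv⟩ := D.φ_pow_prime hp2 w (n - 1)
    obtain ⟨l, hl, hlv⟩ := (hv ▸ last_le_of_not_iso hni v : D.φ (w ^ p ^ (n - 1)) ∈ D.img hp2 L)
    have hy := D.inv_mul_mem_center hp2 hlv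
    have hlp : l ^ p * (l⁻¹ * w ^ p ^ (n - 1)) ^ p = w ^ p ^ n := by
      rw [← (show Commute l (l⁻¹ * w ^ p ^ (n - 1)) from mem_center_iff.1 hy l).mul_pow, mul_inv_cancel_left,
        ← pow_mul, ← pow_succ, Nat.sub_add_cancel hn]
    have hlc : l ^ p ∈ center G := by
      have h1 : l ^ p = w ^ p ^ n * ((l⁻¹ * w ^ p ^ (n - 1)) ^ p)⁻¹ := by rw [← hlp]; group
      rw [h1]
      refine mul_mem ?_ (inv_mem (pow_mem hy p))
      rw [D.mem_center_iff_φ]
      obtain ⟨v, hv⟩ := D.φ_pow_prime hp2 w n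
      rw [hv]; exact pow_smul_eq_zero v
    exact ⟨⟨l ^ p, hlc⟩, mem_subgroupOf.2 (pow_mem hl p), ⟨_, hy⟩, Subtype.ext hlp⟩
  obtain ⟨i, j, hij⟩ := D.exists_coord_powers hp2 le_rfl (g := (z : G)) ⟨0, by
    rw [smul_zero]; exact D.mem_center_iff_φ.1 z.2⟩
  obtain ⟨x, hx, y, hxy⟩ := hpw (D.a ^ i)
  obtain ⟨x', hx', y', hxy'⟩ := hpw (D.b ^ j)
  have hz : z = x * y ^ p * (x' * y' ^ p) := Subtype.ext (by rw [hxy, hxy']; exact hij)
  have hZp := hG.to_subgroup (center G)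
  rw [hz]
  exact mul_mem (mul_mem (mem_sup_left hx) (mem_sup_right (CoprimeMinimal.pow_mem_frattini hZp y)))
    (mul_mem (mem_sup_left hx') (mem_sup_right (CoprimeMinimal.pow_mem_frattini hZp y')))

end Coord

end Cfsg.Agent.Struct.Metacyclic
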