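import Mathlib
import Cfsg.Prelude
import Cfsg.Agent.Lib.Struct.Metacyclic

/-!
# Metacyclic `p`-groups, `p` odd: orders of centralizers and abelian subgroups
-/

set_option autoImplicit false
set_option linter.style.haveILetI false
set_option linter.unusedSectionVars false

namespace Cfsg.Agent.Struct.Metacyclic

open Subgroup Cfsg.Agent.Struct.GeomSum Cfsg.Agent.Struct.SympPlane

theorem exists_coord' {G : Type*} [Group G] [Finite G] {p : ℕ} [Fact p.Prime] (hG : IsPGroup p G)
    (hmc : Cfsg.IsMetacyclic G) : ∃ n, Nat.card ↥(_root_.commutator G) = p ^ n ∧ Nonempty (Coord G p n) := by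
  obtain ⟨n, hn⟩ := (IsPGroup.iff_card (p := p) (G := ↥(_root_.commutator G))).1 (hG.to_subgroup _)
  exact ⟨n, hn, exists_coord hG hmc n hn⟩

theorem card_center_eq {G : Type*} [Group G] (R : Subgroup G) :
    Nat.card ↥(center R) = Nat.card ↥(R ⊓ centralizer (R : Set G)) := by
  have h : center R = (R ⊓ centralizer (R : Set G)).subgroupOf R := by
    ext x
    rw [mem_center_iff, mem_subgroupOf, mem_inf, mem_centralizer_iff]
    exact ⟨fun h => ⟨x.2, fun y hy => congrArg Subtype.val (h ⟨y, hy⟩)⟩, fun h y => Subtype.ext (h.2 y y.2)⟩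
  rw [h, Nat.card_congr (subgroupOfEquivOfLe (inf_le_left : R ⊓ centralizer (R : Set G) ≤ R)).toEquiv]

/-- The multiples of `p ^ (n - i)`. -/
def lev (p n i : ℕ) : AddSubgroup (ZMod (p ^ n) × ZMod (p ^ n)) := (nsmulAddMonoidHom (p ^ (n - i))).range

theorem mem_lev {p n i : ℕ} {v : ZMod (p ^ n) × ZMod (p ^ n)} :
    v ∈ lev p n i ↔ ∃ w, v = (p ^ (n - i)) • w :=
  ⟨fun ⟨w, h⟩ => ⟨w, h.symm⟩, fun ⟨w, h⟩ => ⟨w, h.symm⟩⟩

variable {p n : ℕ} [hp : Fact p.Prime]

theorem card_lev {i : ℕ} (hi : i ≤ n) : Nat.card (lev p n i) = p ^ (2 * i) := by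
  have h : Tri (lev p n i) (n - i) (n - i) 0 := by
    refine ⟨Nat.sub_le _ _, Nat.sub_le _ _, by simp, fun v => ?_⟩
    rw [mem_lev]
    constructor
    · rintro ⟨w, rfl⟩
      obtain ⟨x, hx⟩ := ZMod.intCast_surjective w.1
      obtain ⟨y, hy⟩ := ZMod.intCast_surjective w.2
      exact ⟨x, y, Prod.ext (by rw [Prod.smul_fst, nsmul_eq_mul, ← hx]; push_cast; ring)
        (by rw [Prod.smul_snd, nsmul_eq_mul, ← hy]; push_cast; ring)⟩
    · rintro ⟨x, y, rfl⟩
      exact ⟨((x : ZMod (p ^ n)), (y : ZMod (p ^ n))), Prod.ext (by rw [Prod.smul_fst, nsmul_eq_mul]; push_cast; ring)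
        (by rw [Prod.smul_snd, nsmul_eq_mul]; push_cast; ring)⟩
  rw [h.card]
  congr 1
  omega

theorem mem_lev_iff {i : ℕ} (hi : i ≤ n) (v : ZMod (p ^ n) × ZMod (p ^ n)) :
    v ∈ lev p n i ↔ addOrderOf v ∣ p ^ i := by
  rw [addOrderOf_dvd_iff_nsmul_eq_zero, mem_lev]
  constructor
  · rintro ⟨w, rfl⟩
    rw [← mul_smul, ← pow_add, Nat.add_sub_cancel' hi, Coord.pow_smul_eq_zero]
  · intro h
    have key : ∀ x : ZMod (p ^ n), (p ^ i) • x = 0 → ∃ y : ZMod (p ^ n), x = (p ^ (n - i)) • y := by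
      intro x hx
      obtain ⟨z, rfl⟩ := ZMod.intCast_surjective x
      rw [nsmul_eq_mul, ← Int.cast_natCast, ← Int.cast_mul, cast_eq_zero_iff, Nat.cast_pow,
        show (p : ℤ) ^ n = (p : ℤ) ^ i * (p : ℤ) ^ (n - i) by rw [← pow_add, Nat.add_sub_cancel' hi]] at hx
      obtain ⟨u, rfl⟩ := (mul_dvd_mul_iff_left (pow_ne_zero _ (Int.natCast_ne_zero.2 hp.out.ne_zero))).1 hx
      exact ⟨(u : ZMod (p ^ n)), by rw [nsmul_eq_mul]; push_cast; rfl⟩
    obtain ⟨a, ha⟩ := key v.1 (congrArg Prod.fst h)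
    obtain ⟨b, hb⟩ := key v.2 (congrArg Prod.snd h)
    exact ⟨(a, b), Prod.ext (by rw [Prod.smul_fst]; exact ha) (by rw [Prod.smul_snd]; exact hb)⟩

theorem exists_addOrderOf (v : ZMod (p ^ n) × ZMod (p ^ n)) : ∃ k, k ≤ n ∧ addOrderOf v = p ^ k :=
  (Nat.dvd_prime_pow hp.out).1 (addOrderOf_dvd_iff_nsmul_eq_zero.2 (Coord.pow_smul_eq_zero v))

theorem addOrderOf_le_iff {i : ℕ} (hi : i ≤ n) (v : ZMod (p ^ n) × ZMod (p ^ n)) :
    addOrderOf v ≤ p ^ i ↔ v ∈ lev p n i := by
  obtain ⟨k, -, hk⟩ := exists_addOrderOf v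
  rw [mem_lev_iff hi, hk, Nat.pow_le_pow_iff_right hp.out.one_lt, Nat.pow_dvd_pow_iff_le_right hp.out.one_lt]

namespace Coord

variable {G : Type*} [Group G] [Finite G] (D : Coord G p n) (hp2 : p ≠ 2)
include hp2

theorem center_le_pre (N : AddSubgroup (ZMod (p ^ n) × ZMod (p ^ n))) : center G ≤ D.pre N := fun z hz => by
  show D.φ z ∈ N
  rw [D.mem_center_iff_φ.1 hz]; exact zero_mem N

theorem card_pre (N : AddSubgroup (ZMod (p ^ n) × ZMod (p ^ n))) :
    Nat.card (D.pre N) = Nat.card N * Nat.card (center G) := by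
  rw [D.card_of_center_le hp2 (D.center_le_pre hp2 N), D.img_pre hp2]

include D in
theorem index_center : (center G).index = p ^ (n + n) := by
  have h := (center G).card_mul_index
  rw [D.card_univ hp2, mul_comm (p ^ (n + n))] at h
  exact Nat.eq_of_mul_eq_mul_left Nat.card_pos h

include D in
theorem index_commutator (hn : Nat.card ↥(_root_.commutator G) = p ^ n) :
    (_root_.commutator G).index = p ^ n * Nat.card (center G) := by
  have h := (_root_.commutator G).card_mul_index
  rw [D.card_univ hp2, hn, pow_add, mul_assoc] at h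
  exact Nat.eq_of_mul_eq_mul_left (pow_pos hp.out.pos n) h

theorem centralizer_singleton (g : G) :
    centralizer ({g} : Set G) = D.pre (perp (AddSubgroup.zmultiples (D.φ g))) := by
  ext x
  rw [mem_centralizer_singleton_iff]
  constructor
  · intro h w hw
    obtain ⟨k, rfl⟩ := AddSubgroup.mem_zmultiples_iff.1 hw
    have h1 := (D.comm_iff x g).1 h
    rw [Coord.smul_pair]; simp only [det] at *
    linear_combination (k : ZMod (p ^ n)) * h1
  · intro h
    exact (D.comm_iff x g).2 (h _ (AddSubgroup.mem_zmultiples _))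

theorem card_mul_index_centralizer (g : G) :
    Nat.card (centralizer ({g} : Set G)) * addOrderOf (D.φ g) = Nat.card G := by
  rw [D.centralizer_singleton hp2, D.card_pre hp2, D.card_univ hp2,
    ← card_mul_perp (AddSubgroup.zmultiples (D.φ g)), Nat.card_zmultiples]
  ring

theorem index_centralizer (g : G) : (centralizer ({g} : Set G)).index = addOrderOf (D.φ g) := by
  have h := (centralizer ({g} : Set G)).card_mul_index
  rw [← D.card_mul_index_centralizer hp2 g] at h
  exact Nat.eq_of_mul_eq_mul_left Nat.card_pos h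

theorem le_pre_img (L : Subgroup G) : L ≤ D.pre (D.img hp2 L) := fun l hl => ⟨l, hl, rfl⟩

include D in
theorem commutative_iff_card (hG : IsPGroup p G) (hn : Nat.card ↥(_root_.commutator G) = p ^ n) (L : Subgroup G) :
    IsMulCommutative L ↔ Nat.card L ≤ (_root_.commutator G).index := by
  rw [D.index_commutator hp2 hn]
  constructor
  · intro h
    calc Nat.card L ≤ Nat.card (D.pre (D.img hp2 L)) :=
          Nat.le_of_dvd Nat.card_pos (card_dvd_of_le (D.le_pre_img hp2 L))
      _ ≤ p ^ n * Nat.card (center G) := by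
          rw [D.card_pre hp2]
          exact Nat.mul_le_mul_right _ ((iso_iff_card _).1 ((D.commutative_iff hp2 L).1 h))
  · intro h
    by_contra hL
    rw [D.card_of_center_le hp2 (D.center_le_of_not_comm hp2 hG hL)] at h
    exact hL ((D.commutative_iff hp2 L).2 ((iso_iff_card _).2 (Nat.le_of_mul_le_mul_right h Nat.card_pos)))

include D in
theorem maximal_iff_card (hG : IsPGroup p G) (hn : Nat.card ↥(_root_.commutator G) = p ^ n) (L : Subgroup G) :
    Maximal (fun K : Subgroup G => IsMulCommutative ↥K) L ↔ Nat.card ↥L = (_root_.commutator G).index := by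
  constructor
  · rintro ⟨hL, hmax⟩
    have hiso := (D.commutative_iff hp2 L).1 hL
    have e1 : L = D.pre (D.img hp2 L) := le_antisymm (D.le_pre_img hp2 L)
      (hmax ((D.commutative_iff hp2 _).2 (by rwa [D.img_pre hp2])) (D.le_pre_img hp2 L))
    have hperp : perp (D.img hp2 L) = D.img hp2 L := by
      refine le_antisymm (fun v hv => ?_) hiso
      let N' := D.img hp2 L ⊔ AddSubgroup.zmultiples v
      have hN' : Iso N' := by
        rintro x hx y hy
        obtain ⟨a, ha, _, hb, rfl⟩ := AddSubgroup.mem_sup.1 hx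
        obtain ⟨c, hc, _, hd, rfl⟩ := AddSubgroup.mem_sup.1 hy
        obtain ⟨k, rfl⟩ := AddSubgroup.mem_zmultiples_iff.1 hb
        obtain ⟨l, rfl⟩ := AddSubgroup.mem_zmultiples_iff.1 hd
        have h1 := hiso a ha c hc
        have h2 := hv a ha
        have h3 := hv c hc
        rw [Coord.smul_pair, Coord.smul_pair]; simp only [det, Prod.fst_add, Prod.snd_add] at *
        linear_combination h1 - (l : ZMod (p ^ n)) * h2 + (k : ZMod (p ^ n)) * h3
      have hle : L ≤ D.pre N' := fun l hl => AddSubgroup.mem_sup_left ⟨l, hl, rfl⟩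
      have e2 := hmax ((D.commutative_iff hp2 _).2 (by rwa [D.img_pre hp2])) hle
      have hv' : v ∈ D.img hp2 (D.pre N') := by
        rw [D.img_pre hp2]
        exact AddSubgroup.mem_sup_right (AddSubgroup.mem_zmultiples v)
      obtain ⟨g, hg, rfl⟩ := hv'
      exact ⟨g, e2 hg, rfl⟩
    have h := card_mul_perp (D.img hp2 L)
    rw [hperp, pow_add] at h
    rw [e1, D.card_pre hp2, D.index_commutator hp2 hn, Nat.mul_self_inj.1 h]
  · intro h
    refine ⟨(D.commutative_iff_card hp2 hG hn L).2 h.le, fun K hK hLK => ?_⟩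
    exact (eq_of_le_of_card_ge hLK (((D.commutative_iff_card hp2 hG hn K).1 hK).trans h.ge)).ge

end Coord

end Cfsg.Agent.Struct.Metacyclic
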