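import Mathlib
import Cfsg.Agent.Lib.Struct.GeomSum

/-!
# Metacyclic `p`-groups, `p` odd, as products of two disjoint cyclic subgroups
-/

set_option autoImplicit false
set_option linter.style.haveILetI false
set_option linter.unusedSectionVars false

namespace Cfsg.Agent.Struct.MetacyclicSplit

open Subgroup Cfsg.Agent.Struct.GeomSum

theorem sq_dvd_T_sub (x : ℤ) (d : ℕ) : (x - 1) ^ 2 ∣ 2 * (T x d - d) - (x - 1) * (d * (d - 1)) := by
  induction d with
  | zero => simp [T]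
  | succ d ih =>
    obtain ⟨u, hu⟩ := ih
    rw [T_succ']
    refine ⟨x * u + d * (d - 1), ?_⟩
    push_cast
    linear_combination x * hu

variable {p : ℕ} [hp : Fact p.Prime]

theorem dvd_T_prime_pow_sub (hp2 : p ≠ 2) {x : ℤ} (hx : (p : ℤ) ∣ x - 1) (e : ℕ) :
    (p : ℤ) ^ e * (x - 1) ∣ T x (p ^ e) - (p : ℤ) ^ e := by
  induction e with
  | zero => simp [T]
  | succ e ih =>
    obtain ⟨A, hA⟩ := ih
    have hB : ∀ y : ℤ, (p : ℤ) ∣ y - 1 → (p : ℤ) * (y - 1) ∣ T y p - p := by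
      intro y hy
      have h2 : (p : ℤ) * (y - 1) ∣ 2 * (T y p - p) := by
        have h := ((mul_dvd_mul_right hy (y - 1)).trans (by rw [← sq])).trans (sq_dvd_T_sub y p)
        exact (dvd_sub_left ⟨(p : ℤ) - 1, by ring⟩).1 h
      obtain ⟨w, hw⟩ := h2
      obtain ⟨c, rfl⟩ := hp.out.odd_of_ne_two hp2
      refine ⟨w * (c + 1) - (T y (2 * c + 1) - (2 * c + 1 : ℕ)) / (y - 1) , ?_⟩
      rcases eq_or_ne (y - 1) 0 with h0 | h0
      · simp only [h0, mul_zero, zero_mul] at hw ⊢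
        omega
      have hdvd : (y - 1) ∣ T y (2 * c + 1) - ((2 * c + 1 : ℕ) : ℤ) := by
        simp only [T]
        rw [show ((2 * c + 1 : ℕ) : ℤ) = ∑ i ∈ Finset.range (2 * c + 1), (1 : ℤ) by simp, ← Finset.sum_sub_distrib]
        exact Finset.dvd_sum fun i _ => sub_one_dvd_pow_sub_one y i
      obtain ⟨z, hz⟩ := hdvd
      rw [hz, Int.mul_ediv_cancel_left _ h0]
      rw [hz] at hw
      push_cast at *
      linear_combination ((c : ℤ) + 1) * hw
    obtain ⟨B, hB'⟩ := hB (x ^ p ^ e) (dvd_pow_sub_one hx _)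
    obtain ⟨C, hC⟩ := sub_one_dvd_pow_sub_one x (p ^ e)
    rw [pow_succ p e, T_mul]
    refine ⟨A + C * B + (x - 1) * A * C * B, ?_⟩
    rw [hC] at hB'
    rw [pow_succ]
    linear_combination (T (x ^ p ^ e) p) * hA + ((p : ℤ) ^ e + (p : ℤ) ^ e * (x - 1) * A) * hB'

variable {G : Type*} [Group G]

theorem exists_period [Finite G] (hG : IsPGroup p G) (H : Subgroup G) (x : G) :
    ∃ e : ℕ, (∀ j : ℤ, x ^ j ∈ H ↔ ((p ^ e : ℕ) : ℤ) ∣ j) ∧ p ^ e ∣ orderOf x := by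
  classical
  have hex : ∃ j : ℕ, 0 < j ∧ x ^ j ∈ H := ⟨orderOf x, orderOf_pos x, by rw [pow_orderOf_eq_one]; exact one_mem H⟩
  obtain ⟨hq0, hqH⟩ := Nat.find_spec hex
  have hiff : ∀ j : ℤ, x ^ j ∈ H ↔ ((Nat.find hex : ℕ) : ℤ) ∣ j := by
    intro j
    constructor
    · intro hj
      by_contra hnd
      have hne : j % (Nat.find hex : ℕ) ≠ 0 := fun h => hnd (Int.dvd_of_emod_eq_zero h)
      obtain ⟨r, hr⟩ := Int.eq_ofNat_of_zero_le (Int.emod_nonneg j (show ((Nat.find hex : ℕ) : ℤ) ≠ 0 by omega))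
      have hlt : r < Nat.find hex := by
        have := Int.emod_lt_of_pos j (show (0 : ℤ) < (Nat.find hex : ℕ) by omega); omega
      refine Nat.find_min hex hlt ⟨by omega, ?_⟩
      have e1 : x ^ r = x ^ j * ((x ^ Nat.find hex) ^ (j / (Nat.find hex : ℕ)))⁻¹ := by
        rw [← zpow_natCast, ← hr, Int.emod_def, zpow_sub, zpow_mul, zpow_natCast]
      rw [e1]
      exact mul_mem hj (inv_mem (zpow_mem hqH _))
    · rintro ⟨c, rfl⟩
      rw [zpow_mul, zpow_natCast]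
      exact zpow_mem hqH c
  have hdvd : Nat.find hex ∣ orderOf x :=
    Int.natCast_dvd_natCast.1 ((hiff _).1 (by rw [zpow_natCast, pow_orderOf_eq_one]; exact one_mem H))
  obtain ⟨k, hk⟩ := IsPGroup.iff_orderOf.1 hG x
  obtain ⟨e, -, he⟩ := (Nat.dvd_prime_pow hp.out).1 (hk ▸ hdvd)
  exact ⟨e, fun j => by rw [hiff, he], he ▸ hdvd⟩

theorem mul_zpow_pow {a y : G} {t : ℤ} (h : y * a * y⁻¹ = a ^ t) (j : ℕ) :
    (a * y) ^ j = a ^ T t j * y ^ j := by
  induction j with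
  | zero => simp [T]
  | succ j ih =>
    have h1 : y * a ^ T t j = a ^ (t * T t j) * y := by
      rw [zpow_mul, ← h, conj_zpow, inv_mul_cancel_right]
    rw [pow_succ', ih, T_succ', zpow_add, zpow_one, pow_succ', mul_assoc a y, ← mul_assoc y, h1]
    group

theorem conj_pow_eq {a y : G} {t : ℤ} (h : y * a * y⁻¹ = a ^ t) (k : ℕ) :
    y ^ k * a * (y ^ k)⁻¹ = a ^ t ^ k := by
  induction k with
  | zero => simp
  | succ k ih =>
    rw [show y ^ (k + 1) * a * (y ^ (k + 1))⁻¹ = y * (y ^ k * a * (y ^ k)⁻¹) * y⁻¹ by rw [pow_succ']; group,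
      ih, ← conj_zpow, h, ← zpow_mul, pow_succ']

theorem dvd_of_orderOf_le [Finite G] {e : ℕ} (hG : IsPGroup p G) {x b : G} {s : ℕ}
    (hx : p ^ e ∣ orderOf x) (hle : orderOf x ≤ orderOf b) (hs : x ^ p ^ e = b ^ s) : p ^ e ∣ s := by
  obtain ⟨c, hc⟩ := hx
  obtain ⟨k, hk⟩ := IsPGroup.iff_orderOf.1 hG b
  have h1 : orderOf (x ^ p ^ e) = c := by
    rw [orderOf_pow_of_dvd (pow_ne_zero _ hp.out.ne_zero) (Dvd.intro c hc.symm), hc,
      Nat.mul_div_cancel_left _ (pow_pos hp.out.pos e)]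
  rw [hs, orderOf_pow] at h1
  obtain ⟨i, hik, hi⟩ := (Nat.dvd_prime_pow hp.out).1 (hk ▸ Nat.gcd_dvd_left (orderOf b) s)
  have hc0 : 0 < c := by
    rcases Nat.eq_zero_or_pos c with rfl | h
    · exact absurd (orderOf_pos x) (by rw [hc, mul_zero]; exact lt_irrefl 0)
    · exact h
  rw [hk, hi, Nat.pow_div hik hp.out.pos] at h1
  rw [hc, hk, ← h1, ← pow_add, Nat.pow_le_pow_iff_right hp.out.one_lt] at hle
  exact (pow_dvd_pow p (by omega : e ≤ i)).trans (hi ▸ Nat.gcd_dvd_right _ _)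

theorem card_eq_period [Finite G] {x b : G} {q : ℕ} (hq : 0 < q) (hnorm : (zpowers x).Normal ∨ (zpowers b).Normal)
    (hgen : zpowers x ⊔ zpowers b = ⊤) (hper : ∀ j : ℤ, x ^ j ∈ zpowers b ↔ (q : ℤ) ∣ j) :
    q * Nat.card (zpowers b) = Nat.card G := by
  have hmeet : zpowers x ⊓ zpowers b = zpowers (x ^ q) := by
    refine le_antisymm ?_ (zpowers_le.2 ⟨pow_mem (mem_zpowers x) q, ?_⟩)
    · rintro g ⟨⟨j, rfl⟩, hb⟩
      obtain ⟨c, rfl⟩ := (hper j).1 hb
      exact ⟨c, by show (x ^ q) ^ c = x ^ ((q : ℤ) * c); rw [zpow_mul, zpow_natCast]⟩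
    · rw [← zpow_natCast]; exact (hper _).2 dvd_rfl
  have hd : q ∣ orderOf x :=
    Int.natCast_dvd_natCast.1 ((hper _).1 (by rw [zpow_natCast, pow_orderOf_eq_one]; exact one_mem _))
  have hc : Nat.card ↥(zpowers x ⊓ zpowers b) * q = Nat.card (zpowers x) := by
    rw [hmeet, Nat.card_zpowers, Nat.card_zpowers, orderOf_pow_of_dvd hq.ne' hd, Nat.div_mul_cancel hd]
  have key : ∀ N H : Subgroup G, N.Normal → H ⊔ N = ⊤ →
      Nat.card G * Nat.card ↥(N ⊓ H) = Nat.card N * Nat.card H := by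
    intro N H hN hHN
    have h1 := (N.subgroupOf H).card_mul_index
    rw [show (N.subgroupOf H).index = N.relIndex H from rfl, ← relIndex_sup_right, hHN, relIndex_top_right] at h1
    have h2 : Nat.card (N.subgroupOf H) = Nat.card ↥(N ⊓ H) := by
      rw [← inf_subgroupOf_right, Nat.card_congr (subgroupOfEquivOfLe inf_le_right).toEquiv]
    rw [← h1, h2, ← N.card_mul_index]
    ring
  have h : Nat.card G * Nat.card ↥(zpowers x ⊓ zpowers b) = Nat.card (zpowers x) * Nat.card (zpowers b) := by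
    rcases hnorm with hn | hn
    · exact key _ _ hn (by rw [sup_comm, hgen])
    · rw [inf_comm, mul_comm (Nat.card (zpowers x))]; exact key _ _ hn hgen
  rw [← hc] at h
  refine Nat.eq_of_mul_eq_mul_right (Nat.card_pos (α := ↥(zpowers x ⊓ zpowers b))) ?_
  rw [h]; ring

theorem split_of_power [Finite G] {g b : G} {q : ℕ} (_hq : 0 < q) (hg : g ^ q = 1)
    (hper : ∀ j : ℕ, g ^ j ∈ zpowers b → q ∣ j) (hcard : q * Nat.card (zpowers b) = Nat.card G) :
    ∃ A B : Subgroup G, IsCyclic ↥A ∧ IsCyclic ↥B ∧ A ⊓ B = ⊥ ∧ Nat.card ↥A * Nat.card ↥B = Nat.card G := by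
  have ho : orderOf g = q := Nat.dvd_antisymm (orderOf_dvd_of_pow_eq_one hg)
    (hper _ (by rw [pow_orderOf_eq_one]; exact one_mem _))
  refine ⟨zpowers g, zpowers b, inferInstance, inferInstance, ?_, by rw [Nat.card_zpowers g, ho, hcard]⟩
  refine eq_bot_iff.2 fun z ⟨hz1, hz2⟩ => ?_
  obtain ⟨j, hj⟩ := mem_powers_iff_mem_zpowers.2 hz1
  change g ^ j = z at hj
  subst hj
  obtain ⟨c, rfl⟩ := hper j hz2
  rw [mem_bot, pow_mul, hg, one_pow]

theorem exists_split [Finite G] (hp2 : p ≠ 2) (hG : IsPGroup p G) (hmc : ∃ N : Subgroup G, ∃ _ : N.Normal,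
      IsCyclic N ∧ IsCyclic (G ⧸ N)) :
    ∃ A B : Subgroup G, IsCyclic ↥A ∧ IsCyclic ↥B ∧ A ⊓ B = ⊥ ∧ Nat.card ↥A * Nat.card ↥B = Nat.card G := by
  obtain ⟨N, hN, hNc, hQc⟩ := hmc
  obtain ⟨a, ha⟩ := isCyclic_iff_exists_zpowers_eq_top.1 hNc
  obtain ⟨bb, hbb⟩ := isCyclic_iff_exists_zpowers_eq_top.1 hQc
  obtain ⟨b, rfl⟩ := QuotientGroup.mk_surjective bb
  have hNa : N = zpowers (a : G) := by
    have := congrArg (Subgroup.map N.subtype) ha
    rw [MonoidHom.map_zpowers, ← MonoidHom.range_eq_map, range_subtype] at this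
    exact this.symm
  generalize (a : G) = α at hNa
  subst hNa
  have hsup : zpowers α ⊔ zpowers b = ⊤ := by
    refine eq_top_iff.2 fun g _ => ?_
    obtain ⟨j, hj⟩ := mem_zpowers_iff.1 (hbb.ge (mem_top (g : G ⧸ zpowers α)))
    rw [← QuotientGroup.mk_zpow, QuotientGroup.eq] at hj
    rw [← mul_inv_cancel_left (b ^ j) g]
    exact mul_mem (mem_sup_right (zpow_mem (mem_zpowers b) j)) (mem_sup_left hj)
  obtain ⟨t, ht⟩ := mem_zpowers_iff.1 (hN.conj_mem α (mem_zpowers α) b)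
  have htp : (p : ℤ) ∣ t - 1 ∨ α = 1 := by
    by_cases h1 : α = 1
    · exact Or.inr h1
    refine Or.inl ?_
    obtain ⟨k, hk⟩ := hG b
    have h := conj_pow_eq ht.symm (p ^ k)
    rw [hk, one_mul, inv_one, mul_one] at h
    nth_rw 1 [← zpow_one α] at h
    rw [zpow_eq_zpow_iff_modEq] at h
    obtain ⟨i, hi⟩ := IsPGroup.iff_orderOf.1 hG α
    have hi0 : i ≠ 0 := fun h0 => h1 (orderOf_eq_one_iff.1 (by rw [hi, h0, pow_zero]))
    have h2 : ((1 : ℤ) : ZMod p) = ((t ^ p ^ k : ℤ) : ZMod p) := by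
      rw [ZMod.intCast_eq_intCast_iff]
      exact Int.ModEq.of_dvd (Int.natCast_dvd_natCast.2 (hi ▸ dvd_pow_self p hi0)) h
    rw [Int.cast_pow, ZMod.pow_card_pow, Int.cast_one] at h2
    rw [← ZMod.intCast_zmod_eq_zero_iff_dvd, Int.cast_sub, Int.cast_one, ← h2, sub_self]
  rcases htp with htp | rfl
  swap
  · refine ⟨⊥, zpowers b, inferInstance, inferInstance, bot_inf_eq _, ?_⟩
    rw [zpowers_one_eq_bot, bot_sup_eq] at hsup
    rw [hsup, card_bot, one_mul, card_top]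
  rcases le_or_gt (orderOf b) (orderOf α) with hle | hlt
  · obtain ⟨e, hper, hdiv⟩ := exists_period hG (zpowers α) b
    have hcard := card_eq_period (pow_pos hp.out.pos e) (Or.inr hN) (by rw [sup_comm, hsup]) hper
    have hbq : b ^ p ^ e ∈ zpowers α := by rw [← zpow_natCast]; exact (hper _).2 dvd_rfl
    obtain ⟨s, hs⟩ := mem_powers_iff_mem_zpowers.2 hbq
    change α ^ s = b ^ p ^ e at hs
    obtain ⟨s', rfl⟩ := dvd_of_orderOf_le hG hdiv hle hs.symm
    obtain ⟨u, hu⟩ := (dvd_T_iff hp2 (p ^ e) e t htp).2 dvd_rfl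
    have hpi : Prime (p : ℤ) := Nat.prime_iff_prime_int.1 hp.out
    have hup : ¬ (p : ℤ) ∣ u := by
      intro h
      have h2 := (dvd_T_iff hp2 (p ^ e) (e + 1) t htp).1 (by rw [hu, pow_succ]; exact mul_dvd_mul_left _ h)
      have := (Nat.pow_dvd_pow_iff_le_right hp.out.one_lt).1 h2
      omega
    obtain ⟨i, hi⟩ := IsPGroup.iff_orderOf.1 hG α
    obtain ⟨v, w, hvw⟩ : IsCoprime u ((p : ℤ) ^ i) :=
      IsCoprime.pow_right ((hpi.coprime_iff_not_dvd.2 hup).symm)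
    set k : ℤ := -(s' * v) with hk
    have hconj : b * α ^ k * b⁻¹ = (α ^ k) ^ t := by
      rw [← conj_zpow, ← ht, ← zpow_mul, ← zpow_mul, mul_comm]
    refine split_of_power (g := α ^ k * b) (b := α) (pow_pos hp.out.pos e) ?_ ?_ hcard
    · rw [mul_zpow_pow hconj, ← hs, ← zpow_mul, ← zpow_natCast α, ← zpow_add, ← orderOf_dvd_iff_zpow_eq_one,
        hi, hu, hk]
      refine ⟨(p : ℤ) ^ e * s' * w, ?_⟩
      push_cast
      linear_combination (p : ℤ) ^ e * (s' : ℤ) * (-1) * hvw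
    · intro j hj
      rw [mul_zpow_pow hconj] at hj
      have h1 : b ^ j ∈ zpowers α := (Subgroup.mul_mem_cancel_left _ (zpow_mem (zpow_mem (mem_zpowers α) k) _)).1 hj
      rw [← zpow_natCast, hper] at h1
      exact Int.natCast_dvd_natCast.1 h1
  · obtain ⟨e, hper, hdiv⟩ := exists_period hG (zpowers b) α
    have hcard := card_eq_period (pow_pos hp.out.pos e) (Or.inl hN) hsup hper
    have haq : α ^ p ^ e ∈ zpowers b := by rw [← zpow_natCast]; exact (hper _).2 dvd_rfl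
    obtain ⟨s, hs⟩ := mem_powers_iff_mem_zpowers.2 haq
    change b ^ s = α ^ p ^ e at hs
    obtain ⟨s', rfl⟩ := dvd_of_orderOf_le hG hdiv hlt.le hs.symm
    have hfix : (orderOf α : ℤ) ∣ (p : ℤ) ^ e * (t - 1) := by
      have hc : b * α ^ p ^ e * b⁻¹ = α ^ p ^ e := by
        rw [← hs, ← pow_succ', pow_succ, mul_inv_cancel_right]
      rw [orderOf_dvd_iff_zpow_eq_one, mul_sub, mul_one, zpow_sub, mul_comm ((p : ℤ) ^ e), zpow_mul, ht]
      rw [show (p : ℤ) ^ e = ((p ^ e : ℕ) : ℤ) by push_cast; rfl, zpow_natCast, zpow_natCast, conj_pow, hc,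
        mul_inv_cancel]
    set K : ℕ := (orderOf b - s' % orderOf b) with hK
    have hconj := conj_pow_eq ht.symm K
    have hbK : b ^ (K * p ^ e) = (α ^ p ^ e)⁻¹ := by
      rw [← hs, eq_inv_iff_mul_eq_one, ← pow_add, ← orderOf_dvd_iff_pow_eq_one, mul_comm K, ← mul_add]
      refine dvd_mul_of_dvd_right ?_ _
      have h1 := Nat.mod_lt s' (orderOf_pos b)
      refine ⟨1 + s' / orderOf b, ?_⟩
      have h2 := Nat.div_add_mod s' (orderOf b)
      rw [hK, mul_add, mul_one]; omega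
    refine split_of_power (g := α * b ^ K) (b := b) (pow_pos hp.out.pos e) ?_ ?_ hcard
    · rw [mul_zpow_pow hconj, ← pow_mul, hbK, ← zpow_natCast α, ← zpow_neg, ← zpow_add,
        ← orderOf_dvd_iff_zpow_eq_one, ← sub_eq_add_neg]
      push_cast
      exact hfix.trans ((mul_dvd_mul_left _ (sub_one_dvd_pow_sub_one t K)).trans
        (dvd_T_prime_pow_sub hp2 (dvd_pow_sub_one htp K) e))
    · intro j hj
      rw [mul_zpow_pow hconj] at hj
      have h1 : α ^ T (t ^ K) j ∈ zpowers b :=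
        (Subgroup.mul_mem_cancel_right _ (pow_mem (pow_mem (mem_zpowers b) K) j)).1 hj
      rw [hper, Nat.cast_pow] at h1
      exact (dvd_T_iff hp2 j e _ (dvd_pow_sub_one htp K)).1 h1

end Cfsg.Agent.Struct.MetacyclicSplit
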