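import Mathlib
import Cfsg.Agent.Lib.Solv.Coprime
import Cfsg.Prelude.Def_LocalStructure
import Cfsg.Prelude.Def_Transfer

/-!
A minimal normal elementary abelian `q`-subgroup of index `p` has order `q^e`, `e` the order of
`q` modulo `p`; minimal non-`p`-closed groups that are not simple.
-/

set_option autoImplicit false
set_option linter.style.haveILetI false

namespace Cfsg.Agent.Struct.MinimalNonPClosed

open Subgroup

/-- An endomorphism of prime order `p` without invariant subgroups spans a field of order `q^e`. -/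
theorem card_eq_of_irreducible {V : Type*} [AddCommGroup V] [Finite V] [Nontrivial V] {p q : ℕ}
    [Fact p.Prime] [Fact q.Prime] (hpq : q ≠ p) (a : AddMonoid.End V) (hq : ∀ v : V, q • v = 0)
    (hap : a ^ p = 1) (ha : a ≠ 1)
    (hirr : ∀ W : AddSubgroup V, (∀ w ∈ W, a w ∈ W) → W = ⊥ ∨ W = ⊤) :
    Nat.card V = q ^ orderOf (q : ZMod p) := by
  classical
  have hp : p.Prime := Fact.out
  have hqp : q.Prime := Fact.out
  let R : Subring (AddMonoid.End V) := Subring.closure {a}
  letI : CommRing R := Subring.closureCommRingOfComm (s := ({a} : Set (AddMonoid.End V)))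
    (fun x hx y hy => by rw [Set.mem_singleton_iff] at hx hy; rw [hx, hy])
  have hRa : ∀ r : R, ∀ v : V, (r : AddMonoid.End V) (a v) = a ((r : AddMonoid.End V) v) := by
    intro r v
    have h := congrArg Subtype.val (mul_comm r ⟨a, Subring.subset_closure rfl⟩)
    exact DFunLike.congr_fun h v
  have hinj : ∀ r : R, r ≠ 0 → ∀ v : V, (r : AddMonoid.End V) v = 0 → v = 0 := by
    intro r hr v hv
    have h := hirr
      { carrier := {w | (r : AddMonoid.End V) w = 0}
        zero_mem' := map_zero _
        add_mem' := fun {x y} hx hy => by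
          show (r : AddMonoid.End V) (x + y) = 0
          simp only [Set.mem_setOf_eq] at hx hy
          rw [map_add, hx, hy, add_zero]
        neg_mem' := fun {x} hx => by
          show (r : AddMonoid.End V) (-x) = 0
          simp only [Set.mem_setOf_eq] at hx
          rw [map_neg, hx, neg_zero] } fun w hw => by
      show (r : AddMonoid.End V) (a w) = 0
      rw [hRa]
      exact (congrArg a (show (r : AddMonoid.End V) w = 0 from hw)).trans (map_zero a)
    rcases h with h | h
    · exact (AddSubgroup.eq_bot_iff_forall _).1 h v hv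
    · refine absurd (Subtype.ext (DFunLike.ext _ _ fun w => ?_)) hr
      exact (SetLike.ext_iff.1 h w).2 (AddSubgroup.mem_top w)
  obtain ⟨v₀, hv₀⟩ := exists_ne (0 : V)
  let ev : R →+ V :=
    { toFun := fun r => (r : AddMonoid.End V) v₀
      map_zero' := rfl
      map_add' := fun _ _ => rfl }
  have hev : Function.Bijective ev := by
    refine ⟨(injective_iff_map_eq_zero ev).2 fun r hr => by_contra fun h => hv₀ (hinj r h v₀ hr), ?_⟩
    rw [← AddMonoidHom.range_eq_top]
    refine (hirr ev.range ?_).resolve_left fun h => hv₀ ?_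
    · rintro _ ⟨r, rfl⟩
      exact ⟨⟨a, Subring.subset_closure rfl⟩ * r, rfl⟩
    · exact (AddSubgroup.eq_bot_iff_forall _).1 h v₀ ⟨1, rfl⟩
  have hcard : Nat.card R = Nat.card V := Nat.card_eq_of_bijective ev hev
  haveI : Finite R := Finite.of_injective ev hev.1
  haveI : Nontrivial R := ⟨0, 1, fun h => hv₀ (congrArg (fun r : R => ev r) h).symm⟩
  haveI : NoZeroDivisors R := ⟨fun {r s} hrs => by
    by_contra hc
    rw [not_or] at hc
    exact hc.2 (Subtype.ext (DFunLike.ext _ _ fun v => hinj r hc.1 _
      (DFunLike.congr_fun (congrArg Subtype.val hrs) v)))⟩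
  haveI : IsDomain R := NoZeroDivisors.to_isDomain R
  have hqR : ∀ r : R, q • r = 0 := fun r => hev.1 (by rw [map_nsmul, map_zero, hq])
  haveI : CharP R q := by
    rw [CharP.charP_iff_prime_eq_zero hqp]
    rw [← nsmul_one]
    exact hqR 1
  haveI : ExpChar R q := ExpChar.prime hqp
  obtain ⟨f, hf⟩ : ∃ f, Nat.card V = q ^ f := by
    have : IsPGroup q (Multiplicative V) := fun x => ⟨1, by
      rw [pow_one]; exact congrArg Multiplicative.ofAdd (hq x.toAdd)⟩
    obtain ⟨f, hf⟩ := IsPGroup.iff_card.1 this
    exact ⟨f, hf⟩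
  set e := orderOf (q : ZMod p) with he
  let α : R := ⟨a, Subring.subset_closure rfl⟩
  have hα : orderOf α = p :=
    orderOf_eq_prime (Subtype.ext hap) fun h => ha (congrArg Subtype.val h)
  have hqe : (q : ZMod p) ^ e = 1 := pow_orderOf_eq_one _
  have hq0 : (q : ZMod p) ≠ 0 := by
    rw [Ne, CharP.cast_eq_zero_iff (ZMod p) p]
    exact fun h => hpq ((Nat.prime_dvd_prime_iff_eq hp hqp).1 h).symm
  have hfe : f ≤ e := by
    have hfix : ∀ r : R, r ^ q ^ e = r := by
      intro r
      have hle : R ≤ (RingHom.eqLocus (iterateFrobenius R q e) (RingHom.id R)).map R.subtype := by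
        refine Subring.closure_le.2 ?_
        rintro _ rfl
        refine ⟨α, ?_, rfl⟩
        show iterateFrobenius R q e α = α
        rw [iterateFrobenius_def, ← pow_mod_orderOf, hα]
        have h1 : q ^ e % p = 1 := by
          have h2 : ((q ^ e : ℕ) : ZMod p) = ((1 : ℕ) : ZMod p) := by
            rw [Nat.cast_pow, hqe, Nat.cast_one]
          rw [ZMod.natCast_eq_natCast_iff'] at h2
          rw [h2, Nat.mod_eq_of_lt hp.one_lt]
        rw [h1, pow_one]
      obtain ⟨s, hs, hsr⟩ := hle r.2
      rw [← Subtype.ext hsr]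
      exact hs
    haveI := Fintype.ofFinite R
    letI : Field R := (Finite.isDomain_to_isField R).toField
    have h1 : 1 < q ^ e := by
      refine Nat.one_lt_pow ?_ hqp.one_lt
      exact (orderOf_pos_iff.2 (isOfFinOrder_iff_pow_eq_one.2
        ⟨p - 1, Nat.sub_pos_of_lt hp.one_lt, ZMod.pow_card_sub_one_eq_one hq0⟩)).ne'
    have h2 := Polynomial.card_le_degree_of_subset_roots (R := R)
      (p := Polynomial.X ^ (q ^ e) - Polynomial.X) (Z := Finset.univ) (by
        intro r _
        rw [Polynomial.mem_roots (FiniteField.X_pow_card_sub_X_ne_zero R h1),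
          Polynomial.IsRoot, Polynomial.eval_sub, Polynomial.eval_pow, Polynomial.eval_X, hfix,
          sub_self])
    rw [FiniteField.X_pow_card_sub_X_natDegree_eq R h1, Finset.card_univ,
      ← Nat.card_eq_fintype_card, hcard, hf] at h2
    exact (Nat.pow_le_pow_iff_right hqp.one_lt).1 h2
  have hef : e ∣ f := by
    refine orderOf_dvd_of_pow_eq_one ?_
    letI : Field R := (Finite.isDomain_to_isField R).toField
    have hu : p ∣ Nat.card Rˣ := by
      rw [← hα]
      exact (orderOf_units (y := (IsUnit.of_pow_eq_one (pow_orderOf_eq_one α)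
        (hα ▸ hp.ne_zero)).unit)).symm ▸ orderOf_dvd_natCard _
    rw [Nat.card_units, hcard, hf] at hu
    have h4 : ((q ^ f - 1 : ℕ) : ZMod p) = 0 := (CharP.cast_eq_zero_iff (ZMod p) p _).2 hu
    rw [Nat.cast_sub (Nat.one_le_pow _ _ hqp.pos), Nat.cast_pow, Nat.cast_one, sub_eq_zero] at h4
    exact h4
  have hf0 : f ≠ 0 := by
    rintro rfl
    rw [pow_zero] at hf
    exact (Finite.one_lt_card (α := V)).ne' hf
  rw [hf, le_antisymm hfe (Nat.le_of_dvd (Nat.pos_of_ne_zero hf0) hef)]

open Cfsg.Agent.Solv in
open scoped Pointwise in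
/-- Group version. -/
theorem card_minimal_normal {G : Type*} [Group G] [Finite G] {p q : ℕ} [Fact p.Prime]
    (hq : q.Prime) (hpq : q ≠ p) (hna : ¬ IsMulCommutative G) (A : Subgroup G) [A.Normal]
    (hA : Cfsg.IsElementaryAbelian q A) (hidx : A.index = p)
    (hmin : ∀ B : Subgroup G, B.Normal → B ≤ A → B = ⊥ ∨ B = A) :
    Nat.card A = q ^ orderOf (q : ZMod p) := by
  classical
  haveI : Fact q.Prime := ⟨hq⟩
  have hp : p.Prime := Fact.out
  haveI := hA.1
  letI : CommGroup A := { (inferInstance : Group A) with mul_comm := mul_comm' }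
  obtain ⟨f, hf⟩ := (IsPGroup.iff_card (p := q) (G := A)).1
    (fun y => ⟨1, Subtype.ext (by rw [pow_one]; exact hA.2 y y.2)⟩)
  obtain ⟨x, hx⟩ := exists_prime_orderOf_dvd_card' (G := G) p (hidx ▸ index_dvd_card A)
  have hxA : x ∉ A := by
    intro h
    have h1 := Subgroup.orderOf_dvd_natCard _ h
    rw [hx, hf] at h1
    exact hpq ((Nat.prime_dvd_prime_iff_eq hp hq).1 (hp.dvd_of_dvd_pow h1)).symm
  have htop : A ⊔ zpowers x = ⊤ := by
    rw [← index_eq_one]
    have h1 := relIndex_mul_index (le_sup_left : A ≤ A ⊔ zpowers x)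
    rw [hidx] at h1
    rcases hp.eq_one_or_self_of_dvd _ (Dvd.intro_left _ h1) with h2 | h2
    · exact h2
    · rw [h2, Nat.mul_eq_right hp.ne_zero, relIndex_eq_one] at h1
      exact absurd (h1 (mem_sup_right (mem_zpowers x))) hxA
  let a : AddMonoid.End (Additive A) :=
    MonoidHom.toAdditive (MulAut.conjNormal (H := A) x).toMonoidHom
  have hcomm : ∀ u v : A, (u : G) * v = v * u := fun u v => congrArg Subtype.val (mul_comm u v)
  have hA1 : A ≠ ⊥ := by
    rintro rfl
    haveI : IsCyclic G := isCyclic_of_prime_card (p := p) (by rw [← index_bot, hidx])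
    exact hna ⟨⟨fun u v => IsCyclic.commGroup.mul_comm u v⟩⟩
  haveI : Nontrivial A := (nontrivial_iff_ne_bot A).2 hA1
  rw [hf]
  have key := card_eq_of_irreducible (V := Additive A) (p := p) (q := q) hpq a
    (fun v => Additive.toMul.injective (Subtype.ext (hA.2 _ v.toMul.2))) ?_ ?_ ?_
  · exact hf.symm.trans key
  · refine DFunLike.ext _ _ fun w => ?_
    have h : ∀ k : ℕ, (((a ^ k) w).toMul : G) = x ^ k * (w.toMul : G) * (x ^ k)⁻¹ := by
      intro k
      induction k with
      | zero => simp
      | succ k ih =>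
        rw [pow_succ']
        show x * (((a ^ k) w).toMul : G) * x⁻¹ = _
        rw [ih, pow_succ' x k]
        group
    refine Additive.toMul.injective (Subtype.ext ?_)
    rw [h, ← hx, pow_orderOf_eq_one]
    simp
  · intro h
    refine hna ⟨⟨fun u v => ?_⟩⟩
    have hxc : ∀ w ∈ A, x * w = w * x := fun w hw => by
      have h1 := congrArg (fun z : AddMonoid.End (Additive A) =>
        ((z (Additive.ofMul ⟨w, hw⟩)).toMul : G)) h
      change x * w * x⁻¹ = w at h1
      exact mul_inv_eq_iff_eq_mul.1 h1
    have hle : A ⊔ zpowers x ≤ center G := by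
      have hAc : ∀ y ∈ A ⊔ zpowers x, ∀ w ∈ A, y * w = w * y := by
        intro y hy
        have : A ⊔ zpowers x ≤ centralizer (A : Set G) :=
          sup_le (fun b hb => mem_centralizer_iff.2 fun w hw => hcomm ⟨w, hw⟩ ⟨b, hb⟩)
            (zpowers_le.2 (mem_centralizer_iff.2 fun w hw => (hxc w hw).symm))
        exact fun w hw => (mem_centralizer_iff.1 (this hy) w hw).symm
      refine sup_le (fun b hb => mem_center_iff.2 fun g => hAc g (htop ▸ mem_top g) b hb) ?_
      rw [zpowers_le, mem_center_iff]
      intro g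
      have : A ⊔ zpowers x ≤ centralizer {x} :=
        sup_le (fun b hb => mem_centralizer_singleton_iff.2 (hxc b hb).symm)
          (zpowers_le.2 (mem_centralizer_singleton_iff.2 rfl))
      exact mem_centralizer_singleton_iff.1 (this (htop ▸ mem_top g))
    exact mem_center_iff.1 (hle (htop ▸ mem_top v)) u
  · intro W hW
    let B : Subgroup G :=
      { carrier := {g | ∃ h : g ∈ A, Additive.ofMul (⟨g, h⟩ : A) ∈ W}
        one_mem' := ⟨one_mem A, W.zero_mem⟩
        mul_mem' := fun ⟨h1, h2⟩ ⟨h3, h4⟩ => ⟨mul_mem h1 h3, W.add_mem h2 h4⟩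
        inv_mem' := fun ⟨h1, h2⟩ => ⟨inv_mem h1, W.neg_mem h2⟩ }
    have hBA : B ≤ A := fun g hg => hg.1
    have hBn : B.Normal := by
      rw [← normalizer_eq_top_iff, eq_top_iff, ← htop]
      refine sup_le (fun b hb => mem_normalizer_iff.2 fun g => ?_) ?_
      · constructor
        · intro hg
          rw [hcomm ⟨b, hb⟩ ⟨g, hg.1⟩, mul_inv_cancel_right]
          exact hg
        · intro hg
          have hgA : g ∈ A := by simpa [mul_assoc] using mul_mem (mul_mem (inv_mem hb) hg.1) hb
          rw [hcomm ⟨b, hb⟩ ⟨g, hgA⟩, mul_inv_cancel_right] at hg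
          exact hg
      · rw [zpowers_le]
        have hxB : ∀ g ∈ B, x * g * x⁻¹ ∈ B := fun g ⟨hg, hgW⟩ =>
          ⟨(inferInstance : A.Normal).conj_mem g hg x, hW _ hgW⟩
        refine mem_normalizer_iff.2 fun g => ⟨hxB g, fun hg => ?_⟩
        have hpow : ∀ k : ℕ, x ^ k * (x * g * x⁻¹) * (x ^ k)⁻¹ ∈ B := by
          intro k
          induction k with
          | zero => simpa using hg
          | succ k ih =>
            have := hxB _ ih
            rw [pow_succ']
            simpa [mul_assoc] using this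
        have h1 := hpow (p - 1)
        rw [show x ^ (p - 1) = x⁻¹ from eq_inv_of_mul_eq_one_left (by
          rw [← pow_succ, Nat.sub_add_cancel hp.one_le, ← hx, pow_orderOf_eq_one])] at h1
        simpa [mul_assoc] using h1
    rcases hmin B hBn hBA with h | h
    · left
      rw [AddSubgroup.eq_bot_iff_forall]
      intro w hw
      have : (w.toMul : G) ∈ B := ⟨w.toMul.2, hw⟩
      rw [h, mem_bot] at this
      exact Additive.toMul.injective (Subtype.ext this)
    · right
      rw [AddSubgroup.eq_top_iff']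
      intro w
      have hwA : (w.toMul : G) ∈ B := by rw [h]; exact w.toMul.2
      obtain ⟨_, hw'⟩ := hwA
      exact hw'

end Cfsg.Agent.Struct.MinimalNonPClosed
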