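import Mathlib

/-!
The number of nilpotent endomorphisms of a finite vector space.
-/

set_option autoImplicit false
set_option linter.style.haveILetI false

namespace Cfsg.Agent.Struct.NilpotentCount

open Module LinearMap

universe u v

variable {F : Type u} [Field F]

/-- The shift on `F^k`. -/
def shift (k : ℕ) : Module.End F (Fin k → F) where
  toFun a j := if h : 0 < (j : ℕ) then a ⟨(j : ℕ) - 1, by omega⟩ else 0
  map_add' a b := by funext j; simp only [Pi.add_apply]; split_ifs <;> simp
  map_smul' c a := by funext j; simp only [Pi.smul_apply, RingHom.id_apply]; split_ifs <;> simp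

/-- The first unit vector. -/
def e0 (k : ℕ) : Fin k → F := fun j => if (j : ℕ) = 0 then 1 else 0

theorem shift_pow_e0 (k i : ℕ) : ((shift k : Module.End F (Fin k → F)) ^ i) (e0 k) = fun j : Fin k => if (j : ℕ) = i then 1 else 0 := by
  induction i with
  | zero => rfl
  | succ i ih =>
    rw [pow_succ', Module.End.mul_apply, ih]
    funext j
    show (if h : 0 < (j : ℕ) then _ else (0 : F)) = _
    split_ifs with h a b b <;> first | rfl | (exfalso; omega) | (exfalso; simp at *; omega)

theorem shift_pow_self (k : ℕ) : ((shift k : Module.End F (Fin k → F)) ^ k) = 0 := by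
  have h : ∀ (i : ℕ) (a : Fin k → F) (j : Fin k), (j : ℕ) < i → (((shift k : Module.End F (Fin k → F)) ^ i) a) j = 0 := by
    intro i
    induction i with
    | zero => intro a j hj; omega
    | succ i ih =>
      intro a j hj
      rw [pow_succ', Module.End.mul_apply]
      show (if h : 0 < (j : ℕ) then _ else (0 : F)) = _
      split_ifs with h
      · exact ih a _ (by show (j : ℕ) - 1 < i; omega)
      · rfl
  exact LinearMap.ext fun a => funext fun j => h k a j j.isLt

theorem single_eq (k : ℕ) (j : Fin k) : (Pi.single j 1 : Fin k → F) = ((shift k : Module.End F (Fin k → F)) ^ (j : ℕ)) (e0 k) := by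
  rw [shift_pow_e0]
  funext i
  simp [Pi.single_apply, Fin.ext_iff]

variable {V : Type v} [AddCommGroup V] [Module F V]

theorem conj_pow {W : Type*} [AddCommGroup W] [Module F W] (g : V ≃ₗ[F] W) (X : Module.End F V) :
    ∀ j : ℕ, (g.conj X) ^ j = g.conj (X ^ j)
  | 0 => by rw [pow_zero, pow_zero, Module.End.one_eq_id, Module.End.one_eq_id, LinearEquiv.conj_id]
  | j + 1 => by rw [pow_succ, pow_succ, conj_pow g X j, Module.End.mul_eq_comp, Module.End.mul_eq_comp, LinearEquiv.conj_comp]

theorem conj_symm_conj {W : Type*} [AddCommGroup W] [Module F W] (g : V ≃ₗ[F] W) (X : Module.End F V) :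
    g.symm.conj (g.conj X) = X := by
  ext x
  simp [LinearEquiv.conj_apply_apply]

theorem conj_nilpotent {W : Type*} [AddCommGroup W] [Module F W] (g : V ≃ₗ[F] W) {X : Module.End F V}
    (h : IsNilpotent X) : IsNilpotent (g.conj X) := by
  obtain ⟨s, hs⟩ := h
  exact ⟨s, by rw [conj_pow, hs, map_zero]⟩

theorem prodMap_pow {W : Type*} [AddCommGroup W] [Module F W] (f : Module.End F V) (g : Module.End F W) :
    ∀ j : ℕ, (f.prodMap g : Module.End F (V × W)) ^ j = (f ^ j).prodMap (g ^ j)
  | 0 => by rw [pow_zero, pow_zero, pow_zero, LinearMap.prodMap_one]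
  | j + 1 => by rw [pow_succ, pow_succ, pow_succ, prodMap_pow f g j, LinearMap.prodMap_mul]

/-- Orbit length of a vector under a nilpotent map. -/
def HasLength (T : Module.End F V) (x : V) (k : ℕ) : Prop :=
  (T ^ k) x = 0 ∧ ∀ j < k, (T ^ j) x ≠ 0

theorem linearIndependent_orbit (T : Module.End F V) (x : V) : ∀ k, HasLength T x k →
    LinearIndependent F (fun j : Fin k => (T ^ (j : ℕ)) x) := by
  intro k hk
  rw [Fintype.linearIndependent_iff]
  intro g hg
  suffices h : ∀ (s : ℕ) (j : Fin k), (j : ℕ) = s → g j = 0 from fun j => h j j rfl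
  intro s
  induction s using Nat.strong_induction_on with
  | _ s ih =>
    intro j hj
    have h1 := congrArg (T ^ (k - 1 - s)) hg
    rw [map_sum, map_zero, Finset.sum_eq_single j] at h1
    · rw [map_smul, ← Module.End.mul_apply, ← pow_add] at h1
      exact (smul_eq_zero.1 h1).resolve_right (hk.2 _ (by omega))
    · intro i _ hi
      have hi' : (i : ℕ) ≠ s := fun e => hi (Fin.ext (e.trans hj.symm))
      rcases Nat.lt_or_gt_of_ne hi' with h | h
      · rw [ih _ h i rfl, zero_smul, map_zero]
      · rw [map_smul, ← Module.End.mul_apply, ← pow_add, show k - 1 - s + (i : ℕ) = ((i : ℕ) - s - 1) + k by omega,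
          pow_add, Module.End.mul_apply, hk.1, map_zero, smul_zero]
    · simp

variable [FiniteDimensional F V]

theorem exists_length {T : Module.End F V} (hT : IsNilpotent T) (x : V) : ∃ k, HasLength T x k := by
  classical
  have h : ∃ k, (T ^ k) x = 0 := by
    obtain ⟨m, hm⟩ := hT
    exact ⟨m, by rw [hm]; rfl⟩
  exact ⟨Nat.find h, Nat.find_spec h, fun j hj => Nat.find_min h hj⟩

theorem length_le {T : Module.End F V} {x : V} {k : ℕ} (h : HasLength T x k) : k ≤ finrank F V := by
  simpa using (linearIndependent_orbit T x k h).fintype_card_le_finrank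

theorem length_unique {T : Module.End F V} {x : V} {k l : ℕ} (h : HasLength T x k) (h' : HasLength T x l) : k = l := by
  rcases Nat.lt_trichotomy k l with hlt | heq | hlt
  · exact absurd h.1 (h'.2 k hlt)
  · exact heq
  · exact absurd h'.1 (h.2 l hlt)

section counting

variable [Fintype F]

abbrev P (F : Type u) (k m : ℕ) : Type u := (Fin k → F) × (Fin m → F)

/-- Automorphisms fixing the first factor pointwise. -/
def HA (F : Type u) [Field F] (k m : ℕ) : Type u := {h : P F k m ≃ₗ[F] P F k m // ∀ a, h (a, 0) = (a, 0)}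

/-- The block triangular equivalence. -/
def triEquiv {k m : ℕ} (B : (Fin m → F) →ₗ[F] (Fin k → F)) (D : (Fin m → F) ≃ₗ[F] (Fin m → F)) :
    P F k m ≃ₗ[F] P F k m where
  toFun x := (x.1 + B x.2, D x.2)
  map_add' x y := by
    refine Prod.ext ?_ ?_ <;> simp only [Prod.fst_add, Prod.snd_add, map_add]
    abel
  map_smul' c x := by simp [smul_add]
  invFun x := (x.1 - B (D.symm x.2), D.symm x.2)
  left_inv x := by simp
  right_inv x := by simp

theorem card_HA (k m : ℕ) : Nat.card (HA F k m) =
    Nat.card ((Fin m → F) →ₗ[F] (Fin k → F)) * Nat.card ((Fin m → F) ≃ₗ[F] (Fin m → F)) := by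
  rw [← Nat.card_prod]
  symm
  refine Nat.card_eq_of_bijective (fun w => (⟨triEquiv w.1 w.2, fun a => by simp [triEquiv]⟩ : HA F k m)) ⟨?_, ?_⟩
  · intro w w' h
    have h1 : ∀ x, triEquiv w.1 w.2 x = triEquiv w'.1 w'.2 x := fun x => by
      exact congrArg (fun e : HA F k m => e.1 x) h
    refine Prod.ext (LinearMap.ext fun b => ?_) (LinearEquiv.ext fun b => ?_)
    · simpa [triEquiv] using congrArg Prod.fst (h1 (0, b))
    · simpa [triEquiv] using congrArg Prod.snd (h1 (0, b))
  · rintro ⟨h, hh⟩
    let B : (Fin m → F) →ₗ[F] (Fin k → F) := (LinearMap.fst F _ _).comp (h.toLinearMap.comp (LinearMap.inr F _ _))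
    let D0 : (Fin m → F) →ₗ[F] (Fin m → F) := (LinearMap.snd F _ _).comp (h.toLinearMap.comp (LinearMap.inr F _ _))
    have hdec : ∀ a b, h (a, b) = (a + B b, D0 b) := fun a b => by
      have : h (a, b) = h (a, 0) + h (0, b) := by rw [← map_add, Prod.mk_add_mk, add_zero, zero_add]
      rw [this, hh]
      refine Prod.ext ?_ ?_ <;> simp [B, D0]
    have hD : Function.Injective D0 := (injective_iff_map_eq_zero D0).2 fun b hb => by
      have h1 : h (-(B b), b) = h (0, 0) := by
        rw [hdec, neg_add_cancel, hb]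
        exact (map_zero h).symm
      exact congrArg Prod.snd (h.injective h1)
    refine ⟨(B, LinearEquiv.ofInjectiveEndo D0 hD), Subtype.ext (LinearEquiv.ext fun x => ?_)⟩
    obtain ⟨a, b⟩ := x
    show (a + B b, LinearEquiv.ofInjectiveEndo D0 hD b) = h (a, b)
    rw [hdec, LinearEquiv.coe_ofInjectiveEndo]

/-- Nilpotent maps in orbit normal form. -/
def FA (F : Type u) [Field F] (k m : ℕ) : Type u :=
  {X : Module.End F (P F k m) // IsNilpotent X ∧ ∀ a, X (a, 0) = (shift k a, 0)}

theorem card_FA (k m : ℕ) : Nat.card (FA F k m) =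
    Nat.card ((Fin m → F) →ₗ[F] (Fin k → F)) * Nat.card {N : Module.End F (Fin m → F) // IsNilpotent N} := by
  rw [← Nat.card_prod]
  symm
  let mkX : ((Fin m → F) →ₗ[F] (Fin k → F)) → Module.End F (Fin m → F) → Module.End F (P F k m) := fun C N =>
    LinearMap.prod ((shift k).comp (LinearMap.fst F _ _) + C.comp (LinearMap.snd F _ _)) (N.comp (LinearMap.snd F _ _))
  have hmk : ∀ C N a b, mkX C N (a, b) = (shift k a + C b, N b) := fun C N a b => rfl
  have hpow : ∀ C N (j : ℕ) a b, ((mkX C N) ^ j) (a, b) = ((((mkX C N) ^ j) (a, b)).1, (N ^ j) b) := by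
    intro C N j
    induction j with
    | zero => intro a b; rfl
    | succ j ih =>
      intro a b
      refine Prod.ext rfl ?_
      rw [pow_succ', Module.End.mul_apply, ih, hmk, pow_succ', Module.End.mul_apply]
  refine Nat.card_eq_of_bijective (fun w => (⟨mkX w.1 w.2.1, ?_, fun a => by simp [hmk]⟩ : FA F k m)) ⟨?_, ?_⟩
  · obtain ⟨s, hs⟩ := w.2.2
    refine ⟨k + s, LinearMap.ext fun x => ?_⟩
    obtain ⟨a, b⟩ := x
    have h0 : (((mkX w.1 w.2.1) ^ s) (a, b)).2 = 0 := by
      rw [hpow, hs]; rfl
    rw [pow_add, Module.End.mul_apply, ← Prod.mk.eta (p := ((mkX w.1 w.2.1) ^ s) (a, b)), h0]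
    have : ∀ (j : ℕ) c, ((mkX w.1 w.2.1) ^ j) (c, (0 : Fin m → F)) = ((shift k ^ j) c, 0) := by
      intro j
      induction j with
      | zero => intro c; rfl
      | succ j ih =>
        intro c
        rw [pow_succ', Module.End.mul_apply, ih, hmk, map_zero, map_zero, add_zero, pow_succ', Module.End.mul_apply]
    rw [LinearMap.zero_apply, this, shift_pow_self]
    rfl
  · intro w w' h
    have h1 : ∀ x, mkX w.1 w.2.1 x = mkX w'.1 w'.2.1 x := fun x => congrArg (fun e : FA F k m => e.1 x) h
    refine Prod.ext (LinearMap.ext fun b => ?_) (Subtype.ext (LinearMap.ext fun b => ?_))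
    · simpa [hmk] using congrArg Prod.fst (h1 (0, b))
    · simpa [hmk] using congrArg Prod.snd (h1 (0, b))
  · rintro ⟨X, hXn, hX⟩
    let C : (Fin m → F) →ₗ[F] (Fin k → F) := (LinearMap.fst F _ _).comp (X.comp (LinearMap.inr F _ _))
    let N : Module.End F (Fin m → F) := (LinearMap.snd F _ _).comp (X.comp (LinearMap.inr F _ _))
    have hdec : ∀ a b, X (a, b) = mkX C N (a, b) := fun a b => by
      have : X (a, b) = X (a, 0) + X (0, b) := by rw [← map_add, Prod.mk_add_mk, add_zero, zero_add]
      rw [this, hX, hmk]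
      refine Prod.ext ?_ ?_ <;> simp [C, N]
    have hXe : X = mkX C N := LinearMap.ext fun x => hdec x.1 x.2
    have hN : IsNilpotent N := by
      obtain ⟨s, hs⟩ := hXn
      refine ⟨s, LinearMap.ext fun b => ?_⟩
      have h2 := congrArg Prod.snd (hpow C N s 0 b)
      rw [← hXe, hs] at h2
      exact h2.symm
    exact ⟨(C, ⟨N, hN⟩), Subtype.ext hXe.symm⟩

variable [Finite V]

theorem card_A (k m : ℕ) (hV : finrank F V = k + m) :
    Nat.card {y : Module.End F V × V // IsNilpotent y.1 ∧ HasLength y.1 y.2 k} * Nat.card (HA F k m) =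
      Nat.card (P F k m ≃ₗ[F] V) * Nat.card (FA F k m) := by
  classical
  let A := {y : Module.End F V × V // IsNilpotent y.1 ∧ HasLength y.1 y.2 k}
  let φ : A → (Fin k → F) →ₗ[F] V := fun y => Fintype.linearCombination F (fun j : Fin k => (y.1.1 ^ (j : ℕ)) y.1.2)
  let Gy : A → Type _ := fun y => {g : P F k m ≃ₗ[F] V // ∀ a, g (a, 0) = φ y a}
  have hshift : ∀ (y : A) a, y.1.1 (φ y a) = φ y (shift k a) := by
    intro y
    suffices h : y.1.1.comp (φ y) = (φ y).comp (shift k) from fun a => LinearMap.congr_fun h a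
    refine (Pi.basisFun F (Fin k)).ext fun j => ?_
    rw [Pi.basisFun_apply, LinearMap.comp_apply, LinearMap.comp_apply, single_eq, ← Module.End.mul_apply (shift k), ← pow_succ',
      shift_pow_e0, shift_pow_e0]
    simp only [φ, Fintype.linearCombination_apply]
    rw [Finset.sum_eq_single j, map_smul]
    · rw [if_pos rfl, one_smul, ← Module.End.mul_apply, ← pow_succ']
      by_cases hj : (j : ℕ) + 1 < k
      · rw [Finset.sum_eq_single ⟨(j : ℕ) + 1, hj⟩]
        · simp
        · intro i _ hi
          rw [if_neg (fun e => hi (Fin.ext e)), zero_smul]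
        · simp
      · rw [Finset.sum_eq_zero fun i _ => by rw [if_neg (by omega), zero_smul], show (j : ℕ) + 1 = k by omega]
        exact y.2.2.1
    · intro i _ hi
      rw [if_neg (fun e => hi (Fin.ext e)), zero_smul]
    · simp
  have hne : ∀ y : A, Nonempty (Gy y) := by
    intro y
    have hinj : Function.Injective (φ y) :=
      (linearIndependent_orbit _ _ k y.2.2).fintypeLinearCombination_injective
    obtain ⟨U, hU⟩ := Submodule.exists_isCompl (LinearMap.range (φ y))
    have hUm : finrank F (Fin m → F) = finrank F U := by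
      have := Submodule.finrank_add_eq_of_isCompl hU
      rw [LinearMap.finrank_range_of_inj hinj, finrank_fin_fun] at this
      rw [finrank_fin_fun]
      omega
    exact ⟨⟨((LinearEquiv.ofInjective (φ y) hinj).prodCongr (LinearEquiv.ofFinrankEq _ _ hUm)).trans
      (Submodule.prodEquivOfIsCompl _ _ hU), fun a => by simp [Submodule.coe_prodEquivOfIsCompl']⟩⟩
  have hGy : ∀ y : A, Nat.card (Gy y) = Nat.card (HA F k m) := by
    intro y
    obtain ⟨g₀⟩ := hne y
    refine (Nat.card_eq_of_bijective (fun h : HA F k m => (⟨h.1.trans g₀.1, fun a => by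
      rw [LinearEquiv.trans_apply, h.2, g₀.2]⟩ : Gy y)) ⟨?_, ?_⟩).symm
    · intro h h' e
      exact Subtype.ext (LinearEquiv.ext fun x => g₀.1.injective (congrArg (fun g : Gy y => g.1 x) e))
    · intro g
      exact ⟨⟨g.1.trans g₀.1.symm, fun a => by rw [LinearEquiv.trans_apply, g.2, ← g₀.2, LinearEquiv.symm_apply_apply]⟩,
        Subtype.ext (LinearEquiv.ext fun x => by simp)⟩
  haveI : Finite (Module.End F V) := Finite.of_injective (fun f : Module.End F V => (f : V → V)) DFunLike.coe_injective
  haveI : Fintype A := Fintype.ofFinite _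
  haveI : Finite (P F k m ≃ₗ[F] V) := Finite.of_injective (fun f : P F k m ≃ₗ[F] V => (f : P F k m → V)) DFunLike.coe_injective
  have hsum : Nat.card (Σ y : A, Gy y) = Nat.card A * Nat.card (HA F k m) := by
    rw [Nat.card_sigma, Finset.sum_congr rfl fun y _ => hGy y, Finset.sum_const, Finset.card_univ, smul_eq_mul, ← Nat.card_eq_fintype_card]
  rw [← hsum, ← Nat.card_prod]
  refine Nat.card_eq_of_bijective (fun w => (w.2.1, (⟨w.2.1.symm.conj w.1.1.1, ?_, ?_⟩ : FA F k m))) ⟨?_, ?_⟩
  · exact conj_nilpotent _ w.1.2.1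
  · intro a
    rw [LinearEquiv.conj_apply_apply, LinearEquiv.symm_symm, w.2.2, hshift, ← w.2.2, LinearEquiv.symm_apply_apply]
  · rintro ⟨y, g, hg⟩ ⟨y', g', hg'⟩ e
    obtain rfl : g = g' := congrArg Prod.fst e
    have h1 : g.symm.conj y.1.1 = g.symm.conj y'.1.1 := congrArg (fun w : (P F k m ≃ₗ[F] V) × FA F k m => w.2.1) e
    have hT : y.1.1 = y'.1.1 := g.symm.conj.injective h1
    have hx : y.1.2 = y'.1.2 := by
      rcases Nat.eq_zero_or_pos k with hk | hk
      · have a0 : ∀ z : A, z.1.2 = 0 := fun z => by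
          have h := (congrArg (fun i => (z.1.1 ^ i) z.1.2) hk).symm.trans z.2.2.1
          simpa using h
        rw [a0, a0]
      · have a1 := (hg (Pi.single ⟨0, hk⟩ 1)).symm.trans (hg' _)
        simpa [φ] using a1
    obtain rfl : y = y' := Subtype.ext (Prod.ext hT hx)
    rfl
  · rintro ⟨g, X, hXn, hX⟩
    have hpow : ∀ (j : ℕ) a, (X ^ j) (a, (0 : Fin m → F)) = (((shift k) ^ j) a, 0) := by
      intro j
      induction j with
      | zero => intro a; rfl
      | succ j ih => intro a; rw [pow_succ', Module.End.mul_apply, ih, hX, pow_succ', Module.End.mul_apply]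
    have hc : ∀ j, (g.conj X) ^ j = g.conj (X ^ j) := conj_pow g X
    have hL : HasLength (g.conj X) (g (e0 k, 0)) k := by
      refine ⟨?_, fun j hj h => ?_⟩
      · rw [hc, LinearEquiv.conj_apply_apply, LinearEquiv.symm_apply_apply, hpow, shift_pow_self, LinearMap.zero_apply,
          Prod.mk_zero_zero, map_zero]
      · rw [hc, LinearEquiv.conj_apply_apply, LinearEquiv.symm_apply_apply, hpow, shift_pow_e0, LinearEquiv.map_eq_zero_iff] at h
        have := congrFun (congrArg Prod.fst h) ⟨j, hj⟩
        simp at this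
    let y : A := ⟨(g.conj X, g (e0 k, 0)), conj_nilpotent g hXn, hL⟩
    have hgy : ∀ a, g (a, 0) = φ y a := by
      intro a
      suffices h : g.toLinearMap.comp (LinearMap.inl F _ _) = φ y from LinearMap.congr_fun h a
      refine (Pi.basisFun F (Fin k)).ext fun j => ?_
      rw [Pi.basisFun_apply]
      simp only [φ, LinearMap.comp_apply, LinearMap.inl_apply, LinearEquiv.coe_coe, Fintype.linearCombination_apply_single, one_smul, y]
      rw [hc, LinearEquiv.conj_apply_apply, LinearEquiv.symm_apply_apply, hpow, single_eq]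
    refine ⟨⟨y, g, hgy⟩, Prod.ext rfl (Subtype.ext ?_)⟩
    show g.symm.conj (g.conj X) = X
    exact conj_symm_conj g X

/-- Automorphisms preserving both factors. -/
def HB (F : Type u) [Field F] (k m : ℕ) : Type u := ((Fin k → F) ≃ₗ[F] (Fin k → F)) × ((Fin m → F) ≃ₗ[F] (Fin m → F))

theorem card_B (k m : ℕ) (hV : finrank F V = k + m) :
    Nat.card {T : Module.End F V // finrank F (LinearMap.range (T ^ (k + m))) = k} * Nat.card (HB F k m) =
      Nat.card (P F k m ≃ₗ[F] V) * (Nat.card ((Fin k → F) ≃ₗ[F] (Fin k → F)) * Nat.card {N : Module.End F (Fin m → F) // IsNilpotent N}) := by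
  classical
  let B := {T : Module.End F V // finrank F (LinearMap.range (T ^ (k + m))) = k}
  let Gy : B → Type _ := fun T => {g : P F k m ≃ₗ[F] V //
    (∀ a, g (a, 0) ∈ LinearMap.range (T.1 ^ (k + m))) ∧ ∀ b, g (0, b) ∈ LinearMap.ker (T.1 ^ (k + m))}
  have hcomp : ∀ T : B, IsCompl (LinearMap.range (T.1 ^ (k + m))) (LinearMap.ker (T.1 ^ (k + m))) := by
    intro T
    refine Submodule.isCompl_iff_disjoint _ _ (LinearMap.finrank_range_add_finrank_ker _).ge |>.2 ?_
    rw [Submodule.disjoint_def]
    rintro x ⟨z, rfl⟩ hx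
    rw [LinearMap.mem_ker, ← Module.End.mul_apply, ← pow_add] at hx
    have h1 : z ∈ LinearMap.ker (T.1 ^ (k + m)) := by
      have h2 : z ∈ LinearMap.ker (T.1 ^ (k + m + (k + m))) := hx
      rwa [Module.End.ker_pow_eq_ker_pow_finrank_of_le (f := T.1) (m := k + m + (k + m)) (by omega), hV] at h2
    exact h1
  have hne : ∀ T : B, Nonempty (Gy T) := by
    intro T
    have hk : finrank F (Fin k → F) = finrank F (LinearMap.range (T.1 ^ (k + m))) := by rw [finrank_fin_fun, T.2]
    have hm : finrank F (Fin m → F) = finrank F (LinearMap.ker (T.1 ^ (k + m))) := by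
      have := LinearMap.finrank_range_add_finrank_ker (T.1 ^ (k + m))
      rw [T.2] at this
      rw [finrank_fin_fun]; omega
    exact ⟨⟨((LinearEquiv.ofFinrankEq _ _ hk).prodCongr (LinearEquiv.ofFinrankEq _ _ hm)).trans
      (Submodule.prodEquivOfIsCompl _ _ (hcomp T)), fun a => by simp [Submodule.coe_prodEquivOfIsCompl'],
      fun b => by simp [Submodule.coe_prodEquivOfIsCompl']⟩⟩
  have hinv : ∀ (T : B) (g : Gy T) x, (x ∈ LinearMap.range (T.1 ^ (k + m)) → (g.1.symm x).2 = 0) ∧
      (x ∈ LinearMap.ker (T.1 ^ (k + m)) → (g.1.symm x).1 = 0) := by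
    intro T g x
    have hsplit : g.1 ((g.1.symm x).1, 0) + g.1 (0, (g.1.symm x).2) = x := by
      rw [← map_add, Prod.mk_add_mk, add_zero, zero_add, Prod.mk.eta, LinearEquiv.apply_symm_apply]
    constructor
    · intro hx
      have h1 : g.1 (0, (g.1.symm x).2) ∈ LinearMap.range (T.1 ^ (k + m)) := by
        rw [eq_sub_of_add_eq' hsplit]
        exact Submodule.sub_mem _ hx (g.2.1 _)
      have h2 := Submodule.disjoint_def.1 (hcomp T).disjoint _ h1 (g.2.2 _)
      rw [LinearEquiv.map_eq_zero_iff] at h2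
      exact congrArg Prod.snd h2
    · intro hx
      have h1 : g.1 ((g.1.symm x).1, 0) ∈ LinearMap.ker (T.1 ^ (k + m)) := by
        rw [eq_sub_of_add_eq hsplit]
        exact Submodule.sub_mem _ hx (g.2.2 _)
      have h2 := Submodule.disjoint_def.1 (hcomp T).disjoint _ (g.2.1 _) h1
      rw [LinearEquiv.map_eq_zero_iff] at h2
      exact congrArg Prod.fst h2
  have hGy : ∀ T : B, Nat.card (Gy T) = Nat.card (HB F k m) := by
    intro T
    obtain ⟨g₀⟩ := hne T
    refine (Nat.card_eq_of_bijective (fun h : HB F k m => (⟨(h.1.prodCongr h.2).trans g₀.1, fun a => by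
      simpa using g₀.2.1 (h.1 a), fun b => by simpa using g₀.2.2 (h.2 b)⟩ : Gy T)) ⟨?_, ?_⟩).symm
    · intro h h' e
      have h1 : ∀ x, (h.1.prodCongr h.2) x = (h'.1.prodCongr h'.2) x := fun x => g₀.1.injective (congrArg (fun g : Gy T => g.1 x) e)
      exact Prod.ext (LinearEquiv.ext fun a => congrArg Prod.fst (h1 (a, 0))) (LinearEquiv.ext fun b => congrArg Prod.snd (h1 (0, b)))
    · intro g
      let u := g.1.trans g₀.1.symm
      have h1 : ∀ a, (u (a, 0)).2 = 0 := fun a => (hinv T g₀ _).1 (g.2.1 a)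
      have h2 : ∀ b, (u (0, b)).1 = 0 := fun b => (hinv T g₀ _).2 (g.2.2 b)
      let a' : (Fin k → F) →ₗ[F] (Fin k → F) := (LinearMap.fst F _ _).comp (u.toLinearMap.comp (LinearMap.inl F _ _))
      let b' : (Fin m → F) →ₗ[F] (Fin m → F) := (LinearMap.snd F _ _).comp (u.toLinearMap.comp (LinearMap.inr F _ _))
      have hu : ∀ a b, u (a, b) = (a' a, b' b) := fun a b => by
        have : u (a, b) = u (a, 0) + u (0, b) := by rw [← map_add, Prod.mk_add_mk, add_zero, zero_add]
        rw [this]
        refine Prod.ext ?_ ?_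
        · rw [Prod.fst_add, h2, add_zero]; rfl
        · rw [Prod.snd_add, h1, zero_add]; rfl
      have ha : Function.Injective a' := (injective_iff_map_eq_zero a').2 fun a ha => by
        have h : u (a, 0) = u (0, 0) := by rw [hu, hu, ha, map_zero, map_zero]
        exact congrArg Prod.fst (u.injective h)
      have hb : Function.Injective b' := (injective_iff_map_eq_zero b').2 fun b hb => by
        have h : u (0, b) = u (0, 0) := by rw [hu, hu, hb, map_zero, map_zero]
        exact congrArg Prod.snd (u.injective h)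
      refine ⟨(LinearEquiv.ofInjectiveEndo a' ha, LinearEquiv.ofInjectiveEndo b' hb), Subtype.ext (LinearEquiv.ext fun x => ?_)⟩
      show g₀.1 (a' x.1, b' x.2) = g.1 x
      rw [← hu]
      simp [u]
  haveI : Finite (Module.End F V) := Finite.of_injective (fun f : Module.End F V => (f : V → V)) DFunLike.coe_injective
  haveI : Fintype B := Fintype.ofFinite _
  haveI : Finite (P F k m ≃ₗ[F] V) := Finite.of_injective (fun f : P F k m ≃ₗ[F] V => (f : P F k m → V)) DFunLike.coe_injective
  have hsum : Nat.card (Σ T : B, Gy T) = Nat.card B * Nat.card (HB F k m) := by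
    rw [Nat.card_sigma, Finset.sum_congr rfl fun y _ => hGy y, Finset.sum_const, Finset.card_univ, smul_eq_mul, ← Nat.card_eq_fintype_card]
  rw [← hsum, ← Nat.card_prod, ← Nat.card_prod]
  symm
  refine Nat.card_eq_of_bijective (fun w => (⟨⟨w.1.conj (w.2.1.toLinearMap.prodMap w.2.2.1), ?_⟩, w.1, ?_, ?_⟩ : Σ T : B, Gy T)) ⟨?_, ?_⟩
  case refine_1 =>
    obtain ⟨g, A, N, hN⟩ := w
    have hNm : N ^ (k + m) = 0 := by
      obtain ⟨s, hs⟩ := hN
      have h1 : LinearMap.ker (N ^ (s + (k + m))) = ⊤ := by rw [pow_add, hs, zero_mul]; exact LinearMap.ker_zero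
      rw [Module.End.ker_pow_eq_ker_pow_finrank_of_le (f := N) (m := s + (k + m)) (by rw [finrank_fin_fun]; omega)] at h1
      rw [finrank_fin_fun] at h1
      rw [pow_add, LinearMap.ker_eq_top.1 h1, mul_zero]
    rw [conj_pow, prodMap_pow, hNm, LinearEquiv.conj_apply,
      LinearMap.range_comp_of_range_eq_top _ (LinearEquiv.range g.symm), LinearMap.range_comp, LinearEquiv.finrank_map_eq]
    have hinj : Function.Injective ((A.toLinearMap : Module.End F (Fin k → F)) ^ (k + m)) := by
      rw [Module.End.coe_pow]; exact A.injective.iterate _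
    have h2 : LinearMap.range (((A.toLinearMap : Module.End F (Fin k → F)) ^ (k + m)).prodMap (0 : Module.End F (Fin m → F))) =
        LinearMap.range (LinearMap.inl F (Fin k → F) (Fin m → F)) := by
      ext x
      simp only [LinearMap.mem_range]
      constructor
      · rintro ⟨y, rfl⟩
        exact ⟨_, rfl⟩
      · rintro ⟨a, rfl⟩
        obtain ⟨c, rfl⟩ := LinearMap.surjective_of_injective hinj a
        exact ⟨(c, 0), rfl⟩
    rw [h2, LinearMap.finrank_range_of_inj LinearMap.inl_injective, finrank_fin_fun]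
  case refine_2 =>
    intro a
    obtain ⟨c, hc⟩ : ∃ c, ((w.2.1.toLinearMap : Module.End F (Fin k → F)) ^ (k + m)) c = a :=
      LinearMap.surjective_of_injective (by rw [Module.End.coe_pow]; exact w.2.1.injective.iterate _) a
    refine ⟨w.1 (c, 0), ?_⟩
    rw [conj_pow, LinearEquiv.conj_apply_apply, LinearEquiv.symm_apply_apply,
      prodMap_pow, LinearMap.prodMap_apply, hc, map_zero]
  case refine_3 =>
    intro b
    obtain ⟨g, A, N, hN⟩ := w
    have hNm : N ^ (k + m) = 0 := by
      obtain ⟨s, hs⟩ := hN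
      have h1 : LinearMap.ker (N ^ (s + (k + m))) = ⊤ := by rw [pow_add, hs, zero_mul]; exact LinearMap.ker_zero
      rw [Module.End.ker_pow_eq_ker_pow_finrank_of_le (f := N) (m := s + (k + m)) (by rw [finrank_fin_fun]; omega)] at h1
      rw [finrank_fin_fun] at h1
      rw [pow_add, LinearMap.ker_eq_top.1 h1, mul_zero]
    rw [LinearMap.mem_ker, conj_pow, LinearEquiv.conj_apply_apply, LinearEquiv.symm_apply_apply,
      prodMap_pow, LinearMap.prodMap_apply, hNm, map_zero, LinearMap.zero_apply, Prod.mk_zero_zero, map_zero]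
  · rintro ⟨g, A, N, hN⟩ ⟨g', A', N', hN'⟩ e
    obtain rfl : g = g' := LinearEquiv.ext fun x => congrArg (fun s : Σ T : B, Gy T => s.2.1 x) e
    have h1 : g.conj (A.toLinearMap.prodMap N) = g.conj (A'.toLinearMap.prodMap N') := congrArg (fun s : Σ T : B, Gy T => s.1.1) e
    have h2 := g.conj.injective h1
    have hA : A = A' := LinearEquiv.ext fun a => congrArg Prod.fst (LinearMap.congr_fun h2 (a, 0))
    have hN2 : N = N' := LinearMap.ext fun b => congrArg Prod.snd (LinearMap.congr_fun h2 (0, b))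
    subst hA; subst hN2
    rfl
  · rintro ⟨T, g, hg1, hg2⟩
    let X := g.symm.conj T.1
    have hcomm : ∀ x, (T.1 ^ (k + m)) (T.1 x) = T.1 ((T.1 ^ (k + m)) x) := fun x => by
      rw [← Module.End.mul_apply, ← Module.End.mul_apply, ← pow_succ, ← pow_succ']
    have hTr : ∀ x ∈ LinearMap.range (T.1 ^ (k + m)), T.1 x ∈ LinearMap.range (T.1 ^ (k + m)) := by
      rintro x ⟨z, rfl⟩
      exact ⟨T.1 z, hcomm z⟩
    have hTk : ∀ x ∈ LinearMap.ker (T.1 ^ (k + m)), T.1 x ∈ LinearMap.ker (T.1 ^ (k + m)) := by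
      intro x hx
      rw [LinearMap.mem_ker] at hx ⊢
      rw [hcomm, hx, map_zero]
    let g' : Gy T := ⟨g, hg1, hg2⟩
    have h1 : ∀ a, (X (a, 0)).2 = 0 := fun a => by
      show (g.symm (T.1 (g (a, 0)))).2 = 0
      exact (hinv T g' _).1 (hTr _ (hg1 a))
    have h2 : ∀ b, (X (0, b)).1 = 0 := fun b => by
      show (g.symm (T.1 (g (0, b)))).1 = 0
      exact (hinv T g' _).2 (hTk _ (hg2 b))
    let a' : (Fin k → F) →ₗ[F] (Fin k → F) := (LinearMap.fst F _ _).comp (X.comp (LinearMap.inl F _ _))
    let b' : (Fin m → F) →ₗ[F] (Fin m → F) := (LinearMap.snd F _ _).comp (X.comp (LinearMap.inr F _ _))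
    have hX : ∀ a b, X (a, b) = (a' a, b' b) := fun a b => by
      have : X (a, b) = X (a, 0) + X (0, b) := by rw [← map_add, Prod.mk_add_mk, add_zero, zero_add]
      rw [this]
      refine Prod.ext ?_ ?_
      · rw [Prod.fst_add, h2, add_zero]; rfl
      · rw [Prod.snd_add, h1, zero_add]; rfl
    have hXe : X = a'.prodMap b' := LinearMap.ext fun x => hX x.1 x.2
    have hTX : T.1 = g.conj (a'.prodMap b') := by
      rw [← hXe]; exact (g.conj.apply_symm_apply T.1).symm
    have hpw : T.1 ^ (k + m) = g.conj ((a' ^ (k + m)).prodMap (b' ^ (k + m))) := by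
      rw [hTX, conj_pow, prodMap_pow]
    have ha : Function.Injective a' := (injective_iff_map_eq_zero a').2 fun a h0 => by
      have hk : 0 < k ∨ k = 0 := (Nat.eq_zero_or_pos k).symm
      rcases hk with hk | hk
      · have h3 : g (a, 0) ∈ LinearMap.ker (T.1 ^ (k + m)) := by
          rw [LinearMap.mem_ker, hpw, LinearEquiv.conj_apply_apply, LinearEquiv.symm_apply_apply, LinearMap.prodMap_apply,
            map_zero, show k + m = (k + m - 1) + 1 by omega, pow_succ, Module.End.mul_apply, h0, map_zero, Prod.mk_zero_zero, map_zero]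
        have h4 := Submodule.disjoint_def.1 (hcomp T).disjoint _ (hg1 a) h3
        rw [LinearEquiv.map_eq_zero_iff] at h4
        exact congrArg Prod.fst h4
      · subst hk
        exact funext fun i => i.elim0
    have hb : IsNilpotent b' := ⟨k + m, LinearMap.ext fun b => by
      have h3 : (T.1 ^ (k + m)) (g (0, b)) = 0 := hg2 b
      rw [hpw, LinearEquiv.conj_apply_apply, LinearEquiv.symm_apply_apply, LinearMap.prodMap_apply, LinearEquiv.map_eq_zero_iff] at h3
      exact congrArg Prod.snd h3⟩
    refine ⟨(g, LinearEquiv.ofInjectiveEndo a' ha, ⟨b', hb⟩), ?_⟩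
    have hT' : g.conj ((LinearEquiv.ofInjectiveEndo a' ha).toLinearMap.prodMap b') = T.1 := by
      rw [hTX]
      congr 2
    exact Sigma.subtype_ext (Subtype.ext hT') rfl

omit [Finite V] in
theorem card_nilpotent_congr {W : Type*} [AddCommGroup W] [Module F W] (e : V ≃ₗ[F] W) :
    Nat.card {N : Module.End F V // IsNilpotent N} = Nat.card {N : Module.End F W // IsNilpotent N} :=
  Nat.card_congr (Equiv.subtypeEquiv e.conj.toEquiv fun N =>
    ⟨fun h => conj_nilpotent e h, fun h => by
      have h1 : IsNilpotent (e.symm.conj (e.conj N)) := conj_nilpotent e.symm h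
      rwa [conj_symm_conj] at h1⟩)

/-- Steinberg's count: `q ^ (n * (n - 1))` nilpotent maps. -/
theorem card_nilpotent_mul :
    Nat.card {N : Module.End F V // IsNilpotent N} * Nat.card V = Nat.card (Module.End F V) := by
  classical
  haveI : Finite (Module.End F V) := Finite.of_injective (fun f : Module.End F V => (f : V → V)) DFunLike.coe_injective
  set n := finrank F V with hn
  have key : ∀ k : Fin (n + 1),
      Nat.card {y : Module.End F V × V // IsNilpotent y.1 ∧ HasLength y.1 y.2 k} =
        Nat.card {T : Module.End F V // finrank F (LinearMap.range (T ^ n)) = k} := by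
    intro k
    have hk : finrank F V = (k : ℕ) + (n - k) := by have := k.isLt; omega
    have h1 := card_A (F := F) (V := V) k (n - k) hk
    have h2 := card_B (F := F) (V := V) k (n - k) hk
    rw [card_HA, card_FA] at h1
    rw [show Nat.card (HB F k (n - k)) = _ from Nat.card_prod _ _, show (k : ℕ) + (n - k) = n by omega] at h2
    haveI : Finite ((Fin (n - k) → F) →ₗ[F] (Fin (k : ℕ) → F)) := Finite.of_injective _ DFunLike.coe_injective
    haveI : Finite ((Fin (k : ℕ) → F) ≃ₗ[F] (Fin (k : ℕ) → F)) := Finite.of_injective _ DFunLike.coe_injective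
    haveI : Finite ((Fin (n - k) → F) ≃ₗ[F] (Fin (n - k) → F)) := Finite.of_injective _ DFunLike.coe_injective
    have p1 : 0 < Nat.card ((Fin (n - k) → F) →ₗ[F] (Fin (k : ℕ) → F)) := Nat.card_pos
    have p2 : 0 < Nat.card ((Fin (k : ℕ) → F) ≃ₗ[F] (Fin (k : ℕ) → F)) := Nat.card_pos
    have p3 : 0 < Nat.card ((Fin (n - k) → F) ≃ₗ[F] (Fin (n - k) → F)) := Nat.card_pos
    refine Nat.eq_of_mul_eq_mul_right p3 ?_
    have e1 : Nat.card {y : Module.End F V × V // IsNilpotent y.1 ∧ HasLength y.1 y.2 k} * Nat.card ((Fin (n - k) → F) ≃ₗ[F] (Fin (n - k) → F)) =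
        Nat.card (P F k (n - k) ≃ₗ[F] V) * Nat.card {N : Module.End F (Fin (n - k) → F) // IsNilpotent N} :=
      Nat.eq_of_mul_eq_mul_left p1 (by linear_combination h1)
    rw [e1]
    exact (Nat.eq_of_mul_eq_mul_left p2 (by linear_combination h2)).symm
  have hA : Nat.card ({N : Module.End F V // IsNilpotent N} × V) =
      Nat.card (Σ k : Fin (n + 1), {y : Module.End F V × V // IsNilpotent y.1 ∧ HasLength y.1 y.2 k}) := by
    refine (Nat.card_eq_of_bijective (fun w => (⟨w.2.1.1, w.2.2.1⟩, w.2.1.2)) ⟨?_, ?_⟩).symm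
    · rintro ⟨k, ⟨T, x⟩, hy⟩ ⟨k', ⟨T', x'⟩, hy'⟩ e
      simp only [Prod.mk.injEq, Subtype.mk.injEq] at e
      obtain ⟨rfl, rfl⟩ := e
      obtain rfl : k = k' := Fin.ext (length_unique hy.2 hy'.2)
      rfl
    · rintro ⟨⟨T, hT⟩, x⟩
      obtain ⟨k, hk⟩ := exists_length hT x
      exact ⟨⟨⟨k, Nat.lt_succ_of_le (length_le hk)⟩, (T, x), hT, hk⟩, rfl⟩
  have hB : Nat.card (Module.End F V) =
      Nat.card (Σ k : Fin (n + 1), {T : Module.End F V // finrank F (LinearMap.range (T ^ n)) = k}) := by
    refine (Nat.card_eq_of_bijective (fun w => w.2.1) ⟨?_, ?_⟩).symm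
    · rintro ⟨k, T, h⟩ ⟨k', T', h'⟩ e
      simp only at e
      subst e
      obtain rfl : k = k' := Fin.ext (h.symm.trans h')
      rfl
    · intro T
      exact ⟨⟨⟨finrank F (LinearMap.range (T ^ n)), Nat.lt_succ_of_le (Submodule.finrank_le _)⟩, T, rfl⟩, rfl⟩
  rw [← Nat.card_prod, hA, hB, Nat.card_sigma, Nat.card_sigma]
  exact Finset.sum_congr rfl fun k _ => key k

end counting

end Cfsg.Agent.Struct.NilpotentCount
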