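import Mathlib.GroupTheory.Nilpotent
import Mathlib.GroupTheory.Subgroup.Center
import Mathlib.Data.Finset.Card

/-!
A criterion for a finite group to have no cover by fewest proper subgroups that consists of nilpotent
subgroups: many elements with separated centralisers, against few proper subgroups.
-/

set_option autoImplicit false

namespace Cfsg.Agent.NilpotentCover

variable {G : Type*} [Group G]

theorem no_minimal_cover (𝓗 : Finset (Subgroup G)) (X : Finset G) (hH : ∀ H ∈ 𝓗, H ≠ ⊤) (h1 : (1 : G) ∉ X)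
    (hsep : ∀ x ∈ X, ∀ x' ∈ X, ∀ z : G, z ≠ 1 → Commute z x → Commute z x' → x = x')
    (hgood : ∀ x ∈ X, ∀ z : G, z ≠ 1 → Commute z x → ∀ a : G, Commute a z → ∃ H ∈ 𝓗, a ∈ H)
    (hcard : 𝓗.card < X.card) :
    ¬ ∃ 𝓐 : Finset (Subgroup G), ((∀ A ∈ 𝓐, A ≠ ⊤) ∧ (∀ g : G, ∃ A ∈ 𝓐, g ∈ A)) ∧
      (∀ 𝓑 : Finset (Subgroup G), (∀ A ∈ 𝓑, A ≠ ⊤) ∧ (∀ g : G, ∃ A ∈ 𝓑, g ∈ A) → 𝓐.card ≤ 𝓑.card) ∧
        (∀ A ∈ 𝓐, Group.IsNilpotent ↥A) := by
  classical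
  rintro ⟨𝓐, ⟨hprop, hcov⟩, hmin, hnil⟩
  have hz : ∀ A ∈ 𝓐, ∀ x ∈ X, x ∈ A → ∃ z : G, z ≠ 1 ∧ ∀ a ∈ A, Commute a z := by
    intro A hA x hx hxA
    haveI := hnil A hA
    haveI : Nontrivial ↥A := ⟨⟨⟨x, hxA⟩, 1, fun h => h1 ((show x = 1 from congrArg Subtype.val h) ▸ hx)⟩⟩
    haveI : Nontrivial ↥(Subgroup.center ↥A) :=
      (Subgroup.nontrivial_iff_ne_bot _).2 (Group.IsNilpotent.center_ne_bot _)
    obtain ⟨z, hz⟩ := exists_ne (1 : ↥(Subgroup.center ↥A))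
    exact ⟨(z.1 : ↥A).1, fun h => hz (Subtype.ext (Subtype.ext h)),
      fun a ha => congrArg Subtype.val (Subgroup.mem_center_iff.mp z.2 ⟨a, ha⟩)⟩
  set R := 𝓐.filter (fun A => ∃ x ∈ X, x ∈ A) with hR
  have hB := hmin (𝓐.filter (fun A => ¬ ∃ x ∈ X, x ∈ A) ∪ 𝓗) ⟨?_, ?_⟩
  rotate_left
  · intro A hA
    rcases Finset.mem_union.mp hA with h | h
    · exact hprop A (Finset.mem_filter.mp h).1
    · exact hH A h
  · intro g
    obtain ⟨A, hA, hg⟩ := hcov g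
    by_cases h : ∃ x ∈ X, x ∈ A
    · obtain ⟨x, hx, hxA⟩ := h
      obtain ⟨z, hz1, hzA⟩ := hz A hA x hx hxA
      obtain ⟨H, hH', hgH⟩ := hgood x hx z hz1 (hzA x hxA).symm g (hzA g hg)
      exact ⟨H, Finset.mem_union_right _ hH', hgH⟩
    · exact ⟨A, Finset.mem_union_left _ (Finset.mem_filter.mpr ⟨hA, h⟩), hg⟩
  choose f hf hxf using hcov
  have hmany : X.card ≤ R.card := by
    refine Finset.card_le_card_of_injOn f (fun x hx => Finset.mem_filter.mpr ⟨hf x, x, hx, hxf x⟩) ?_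
    intro x hx x' hx' e
    obtain ⟨z, hz1, hzA⟩ := hz (f x) (hf x) x hx (hxf x)
    exact hsep x hx x' hx' z hz1 (hzA x (hxf x)).symm (hzA x' (e ▸ hxf x')).symm
  have hsplit := Finset.card_filter_add_card_filter_not (s := 𝓐) (p := fun A => ∃ x ∈ X, x ∈ A)
  have hu := hB.trans (Finset.card_union_le _ _)
  rw [hR] at hmany
  omega

end Cfsg.Agent.NilpotentCover
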