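import Cfsg.Prelude.Def_Transfer
import Cfsg.Agent.S3889
import Mathlib.GroupTheory.Sylow
import Mathlib.GroupTheory.Nilpotent

/-!
Abelian Sylow subgroups of groups with a cover by fewest proper subgroups that are all nilpotent.
-/

set_option autoImplicit false
set_option linter.style.haveILetI false

namespace Cfsg.Agent.Struct.NilCoverSylow

open Subgroup

variable {G : Type*} [Group G] [Finite G] (hZ : center G = ⊥) (𝓐 : Finset (Subgroup G))
  (h𝓐 : ((∀ A ∈ 𝓐, A ≠ ⊤) ∧ (∀ g : G, ∃ A ∈ 𝓐, g ∈ A)) ∧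
    (∀ 𝓑 : Finset (Subgroup G), (∀ A ∈ 𝓑, A ≠ ⊤) ∧ (∀ g : G, ∃ A ∈ 𝓑, g ∈ A) → 𝓐.card ≤ 𝓑.card) ∧
    (∀ A ∈ 𝓐, Group.IsNilpotent ↥A))

include h𝓐 in
omit [Finite G] in
theorem eq_of_le_proper {H A B : Subgroup G} (hH : H ≠ ⊤) (hA : A ∈ 𝓐) (hB : B ∈ 𝓐) (hAH : A ≤ H)
    (hBH : B ≤ H) : A = B := by
  classical
  obtain ⟨⟨hprop, hcov⟩, hmin, -⟩ := h𝓐
  by_contra hne
  have hle := hmin (insert H ((𝓐.erase A).erase B)) ⟨?_, ?_⟩
  · have h1 := Finset.card_insert_le H ((𝓐.erase A).erase B)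
    rw [Finset.card_erase_of_mem (Finset.mem_erase.2 ⟨Ne.symm hne, hB⟩),
      Finset.card_erase_of_mem hA] at h1
    have : 2 ≤ 𝓐.card := Finset.one_lt_card.2 ⟨A, hA, B, hB, hne⟩
    omega
  · intro C hC
    rcases Finset.mem_insert.1 hC with rfl | hC
    · exact hH
    · exact hprop C (Finset.mem_of_mem_erase (Finset.mem_of_mem_erase hC))
  · intro g
    obtain ⟨C, hC, hg⟩ := hcov g
    by_cases h1 : C = A
    · exact ⟨H, Finset.mem_insert_self _ _, hAH (h1 ▸ hg)⟩
    by_cases h2 : C = B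
    · exact ⟨H, Finset.mem_insert_self _ _, hBH (h2 ▸ hg)⟩
    · exact ⟨C, Finset.mem_insert_of_mem (Finset.mem_erase.2 ⟨h2, Finset.mem_erase.2 ⟨h1, hC⟩⟩), hg⟩

variable {p : ℕ} [Fact p.Prime]

include h𝓐 in
/-- A member centralises each of its `p`-elements when a Sylow `p`-subgroup is abelian. -/
theorem member_le_centralizer (P : Sylow p G) (hab : IsMulCommutative ↥(P : Subgroup G))
    {A : Subgroup G} (hA : A ∈ 𝓐) {z : G} (hz : z ∈ A) {k : ℕ} (hk : orderOf z = p ^ k) :
    A ≤ centralizer {z} := by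
  haveI := h𝓐.2.2 A hA
  haveI := hab
  set zA : A := ⟨z, hz⟩
  obtain ⟨Q, hQ⟩ := (IsPGroup.of_card (p := p) (n := k) (G := zpowers zA) (by
    rw [Nat.card_zpowers, ← hk, ← Subgroup.orderOf_coe zA])).exists_le_sylow
  have hzQ : zA ∈ (Q : Subgroup A) := hQ (mem_zpowers zA)
  obtain ⟨S, hS⟩ := (Q.isPGroup'.map A.subtype).exists_le_sylow
  obtain ⟨g, hg⟩ := MulAction.exists_smul_eq G P S
  intro a ha
  refine mem_centralizer_singleton_iff.2 ?_
  haveI : (Q : Subgroup A).Normal :=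
    inferInstance
  let C : Subgroup A := centralizer {zA}
  suffices h : (⟨a, ha⟩ : A) ∈ C from congrArg Subtype.val (mem_centralizer_singleton_iff.1 h)
  have hall : ∀ (q : ℕ) [Fact q.Prime] (R : Sylow q A), (R : Subgroup A) ≤ C := by
    intro q _ R x hx
    refine mem_centralizer_singleton_iff.2 ?_
    by_cases hqp : q = p
    · subst hqp
      haveI : (R : Subgroup A).Normal := inferInstance
      have hRQ : (R : Subgroup A) = Q := by
        haveI := Sylow.unique_of_normal R (inferInstance)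
        exact congrArg Sylow.toSubgroup (Subsingleton.elim R Q)
      rw [hRQ] at hx
      have hxS : (x : G) ∈ (S : Subgroup G) := hS (mem_map_of_mem _ hx)
      have hzS : z ∈ (S : Subgroup G) := hS (mem_map_of_mem A.subtype hzQ)
      haveI : IsMulCommutative ↥(S : Subgroup G) := by
        refine ⟨⟨fun u v => ?_⟩⟩
        let e : (P : Subgroup G) ≃* (S : Subgroup G) := (Sylow.equiv P S)
        obtain ⟨u', rfl⟩ := e.surjective u
        obtain ⟨v', rfl⟩ := e.surjective v
        rw [← map_mul, ← map_mul, mul_comm']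
      exact Subtype.ext (show (x : G) * z = z * x from
        congrArg Subtype.val (mul_comm' (⟨(x : G), hxS⟩ : (S : Subgroup G)) ⟨z, hzS⟩))
    · haveI : (R : Subgroup A).Normal := inferInstance
      exact (Subgroup.commute_of_normal_of_disjoint _ _ inferInstance inferInstance
        (IsPGroup.disjoint_of_ne q p hqp _ _ R.isPGroup' Q.isPGroup') x zA hx hzQ)
  have htop : C = ⊤ := by
    refine Subgroup.eq_top_of_card_eq _ (Nat.dvd_antisymm (Subgroup.card_subgroup_dvd_card _) ?_)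
    rw [← Nat.factorization_le_iff_dvd (Nat.card_pos (α := A)).ne' (Nat.card_pos (α := C)).ne']
    intro q
    by_cases hq : q.Prime
    · haveI := Fact.mk hq
      have h1 := Subgroup.card_dvd_of_le (hall q default)
      rw [Sylow.card_eq_multiplicity] at h1
      exact (hq.pow_dvd_iff_le_factorization Nat.card_pos.ne').1 h1
    · simp [Nat.factorization_eq_zero_of_not_prime _ hq]
  rw [htop]; exact mem_top _

include hZ h𝓐 in
/-- A nontrivial `p`-element lies in only one member. -/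
theorem member_unique (P : Sylow p G) (hab : IsMulCommutative ↥(P : Subgroup G)) {z : G} (hz1 : z ≠ 1)
    {k : ℕ} (hk : orderOf z = p ^ k) {A B : Subgroup G} (hA : A ∈ 𝓐) (hB : B ∈ 𝓐) (hzA : z ∈ A)
    (hzB : z ∈ B) : A = B := by
  refine eq_of_le_proper 𝓐 h𝓐 ?_ hA hB (member_le_centralizer 𝓐 h𝓐 P hab hA hzA hk)
    (member_le_centralizer 𝓐 h𝓐 P hab hB hzB hk)
  intro e
  refine hz1 ?_
  rw [← mem_bot, ← hZ, mem_center_iff]
  intro g
  exact mem_centralizer_singleton_iff.1 (e ▸ mem_top g)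

include hZ h𝓐 in
/-- If `P` is not elementary abelian of order above `p`, each conjugate lies in one member. -/
theorem exists_member (P : Sylow p G) (hab : IsMulCommutative ↥(P : Subgroup G))
    (hne : ¬ (Cfsg.IsElementaryAbelian p (P : Subgroup G) ∧ p < Nat.card ↥(P : Subgroup G)))
    (Q : Sylow p G) : ∃ A ∈ 𝓐, (Q : Subgroup G) ≤ A := by
  classical
  by_contra hcon
  push Not at hcon
  let e := Sylow.equiv P Q
  haveI := hab
  haveI : IsMulCommutative ↥(Q : Subgroup G) := ⟨⟨fun u v => by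
    obtain ⟨u', rfl⟩ := e.surjective u
    obtain ⟨v', rfl⟩ := e.surjective v
    rw [← map_mul, ← map_mul, mul_comm']⟩⟩
  letI : CommGroup ↥(Q : Subgroup G) :=
    { (inferInstance : Group ↥(Q : Subgroup G)) with mul_comm := mul_comm' }
  have hex := Cfsg.Agent.S3889.result (G := ↥(Q : Subgroup G))
    {B | ∃ A ∈ 𝓐, B = A.subgroupOf (Q : Subgroup G)} ?_ ?_ ?_
  rotate_left
  · rintro B ⟨A, hA, rfl⟩ htop
    exact hcon A hA (subgroupOf_eq_top.1 htop)
  · intro g
    obtain ⟨A, hA, hg⟩ := h𝓐.1.2 (g : G)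
    exact ⟨_, ⟨A, hA, rfl⟩, hg⟩
  · rintro B ⟨A, hA, rfl⟩ C ⟨A', hA', rfl⟩ hBC
    refine (eq_bot_iff_forall _).2 fun x hx => by_contra fun hx1 => hBC ?_
    obtain ⟨k, hk⟩ := IsPGroup.iff_orderOf.1 Q.isPGroup' x
    rw [← Subgroup.orderOf_coe] at hk
    rw [member_unique hZ 𝓐 h𝓐 P hab (fun h => hx1 (Subtype.ext h)) hk hA hA' hx.1 hx.2]
  obtain ⟨k, hk⟩ := IsPGroup.iff_card.1 Q.isPGroup'
  have hexp : Monoid.exponent ↥(Q : Subgroup G) = p := by
    have h1 : Monoid.exponent ↥(Q : Subgroup G) ∣ p ^ k := hk ▸ Group.exponent_dvd_nat_card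
    exact ((Nat.prime_dvd_prime_iff_eq hex Fact.out).1 (hex.dvd_of_dvd_pow h1))
  have hPQ : Nat.card ↥(P : Subgroup G) = Nat.card ↥(Q : Subgroup G) := Nat.card_congr e.toEquiv
  refine hne ⟨⟨hab, fun a ha => ?_⟩, ?_⟩
  · have h1 : e ⟨a, ha⟩ ^ p = 1 :=
      (congrArg (e ⟨a, ha⟩ ^ ·) hexp.symm).trans (Monoid.pow_exponent_eq_one _)
    rw [← map_pow, map_eq_one_iff e e.injective] at h1
    exact congrArg Subtype.val h1
  · rw [hPQ, hk]
    by_contra hle
    push Not at hle
    have hk1 : k ≤ 1 := (Nat.pow_le_pow_iff_right (Nat.Prime.one_lt Fact.out)).1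
      (hle.trans_eq (pow_one p).symm)
    rcases Nat.le_one_iff_eq_zero_or_eq_one.1 hk1 with rfl | rfl
    · rw [pow_zero] at hk
      obtain ⟨A, hA, -⟩ := h𝓐.1.2 1
      exact hcon A hA (by rw [card_eq_one.1 hk]; exact bot_le)
    · rw [pow_one] at hk
      obtain ⟨g, hg⟩ := exists_prime_orderOf_dvd_card' (G := ↥(Q : Subgroup G)) p hk.symm.dvd
      obtain ⟨A, hA, hgA⟩ := h𝓐.1.2 (g : G)
      refine hcon A hA ?_
      have : zpowers (g : G) = (Q : Subgroup G) := Subgroup.eq_of_le_of_card_ge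
        (zpowers_le.2 g.2) (by rw [Nat.card_zpowers, Subgroup.orderOf_coe, hg, hk])
      rw [← this]; exact zpowers_le.2 hgA

include hZ h𝓐 in
theorem main (P : Sylow p G) (hab : IsMulCommutative ↥(P : Subgroup G))
    (hnn : ¬ (P : Subgroup G).Normal)
    (hne : ¬ (Cfsg.IsElementaryAbelian p (P : Subgroup G) ∧ p < Nat.card ↥(P : Subgroup G))) :
    ∃ A ∈ 𝓐, (P : Subgroup G) ≤ A ∧ ¬ p ∣ ((P : Subgroup G).subgroupOf A).index ∧
      IsCoatom (normalizer ((P : Subgroup G) : Set G)) ∧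
      (∀ g : G, g ∉ normalizer ((P : Subgroup G) : Set G) →
        ¬ p ∣ Nat.card ↥(normalizer ((P : Subgroup G) : Set G) ⊓
          (normalizer ((P : Subgroup G) : Set G)).map (MulAut.conj g).toMonoidHom)) ∧
      centralizer ((P : Subgroup G) : Set G) = A ∧
      ∀ M : Subgroup G, IsCoatom M → centralizer ((P : Subgroup G) : Set G) ≤ M →
        M = normalizer ((P : Subgroup G) : Set G) := by
  classical
  haveI := hab
  have hP1 : ∀ Q : Sylow p G, (Q : Subgroup G) ≠ ⊥ := fun Q e => hnn (by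
    have : Nat.card ↥(P : Subgroup G) = 1 := by
      rw [Nat.card_congr (Sylow.equiv P Q).toEquiv, e, card_bot]
    rw [card_eq_one.1 this]; infer_instance)
  choose m hm hQm using exists_member hZ 𝓐 h𝓐 P hab hne
  have hdet : ∀ (Q : Sylow p G) {A : Subgroup G}, A ∈ 𝓐 → ∀ z : G, z ≠ 1 →
      z ∈ (Q : Subgroup G) → z ∈ A → A = m Q := by
    intro Q A hA z hz1 hzQ hzA
    obtain ⟨k, hk⟩ := IsPGroup.iff_orderOf.1 Q.isPGroup' ⟨z, hzQ⟩
    rw [← Subgroup.orderOf_coe] at hk
    exact member_unique hZ 𝓐 h𝓐 P hab hz1 hk hA (hm Q) hzA (hQm Q hzQ)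
  have hsame : ∀ Q R : Sylow p G, m Q = m R → Q = R := by
    intro Q R e
    haveI := h𝓐.2.2 (m Q) (hm Q)
    haveI : ((Q.subtype (hQm Q)) : Subgroup ↥(m Q)).Normal :=
      inferInstance
    haveI := Sylow.unique_of_normal (Q.subtype (hQm Q)) inferInstance
    have h1 : Q.subtype (hQm Q) = R.subtype (e ▸ hQm R) := Subsingleton.elim _ _
    have h2 := congrArg (fun S : Sylow p ↥(m Q) => (S : Subgroup ↥(m Q)).map (m Q).subtype) h1
    simp only [Sylow.coe_subtype, map_subgroupOf_eq_of_le (hQm Q),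
      map_subgroupOf_eq_of_le (e ▸ hQm R : (R : Subgroup G) ≤ m Q)] at h2
    exact Sylow.ext h2
  have hC : ∀ Q : Sylow p G, centralizer ((Q : Subgroup G) : Set G) = m Q := by
    intro Q
    refine le_antisymm (fun c hc => ?_) (fun a ha => mem_centralizer_iff.2 fun z hz => ?_)
    · obtain ⟨z, hz, hz1⟩ := (Subgroup.bot_or_exists_ne_one _).resolve_left (hP1 Q)
      obtain ⟨k, hk⟩ := IsPGroup.iff_orderOf.1 Q.isPGroup' ⟨z, hz⟩
      rw [← Subgroup.orderOf_coe] at hk
      have hp : p.Prime := Fact.out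
      set n := orderOf c with hn
      have hn0 : n ≠ 0 := (orderOf_pos c).ne'
      set a := ordCompl[p] n with ha'
      set b := ordProj[p] n with hb'
      have hab' : b * a = n := Nat.ordProj_mul_ordCompl_eq_self n p
      have hco : a.Coprime b := ((Nat.coprime_ordCompl hp hn0).symm).pow_right _
      -- the `p`-part lies in `Q`
      have h1 : c ^ a ∈ (Q : Subgroup G) := by
        obtain ⟨S, hS⟩ : ∃ S : Sylow p G, (Q : Subgroup G) ⊔ zpowers (c ^ a) ≤ S := by
          refine IsPGroup.exists_le_sylow (IsPGroup.to_sup_of_normal_left' Q.isPGroup' ?_ ?_)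
          · refine IsPGroup.of_card (p := p) (n := n.factorization p) ?_
            rw [Nat.card_zpowers, orderOf_pow' c (Nat.ordCompl_pos p hn0).ne', ← hn,
              Nat.gcd_eq_right (Nat.ordCompl_dvd n p)]
            exact Nat.div_eq_of_eq_mul_left (Nat.ordCompl_pos p hn0) hab'.symm
          · rw [zpowers_le]
            exact centralizer_le_normalizer _ (pow_mem hc _)
        have : Q = S := Sylow.ext (Q.is_maximal' S.isPGroup' (le_sup_left.trans hS)).symm
        exact this ▸ hS (mem_sup_right (mem_zpowers _))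
      have h2 : c ^ b ∈ m Q := by
        obtain ⟨B, hB, hBm⟩ := h𝓐.1.2 (z * c ^ b)
        have hcomm : Commute z (c ^ b) := Commute.pow_right (mem_centralizer_iff.1 hc z hz) b
        have hco' : (orderOf z).Coprime (orderOf (c ^ b)) := by
          rw [hk, orderOf_pow' c (Nat.ordProj_pos n p).ne', ← hn,
            Nat.gcd_eq_right (Nat.ordProj_dvd n p)]
          exact (Nat.coprime_ordCompl hp hn0).pow_left _
        have hzB : z ∈ B := by
          obtain ⟨i, hi⟩ := exists_pow_eq_self_of_coprime hco'.symm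
          have : z = ((z * c ^ b) ^ orderOf (c ^ b)) ^ i := by
            rw [hcomm.mul_pow, pow_orderOf_eq_one, mul_one, hi]
          rw [this]; exact pow_mem (pow_mem hBm _) _
        rw [← hdet Q hB z hz1 hz hzB]
        have := mul_mem (inv_mem hzB) hBm
        rwa [inv_mul_cancel_left] at this
      obtain ⟨u, v, huv⟩ : ∃ u v : ℤ, u * a + v * b = 1 :=
        ⟨_, _, (Int.isCoprime_iff_gcd_eq_one.2 (by simpa using hco)).choose_spec.choose_spec⟩
      have : c = (c ^ a) ^ u * (c ^ b) ^ v := by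
        rw [← zpow_natCast, ← zpow_natCast, ← zpow_mul, ← zpow_mul, ← zpow_add,
          mul_comm (a : ℤ), mul_comm (b : ℤ), huv, zpow_one]
      rw [this]
      exact mul_mem (zpow_mem (hQm Q h1) _) (zpow_mem h2 _)
    · obtain ⟨k, hk⟩ := IsPGroup.iff_orderOf.1 Q.isPGroup' ⟨z, hz⟩
      rw [← Subgroup.orderOf_coe] at hk
      exact (mem_centralizer_singleton_iff.1
        (member_le_centralizer 𝓐 h𝓐 P hab (hm Q) (hQm Q hz) hk ha)).symm
  set N := normalizer ((P : Subgroup G) : Set G) with hN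
  have hone : ∀ M : Subgroup G, M ≠ ⊤ → centralizer ((P : Subgroup G) : Set G) ≤ M → M ≤ N := by
    intro M hM hle g hg
    refine Sylow.smul_eq_iff_mem_normalizer.1 ?_
    refine hsame _ _ (eq_of_le_proper 𝓐 h𝓐 hM (hm _) (hm P) ?_ (hC P ▸ hle))
    rw [← hC]
    intro c hc
    have : g⁻¹ * c * g ∈ centralizer ((P : Subgroup G) : Set G) := by
      refine mem_centralizer_iff.2 fun x hx => ?_
      have h1 : g * x * g⁻¹ ∈ ((g • P : Sylow p G) : Subgroup G) := by
        rw [Sylow.coe_subgroup_smul]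
        exact ⟨x, hx, rfl⟩
      have h2 := mem_centralizer_iff.1 hc _ h1
      calc x * (g⁻¹ * c * g) = g⁻¹ * ((g * x * g⁻¹) * c) * g := by group
        _ = g⁻¹ * (c * (g * x * g⁻¹)) * g := by rw [h2]
        _ = g⁻¹ * c * g * x := by group
    simpa [mul_assoc] using M.mul_mem (M.mul_mem hg (hle this)) (M.inv_mem hg)
  have hNtop : N ≠ ⊤ := fun e => hnn (normalizer_eq_top_iff.1 e)
  have hcoatom : IsCoatom N := ⟨hNtop, fun M hM => by
    by_contra hMt
    exact hM.not_ge (hone M hMt ((centralizer_le_normalizer _).trans hM.le))⟩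
  refine ⟨m P, hm P, hQm P, (P.subtype (hQm P)).not_dvd_index, hcoatom, ?_, hC P, ?_⟩
  · intro g hg hdvd
    obtain ⟨y, hy⟩ := exists_prime_orderOf_dvd_card' p hdvd
    have hy1 : (y : G) ≠ 1 := fun e => (Fact.out : p.Prime).ne_one (by
      rw [← hy, ← Subgroup.orderOf_coe, e, orderOf_one])
    have hyp : orderOf (y : G) = p ^ 1 := by rw [Subgroup.orderOf_coe, hy, pow_one]
    obtain ⟨hyN, x, hxN, hxy⟩ := y.2
    have hin : ∀ w ∈ N, orderOf w = p ^ 1 → w ∈ (P : Subgroup G) := by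
      intro w hw ho
      obtain ⟨S, hS⟩ := IsPGroup.exists_le_sylow (IsPGroup.to_sup_of_normal_left' P.isPGroup'
        (IsPGroup.of_card (p := p) (n := 1) (G := zpowers w) (by rw [Nat.card_zpowers, ho]))
        (zpowers_le.2 hw))
      have : P = S := Sylow.ext (P.is_maximal' S.isPGroup' (le_sup_left.trans hS)).symm
      exact this ▸ hS (mem_sup_right (mem_zpowers _))
    have hyP := hin _ hyN hyp
    have hxP : x ∈ (P : Subgroup G) := hin x hxN (by
      rw [← orderOf_injective (MulAut.conj g).toMonoidHom (MulAut.conj g).injective x, hxy, hyp])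
    have hyg : (y : G) ∈ ((g • P : Sylow p G) : Subgroup G) := by
      rw [Sylow.coe_subgroup_smul]
      exact ⟨x, hxP, hxy⟩
    refine hg ?_
    refine Sylow.smul_eq_iff_mem_normalizer.1 ?_
    refine hsame _ _ ?_
    exact (hdet (g • P) (hm P) _ hy1 hyg (hQm P hyP)).symm
  · intro M hM hle
    exact (hM.le_iff.1 (hone M hM.1 hle)).resolve_left hNtop |>.symm

end Cfsg.Agent.Struct.NilCoverSylow
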