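import Mathlib

/-!
The normal form of nilpotent matrices: shift blocks indexed by a partition.
-/

set_option autoImplicit false
set_option linter.style.haveILetI false
set_option maxHeartbeats 1000000

namespace Cfsg.Agent.Struct.NilpotentForm

open Polynomial Matrix

universe u v

variable {F : Type u} [Field F]

/-- The `j`-th power of the block shift. -/
def shiftPow (F : Type u) [Field F] {ι : Type v} [DecidableEq ι] (k : ι → ℕ) (j : ℕ) :
    Matrix ((i : ι) × Fin (k i)) ((i : ι) × Fin (k i)) F :=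
  Matrix.of fun x y => if x.1 = y.1 ∧ (x.2 : ℕ) = (y.2 : ℕ) + j then 1 else 0

section model

variable {ι : Type v} [Fintype ι] [DecidableEq ι] (k : ι → ℕ)

theorem shift_pow (j : ℕ) : shiftPow F k 1 ^ j = shiftPow F k j := by
  induction j with
  | zero =>
    ext ⟨a, l⟩ ⟨b, l'⟩
    by_cases h : (⟨a, l⟩ : (i : ι) × Fin (k i)) = ⟨b, l'⟩
    · cases h; simp [shiftPow]
    · rw [pow_zero, Matrix.one_apply_ne h]
      simp only [shiftPow, Matrix.of_apply]
      rw [if_neg]
      rintro ⟨h1, h2⟩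
      cases h1
      exact h (by rw [Fin.ext (show (l : ℕ) = l' by omega)])
  | succ j ih =>
    ext ⟨a, l⟩ ⟨b, l'⟩
    rw [pow_succ', ih, Matrix.mul_apply]
    simp only [shiftPow, Matrix.of_apply, ite_mul, one_mul, zero_mul]
    rw [← Finset.sum_filter]
    by_cases hl : (l : ℕ) = 0
    · rw [Finset.filter_false_of_mem (fun x _ => by rintro ⟨-, h⟩; omega), Finset.sum_empty, if_neg]
      rintro ⟨-, h⟩; omega
    · rw [show (Finset.univ.filter fun x : (i : ι) × Fin (k i) => a = x.1 ∧ (l : ℕ) = (x.2 : ℕ) + 1) =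
        {⟨a, ⟨(l : ℕ) - 1, by omega⟩⟩} by
          ext ⟨c, m⟩
          simp only [Finset.mem_filter, Finset.mem_univ, true_and, Finset.mem_singleton]
          constructor
          · rintro ⟨h1, h2⟩
            cases h1
            exact congrArg (Sigma.mk a) (Fin.ext (by show (m : ℕ) = (l : ℕ) - 1; omega))
          · intro h; cases h; exact ⟨rfl, by show (l : ℕ) = (l : ℕ) - 1 + 1; omega⟩, Finset.sum_singleton]
      by_cases h : a = b ∧ (l : ℕ) = (l' : ℕ) + (j + 1)
      · rw [if_pos h, if_pos ⟨h.1, by show (l : ℕ) - 1 = _; omega⟩]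
      · rw [if_neg h, if_neg]
        rintro ⟨h1, h2⟩
        exact h ⟨h1, by replace h2 : (l : ℕ) - 1 = (l' : ℕ) + j := h2; omega⟩

theorem rank_shiftPow (j : ℕ) : (shiftPow F k j).rank = ∑ i, (k i - j) := by
  classical
  let S := {x : (i : ι) × Fin (k i) // j ≤ (x.2 : ℕ)}
  have hcol : ∀ y : (i : ι) × Fin (k i), (shiftPow F k j).col y =
      if h : (y.2 : ℕ) + j < k y.1 then Pi.single ⟨y.1, ⟨(y.2 : ℕ) + j, h⟩⟩ 1 else 0 := by
    intro y
    funext x
    obtain ⟨a, l⟩ := x
    obtain ⟨b, l'⟩ := y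
    simp only [Matrix.col_apply, shiftPow, Matrix.of_apply]
    split_ifs with h1 h2 h2
    · obtain ⟨ha, hl⟩ := h1
      cases ha
      rw [show l = ⟨(l' : ℕ) + j, h2⟩ from Fin.ext hl, Pi.single_eq_same]
    · obtain ⟨ha, hl⟩ := h1
      cases ha
      exact absurd (hl ▸ l.2) h2
    · rw [Pi.single_eq_of_ne]
      intro e
      cases e
      exact h1 ⟨rfl, rfl⟩
    · rfl
  have hr : (shiftPow F k j).rank = Fintype.card S := by
    rw [Matrix.rank, Matrix.range_mulVecLin]
    have he : Submodule.span F (Set.range (shiftPow F k j).col) =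
        Submodule.span F (Set.range fun x : S => (Pi.single (x : (i : ι) × Fin (k i)) (1 : F) : _ → F)) := by
      refine le_antisymm (Submodule.span_le.2 ?_) (Submodule.span_le.2 ?_)
      · rintro _ ⟨y, rfl⟩
        rw [hcol]
        split_ifs with h
        · exact Submodule.subset_span ⟨⟨⟨y.1, ⟨(y.2 : ℕ) + j, h⟩⟩, Nat.le_add_left j _⟩, rfl⟩
        · exact Submodule.zero_mem _
      · rintro _ ⟨⟨⟨a, l⟩, hl⟩, rfl⟩
        replace hl : j ≤ (l : ℕ) := hl
        refine Submodule.subset_span ⟨⟨a, ⟨(l : ℕ) - j, by omega⟩⟩, ?_⟩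
        rw [hcol, dif_pos (show (l : ℕ) - j + j < k a by omega)]
        exact congrArg (fun m : Fin (k a) => (Pi.single (⟨a, m⟩ : (i : ι) × Fin (k i)) (1 : F) : _ → F))
          (Fin.ext (Nat.sub_add_cancel hl))
    rw [he, finrank_span_eq_card]
    have hli := (Pi.basisFun F ((i : ι) × Fin (k i))).linearIndependent.comp (fun x : S => (x : (i : ι) × Fin (k i))) Subtype.val_injective
    have e : (fun x : S => (Pi.single (x : (i : ι) × Fin (k i)) (1 : F) : _ → F)) = ⇑(Pi.basisFun F ((i : ι) × Fin (k i))) ∘ fun x : S => (x : (i : ι) × Fin (k i)) := by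
      funext x; simp
    rw [e]
    exact hli
  rw [hr]
  let e : S ≃ ((i : ι) × Fin (k i - j)) :=
    { toFun := fun x => ⟨x.1.1, ⟨(x.1.2 : ℕ) - j, by have := x.1.2.2; have := x.2; omega⟩⟩
      invFun := fun y => ⟨⟨y.1, ⟨(y.2 : ℕ) + j, by have := y.2.2; omega⟩⟩, Nat.le_add_left j _⟩
      left_inv := fun x => by
        obtain ⟨⟨a, l⟩, hl⟩ := x
        exact Subtype.ext (congrArg (Sigma.mk a) (Fin.ext (Nat.sub_add_cancel hl)))
      right_inv := fun y => by
        obtain ⟨a, l⟩ := y
        exact congrArg (Sigma.mk a) (Fin.ext (Nat.add_sub_cancel (l : ℕ) j)) }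
  rw [Fintype.card_congr e, Fintype.card_sigma]
  simp

end model

/-- Two families with the same positive values give the same shift. -/
theorem exists_equiv {ι : Type v} [Fintype ι] [DecidableEq ι] {ι' : Type*} [Fintype ι'] [DecidableEq ι']
    (k : ι → ℕ) (k' : ι' → ℕ) (h : ∀ a, a ≠ 0 → Nat.card {i // k i = a} = Nat.card {i // k' i = a}) :
    ∃ e : (i : ι) × Fin (k i) ≃ (i : ι') × Fin (k' i), shiftPow F k 1 = (shiftPow F k' 1).submatrix e e := by
  classical
  let f : {i // k i ≠ 0} → ℕ := fun i => k i.1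
  let f' : {i // k' i ≠ 0} → ℕ := fun i => k' i.1
  have hc : ∀ c, Nonempty ({i // f i = c} ≃ {i // f' i = c}) := fun c => by
    rcases eq_or_ne c 0 with rfl | hc0
    · haveI : IsEmpty {i // f i = 0} := ⟨fun i => i.1.2 i.2⟩
      haveI : IsEmpty {i // f' i = 0} := ⟨fun i => i.1.2 i.2⟩
      exact ⟨Equiv.equivOfIsEmpty _ _⟩
    · refine ⟨((Equiv.subtypeSubtypeEquivSubtype fun {x} (hx : k x = c) => (hx ▸ hc0 : k x ≠ 0)).trans
        (Classical.choice (Fintype.card_eq.1 ?_))).trans
        (Equiv.subtypeSubtypeEquivSubtype fun {x} (hx : k' x = c) => (hx ▸ hc0 : k' x ≠ 0)).symm⟩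
      rw [← Nat.card_eq_fintype_card, ← Nat.card_eq_fintype_card]
      exact h c hc0
  let σ := Equiv.ofFiberEquiv fun c => (hc c).some
  have hσ : ∀ i, k' (σ i).1 = k i.1 := fun i => Equiv.ofFiberEquiv_map (fun c => (hc c).some) i
  let g : (i : ι) × Fin (k i) → (i : ι') × Fin (k' i) := fun x =>
    ⟨(σ ⟨x.1, by have := x.2.2; omega⟩).1, Fin.cast (hσ _).symm x.2⟩
  have hg : ∀ x y, ((g x).1 = (g y).1 ↔ x.1 = y.1) ∧ ((g x).2 : ℕ) = x.2 := fun x y =>
    ⟨⟨fun e => congrArg Subtype.val (σ.injective (Subtype.ext e)), fun e => by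
      show (σ _).1 = (σ _).1
      exact congrArg (fun z => (σ z).1) (Subtype.ext e)⟩, rfl⟩
  have hgi : Function.Injective g := fun x y e => by
    have h1 := (hg x y).1.1 (congrArg Sigma.fst e)
    obtain ⟨a, l⟩ := x
    obtain ⟨b, l'⟩ := y
    cases h1
    refine congrArg (Sigma.mk a) (Fin.ext ?_)
    have h2 := congrArg (fun z : (i : ι') × Fin (k' i) => (z.2 : ℕ)) e
    exact h2
  have hgs : Function.Surjective g := fun y => by
    obtain ⟨⟨i, hi⟩, he⟩ := σ.surjective ⟨y.1, by have := y.2.2; omega⟩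
    have h1 : (σ ⟨i, hi⟩).1 = y.1 := congrArg Subtype.val he
    have hk : k i = k' y.1 := (hσ ⟨i, hi⟩).symm.trans (congrArg k' h1)
    refine ⟨⟨i, Fin.cast hk.symm y.2⟩, ?_⟩
    obtain ⟨b, l⟩ := y
    refine Sigma.ext h1 ?_
    rw [Fin.heq_ext_iff (congrArg k' h1)]
    rfl
  refine ⟨Equiv.ofBijective g ⟨hgi, hgs⟩, ?_⟩
  ext x y
  show (if x.1 = y.1 ∧ (x.2 : ℕ) = (y.2 : ℕ) + 1 then (1 : F) else 0) =
    if (g x).1 = (g y).1 ∧ ((g x).2 : ℕ) = ((g y).2 : ℕ) + 1 then 1 else 0
  exact if_congr (by rw [(hg x y).2, (hg y x).2, (hg x y).1]) rfl rfl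

noncomputable instance partsDecEq (s : Multiset ℕ) : DecidableEq s.ToType := Classical.decEq _

/-- The index of the blocks of a partition. -/
noncomputable def blocksEquiv {n : ℕ} (μ : Nat.Partition n) :
    (x : μ.parts) × Fin (x : ℕ) ≃ Fin n :=
  Fintype.equivFinOfCardEq (by
    rw [Fintype.card_sigma]
    simp only [Fintype.card_fin]
    rw [← Finset.sum_map_val, Multiset.map_univ_coe, μ.parts_sum])

/-- The shift matrix of a partition. -/
noncomputable def J (F : Type u) [Field F] {n : ℕ} (μ : Nat.Partition n) : Matrix (Fin n) (Fin n) F :=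
  (shiftPow F (fun x : μ.parts => (x : ℕ)) 1).submatrix (blocksEquiv μ).symm (blocksEquiv μ).symm

theorem rank_J_pow {n : ℕ} (μ : Nat.Partition n) (j : ℕ) :
    (J F μ ^ j).rank = (μ.parts.map fun a => a - j).sum := by
  have h : J F μ ^ j = (shiftPow F (fun x : μ.parts => (x : ℕ)) j).submatrix (blocksEquiv μ).symm (blocksEquiv μ).symm := by
    rw [← shift_pow]
    exact (map_pow (Matrix.reindexAlgEquiv F F (blocksEquiv μ)) (shiftPow F (fun x : μ.parts => (x : ℕ)) 1) j).symm
  rw [h, Matrix.rank_submatrix, rank_shiftPow, ← Finset.sum_map_val]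
  congr 1
  conv_rhs => rw [← Multiset.map_univ_coe μ.parts, Multiset.map_map]
  rfl

theorem isNilpotent_J {n : ℕ} (μ : Nat.Partition n) : IsNilpotent (J F μ) := by
  suffices h : (J F μ ^ n).rank = 0 by
    refine ⟨n, Matrix.toLin'.injective ?_⟩
    rw [Matrix.rank, Submodule.finrank_eq_zero, LinearMap.range_eq_bot] at h
    exact h.trans (map_zero _).symm
  rw [rank_J_pow, Multiset.sum_eq_zero_iff]
  intro x hx
  obtain ⟨a, ha, rfl⟩ := Multiset.mem_map.1 hx
  exact Nat.sub_eq_zero_of_le (μ.le_of_mem_parts ha)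

theorem count_eq (s : Multiset ℕ) (j : ℕ) :
    (s.map fun a => a - j).sum + (s.map fun a => a - (j + 2)).sum =
      2 * (s.map fun a => a - (j + 1)).sum + s.count (j + 1) := by
  induction s using Multiset.induction_on with
  | empty => simp
  | cons a s ih =>
    simp only [Multiset.map_cons, Multiset.sum_cons, Multiset.count_cons]
    split_ifs <;> omega

theorem J_injective {n : ℕ} {μ ν : Nat.Partition n} (g : GL (Fin n) F)
    (h : (g : Matrix (Fin n) (Fin n) F) * J F μ = J F ν * g) : μ = ν := by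
  have hr : ∀ j, (μ.parts.map fun a => a - j).sum = (ν.parts.map fun a => a - j).sum := fun j => by
    have hj : (g : Matrix (Fin n) (Fin n) F) * J F μ ^ j = J F ν ^ j * g := (show SemiconjBy (g : Matrix (Fin n) (Fin n) F) (J F μ) (J F ν) from h).pow_right j
    have hd := (Matrix.isUnit_iff_isUnit_det _).1 g.isUnit
    have h1 := congrArg Matrix.rank hj
    rwa [Matrix.rank_mul_eq_right_of_isUnit_det _ _ hd, Matrix.rank_mul_eq_left_of_isUnit_det _ _ hd, rank_J_pow, rank_J_pow] at h1
  apply Nat.Partition.ext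
  ext a
  rcases a with _ | j
  · rw [Multiset.count_eq_zero.2 (fun h => lt_irrefl 0 (μ.parts_pos h)), Multiset.count_eq_zero.2 (fun h => lt_irrefl 0 (ν.parts_pos h))]
  · have h1 := count_eq μ.parts j
    have h2 := count_eq ν.parts j
    rw [hr, hr, hr] at h1
    omega

/-- A nilpotent matrix is similar to the shift matrix of some partition. -/
theorem exists_conj {n : ℕ} (M : Matrix (Fin n) (Fin n) F) (hM : IsNilpotent M) :
    ∃ (μ : Nat.Partition n) (g : GL (Fin n) F), (g : Matrix (Fin n) (Fin n) F) * M = J F μ * g := by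
  classical
  set T : Module.End F (Fin n → F) := Matrix.toLinAlgEquiv' M
  obtain ⟨m, hm⟩ := hM
  obtain ⟨ι, hι, p, hp, k, ⟨e⟩⟩ := Module.equiv_directSum_of_isTorsion (Module.AEval.isTorsion_of_finiteDimensional F (Fin n → F) T)
  haveI := hι
  let I : ι → Ideal F[X] := fun i => Ideal.span {p i ^ k i}
  have hI : ∀ i, I i = Ideal.span {(X : F[X]) ^ k i} := fun i => by
    rcases Nat.eq_zero_or_pos (k i) with h0 | h0
    · simp [I, h0]
    have h1 : p i ^ k i ∣ X ^ m := by
      have h2 : (X : F[X]) ^ m • (DirectSum.lof F[X] ι (fun i => F[X] ⧸ I i) i 1) = 0 := by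
        refine e.symm.injective ?_
        rw [map_smul, map_zero]
        obtain ⟨v, hv⟩ := (Module.AEval.of F (Fin n → F) T).surjective (e.symm (DirectSum.lof F[X] ι (fun i => F[X] ⧸ I i) i 1))
        rw [← hv, Module.AEval.X_pow_smul_of, ← map_pow, hm, map_zero, zero_smul, map_zero]
      rw [← map_smul] at h2
      have h3 := congrArg (DirectSum.component F[X] ι (fun i => F[X] ⧸ I i) i) h2
      rw [DirectSum.component.lof_self, map_zero] at h3
      rw [show (X : F[X]) ^ m • (1 : F[X] ⧸ I i) = Ideal.Quotient.mk (I i) (X ^ m * 1) from rfl, mul_one] at h3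
      exact Ideal.mem_span_singleton.1 (Ideal.Quotient.eq_zero_iff_mem.1 h3)
    have h4 : p i ∣ X := (hp i).prime.dvd_of_dvd_pow ((dvd_pow_self _ h0.ne').trans h1)
    have h5 := (hp i).associated_of_dvd Polynomial.irreducible_X h4
    exact Ideal.span_singleton_eq_span_singleton.2 (h5.pow_pow)
  let c : ∀ i, Fin (k i) → (F[X] ⧸ I i) →ₗ[F] F := fun i l =>
    Submodule.liftQ ((I i).restrictScalars F) (lcoeff F (l : ℕ)) fun P hP => by
      obtain ⟨Q, rfl⟩ := Ideal.mem_span_singleton.1 (hI i ▸ hP : P ∈ Ideal.span {(X : F[X]) ^ k i})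
      exact Polynomial.X_pow_dvd_iff.1 (dvd_mul_right _ Q) _ l.2
  have hc : ∀ i l P, c i l (Ideal.Quotient.mk (I i) P) = P.coeff (l : ℕ) := fun _ _ _ => rfl
  let comp : ∀ i, (Fin n → F) → F[X] ⧸ I i := fun i x => e (Module.AEval.of F (Fin n → F) T x) i
  have hadd : ∀ i x y, comp i (x + y) = comp i x + comp i y := fun i x y => by simp [comp]
  have hsmul : ∀ i (r : F) x, comp i (r • x) = (C r : F[X]) • comp i x := fun i r x => by
    show e (Module.AEval.of F (Fin n → F) T (r • x)) i = _
    rw [map_smul, ← Module.AEval.C_smul (a := T), map_smul]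
    rfl
  have hX : ∀ i x, comp i (T x) = (X : F[X]) • comp i x := fun i x => by
    show e (Module.AEval.of F (Fin n → F) T (T x)) i = _
    rw [show T x = T • x from rfl, ← Module.AEval.X_smul_of, map_smul]
    rfl
  let ψ : (Fin n → F) →ₗ[F] ((i : ι) × Fin (k i) → F) :=
    { toFun := fun x y => c y.1 y.2 (comp y.1 x)
      map_add' := fun x y => funext fun z => by simp [hadd]
      map_smul' := fun r x => funext fun z => by
        obtain ⟨P, hP⟩ := Ideal.Quotient.mk_surjective (comp z.1 x)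
        rw [hsmul, ← hP, show (C r : F[X]) • Ideal.Quotient.mk (I z.1) P = Ideal.Quotient.mk _ (C r * P) from rfl, hc,
          coeff_C_mul, Pi.smul_apply, smul_eq_mul, RingHom.id_apply, ← hP, hc] }
  have hinj : Function.Injective ψ := (injective_iff_map_eq_zero ψ).2 fun x hx => by
    apply (Module.AEval.of F (Fin n → F) T).injective
    apply e.injective
    ext i
    simp only [map_zero]
    obtain ⟨P, hP⟩ := Ideal.Quotient.mk_surjective (comp i x)
    refine (hP.symm.trans ?_ : comp i x = 0)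
    rw [Ideal.Quotient.eq_zero_iff_mem, hI, Ideal.mem_span_singleton, Polynomial.X_pow_dvd_iff]
    intro l hl
    have h := congrFun hx ⟨i, ⟨l, hl⟩⟩
    change c i ⟨l, hl⟩ (comp i x) = 0 at h
    rwa [← hP, hc] at h
  have hsurj : Function.Surjective ψ := by
    intro w
    let D : DirectSum ι fun i => F[X] ⧸ I i :=
      ∑ i, DirectSum.lof F[X] ι (fun i => F[X] ⧸ I i) i (Ideal.Quotient.mk (I i) (∑ l : Fin (k i), C (w ⟨i, l⟩) * X ^ (l : ℕ)))
    refine ⟨(Module.AEval.of F (Fin n → F) T).symm (e.symm D), funext fun z => ?_⟩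
    obtain ⟨i, l⟩ := z
    show c i l (comp i _) = _
    have h1 : comp i ((Module.AEval.of F (Fin n → F) T).symm (e.symm D)) = DirectSum.component F[X] ι (fun i => F[X] ⧸ I i) i D := by
      simp only [comp, LinearEquiv.apply_symm_apply]
      rfl
    rw [h1, map_sum, Finset.sum_eq_single i]
    · rw [DirectSum.component.lof_self, hc, finsetSum_coeff, Finset.sum_eq_single l]
      · simp
      · intro m' _ hm'
        rw [coeff_C_mul, coeff_X_pow, if_neg (fun h => hm' (Fin.ext h.symm)), mul_zero]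
      · simp
    · intro j _ hj
      rw [DirectSum.lof_eq_of]
      exact DirectSum.of_eq_of_ne _ _ _ hj.symm
    · simp
  let φ := LinearEquiv.ofBijective ψ ⟨hinj, hsurj⟩
  have hcard : ∑ i, k i = n := by
    have h := φ.finrank_eq
    rw [Module.finrank_fin_fun, Module.finrank_fintype_fun_eq_card, Fintype.card_sigma] at h
    simpa using h.symm
  let μ : Nat.Partition n := Nat.Partition.ofSums n (Finset.univ.val.map k) (by rw [Finset.sum_map_val, hcard])
  obtain ⟨σ, hσ⟩ := exists_equiv (F := F) k (fun x : μ.parts => (x : ℕ)) fun a ha => by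
    rw [Nat.card_eq_fintype_card, Nat.card_eq_fintype_card, Fintype.card_subtype, Fintype.card_subtype]
    have h1 : Multiset.count a (Finset.univ.val.map fun x : μ.parts => (x : ℕ)) = Multiset.count a (Finset.univ.val.map k) := by
      rw [Multiset.map_univ_coe]
      exact Multiset.count_filter_of_pos ha
    rw [Multiset.count_map, Multiset.count_map] at h1
    rw [Finset.card_def, Finset.card_def, Finset.filter_val, Finset.filter_val]
    simpa only [eq_comm] using h1.symm
  let θ : (Fin n → F) ≃ₗ[F] (Fin n → F) := φ.trans (LinearEquiv.funCongrLeft F F ((blocksEquiv μ).symm.trans σ.symm))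
  let g : GL (Fin n) F := ⟨LinearMap.toMatrix' θ.toLinearMap, LinearMap.toMatrix' θ.symm.toLinearMap,
    by rw [← LinearMap.toMatrix'_comp]; simp [LinearMap.toMatrix'_id],
    by rw [← LinearMap.toMatrix'_comp]; simp [LinearMap.toMatrix'_id]⟩
  refine ⟨μ, g, Matrix.toLin'.injective (LinearMap.ext fun v => ?_)⟩
  simp only [g, Matrix.toLin'_mul, Matrix.toLin'_toMatrix', LinearMap.comp_apply, LinearEquiv.coe_coe]
  have key : ψ (T v) = (shiftPow F k 1).mulVec (ψ v) := by
    funext z
    obtain ⟨i, l⟩ := z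
    show c i l (comp i (T v)) = _
    obtain ⟨P, hP⟩ := Ideal.Quotient.mk_surjective (comp i v)
    rw [hX, ← hP, show (X : F[X]) • Ideal.Quotient.mk (I i) P = Ideal.Quotient.mk _ (X * P) from rfl, hc]
    simp only [Matrix.mulVec, dotProduct, shiftPow, Matrix.of_apply, ite_mul, one_mul, zero_mul]
    rw [← Finset.sum_filter]
    by_cases hl : (l : ℕ) = 0
    · rw [Finset.filter_false_of_mem (fun x _ => by rintro ⟨-, h⟩; omega), Finset.sum_empty, hl, coeff_X_mul_zero]
    · rw [show (Finset.univ.filter fun x : (i : ι) × Fin (k i) => i = x.1 ∧ (l : ℕ) = (x.2 : ℕ) + 1) =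
        {⟨i, ⟨(l : ℕ) - 1, by omega⟩⟩} by
          ext ⟨c', m'⟩
          simp only [Finset.mem_filter, Finset.mem_univ, true_and, Finset.mem_singleton]
          constructor
          · rintro ⟨h1, h2⟩
            cases h1
            exact congrArg (Sigma.mk i) (Fin.ext (by show (m' : ℕ) = (l : ℕ) - 1; omega))
          · intro h; cases h; exact ⟨rfl, by show (l : ℕ) = (l : ℕ) - 1 + 1; omega⟩, Finset.sum_singleton]
      show _ = c i _ (comp i v)
      rw [← hP, hc]
      conv_lhs => rw [show (l : ℕ) = (l : ℕ) - 1 + 1 by omega]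
      rw [coeff_X_mul]
  show θ (T v) = Matrix.toLin' (J F μ) (θ v)
  have hφ : ∀ w, φ w = ψ w := fun w => rfl
  simp only [θ, LinearEquiv.trans_apply, hφ, key, Matrix.toLin'_apply, J]
  rw [Matrix.submatrix_mulVec_equiv, hσ, Matrix.submatrix_mulVec_equiv]
  funext x
  simp [LinearEquiv.funCongrLeft_apply, LinearMap.funLeft_apply, Function.comp_def]

end Cfsg.Agent.Struct.NilpotentForm
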