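import Mathlib
import Cfsg.Agent.Lib.Local.PGroup
import Cfsg.Agent.Lib.Local.OddPGroupInvolution
import Cfsg.Agent.Lib.Solv.Coprime

/-!
# Normal elementary abelian subgroups of order `p ^ 2` in noncyclic `p`-groups, `p` odd
-/

set_option autoImplicit false
set_option linter.style.haveILetI false

namespace Cfsg.Agent.Struct

open Subgroup

theorem dvd_mul_sub_one_of_dvd_pow_sub_one {p : ℕ} (hp : p.Prime) (hp2 : p ≠ 2) (k : ℕ) (r : ℤ)
    (h : ((p : ℤ) ^ (k + 1)) ∣ r ^ p - 1) : (p : ℤ) ∣ r - 1 ∧ ((p : ℤ) ^ (k + 1)) ∣ (r - 1) * p := by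
  haveI : Fact p.Prime := ⟨hp⟩
  have h1 : (p : ℤ) ∣ r ^ p - 1 := (dvd_pow_self _ (Nat.succ_ne_zero k)).trans h
  have h2 : (p : ℤ) ∣ r - 1 := by
    rw [← ZMod.intCast_zmod_eq_zero_iff_dvd] at h1 ⊢
    push_cast at h1 ⊢
    rwa [ZMod.pow_card] at h1
  refine ⟨h2, ?_⟩
  rw [pow_succ]
  refine mul_dvd_mul_right ?_ _
  have hpi : Prime (p : ℤ) := Nat.prime_iff_prime_int.1 hp
  have hr : ¬ (p : ℤ) ∣ r := fun h3 => hpi.not_dvd_one (by
    have := dvd_sub h3 h2
    simpa using this)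
  have e := Int.emultiplicity_pow_sub_pow hp (hp.odd_of_ne_two hp2) (x := r) (y := 1) h2 hr p
  rw [one_pow,
    FiniteMultiplicity.emultiplicity_self (Nat.finiteMultiplicity_iff.2 ⟨hp.one_lt.ne', hp.pos⟩)] at e
  rw [pow_dvd_iff_le_emultiplicity] at h ⊢
  rw [e, Nat.cast_succ] at h
  exact (ENat.add_le_add_iff_right (by simp)).1 h

theorem zpow_eq_self_of_dvd {P : Type*} [Group P] {p : ℕ} {r : ℤ} (z : P) (hz : z ^ p = 1)
    (hr : (p : ℤ) ∣ r - 1) : z ^ r = z := by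
  obtain ⟨t, ht⟩ := hr
  rw [show r = 1 + (p : ℤ) * t by linarith, zpow_add, zpow_one, zpow_mul, zpow_natCast, hz, one_zpow,
    mul_one]

theorem exists_normal_elementary {P : Type*} [Group P] [Finite P] {p : ℕ} [hpf : Fact p.Prime]
    (hP : IsPGroup p P) (hp2 : p ≠ 2) (hnc : ¬ IsCyclic P) :
    ∃ E : Subgroup P, E.Normal ∧ Nat.card E = p ^ 2 ∧ (∀ a ∈ E, ∀ b ∈ E, a * b = b * a) ∧
      ∀ e ∈ E, e ^ p = 1 := by
  classical
  have hp : p.Prime := hpf.out
  obtain ⟨N, ⟨hN, hNc⟩, hNmin⟩ := (Set.toFinite {N : Subgroup P | N.Normal ∧ ¬ IsCyclic N}).exists_minimal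
    ⟨⊤, inferInstance, fun h => hnc ((topEquiv (G := P)).isCyclic.1 h)⟩
  have hNb : N ≠ ⊥ := fun h => hNc (by rw [h]; infer_instance)
  obtain ⟨C, ⟨hC, hCN⟩, hCmax⟩ := (Set.toFinite {C : Subgroup P | C.Normal ∧ C < N}).exists_maximal
    ⟨⊥, inferInstance, bot_lt_iff_ne_bot.2 hNb⟩
  have hCc : IsCyclic C := by
    by_contra h
    exact hCN.not_ge (hNmin ⟨hC, h⟩ hCN.le)
  haveI : (N.map (QuotientGroup.mk' C)).Normal := hN.map _ (QuotientGroup.mk'_surjective C)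
  have hNb' : N.map (QuotientGroup.mk' C) ≠ ⊥ := by
    rw [Ne, Subgroup.map_eq_bot_iff, QuotientGroup.ker_mk']
    exact hCN.not_ge
  have hI := Cfsg.Agent.Local.inf_center_ne_bot (hP.to_quotient C) _ hNb'
  obtain ⟨d, hd⟩ := IsPGroup.iff_card.1 ((hP.to_quotient C).to_subgroup
    (N.map (QuotientGroup.mk' C) ⊓ center (P ⧸ C)))
  have hd0 : d ≠ 0 := by
    rintro rfl
    exact hI (eq_bot_of_card_eq _ hd)
  obtain ⟨z, hz⟩ := exists_prime_orderOf_dvd_card' (G := ↥(N.map (QuotientGroup.mk' C) ⊓ center (P ⧸ C))) p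
    (hd ▸ dvd_pow_self p hd0)
  rw [← Subgroup.orderOf_coe] at hz
  haveI hzn : (zpowers (z : P ⧸ C)).Normal := ⟨fun w hw g => by
    rw [mem_center_iff.1 ((zpowers_le.2 z.2.2 : zpowers (z : P ⧸ C) ≤ center _) hw) g,
      mul_inv_cancel_right]
    exact hw⟩
  have hD : N = (zpowers (z : P ⧸ C)).comap (QuotientGroup.mk' C) := by
    have hle : (zpowers (z : P ⧸ C)).comap (QuotientGroup.mk' C) ≤ N := by
      refine (comap_mono (zpowers_le.2 z.2.1)).trans ?_
      rw [comap_map_eq, QuotientGroup.ker_mk', sup_eq_left.2 hCN.le]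
    by_contra hne
    have hCD : C ≤ (zpowers (z : P ⧸ C)).comap (QuotientGroup.mk' C) := by
      conv_lhs => rw [← QuotientGroup.ker_mk' C]
      exact ker_le_comap _ _
    have h2 := hCmax ⟨inferInstance, lt_of_le_of_ne hle (Ne.symm hne)⟩ hCD
    obtain ⟨w, hw⟩ := QuotientGroup.mk'_surjective C (z : P ⧸ C)
    have hwC : w ∈ C := h2 (mem_comap.2 (hw ▸ mem_zpowers _))
    rw [← hw, QuotientGroup.mk'_apply, (QuotientGroup.eq_one_iff w).2 hwC, orderOf_one] at hz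
    exact hp.one_lt.ne hz
  have hNp : ∀ y ∈ N, y ^ p ∈ C := by
    intro y hy
    rw [hD, mem_comap] at hy
    obtain ⟨i, hi⟩ := hy
    rw [← QuotientGroup.eq_one_iff, QuotientGroup.mk_pow]
    change (QuotientGroup.mk' C y) ^ p = 1
    rw [← hi]
    change ((z : P ⧸ C) ^ i) ^ p = 1
    rw [← zpow_natCast, ← zpow_mul, mul_comm, zpow_mul, zpow_natCast, ← hz, pow_orderOf_eq_one, one_zpow]
  obtain ⟨⟨a, haC⟩, ha⟩ := hCc.exists_generator
  have hgen : ∀ c ∈ C, ∃ i : ℤ, a ^ i = c := fun c hc => by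
    obtain ⟨i, hi⟩ := ha ⟨c, hc⟩
    exact ⟨i, by simpa using congrArg Subtype.val hi⟩
  obtain ⟨k, hk⟩ := IsPGroup.iff_orderOf.1 hP a
  rcases k with _ | k
  · exfalso
    rw [pow_zero, orderOf_eq_one_iff] at hk
    subst hk
    refine hNc (isCyclic_of_prime_card (p := p) ?_)
    have hCb : C = ⊥ := eq_bot_iff.2 fun c hc => by
      obtain ⟨i, hi⟩ := hgen c hc
      rw [mem_bot, ← hi, one_zpow]
    subst hCb
    rw [hD, show (zpowers (z : P ⧸ (⊥ : Subgroup P))).comap (QuotientGroup.mk' ⊥) =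
      (zpowers (z : P ⧸ (⊥ : Subgroup P))).map
        (QuotientGroup.quotientBot (G := P)).toMonoidHom from ?_,
      card_map_of_injective (MulEquiv.injective _), Nat.card_zpowers, hz]
    ext w
    constructor
    · exact fun hw => ⟨_, hw, rfl⟩
    · rintro ⟨v, hv, rfl⟩
      obtain ⟨v, rfl⟩ := QuotientGroup.mk'_surjective (⊥ : Subgroup P) v
      exact hv
  have key : ∀ y ∈ N, ∀ m : ℤ, (y * a ^ m) ^ p = y ^ p * a ^ (m * p) ∧
      Commute y (a ^ ((p : ℤ) ^ k)) := by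
    intro y hy m
    obtain ⟨r, hr⟩ := hgen _ (hC.conj_mem a haC y)
    have hjr : ∀ j : ℕ, y ^ j * a * (y ^ j)⁻¹ = a ^ (r ^ j) := by
      intro j
      induction j with
      | zero => simp
      | succ j ih =>
        rw [show y ^ (j + 1) * a * (y ^ (j + 1))⁻¹ = y * (y ^ j * a * (y ^ j)⁻¹) * y⁻¹ by
          rw [pow_succ']; group, ih, ← conj_zpow, ← hr, ← zpow_mul, pow_succ']
    have hfix : a ^ (r ^ p) = a := by
      rw [← hjr p]
      obtain ⟨i, hi⟩ := hgen _ (hNp y hy)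
      rw [← hi]; group
    have hdiv : ((p : ℤ) ^ (k + 1)) ∣ r ^ p - 1 := by
      rw [← Nat.cast_pow, ← hk, orderOf_dvd_iff_zpow_eq_one, zpow_sub, hfix, zpow_one, mul_inv_cancel]
    obtain ⟨hr1, hrp⟩ := dvd_mul_sub_one_of_dvd_pow_sub_one hp hp2 k r hdiv
    have hfixed : ∀ i : ℤ, (a ^ i) ^ p = 1 → y * a ^ i * y⁻¹ = a ^ i := by
      intro i hi
      rw [← conj_zpow, ← hr, ← zpow_mul, mul_comm, zpow_mul]
      exact zpow_eq_self_of_dvd _ hi hr1
    refine ⟨?_, ?_⟩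
    · set c := a ^ (m * (r - 1)) with hc
      have hcp : c ^ p = 1 := by
        rw [hc, ← zpow_natCast, ← zpow_mul, ← orderOf_dvd_iff_zpow_eq_one, hk, Nat.cast_pow,
          mul_assoc]
        exact hrp.mul_left m
      have hy' : y * c = c * y := mul_inv_eq_iff_eq_mul.1 (hfixed _ hcp)
      have hca : c * a ^ m = a ^ m * c := ((Commute.refl a).zpow_zpow _ _).eq
      have hswap : a ^ m * y = y * a ^ m * c⁻¹ := by
        have h1 : y * a ^ m * y⁻¹ = a ^ m * c := by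
          rw [← conj_zpow, ← hr, ← zpow_mul, hc, ← zpow_add]
          congr 1; ring
        calc a ^ m * y = (a ^ m * c) * c⁻¹ * y := by group
          _ = (y * a ^ m * y⁻¹) * (c⁻¹ * y) := by rw [h1]; group
          _ = (y * a ^ m * y⁻¹) * (y * c⁻¹) := by
            rw [((show Commute y c from hy').inv_right.eq : y * c⁻¹ = c⁻¹ * y)]
          _ = y * a ^ m * c⁻¹ := by group
      rw [Cfsg.Agent.Local.mul_pow_of_commutator hswap ((show Commute y c from hy').inv_right.eq).symm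
        ((show Commute c (a ^ m) from hca).inv_left.eq) p]
      obtain ⟨t, ht⟩ : p ∣ p.choose 2 :=
        hp.dvd_choose_self two_ne_zero (lt_of_le_of_ne hp.two_le (Ne.symm hp2))
      rw [ht, pow_mul, inv_pow, hcp, inv_one, one_pow, mul_one, zpow_mul, zpow_natCast]
    · refine mul_inv_eq_iff_eq_mul.1 (hfixed _ ?_)
      rw [← zpow_natCast, ← zpow_mul, ← pow_succ, ← Nat.cast_pow, zpow_natCast, ← hk,
        pow_orderOf_eq_one]
  -- an element of order `p` outside `C`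
  obtain ⟨g, hgN, hgC⟩ := SetLike.exists_of_lt hCN
  have hgenN : ∀ y ∈ N, y ∉ C → ∀ e ∈ N, ∃ (j : ℤ) (c : P), c ∈ C ∧ e = y ^ j * c := by
    intro y hy hyC e he
    have hyz : zpowers (z : P ⧸ C) = zpowers (QuotientGroup.mk' C y) := by
      refine (eq_of_le_of_card_ge (zpowers_le.2 ?_) ?_).symm
      · rw [hD] at hy; exact hy
      · rw [Nat.card_zpowers, Nat.card_zpowers, hz, orderOf_eq_prime (p := p) ?_ ?_]
        · rw [← map_pow, QuotientGroup.mk'_apply, QuotientGroup.eq_one_iff]; exact hNp y hy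
        · rw [Ne, QuotientGroup.mk'_apply, QuotientGroup.eq_one_iff]; exact hyC
    rw [hD, mem_comap, hyz] at he
    obtain ⟨j, hj⟩ := he
    refine ⟨j, (y ^ j)⁻¹ * e, ?_, by group⟩
    rw [← QuotientGroup.eq]
    simpa using hj
  obtain ⟨x, hxN, hxC, hxp⟩ : ∃ x ∈ N, x ∉ C ∧ x ^ p = 1 := by
    obtain ⟨i, hi⟩ := hgen _ (hNp g hgN)
    by_cases hpi : (p : ℤ) ∣ i
    · obtain ⟨i', rfl⟩ := hpi
      refine ⟨g * a ^ (-i'), mul_mem hgN (zpow_mem (hCN.le haC) _), fun h => hgC ?_, ?_⟩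
      · simpa using mul_mem h (zpow_mem haC i')
      · rw [(key g hgN _).1, ← hi, ← zpow_add, show (p : ℤ) * i' + -i' * p = 0 by ring, zpow_zero]
    · exfalso
      refine hNc ?_
      have hag : a ∈ zpowers g := by
        obtain ⟨u, v, huv⟩ : IsCoprime i ((p : ℤ) ^ (k + 1)) :=
          (((Nat.prime_iff_prime_int.1 hp).coprime_iff_not_dvd.2 hpi).symm).pow_right
        have h1 : a = (a ^ i) ^ u := by
          conv_lhs => rw [← zpow_one a, ← huv]
          rw [zpow_add, mul_comm u i, zpow_mul, mul_comm v, zpow_mul, ← Nat.cast_pow, ← hk, zpow_natCast a,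
            pow_orderOf_eq_one, one_zpow, mul_one]
        rw [h1, hi]
        exact zpow_mem (pow_mem (mem_zpowers g) p) u
      have hle : N = zpowers g := le_antisymm (fun e he => by
        obtain ⟨j, c, hc, rfl⟩ := hgenN g hgN hgC e he
        obtain ⟨l, rfl⟩ := hgen c hc
        exact mul_mem (zpow_mem (mem_zpowers g) j) (zpow_mem hag l)) (zpowers_le.2 hgN)
      rw [hle]; infer_instance
  set a₀ := a ^ ((p : ℤ) ^ k) with ha₀
  have ha₀o : orderOf a₀ = p := by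
    rw [ha₀, ← Nat.cast_pow, zpow_natCast, orderOf_pow_of_dvd (pow_ne_zero k hp.ne_zero) (hk ▸
      pow_dvd_pow p k.le_succ), hk, pow_succ, Nat.mul_div_cancel_left _ (pow_pos hp.pos k)]
  have hxa : Commute x a₀ := (key x hxN 0).2
  have hEnorm : zpowers x ≤ normalizer ((zpowers a₀ : Subgroup P) : Set P) :=
    (zpowers_le.2 (mem_centralizer_iff.2 fun w hw => by
      obtain ⟨i, rfl⟩ := mem_zpowers_iff.1 hw
      exact (hxa.zpow_right i).eq.symm)).trans (centralizer_le_normalizer _)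
  set E := zpowers a₀ ⊔ zpowers x with hE
  have hclo : ∀ e ∈ E, ∃ i j : ℤ, e = a₀ ^ i * x ^ j := by
    intro e he
    rw [hE, ← SetLike.mem_coe, coe_mul_of_right_le_normalizer_left _ _ hEnorm] at he
    obtain ⟨_, ⟨i, rfl⟩, _, ⟨j, rfl⟩, rfl⟩ := he
    exact ⟨i, j, rfl⟩
  have hEab : ∀ u ∈ E, ∀ v ∈ E, u * v = v * u := by
    intro u hu v hv
    obtain ⟨i, j, rfl⟩ := hclo u hu
    obtain ⟨l, m, rfl⟩ := hclo v hv
    exact (((Commute.refl a₀).zpow_zpow i l).mul_right (hxa.symm.zpow_zpow i m)).mul_left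
      ((hxa.zpow_zpow j l).mul_right ((Commute.refl x).zpow_zpow j m)) |>.eq
  have hEexp : ∀ e ∈ E, e ^ p = 1 := by
    intro e he
    obtain ⟨i, j, rfl⟩ := hclo e he
    rw [(hxa.symm.zpow_zpow i j).mul_pow, ← zpow_natCast, ← zpow_mul, mul_comm, zpow_mul,
      zpow_natCast, ← ha₀o, pow_orderOf_eq_one, one_zpow, one_mul, ← zpow_natCast, ← zpow_mul,
      mul_comm, zpow_mul, zpow_natCast, ha₀o, hxp, one_zpow]
  have hmem : ∀ e ∈ N, e ^ p = 1 → e ∈ E := by
    intro e he hep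
    obtain ⟨j, c, hc, rfl⟩ := hgenN x hxN hxC e he
    obtain ⟨m, rfl⟩ := hgen c hc
    refine mul_mem (mem_sup_right (zpow_mem (mem_zpowers x) j)) (mem_sup_left ?_)
    rw [(key _ (zpow_mem hxN j) m).1, ← zpow_natCast (x ^ j), ← zpow_mul, mul_comm j, zpow_mul,
      zpow_natCast, hxp, one_zpow, one_mul, ← orderOf_dvd_iff_zpow_eq_one, hk, Nat.cast_pow, pow_succ] at hep
    obtain ⟨t, ht⟩ := Int.dvd_of_mul_dvd_mul_right (Int.natCast_ne_zero.2 hp.ne_zero) hep
    exact ⟨t, by show a₀ ^ t = _; rw [ha₀, ← zpow_mul, ← ht]⟩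
  have hEN : E ≤ N := sup_le (zpowers_le.2 (zpow_mem (hCN.le haC) _)) (zpowers_le.2 hxN)
  refine ⟨E, ⟨fun e he w => hmem _ (hN.conj_mem _ (hEN he) w) (by rw [conj_pow, hEexp e he, mul_one, mul_inv_cancel])⟩,
    ?_, hEab, hEexp⟩
  have h1 := Cfsg.Agent.Solv.card_sup_mul_card_inf (zpowers a₀) (zpowers x) hEnorm
  have hxo : orderOf x = p := orderOf_eq_prime hxp fun h => hxC (h ▸ one_mem C)
  have hd : zpowers a₀ ⊓ zpowers x = ⊥ := by
    rw [eq_bot_iff]
    rintro w ⟨hw1, hw2⟩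
    by_contra hw
    rw [mem_bot] at hw
    have h2 : zpowers w = zpowers x := eq_of_le_of_card_ge (zpowers_le.2 hw2) (by
      rw [Nat.card_zpowers, Nat.card_zpowers, hxo, orderOf_eq_prime (p := p)
        (hEexp w (mem_sup_left hw1)) hw])
    exact hxC ((zpowers_le.2 (zpow_mem haC _) : zpowers a₀ ≤ C)
      ((zpowers_le.2 hw1) (h2 ▸ mem_zpowers x)))
  rw [hd, card_bot, mul_one, Nat.card_zpowers, Nat.card_zpowers, ha₀o, hxo] at h1
  rw [h1, pow_two]

/-- Multiplication by an element of a normal elementary subgroup of order `p ^ 2` keeps `p`th powers. -/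
theorem mul_pow_prime_eq {P : Type*} [Group P] [Finite P] {p : ℕ} [hpf : Fact p.Prime]
    (hP : IsPGroup p P) (hp2 : p ≠ 2) (E : Subgroup P) [hE : E.Normal] (hcard : Nat.card E = p ^ 2)
    (_hab : ∀ a ∈ E, ∀ b ∈ E, a * b = b * a) (hexp : ∀ e ∈ E, e ^ p = 1) (x e : P) (he : e ∈ E) :
    (x * e) ^ p = x ^ p := by
  have hp : p.Prime := hpf.out
  have htop : Group.IsNilpotent (⊤ : Subgroup P) := Group.isNilpotent_top.2 hP.isNilpotent
  have hlt : ∀ U : Subgroup P, U.Normal → U ≠ ⊥ → ⁅U, (⊤ : Subgroup P)⁆ < U := fun U hU hUb =>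
    Cfsg.Agent.Solv.commutator_lt_of_nilpotent htop le_top (by rw [normalizer_eq_top]) hUb
  have hEb : E ≠ ⊥ := fun h => by
    rw [h, card_bot] at hcard
    exact (Nat.one_lt_pow two_ne_zero hp.one_lt).ne hcard
  set Z := ⁅E, (⊤ : Subgroup P)⁆ with hZ
  have hZ0 : ⁅Z, (⊤ : Subgroup P)⁆ = ⊥ := by
    by_cases hZb : Z = ⊥
    · rw [hZb, commutator_bot_left]
    have h1 := hlt Z inferInstance hZb
    have h2 := hlt E hE hEb
    obtain ⟨i, hi⟩ := IsPGroup.iff_card.1 (hP.to_subgroup Z)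
    obtain ⟨j, hj⟩ := IsPGroup.iff_card.1 (hP.to_subgroup ⁅Z, (⊤ : Subgroup P)⁆)
    have hi2 : i < 2 := by
      have h3 : Nat.card Z < Nat.card E :=
        lt_of_le_of_ne (card_le_of_le h2.le) fun h => h2.ne (eq_of_le_of_card_ge h2.le h.ge)
      rw [hi, hcard] at h3
      exact (Nat.pow_lt_pow_iff_right hp.one_lt).1 h3
    have hj1 : j < i := by
      have h3 : Nat.card ↥⁅Z, (⊤ : Subgroup P)⁆ < Nat.card Z :=
        lt_of_le_of_ne (card_le_of_le h1.le) fun h => h1.ne (eq_of_le_of_card_ge h1.le h.ge)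
      rw [hi, hj] at h3
      exact (Nat.pow_lt_pow_iff_right hp.one_lt).1 h3
    exact eq_bot_of_card_eq _ (by rw [hj, show j = 0 by omega, pow_zero])
  set c := e⁻¹ * x⁻¹ * e * x with hc
  have hcZ : c ∈ Z := by
    have := commutator_mem_commutator (H₁ := E) (H₂ := (⊤ : Subgroup P)) (inv_mem he) (mem_top x⁻¹)
    simpa [commutatorElement_def, hc] using this
  have hcx : ∀ w : P, c * w = w * c := fun w =>
    (commutatorElement_eq_one_iff_mul_comm.1 (mem_bot.1 (hZ0 ▸ commutator_mem_commutator hcZ (mem_top w))))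
  have hswap : e * x = x * e * c := by
    have h1 : e * x = x * (x⁻¹ * e * x * e⁻¹) * e := by group
    have h2 : x⁻¹ * e * x * e⁻¹ = e * c * e⁻¹ := by rw [hc]; group
    rw [h1, h2, ← hcx e, mul_inv_cancel_right, mul_assoc, hcx e]
    group
  rw [Cfsg.Agent.Local.mul_pow_of_commutator hswap (hcx x) (hcx e) p, hexp e he, mul_one]
  obtain ⟨t, ht⟩ : p ∣ p.choose 2 :=
    hp.dvd_choose_self two_ne_zero (lt_of_le_of_ne hp.two_le (Ne.symm hp2))
  have hcE : c ∈ E := (commutator_le_left E (⊤ : Subgroup P)) hcZ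
  rw [ht, pow_mul, hexp c hcE, one_pow, mul_one]

end Cfsg.Agent.Struct
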