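/-
Subgroups consisting of all π-elements, and transport of them along equal order types.
-/
import Mathlib.GroupTheory.Sylow
import Mathlib.GroupTheory.SchurZassenhaus
import Mathlib.GroupTheory.Nilpotent
import Mathlib.GroupTheory.SpecificGroups.Cyclic
import Mathlib.GroupTheory.Solvable
import Mathlib.RingTheory.IntegralDomain
import Mathlib.Data.Nat.Factorization.Basic

set_option autoImplicit false

namespace Cfsg.Agent.Struct

/-- Every prime divisor of the order of `x` satisfies `π`. -/
def IsPiElt {G : Type*} [Monoid G] (π : ℕ → Prop) (x : G) : Prop :=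
  ∀ p : ℕ, p.Prime → p ∣ orderOf x → π p

/-- `L` is exactly the set of π-elements. -/
def IsPiEltSubgroup {G : Type*} [Group G] (π : ℕ → Prop) (L : Subgroup G) : Prop :=
  ∀ x : G, x ∈ L ↔ IsPiElt π x

variable {G : Type*} [Group G] {π : ℕ → Prop}

theorem isPiElt_map {H : Type*} [Group H] (f : G →* H) {x : G} (hx : IsPiElt π x) :
    IsPiElt π (f x) :=
  fun p hp hd => hx p hp (hd.trans (orderOf_map_dvd f x))

theorem isPiElt_conj {x : G} {g : G} (hx : IsPiElt π x) : IsPiElt π (g * x * g⁻¹) := by
  simpa [MulAut.conj_apply] using isPiElt_map (MulAut.conj g).toMonoidHom hx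

theorem IsPiEltSubgroup.normal {L : Subgroup G} (hL : IsPiEltSubgroup π L) : L.Normal :=
  ⟨fun x hx g => (hL _).2 (isPiElt_conj ((hL x).1 hx))⟩

theorem IsPiEltSubgroup.map_factorization [Finite G] {L : Subgroup G}
    (hL : IsPiEltSubgroup π L) {p : ℕ} (hp : p.Prime) :
    (π p → (Nat.card L).factorization p = (Nat.card G).factorization p) ∧
      (¬ π p → (Nat.card L).factorization p = 0) := by
  have := Fact.mk hp
  refine ⟨fun hπ => ?_, fun hπ => ?_⟩
  · obtain ⟨P⟩ := (inferInstance : Nonempty (Sylow p G))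
    have hPL : (P : Subgroup G) ≤ L := by
      intro x hx
      refine (hL x).2 fun r hr hrd => ?_
      have h1 : orderOf x ∣ p ^ (Nat.card G).factorization p := by
        rw [← P.card_eq_multiplicity]; exact Subgroup.orderOf_dvd_natCard _ hx
      have h2 : r = p := (Nat.prime_dvd_prime_iff_eq hr hp).1 (hr.dvd_of_dvd_pow (hrd.trans h1))
      rwa [h2]
    refine le_antisymm ?_ ?_
    · exact (Nat.factorization_le_iff_dvd Nat.card_pos.ne' Nat.card_pos.ne').2
        (Subgroup.card_subgroup_dvd_card L) p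
    · have hd := Subgroup.card_dvd_of_le hPL
      rw [P.card_eq_multiplicity] at hd
      exact (hp.pow_dvd_iff_le_factorization Nat.card_pos.ne').1 hd
  · by_contra hne
    have hdvd : p ∣ Nat.card L := Nat.dvd_of_factorization_pos hne
    obtain ⟨⟨x, hx⟩, hord⟩ := exists_prime_orderOf_dvd_card' p hdvd
    rw [Subgroup.orderOf_mk] at hord
    exact hπ ((hL x).1 hx p hp (by rw [hord]))

theorem card_eq_of_order_type {H : Type*} [Group H] [Finite G] [Finite H]
    (hT : ∀ m : ℕ, Nat.card {g : G // orderOf g = m} = Nat.card {h : H // orderOf h = m})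
    (Q : ℕ → Prop) :
    Nat.card {g : G // Q (orderOf g)} = Nat.card {h : H // Q (orderOf h)} := by
  have e : {g : G // Q (orderOf g)} ≃ {h : H // Q (orderOf h)} := by
    refine (Equiv.sigmaFiberEquiv (fun g : {g : G // Q (orderOf g)} => orderOf g.1)).symm.trans
      ((Equiv.sigmaCongrRight fun m => ?_).trans
        (Equiv.sigmaFiberEquiv (fun h : {h : H // Q (orderOf h)} => orderOf h.1)))
    by_cases hm : Q m
    · refine ((Equiv.subtypeSubtypeEquivSubtype (p := fun g : G => Q (orderOf g))
        (q := fun g : G => orderOf g = m) (fun {g} hg => hg ▸ hm)).trans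
        ((Finite.card_eq.1 (hT m)).some)).trans
        (Equiv.subtypeSubtypeEquivSubtype (p := fun h : H => Q (orderOf h))
        (q := fun h : H => orderOf h = m) (fun {h} hh => hh ▸ hm)).symm
    · have h1 : IsEmpty {a : {g : G // Q (orderOf g)} // orderOf a.1 = m} :=
        ⟨fun a => hm (a.2 ▸ a.1.2)⟩
      have h2 : IsEmpty {a : {h : H // Q (orderOf h)} // orderOf a.1 = m} :=
        ⟨fun a => hm (a.2 ▸ a.1.2)⟩
      exact Equiv.equivOfIsEmpty _ _
  exact Nat.card_congr e

theorem card_group_eq_of_order_type {H : Type*} [Group H] [Finite G] [Finite H]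
    (hT : ∀ m : ℕ, Nat.card {g : G // orderOf g = m} = Nat.card {h : H // orderOf h = m}) :
    Nat.card G = Nat.card H := by
  have h := card_eq_of_order_type hT (fun _ => True)
  rwa [Nat.card_congr (Equiv.subtypeUnivEquiv (fun _ : G => trivial)),
    Nat.card_congr (Equiv.subtypeUnivEquiv (fun _ : H => trivial))] at h

/-- If `K` consists of the π'-elements (π' = π without `q`) of `H` and the π-elements are as many as in a
group of the same order having a subgroup of all π-elements, then `H` has such a subgroup, `K ⊔ Q`. -/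
theorem piEltSubgroup_step {H : Type*} [Group H] [Finite G] [Finite H] {π' : ℕ → Prop} {q : ℕ}
    [Fact q.Prime] (hππ : ∀ p : ℕ, p.Prime → (π p ↔ π' p ∨ p = q)) (hq : ¬ π' q)
    (hT : ∀ m : ℕ, Nat.card {g : G // orderOf g = m} = Nat.card {h : H // orderOf h = m})
    (L : Subgroup G) (hL : IsPiEltSubgroup π L)
    (K : Subgroup H) (hK : IsPiEltSubgroup π' K) (Q : Sylow q H) :
    IsPiEltSubgroup π (K ⊔ (Q : Subgroup H)) ∧
      Nat.card ↥(K ⊔ (Q : Subgroup H)) = Nat.card K * Nat.card Q := by
  have hKn : K.Normal := hK.normal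
  have hqπ : π q := (hππ q Fact.out).2 (Or.inr rfl)
  have hcq : (Nat.card K).factorization q = 0 := (hK.map_factorization Fact.out).2 hq
  have hcop : (Nat.card K).Coprime (Nat.card Q) := by
    rw [Q.card_eq_multiplicity]
    refine Nat.Coprime.pow_right _ ((Nat.Prime.coprime_iff_not_dvd Fact.out).2 ?_).symm
    intro hd
    exact absurd hcq (Nat.Prime.factorization_pos_of_dvd Fact.out Nat.card_pos.ne' hd).ne'
  have hrel : K.relIndex (K ⊔ (Q : Subgroup H)) = Nat.card Q := by
    rw [sup_comm, Subgroup.relIndex_sup_right]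
    have h1 : K ⊓ (Q : Subgroup H) = ⊥ :=
      Subgroup.inf_eq_bot_of_coprime hcop
    have h2 := Subgroup.relIndex_inf_mul_relIndex (H := (⊥ : Subgroup H)) (K := K) (L := (Q : Subgroup H))
    rw [← Subgroup.inf_relIndex_right, h1, Subgroup.relIndex_bot_left]
  have hcard : Nat.card ↥(K ⊔ (Q : Subgroup H)) = Nat.card K * Nat.card Q := by
    rw [← hrel]
    have h2 : (K.subgroupOf (K ⊔ (Q : Subgroup H))).index * Nat.card (K.subgroupOf (K ⊔ (Q : Subgroup H))) =
        Nat.card ↥(K ⊔ (Q : Subgroup H)) := Subgroup.index_mul_card _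
    rw [← h2, Nat.card_congr (Subgroup.subgroupOfEquivOfLe le_sup_left).toEquiv, mul_comm]
    rfl
  have hGH := card_group_eq_of_order_type hT
  have hcard' : Nat.card ↥(K ⊔ (Q : Subgroup H)) = Nat.card L := by
    rw [hcard]
    apply Nat.eq_of_factorization_eq (Nat.mul_ne_zero Nat.card_pos.ne' Nat.card_pos.ne') Nat.card_pos.ne'
    intro p
    by_cases hp : p.Prime
    · have := Fact.mk hp
      rw [Nat.factorization_mul Nat.card_pos.ne' Nat.card_pos.ne', Finsupp.add_apply,
        Q.card_eq_multiplicity, Nat.Prime.factorization_pow Fact.out]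
      by_cases hpq : p = q
      · subst hpq
        rw [(hL.map_factorization hp).1 hqπ, hcq, hGH]; simp
      · rw [Finsupp.single_eq_of_ne hpq, add_zero]
        by_cases hπp : π' p
        · rw [(hK.map_factorization hp).1 hπp, (hL.map_factorization hp).1 ((hππ p hp).2 (Or.inl hπp)), hGH]
        · rw [(hK.map_factorization hp).2 hπp, (hL.map_factorization hp).2]
          intro h
          rcases (hππ p hp).1 h with h | h
          · exact hπp h
          · exact hpq h
    · rw [Nat.factorization_eq_zero_of_not_prime _ hp, Nat.factorization_eq_zero_of_not_prime _ hp]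
  refine ⟨?_, hcard⟩
  have hsub : ((K ⊔ (Q : Subgroup H) : Subgroup H) : Set H) ⊆ {x : H | IsPiElt π x} := by
    intro x hx p hp hd
    have h1 : p ∣ Nat.card K * Nat.card Q := hcard ▸ hd.trans (Subgroup.orderOf_dvd_natCard _ hx)
    rcases hp.dvd_mul.1 h1 with h | h
    · refine (hππ p hp).2 (Or.inl ?_)
      by_contra hπp
      exact absurd ((hK.map_factorization hp).2 hπp)
        (hp.factorization_pos_of_dvd Nat.card_pos.ne' h).ne'
    · rw [Q.card_eq_multiplicity] at h
      exact (hππ p hp).2 (Or.inr ((Nat.prime_dvd_prime_iff_eq hp Fact.out).1 (hp.dvd_of_dvd_pow h)))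
  have hcount : Nat.card {x : H // IsPiElt π x} = Nat.card L := by
    have h := card_eq_of_order_type hT (fun m => ∀ p : ℕ, p.Prime → p ∣ m → π p)
    exact h.symm.trans (Nat.card_congr (Equiv.subtypeEquivRight fun x => (hL x).symm))
  have heq : ((K ⊔ (Q : Subgroup H) : Subgroup H) : Set H) = {x : H | IsPiElt π x} := by
    refine Set.eq_of_subset_of_ncard_le hsub ?_ (Set.toFinite _)
    rw [← Nat.card_coe_set_eq, ← Nat.card_coe_set_eq]
    exact (hcount.trans hcard'.symm).le
  intro x
  exact Set.ext_iff.1 heq x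

end Cfsg.Agent.Struct

namespace Cfsg.Agent.Struct

/-- Lift a subgroup of all π-elements through a normal subgroup of prime order. -/
theorem piEltSubgroup_lift {G : Type*} [Group G] [Finite G] {π : ℕ → Prop} {q : ℕ} (hq : q.Prime)
    (N : Subgroup G) [N.Normal] (hN : Nat.card N = q)
    (hsmall : ¬ π q → ∀ p : ℕ, p.Prime → π p → ¬ p ∣ q - 1)
    (L : Subgroup (G ⧸ N)) (hL : IsPiEltSubgroup π L) :
    ∃ L' : Subgroup G, IsPiEltSubgroup π L' := by
  have := Fact.mk hq
  have hmem : ∀ x : G, IsPiElt π x → (x : G ⧸ N) ∈ L := fun x hx =>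
    (hL _).2 (isPiElt_map (QuotientGroup.mk' N) hx)
  by_cases hπ : π q
  · refine ⟨L.comap (QuotientGroup.mk' N), fun x => ⟨fun hx p hp hd => ?_, hmem x⟩⟩
    have h1 : orderOf x ∣ orderOf (x : G ⧸ N) * q := by
      apply orderOf_dvd_of_pow_eq_one
      rw [pow_mul]
      have h2 : x ^ orderOf (x : G ⧸ N) ∈ N := by
        rw [← QuotientGroup.eq_one_iff, QuotientGroup.mk_pow, pow_orderOf_eq_one]
      have h3 : (⟨_, h2⟩ : N) ^ q = 1 := hN ▸ pow_card_eq_one'
      exact congrArg Subtype.val h3
    rcases hp.dvd_mul.1 (hd.trans h1) with h | h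
    · exact (hL _).1 hx p hp h
    · exact (Nat.prime_dvd_prime_iff_eq hp hq).1 h ▸ hπ
  · -- the preimage is a direct product of N and the subgroup wanted
    set L₁ := L.comap (QuotientGroup.mk' N) with hL₁
    have hNL : N ≤ L₁ := by
      intro n hn
      simp [hL₁, (QuotientGroup.eq_one_iff n).2 hn]
    have hNcard : Nat.card (N.subgroupOf L₁) = q := by
      rw [Nat.card_congr (Subgroup.subgroupOfEquivOfLe hNL).toEquiv, hN]
    have hidx : (N.subgroupOf L₁).index = Nat.card L := by
      have h := Subgroup.relIndex_map_map (H := N) (K := L₁) (f := QuotientGroup.mk' N)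
      rw [hL₁, Subgroup.map_comap_eq_self_of_surjective (QuotientGroup.mk'_surjective N),
        QuotientGroup.map_mk'_self, Subgroup.relIndex_bot_left, QuotientGroup.ker_mk'] at h
      rw [h, sup_idem, sup_eq_left.2 hNL]
      rfl
    have hLq : ¬ q ∣ Nat.card L := by
      intro hd
      exact absurd ((hL.map_factorization hq).2 hπ)
        (hq.factorization_pos_of_dvd Nat.card_pos.ne' hd).ne'
    obtain ⟨C, hC⟩ := Subgroup.exists_right_complement'_of_coprime (N := N.subgroupOf L₁)
      (by rw [hNcard, hidx]; exact hq.coprime_iff_not_dvd.2 hLq)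
    have hCcard : Nat.card C = Nat.card L := by
      rw [← hidx]; exact hC.symm.index_eq_card.symm
    -- C centralizes N
    have hcyc : IsCyclic N := isCyclic_of_prime_card hN
    have hcent : ∀ c : ↥L₁, c ∈ C → ∀ n ∈ N, Commute (c : G) n := by
      intro c hc n hn
      let φ : MulAut N := MulAut.conjNormal (H := N) (c : G)
      have h1 : orderOf φ ∣ q - 1 := by
        have h := orderOf_dvd_natCard φ
        rwa [IsCyclic.card_mulAut, hN, Nat.totient_prime hq] at h
      have h2 : orderOf φ ∣ Nat.card L := by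
        refine (orderOf_map_dvd _ (c : G)).trans ?_
        rw [← hCcard, Subgroup.orderOf_coe]
        exact Subgroup.orderOf_dvd_natCard _ hc
      have h3 : φ = 1 := by
        rw [← orderOf_eq_one_iff]
        refine Nat.eq_one_of_dvd_coprimes (a := q - 1) (b := Nat.card L) ?_ h1 h2
        rw [Nat.coprime_iff_gcd_eq_one]
        by_contra hne
        obtain ⟨p, hp, hpd⟩ := Nat.exists_prime_and_dvd hne
        refine hsmall hπ p hp ?_ (hpd.trans (Nat.gcd_dvd_left _ _))
        by_contra hπp
        exact absurd ((hL.map_factorization hp).2 hπp)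
          (hp.factorization_pos_of_dvd Nat.card_pos.ne' (hpd.trans (Nat.gcd_dvd_right _ _))).ne'
      have h4 : (φ ⟨n, hn⟩ : G) = n := by rw [h3]; rfl
      have h5 : (c : G) * n * (c : G)⁻¹ = n := h4
      rw [Commute, SemiconjBy]
      exact mul_inv_eq_iff_eq_mul.1 h5
    refine ⟨C.map L₁.subtype, fun x => ⟨?_, fun hx => ?_⟩⟩
    · rintro ⟨c, hc, rfl⟩ p hp hd
      have h : p ∣ Nat.card L := by
        rw [← hCcard]
        refine hd.trans ?_
        rw [Subgroup.coe_subtype, Subgroup.orderOf_coe]
        exact Subgroup.orderOf_dvd_natCard _ hc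
      by_contra hπp
      exact absurd ((hL.map_factorization hp).2 hπp)
        (hp.factorization_pos_of_dvd Nat.card_pos.ne' h).ne'
    · have hxL : x ∈ L₁ := hmem x hx
      obtain ⟨⟨⟨n, hn⟩, ⟨c, hc⟩⟩, hnc⟩ := hC.2 ⟨x, hxL⟩
      have hnN : (n : G) ∈ N := hn
      have hx' : (n : G) * (c : G) = x := congrArg Subtype.val hnc
      have hcomm : Commute (n : G) (c : G) := (hcent c hc _ hnN).symm
      have hck : (c : G) ^ Nat.card L = 1 := by
        rw [← hCcard, ← orderOf_dvd_iff_pow_eq_one, Subgroup.orderOf_coe]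
        exact Subgroup.orderOf_dvd_natCard _ hc
      have hxpow : x ^ Nat.card L = (n : G) ^ Nat.card L := by
        rw [← hx', hcomm.mul_pow, hck, mul_one]
      have hdq : orderOf x ∣ Nat.card L * q := by
        apply orderOf_dvd_of_pow_eq_one
        rw [pow_mul, hxpow]
        exact congrArg Subtype.val (show (⟨_, N.pow_mem hnN _⟩ : N) ^ q = 1 from hN ▸ pow_card_eq_one')
      have hxq : orderOf x ∣ Nat.card L := by
        refine Nat.Coprime.dvd_of_dvd_mul_right ?_ hdq
        refine (hq.coprime_iff_not_dvd.2 ?_).symm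
        exact fun hd => hπ (hx q hq hd)
      have hn1 : (n : G) = 1 := by
        rw [← orderOf_eq_one_iff]
        refine Nat.eq_one_of_dvd_coprimes (hq.coprime_iff_not_dvd.2 hLq)
          (hN ▸ Subgroup.orderOf_dvd_natCard _ hnN) ?_
        exact orderOf_dvd_of_pow_eq_one (hxpow ▸ orderOf_dvd_iff_pow_eq_one.1 hxq)
      exact ⟨c, hc, by simpa [hn1] using hx'⟩

end Cfsg.Agent.Struct
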