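import Mathlib

/-!
Counting the solutions of `g ^ d = 1` in products and in semidirect products of abelian groups: tools for
building groups of a prescribed order type.
-/

set_option autoImplicit false
set_option linter.style.haveILetI false

namespace Cfsg.Agent.Struct.OrderTypeCount

/-- Number of solutions of `g ^ d = 1`. -/
noncomputable def N (G : Type) [Monoid G] (d : ℕ) : ℕ := Nat.card {g : G // g ^ d = 1}

theorem N_prod (A B : Type) [Monoid A] [Monoid B] (d : ℕ) : N (A × B) d = N A d * N B d := by
  unfold N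
  rw [← Nat.card_prod]
  exact Nat.card_congr
    { toFun := fun x => (⟨x.1.1, congrArg Prod.fst x.2⟩, ⟨x.1.2, congrArg Prod.snd x.2⟩)
      invFun := fun x => ⟨(x.1.1, x.2.1), Prod.ext x.1.2 x.2.2⟩
      left_inv := fun _ => rfl
      right_inv := fun _ => rfl }

theorem N_pow (A : Type) [Monoid A] (n d : ℕ) : N (Fin n → A) d = N A d ^ n := by
  unfold N
  rw [show Nat.card {g : A // g ^ d = 1} ^ n = Nat.card (Fin n → {g : A // g ^ d = 1}) by
    rw [Nat.card_fun, Nat.card_fin]]
  exact Nat.card_congr
    { toFun := fun x i => ⟨x.1 i, congrFun x.2 i⟩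
      invFun := fun x => ⟨fun i => (x i).1, funext fun i => (x i).2⟩
      left_inv := fun _ => rfl
      right_inv := fun _ => rfl }

/-- A finite group with known solution counts at the divisors of `E`. -/
structure Fac (E : ℕ) : Type 1 where
  G : Type
  [grp : Group G]
  [fin : Finite G]
  cnt : ℕ → ℕ
  card : ℕ
  hcnt : ∀ d, d ∣ E → N G d = cnt d
  hcard : Nat.card G = card

attribute [instance] Fac.grp Fac.fin

variable {E : ℕ}

def Fac.prod (X Y : Fac E) : Fac E where
  G := X.G × Y.G
  cnt d := X.cnt d * Y.cnt d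
  card := X.card * Y.card
  hcnt d hd := by rw [N_prod, X.hcnt d hd, Y.hcnt d hd]
  hcard := by rw [Nat.card_prod, X.hcard, Y.hcard]

def Fac.pow (X : Fac E) (n : ℕ) : Fac E where
  G := Fin n → X.G
  cnt d := X.cnt d ^ n
  card := X.card ^ n
  hcnt d hd := by rw [N_pow, X.hcnt d hd]
  hcard := by rw [Nat.card_fun, Nat.card_fin, X.hcard]

theorem isSolvable_pi {A : Type} [Group A] (h : Group.IsSolvable A) : ∀ n : ℕ, Group.IsSolvable (Fin n → A) := by
  intro n
  induction n with
  | zero => infer_instance
  | succ n ih =>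
    let f : (Fin (n + 1) → A) →* A × (Fin n → A) :=
      { toFun := fun x => (x 0, fun i => x i.succ)
        map_one' := rfl
        map_mul' := fun _ _ => rfl }
    have hf : Function.Injective f := fun x y hxy => by
      simp only [f, MonoidHom.coe_mk, OneHom.coe_mk, Prod.mk.injEq] at hxy
      funext i
      refine Fin.cases hxy.1 (fun j => congrFun hxy.2 j) i
    haveI := h
    haveI := ih
    exact Group.isSolvable_of_isSolvable_injective hf

theorem Fac.solvable_pow {X : Fac E} (h : Group.IsSolvable X.G) (n : ℕ) : Group.IsSolvable (X.pow n).G :=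
  isSolvable_pi h n

theorem Fac.solvable_prod {X Y : Fac E} (hX : Group.IsSolvable X.G) (hY : Group.IsSolvable Y.G) :
    Group.IsSolvable (X.prod Y).G := by
  haveI := hX
  haveI := hY
  exact (inferInstance : Group.IsSolvable (X.G × Y.G))

/-- Two such groups have the same number of elements of every order. -/
theorem Fac.sameType {X Y : Fac E} (hE : 0 < E) (h : ∀ d ∈ E.divisors, X.cnt d = Y.cnt d)
    (hX : X.cnt E = X.card) (hY : Y.cnt E = Y.card) :
    ∀ n : ℕ, Nat.card {g : X.G // orderOf g = n} = Nat.card {g : Y.G // orderOf g = n} := by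
  have expo : ∀ (Z : Fac E), Z.cnt E = Z.card → ∀ g : Z.G, g ^ E = 1 := by
    intro Z hZ g
    have h1 : Nat.card {g : Z.G // g ^ E = 1} = Nat.card Z.G := by
      rw [Z.hcard, ← hZ]; exact Z.hcnt E dvd_rfl
    obtain ⟨⟨g', hg'⟩, hge⟩ := (Function.Injective.bijective_of_nat_card_le
      (f := (Subtype.val : {g : Z.G // g ^ E = 1} → Z.G)) Subtype.val_injective h1.ge).2 g
    exact hge ▸ hg'
  have red : ∀ (Z : Fac E), Z.cnt E = Z.card → ∀ d, N Z.G d = Z.cnt (Nat.gcd d E) := by
    intro Z hZ d
    rw [← Z.hcnt _ (Nat.gcd_dvd_right d E)]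
    refine Nat.card_congr (Equiv.subtypeEquivRight fun g => ?_)
    rw [← orderOf_dvd_iff_pow_eq_one, ← orderOf_dvd_iff_pow_eq_one]
    exact ⟨fun hd => Nat.dvd_gcd hd (orderOf_dvd_of_pow_eq_one (expo Z hZ g)), fun hd => hd.trans (Nat.gcd_dvd_left d E)⟩
  have heq : ∀ d, N X.G d = N Y.G d := fun d => by
    rw [red X hX, red Y hY]
    exact h _ (Nat.mem_divisors.2 ⟨Nat.gcd_dvd_right d E, hE.ne'⟩)
  have hsum : ∀ (Z : Fac E) (d : ℕ), d ≠ 0 →
      N Z.G d = ∑ k ∈ d.divisors, Nat.card {g : Z.G // orderOf g = k} := by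
    intro Z d hd
    classical
    haveI := Fintype.ofFinite Z.G
    unfold N
    simp only [Nat.card_eq_fintype_card, Fintype.card_subtype]
    rw [Finset.card_eq_sum_card_fiberwise (f := orderOf) (t := d.divisors)]
    · refine Finset.sum_congr rfl fun k hk => ?_
      congr 1
      ext g
      simp only [Finset.mem_filter, Finset.mem_univ, true_and]
      exact ⟨fun hg => hg.2, fun hg => ⟨orderOf_dvd_iff_pow_eq_one.1 (hg ▸ Nat.dvd_of_mem_divisors hk), hg⟩⟩
    · intro g hg
      simp only [Finset.mem_coe, Finset.mem_filter] at hg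
      exact Nat.mem_divisors.2 ⟨orderOf_dvd_of_pow_eq_one hg.2, hd⟩
  intro n
  induction n using Nat.strong_induction_on with
  | _ n ih =>
  rcases Nat.eq_zero_or_pos n with rfl | hn
  · rw [Nat.card_eq_zero.2 (Or.inl ⟨fun g => (orderOf_pos g.1).ne' g.2⟩),
      Nat.card_eq_zero.2 (Or.inl ⟨fun g => (orderOf_pos g.1).ne' g.2⟩)]
  · have h1 := hsum X n hn.ne'
    have h2 := hsum Y n hn.ne'
    rw [← Nat.cons_self_properDivisors hn.ne', Finset.sum_cons] at h1 h2
    have h3 : ∑ k ∈ n.properDivisors, Nat.card {g : X.G // orderOf g = k} =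
        ∑ k ∈ n.properDivisors, Nat.card {g : Y.G // orderOf g = k} :=
      Finset.sum_congr rfl fun k hk => ih k (Nat.mem_properDivisors.1 hk).2
    have := heq n
    omega

section Semi

/-- An action on an abelian group with known norm kernels. -/
structure Act (H : Type) [AddCommGroup H] : Type 1 where
  M : Type
  [acg : AddCommGroup M]
  [fin : Finite M]
  act : H → M →+ M
  act_zero : ∀ v, act 0 v = v
  act_add : ∀ h k v, act (h + k) v = act h (act k v)
  K : H → ℕ → ℕ
  size : ℕ
  hK : ∀ (h : H) (d : ℕ), d • h = 0 →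
    Nat.card {v : M // ∑ j ∈ Finset.range d, act (j • h) v = 0} = K h d
  hsize : Nat.card M = size

attribute [instance] Act.acg Act.fin

variable {H : Type} [AddCommGroup H]

def Act.one (H : Type) [AddCommGroup H] : Act H where
  M := PUnit
  act _ := AddMonoidHom.id _
  act_zero _ := rfl
  act_add _ _ _ := rfl
  K _ _ := 1
  size := 1
  hK h d _ := by
    rw [Nat.card_eq_one_iff_unique]
    exact ⟨⟨fun _ _ => Subtype.ext rfl⟩, ⟨⟨0, rfl⟩⟩⟩
  hsize := by simp

def Act.prod (X Y : Act H) : Act H where
  M := X.M × Y.M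
  act h := (X.act h).prodMap (Y.act h)
  act_zero v := Prod.ext (X.act_zero v.1) (Y.act_zero v.2)
  act_add h k v := Prod.ext (X.act_add h k v.1) (Y.act_add h k v.2)
  K h d := X.K h d * Y.K h d
  size := X.size * Y.size
  hK h d hd := by
    rw [← X.hK h d hd, ← Y.hK h d hd, ← Nat.card_prod]
    refine Nat.card_congr
      { toFun := fun x => (⟨x.1.1, ?_⟩, ⟨x.1.2, ?_⟩)
        invFun := fun x => ⟨(x.1.1, x.2.1), ?_⟩
        left_inv := fun _ => rfl
        right_inv := fun _ => rfl }
    · have := congrArg Prod.fst x.2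
      simpa [Prod.fst_sum] using this
    · have := congrArg Prod.snd x.2
      simpa [Prod.snd_sum] using this
    · refine Prod.ext ?_ ?_
      · simpa [Prod.fst_sum] using x.1.2
      · simpa [Prod.snd_sum] using x.2.2
  hsize := by rw [Nat.card_prod, X.hsize, Y.hsize]

theorem exponent_zero {H : Type} [AddCommGroup H] {m : ℕ} (hm : 0 < m) (e : H → ℕ)
    (he : ∀ h k, e (h + k) % m = (e h + e k) % m) : e 0 % m = 0 := by
  have h0 := he 0 0
  rw [add_zero, Nat.add_mod] at h0
  have hlt := Nat.mod_lt (e 0) hm
  rcases Nat.lt_or_ge (e 0 % m + e 0 % m) m with h | h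
  · rw [Nat.mod_eq_of_lt h] at h0; omega
  · rw [Nat.mod_eq_sub_mod h, Nat.mod_eq_of_lt (show e 0 % m + e 0 % m - m < m by omega)] at h0; omega

/-- A module of exponent `q` on which `H` acts through powers of a fixed-point-free map `f` of order `m`. -/
def Act.ofMap (M : Type) [AddCommGroup M] [Finite M] (q Q m : ℕ) (f : M →+ M) (e : H → ℕ)
    (hq : q.Prime) (hQ : Nat.card M = Q) (hexp : ∀ v : M, q • v = 0)
    (hf : ∀ v, f^[m] v = v) (hfree : ∀ j < m, j ≠ 0 → ∀ v, f^[j] v = v → v = 0)
    (he : ∀ h k, e (h + k) % m = (e h + e k) % m) (hm : 0 < m) : Act H where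
  M := M
  act h :=
    { toFun := f^[e h % m]
      map_zero' := iterate_map_zero f _
      map_add' := iterate_map_add f _ }
  act_zero v := by
    have h1 := exponent_zero hm e he
    show f^[e 0 % m] v = v
    rw [h1]; rfl
  act_add h k v := by
    show f^[e (h + k) % m] v = f^[e h % m] (f^[e k % m] v)
    rw [← Function.iterate_add_apply, he, Nat.add_mod]
    set s := e h % m + e k % m
    conv_rhs => rw [← Nat.mod_add_div s m, Function.iterate_add_apply, Function.iterate_mul,
      Function.iterate_fixed (hf v)]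
  K h d := if e h % m = 0 then (if q ∣ d then Q else 1) else Q
  size := Q
  hsize := hQ
  hK h d hd := by
    let T : M → M := f^[e h % m]
    have hpow : ∀ (j : ℕ) (v : M), f^[e (j • h) % m] v = T^[j] v := by
      intro j
      induction j with
      | zero =>
        intro v
        have h1 := exponent_zero hm e he
        rw [zero_smul, h1]
        rfl
      | succ j ih =>
        intro v
        rw [succ_nsmul, he, Nat.add_mod, Function.iterate_succ_apply, ← ih (T v)]
        show _ = f^[e (j • h) % m] (f^[e h % m] v)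
        rw [← Function.iterate_add_apply]
        set s := e (j • h) % m + e h % m
        conv_rhs => rw [← Nat.mod_add_div s m, Function.iterate_add_apply, Function.iterate_mul,
          Function.iterate_fixed (hf v)]
    show Nat.card {v : M // ∑ j ∈ Finset.range d, f^[e (j • h) % m] v = 0} = _
    simp only [hpow]
    split_ifs with h0 hd'
    · have hT : ∀ (j : ℕ) (v : M), T^[j] v = v := fun j v =>
        Function.iterate_fixed (show T v = v by simp [T, h0]) j
      rw [← hQ]
      refine Nat.card_congr (Equiv.subtypeUnivEquiv fun v => ?_)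
      simp only [hT, Finset.sum_const, Finset.card_range]
      obtain ⟨c, rfl⟩ := hd'
      rw [mul_smul, hexp]
    · have hT : ∀ (j : ℕ) (v : M), T^[j] v = v := fun j v =>
        Function.iterate_fixed (show T v = v by simp [T, h0]) j
      rw [Nat.card_eq_one_iff_unique]
      refine ⟨⟨fun a b => ?_⟩, ⟨⟨0, by simp [hT]⟩⟩⟩
      have key : ∀ v : M, ∑ j ∈ Finset.range d, T^[j] v = 0 → v = 0 := fun v hv => by
        simp only [hT, Finset.sum_const, Finset.card_range] at hv
        have h1 := addOrderOf_dvd_of_nsmul_eq_zero hv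
        have h2 := addOrderOf_dvd_of_nsmul_eq_zero (hexp v)
        have h3 := Nat.dvd_gcd h2 h1
        rw [(hq.coprime_iff_not_dvd.2 hd').gcd_eq_one, Nat.dvd_one, AddMonoid.addOrderOf_eq_one_iff] at h3
        exact h3
      exact Subtype.ext ((key a a.2).trans (key b b.2).symm)
    · rw [← hQ]
      refine Nat.card_congr (Equiv.subtypeUnivEquiv fun v => ?_)
      have hTd : T^[d] v = v := by
        rw [← hpow, hd]
        have := hpow 0 v
        rwa [zero_smul] at this
      have hfix : T (∑ j ∈ Finset.range d, T^[j] v) = ∑ j ∈ Finset.range d, T^[j] v := by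
        let g : M →+ M := { toFun := T, map_zero' := iterate_map_zero f _, map_add' := iterate_map_add f _ }
        show g _ = _
        rw [map_sum]
        show ∑ j ∈ Finset.range d, T (T^[j] v) = _
        simp only [← Function.iterate_succ_apply']
        have h1 := Finset.sum_range_succ (fun j => T^[j] v) d
        have h2 := Finset.sum_range_succ' (fun j => T^[j] v) d
        rw [h1, hTd, Function.iterate_zero_apply] at h2
        exact (add_right_cancel h2).symm
      exact hfree _ (Nat.mod_lt _ hm) h0 _ hfix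

variable (X : Act H)

/-- The semidirect product. -/
@[ext] structure Semi (X : Act H) where
  v : X.M
  h : H

instance : Mul (Semi X) := ⟨fun a b => ⟨a.v + X.act a.h b.v, a.h + b.h⟩⟩
instance : One (Semi X) := ⟨⟨0, 0⟩⟩
instance : Inv (Semi X) := ⟨fun a => ⟨- X.act (-a.h) a.v, -a.h⟩⟩

theorem semi_mul (a b : Semi X) : a * b = ⟨a.v + X.act a.h b.v, a.h + b.h⟩ := rfl
theorem semi_one : (1 : Semi X) = ⟨0, 0⟩ := rfl
theorem semi_inv (a : Semi X) : a⁻¹ = ⟨- X.act (-a.h) a.v, -a.h⟩ := rfl

instance : Group (Semi X) := Group.ofLeftAxioms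
  (fun a b c => by
    simp only [semi_mul]
    refine Semi.ext ?_ (add_assoc _ _ _)
    show a.v + X.act a.h b.v + X.act (a.h + b.h) c.v = a.v + X.act a.h (b.v + X.act b.h c.v)
    rw [map_add, X.act_add, add_assoc])
  (fun a => by
    simp only [semi_mul, semi_one]
    exact Semi.ext (by simp [X.act_zero]) (zero_add _))
  (fun a => by
    simp only [semi_mul, semi_one, semi_inv]
    exact Semi.ext (neg_add_cancel _) (neg_add_cancel _))

def semiEquiv : Semi X ≃ X.M × H where
  toFun a := (a.v, a.h)
  invFun p := ⟨p.1, p.2⟩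
  left_inv _ := rfl
  right_inv _ := rfl

instance [Finite H] : Finite (Semi X) := Finite.of_equiv _ (semiEquiv X).symm

theorem semi_pow (a : Semi X) (d : ℕ) : a ^ d = ⟨∑ j ∈ Finset.range d, X.act (j • a.h) a.v, d • a.h⟩ := by
  induction d with
  | zero => rw [pow_zero, semi_one]; simp
  | succ d ih =>
    rw [pow_succ, ih, semi_mul]
    refine Semi.ext ?_ ?_
    · rw [Finset.sum_range_succ]
    · rw [succ_nsmul]

theorem semi_solvable : Group.IsSolvable (Semi X) := by
  let f : Semi X →* Multiplicative H :=
    { toFun := fun a => Multiplicative.ofAdd a.h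
      map_one' := rfl
      map_mul' := fun _ _ => rfl }
  let g : Multiplicative X.M →* Semi X :=
    { toFun := fun v => ⟨Multiplicative.toAdd v, 0⟩
      map_one' := rfl
      map_mul' := fun u w => Semi.ext (by simp [semi_mul, X.act_zero]) (by simp [semi_mul]) }
  refine Group.isSolvable_of_ker_le_range g f fun a ha => ?_
  exact ⟨Multiplicative.ofAdd a.v, Semi.ext rfl (show (0 : H) = a.h from (congrArg Multiplicative.toAdd ha).symm)⟩

variable [Fintype H] [DecidableEq H]

def semiFac (E : ℕ) : Fac E where
  G := Semi X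
  cnt d := ∑ h ∈ Finset.univ.filter (fun h : H => d • h = 0), X.K h d
  card := X.size * Fintype.card H
  hcard := by rw [Nat.card_congr (semiEquiv X), Nat.card_prod, X.hsize, Nat.card_eq_fintype_card (α := H)]
  hcnt d _ := by
    unfold N
    have e : {g : Semi X // g ^ d = 1} ≃
        Σ h : {h : H // d • h = 0}, {v : X.M // ∑ j ∈ Finset.range d, X.act (j • h.1) v = 0} :=
      { toFun := fun g => ⟨⟨g.1.h, congrArg Semi.h ((semi_pow X g.1 d).symm.trans g.2)⟩,
          ⟨g.1.v, congrArg Semi.v ((semi_pow X g.1 d).symm.trans g.2)⟩⟩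
        invFun := fun x => ⟨⟨x.2.1, x.1.1⟩, by rw [semi_pow, semi_one]; exact Semi.ext x.2.2 x.1.2⟩
        left_inv := fun _ => rfl
        right_inv := fun _ => rfl }
    rw [Nat.card_congr e, Nat.card_sigma]
    rw [Finset.sum_subtype (p := fun h : H => d • h = 0) (F := inferInstance) _ (by simp)]
    exact Finset.sum_congr rfl fun h _ => X.hK h.1 d h.2

end Semi

end Cfsg.Agent.Struct.OrderTypeCount
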