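import Cfsg.Agent.Lib.Struct.OrderTypeCount

/-!
The factors of a solvable group with the order type of a product involving `GL(3,2)`.
-/

set_option autoImplicit false
set_option maxRecDepth 8000
set_option synthInstance.maxSize 4000
set_option synthInstance.maxHeartbeats 400000

namespace Cfsg.Agent.Struct.OrderTypeData

open Cfsg.Agent.Struct.OrderTypeCount

def f2_2_3 : (ZMod 2 × ZMod 2) →+ (ZMod 2 × ZMod 2) :=
  AddMonoidHom.mk' (fun x => (x.2, x.1 + x.2)) (by decide +kernel)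

theorem f2_2_3_iter : ∀ v, (f2_2_3)^[3] v = v := by decide +kernel

theorem f2_2_3_free : ∀ j < 3, j ≠ 0 → ∀ v, (f2_2_3)^[j] v = v → v = 0 := by decide +kernel

def M2_2_3 {H : Type} [AddCommGroup H] (e : H → ℕ)
    (he : ∀ h k, e (h + k) % 3 = (e h + e k) % 3) : Act H :=
  Act.ofMap (ZMod 2 × ZMod 2) 2 4 3 f2_2_3 e (by norm_num)
    (by rw [Nat.card_eq_fintype_card]; rfl) (by decide +kernel) f2_2_3_iter f2_2_3_free he (by norm_num)

def f2_3_7 : (ZMod 2 × ZMod 2 × ZMod 2) →+ (ZMod 2 × ZMod 2 × ZMod 2) :=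
  AddMonoidHom.mk' (fun x => (x.2.1, x.2.2, x.1 + x.2.1)) (by decide +kernel)

theorem f2_3_7_iter : ∀ v, (f2_3_7)^[7] v = v := by decide +kernel

theorem f2_3_7_free : ∀ j < 7, j ≠ 0 → ∀ v, (f2_3_7)^[j] v = v → v = 0 := by decide +kernel

def M2_3_7 {H : Type} [AddCommGroup H] (e : H → ℕ)
    (he : ∀ h k, e (h + k) % 7 = (e h + e k) % 7) : Act H :=
  Act.ofMap (ZMod 2 × ZMod 2 × ZMod 2) 2 8 7 f2_3_7 e (by norm_num)
    (by rw [Nat.card_eq_fintype_card]; rfl) (by decide +kernel) f2_3_7_iter f2_3_7_free he (by norm_num)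

def f2_6_21 : (ZMod 2 × ZMod 2 × ZMod 2 × ZMod 2 × ZMod 2 × ZMod 2) →+ (ZMod 2 × ZMod 2 × ZMod 2 × ZMod 2 × ZMod 2 × ZMod 2) :=
  AddMonoidHom.mk' (fun x => (x.2.2.2.2.2, x.1 + x.2.2.2.2.2, x.2.1 + x.2.2.2.2.2, x.2.2.1, x.2.2.2.1 + x.2.2.2.2.2, x.2.2.2.2.1)) (by decide +kernel)

theorem f2_6_21_iter : ∀ v, (f2_6_21)^[21] v = v := by decide +kernel

theorem f2_6_21_free : ∀ j < 21, j ≠ 0 → ∀ v, (f2_6_21)^[j] v = v → v = 0 := by decide +kernel

def M2_6_21 {H : Type} [AddCommGroup H] (e : H → ℕ)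
    (he : ∀ h k, e (h + k) % 21 = (e h + e k) % 21) : Act H :=
  Act.ofMap (ZMod 2 × ZMod 2 × ZMod 2 × ZMod 2 × ZMod 2 × ZMod 2) 2 64 21 f2_6_21 e (by norm_num)
    (by rw [Nat.card_eq_fintype_card]; rfl) (by decide +kernel) f2_6_21_iter f2_6_21_free he (by norm_num)

def f3_1_2 : (ZMod 3) →+ (ZMod 3) :=
  AddMonoidHom.mk' (fun x => 2 * x) (by decide +kernel)

theorem f3_1_2_iter : ∀ v, (f3_1_2)^[2] v = v := by decide +kernel

theorem f3_1_2_free : ∀ j < 2, j ≠ 0 → ∀ v, (f3_1_2)^[j] v = v → v = 0 := by decide +kernel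

def M3_1_2 {H : Type} [AddCommGroup H] (e : H → ℕ)
    (he : ∀ h k, e (h + k) % 2 = (e h + e k) % 2) : Act H :=
  Act.ofMap (ZMod 3) 3 3 2 f3_1_2 e (by norm_num)
    (by rw [Nat.card_eq_fintype_card]; rfl) (by decide +kernel) f3_1_2_iter f3_1_2_free he (by norm_num)

def f7_1_2 : (ZMod 7) →+ (ZMod 7) :=
  AddMonoidHom.mk' (fun x => 6 * x) (by decide +kernel)

theorem f7_1_2_iter : ∀ v, (f7_1_2)^[2] v = v := by decide +kernel

theorem f7_1_2_free : ∀ j < 2, j ≠ 0 → ∀ v, (f7_1_2)^[j] v = v → v = 0 := by decide +kernel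

def M7_1_2 {H : Type} [AddCommGroup H] (e : H → ℕ)
    (he : ∀ h k, e (h + k) % 2 = (e h + e k) % 2) : Act H :=
  Act.ofMap (ZMod 7) 7 7 2 f7_1_2 e (by norm_num)
    (by rw [Nat.card_eq_fintype_card]; rfl) (by decide +kernel) f7_1_2_iter f7_1_2_free he (by norm_num)

def f7_1_3 : (ZMod 7) →+ (ZMod 7) :=
  AddMonoidHom.mk' (fun x => 2 * x) (by decide +kernel)

theorem f7_1_3_iter : ∀ v, (f7_1_3)^[3] v = v := by decide +kernel

theorem f7_1_3_free : ∀ j < 3, j ≠ 0 → ∀ v, (f7_1_3)^[j] v = v → v = 0 := by decide +kernel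

def M7_1_3 {H : Type} [AddCommGroup H] (e : H → ℕ)
    (he : ∀ h k, e (h + k) % 3 = (e h + e k) % 3) : Act H :=
  Act.ofMap (ZMod 7) 7 7 3 f7_1_3 e (by norm_num)
    (by rw [Nat.card_eq_fintype_card]; rfl) (by decide +kernel) f7_1_3_iter f7_1_3_free he (by norm_num)

def f7_1_6 : (ZMod 7) →+ (ZMod 7) :=
  AddMonoidHom.mk' (fun x => 3 * x) (by decide +kernel)

theorem f7_1_6_iter : ∀ v, (f7_1_6)^[6] v = v := by decide +kernel

theorem f7_1_6_free : ∀ j < 6, j ≠ 0 → ∀ v, (f7_1_6)^[j] v = v → v = 0 := by decide +kernel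

def M7_1_6 {H : Type} [AddCommGroup H] (e : H → ℕ)
    (he : ∀ h k, e (h + k) % 6 = (e h + e k) % 6) : Act H :=
  Act.ofMap (ZMod 7) 7 7 6 f7_1_6 e (by norm_num)
    (by rw [Nat.card_eq_fintype_card]; rfl) (by decide +kernel) f7_1_6_iter f7_1_6_free he (by norm_num)

def f7_2_4 : (ZMod 7 × ZMod 7) →+ (ZMod 7 × ZMod 7) :=
  AddMonoidHom.mk' (fun x => (-x.2, x.1)) (by decide +kernel)

theorem f7_2_4_iter : ∀ v, (f7_2_4)^[4] v = v := by decide +kernel

theorem f7_2_4_free : ∀ j < 4, j ≠ 0 → ∀ v, (f7_2_4)^[j] v = v → v = 0 := by decide +kernel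

def M7_2_4 {H : Type} [AddCommGroup H] (e : H → ℕ)
    (he : ∀ h k, e (h + k) % 4 = (e h + e k) % 4) : Act H :=
  Act.ofMap (ZMod 7 × ZMod 7) 7 49 4 f7_2_4 e (by norm_num)
    (by rw [Nat.card_eq_fintype_card]; rfl) (by decide +kernel) f7_2_4_iter f7_2_4_free he (by norm_num)

def X0 : Fac 84 := semiFac ((Act.prod (M2_2_3 (fun h : ZMod 3 × ZMod 1 × ZMod 1 => 1 * h.1.val + 0 * h.2.1.val + 0 * h.2.2.val) (by decide +kernel)) (M7_1_3 (fun h : ZMod 3 × ZMod 1 × ZMod 1 => 1 * h.1.val + 0 * h.2.1.val + 0 * h.2.2.val) (by decide +kernel))) : Act (ZMod 3 × ZMod 1 × ZMod 1)) 84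

def X1 : Fac 84 := semiFac (Act.one _ : Act (ZMod 4 × ZMod 1 × ZMod 1)) 84

def X2 : Fac 84 := semiFac (Act.one _ : Act (ZMod 3 × ZMod 1 × ZMod 1)) 84

def X3 : Fac 84 := semiFac ((Act.prod (M7_1_6 (fun h : ZMod 2 × ZMod 6 × ZMod 1 => 0 * h.1.val + 1 * h.2.1.val + 0 * h.2.2.val) (by decide +kernel)) (Act.prod (M7_1_3 (fun h : ZMod 2 × ZMod 6 × ZMod 1 => 0 * h.1.val + 1 * h.2.1.val + 0 * h.2.2.val) (by decide +kernel)) (Act.prod (M7_1_2 (fun h : ZMod 2 × ZMod 6 × ZMod 1 => 1 * h.1.val + 0 * h.2.1.val + 0 * h.2.2.val) (by decide +kernel)) (Act.prod (M7_1_2 (fun h : ZMod 2 × ZMod 6 × ZMod 1 => 1 * h.1.val + 1 * h.2.1.val + 0 * h.2.2.val) (by decide +kernel)) (M7_1_2 (fun h : ZMod 2 × ZMod 6 × ZMod 1 => 1 * h.1.val + 1 * h.2.1.val + 0 * h.2.2.val) (by decide +kernel)))))) : Act (ZMod 2 × ZMod 6 × ZMod 1)) 84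

def X4 : Fac 84 := semiFac ((Act.prod (M3_1_2 (fun h : ZMod 2 × ZMod 2 × ZMod 1 => 0 * h.1.val + 1 * h.2.1.val + 0 * h.2.2.val) (by decide +kernel)) (Act.prod (M7_1_2 (fun h : ZMod 2 × ZMod 2 × ZMod 1 => 1 * h.1.val + 0 * h.2.1.val + 0 * h.2.2.val) (by decide +kernel)) (M7_1_2 (fun h : ZMod 2 × ZMod 2 × ZMod 1 => 1 * h.1.val + 1 * h.2.1.val + 0 * h.2.2.val) (by decide +kernel)))) : Act (ZMod 2 × ZMod 2 × ZMod 1)) 84

def X5 : Fac 84 := semiFac ((Act.prod (M2_2_3 (fun h : ZMod 3 × ZMod 1 × ZMod 1 => 1 * h.1.val + 0 * h.2.1.val + 0 * h.2.2.val) (by decide +kernel)) (M2_2_3 (fun h : ZMod 3 × ZMod 1 × ZMod 1 => 1 * h.1.val + 0 * h.2.1.val + 0 * h.2.2.val) (by decide +kernel))) : Act (ZMod 3 × ZMod 1 × ZMod 1)) 84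

def X6 : Fac 84 := semiFac (Act.one _ : Act (ZMod 7 × ZMod 1 × ZMod 1)) 84

def X7 : Fac 84 := semiFac ((Act.prod (M3_1_2 (fun h : ZMod 2 × ZMod 1 × ZMod 1 => 1 * h.1.val + 0 * h.2.1.val + 0 * h.2.2.val) (by decide +kernel)) (M3_1_2 (fun h : ZMod 2 × ZMod 1 × ZMod 1 => 1 * h.1.val + 0 * h.2.1.val + 0 * h.2.2.val) (by decide +kernel))) : Act (ZMod 2 × ZMod 1 × ZMod 1)) 84

def X8 : Fac 84 := semiFac ((Act.prod (M7_1_6 (fun h : ZMod 12 × ZMod 1 × ZMod 1 => 1 * h.1.val + 0 * h.2.1.val + 0 * h.2.2.val) (by decide +kernel)) (M7_2_4 (fun h : ZMod 12 × ZMod 1 × ZMod 1 => 1 * h.1.val + 0 * h.2.1.val + 0 * h.2.2.val) (by decide +kernel))) : Act (ZMod 12 × ZMod 1 × ZMod 1)) 84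

def X9 : Fac 84 := semiFac ((Act.prod (M7_1_2 (fun h : ZMod 2 × ZMod 12 × ZMod 1 => 0 * h.1.val + 1 * h.2.1.val + 0 * h.2.2.val) (by decide +kernel)) (Act.prod (M3_1_2 (fun h : ZMod 2 × ZMod 12 × ZMod 1 => 1 * h.1.val + 0 * h.2.1.val + 0 * h.2.2.val) (by decide +kernel)) (M7_1_6 (fun h : ZMod 2 × ZMod 12 × ZMod 1 => 3 * h.1.val + 1 * h.2.1.val + 0 * h.2.2.val) (by decide +kernel)))) : Act (ZMod 2 × ZMod 12 × ZMod 1)) 84

def X10 : Fac 84 := semiFac ((M7_1_2 (fun h : ZMod 6 × ZMod 1 × ZMod 1 => 1 * h.1.val + 0 * h.2.1.val + 0 * h.2.2.val) (by decide +kernel)) : Act (ZMod 6 × ZMod 1 × ZMod 1)) 84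

def X11 : Fac 84 := semiFac ((Act.prod (M7_1_2 (fun h : ZMod 2 × ZMod 1 × ZMod 1 => 1 * h.1.val + 0 * h.2.1.val + 0 * h.2.2.val) (by decide +kernel)) (M7_1_2 (fun h : ZMod 2 × ZMod 1 × ZMod 1 => 1 * h.1.val + 0 * h.2.1.val + 0 * h.2.2.val) (by decide +kernel))) : Act (ZMod 2 × ZMod 1 × ZMod 1)) 84

def X12 : Fac 84 := semiFac ((M7_1_3 (fun h : ZMod 3 × ZMod 1 × ZMod 1 => 1 * h.1.val + 0 * h.2.1.val + 0 * h.2.2.val) (by decide +kernel)) : Act (ZMod 3 × ZMod 1 × ZMod 1)) 84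

def X13 : Fac 84 := semiFac ((M2_3_7 (fun h : ZMod 7 × ZMod 7 × ZMod 1 => 0 * h.1.val + 1 * h.2.1.val + 0 * h.2.2.val) (by decide +kernel)) : Act (ZMod 7 × ZMod 7 × ZMod 1)) 84

def X14 : Fac 84 := semiFac (Act.one _ : Act (ZMod 6 × ZMod 1 × ZMod 1)) 84

def X15 : Fac 84 := semiFac ((Act.prod (M2_6_21 (fun h : ZMod 3 × ZMod 21 × ZMod 1 => 0 * h.1.val + 1 * h.2.1.val + 0 * h.2.2.val) (by decide +kernel)) (M2_2_3 (fun h : ZMod 3 × ZMod 21 × ZMod 1 => 0 * h.1.val + 1 * h.2.1.val + 0 * h.2.2.val) (by decide +kernel))) : Act (ZMod 3 × ZMod 21 × ZMod 1)) 84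

def X16 : Fac 84 := semiFac ((Act.prod (M2_3_7 (fun h : ZMod 14 × ZMod 1 × ZMod 1 => 1 * h.1.val + 0 * h.2.1.val + 0 * h.2.2.val) (by decide +kernel)) (M2_3_7 (fun h : ZMod 14 × ZMod 1 × ZMod 1 => 1 * h.1.val + 0 * h.2.1.val + 0 * h.2.2.val) (by decide +kernel))) : Act (ZMod 14 × ZMod 1 × ZMod 1)) 84

def X17 : Fac 84 := semiFac ((M7_1_2 (fun h : ZMod 2 × ZMod 4 × ZMod 1 => 0 * h.1.val + 1 * h.2.1.val + 0 * h.2.2.val) (by decide +kernel)) : Act (ZMod 2 × ZMod 4 × ZMod 1)) 84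

def X18 : Fac 84 := semiFac ((Act.prod (M7_1_2 (fun h : ZMod 4 × ZMod 1 × ZMod 1 => 1 * h.1.val + 0 * h.2.1.val + 0 * h.2.2.val) (by decide +kernel)) (M7_1_2 (fun h : ZMod 4 × ZMod 1 × ZMod 1 => 1 * h.1.val + 0 * h.2.1.val + 0 * h.2.2.val) (by decide +kernel))) : Act (ZMod 4 × ZMod 1 × ZMod 1)) 84

def X20 : Fac 84 := semiFac ((Act.prod (M7_1_6 (fun h : ZMod 6 × ZMod 1 × ZMod 1 => 1 * h.1.val + 0 * h.2.1.val + 0 * h.2.2.val) (by decide +kernel)) (M7_1_2 (fun h : ZMod 6 × ZMod 1 × ZMod 1 => 1 * h.1.val + 0 * h.2.1.val + 0 * h.2.2.val) (by decide +kernel))) : Act (ZMod 6 × ZMod 1 × ZMod 1)) 84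

def X21 : Fac 84 := semiFac ((M7_1_6 (fun h : ZMod 6 × ZMod 1 × ZMod 1 => 1 * h.1.val + 0 * h.2.1.val + 0 * h.2.2.val) (by decide +kernel)) : Act (ZMod 6 × ZMod 1 × ZMod 1)) 84

def X22 : Fac 84 := semiFac ((Act.prod (M3_1_2 (fun h : ZMod 2 × ZMod 4 × ZMod 1 => 1 * h.1.val + 0 * h.2.1.val + 0 * h.2.2.val) (by decide +kernel)) (Act.prod (M3_1_2 (fun h : ZMod 2 × ZMod 4 × ZMod 1 => 1 * h.1.val + 0 * h.2.1.val + 0 * h.2.2.val) (by decide +kernel)) (M7_1_2 (fun h : ZMod 2 × ZMod 4 × ZMod 1 => 1 * h.1.val + 1 * h.2.1.val + 0 * h.2.2.val) (by decide +kernel)))) : Act (ZMod 2 × ZMod 4 × ZMod 1)) 84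

def X23 : Fac 84 := semiFac ((Act.prod (M7_1_6 (fun h : ZMod 12 × ZMod 1 × ZMod 1 => 1 * h.1.val + 0 * h.2.1.val + 0 * h.2.2.val) (by decide +kernel)) (M7_1_2 (fun h : ZMod 12 × ZMod 1 × ZMod 1 => 1 * h.1.val + 0 * h.2.1.val + 0 * h.2.2.val) (by decide +kernel))) : Act (ZMod 12 × ZMod 1 × ZMod 1)) 84

/-- Counting in a finite group from the distribution of small orders. -/
theorem count_of_orders (G : Type) [Group G] [Fintype G] [DecidableEq G] (S : Finset ℕ) (c : ℕ → ℕ)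
    (hS : ∀ g : G, orderOf g ∈ S) (hc : ∀ o ∈ S, (Finset.univ.filter fun g : G => orderOf g = o).card = c o) (d : ℕ) :
    N G d = ∑ o ∈ S.filter (· ∣ d), c o := by
  unfold N
  rw [Nat.card_eq_fintype_card, Fintype.card_subtype]
  rw [Finset.card_eq_sum_card_fiberwise (f := orderOf) (t := S.filter (· ∣ d))]
  · refine Finset.sum_congr rfl fun o ho => ?_
    rw [Finset.mem_filter] at ho
    rw [← hc o ho.1]
    congr 1
    ext g
    simp only [Finset.mem_filter, Finset.mem_univ, true_and]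
    exact ⟨fun h => h.2, fun h => ⟨orderOf_dvd_iff_pow_eq_one.1 (h ▸ ho.2), h⟩⟩
  · intro g hg
    simp only [Finset.mem_coe, Finset.mem_filter] at hg ⊢
    exact ⟨hS g, orderOf_dvd_iff_pow_eq_one.2 hg.2⟩

theorem sym4_count : ∀ d ∈ (84 : ℕ).divisors, (Finset.univ.filter fun g : Equiv.Perm (Fin 4) => g ^ d = 1).card =
    (if d % 12 = 0 then 24 else if d % 6 = 0 then 18 else if d % 4 = 0 then 16 else if d % 3 = 0 then 9
      else if d % 2 = 0 then 10 else 1) := by decide +kernel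

def S4fac : Fac 84 where
  G := Equiv.Perm (Fin 4)
  cnt d := if d % 12 = 0 then 24 else if d % 6 = 0 then 18 else if d % 4 = 0 then 16 else if d % 3 = 0 then 9
      else if d % 2 = 0 then 10 else 1
  card := 24
  hcnt d hd := by
    show Nat.card {g : Equiv.Perm (Fin 4) // g ^ d = 1} = _
    rw [Nat.card_eq_fintype_card, Fintype.card_subtype]
    exact sym4_count d (Nat.mem_divisors.2 ⟨hd, by norm_num⟩)
  hcard := by rw [Nat.card_eq_fintype_card, Fintype.card_perm, Fintype.card_fin]; rfl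

abbrev GL32 : Type := (Matrix (Fin 3) (Fin 3) (ZMod 2))ˣ

theorem mat_orders : ∀ A : Matrix (Fin 3) (Fin 3) (ZMod 2),
    A.det = 0 ∨ A ^ 2 = 1 ∨ A ^ 3 = 1 ∨ A ^ 4 = 1 ∨ A ^ 7 = 1 := by decide +kernel

theorem mat_two : (Finset.univ.filter fun A : Matrix (Fin 3) (Fin 3) (ZMod 2) => A ^ 2 = 1).card = 22 := by decide +kernel

theorem mat_three : (Finset.univ.filter fun A : Matrix (Fin 3) (Fin 3) (ZMod 2) => A ^ 3 = 1).card = 57 := by decide +kernel

theorem mat_four : (Finset.univ.filter fun A : Matrix (Fin 3) (Fin 3) (ZMod 2) => A ^ 4 = 1).card = 64 := by decide +kernel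

theorem mat_seven : (Finset.univ.filter fun A : Matrix (Fin 3) (Fin 3) (ZMod 2) => A ^ 7 = 1).card = 49 := by decide +kernel

theorem gl_sol (d : ℕ) (hd : 0 < d) :
    Nat.card {g : GL32 // g ^ d = 1} = (Finset.univ.filter fun A : Matrix (Fin 3) (Fin 3) (ZMod 2) => A ^ d = 1).card := by
  rw [← Fintype.card_subtype, ← Nat.card_eq_fintype_card]
  exact Nat.card_congr
    { toFun := fun g => ⟨(g.1 : Matrix (Fin 3) (Fin 3) (ZMod 2)), by rw [← Units.val_pow_eq_pow_val, g.2, Units.val_one]⟩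
      invFun := fun A => ⟨Units.ofPowEqOne A.1 d A.2 hd.ne', Units.ext (by rw [Units.val_pow_eq_pow_val]; exact A.2)⟩
      left_inv := fun g => Subtype.ext (Units.ext rfl)
      right_inv := fun A => Subtype.ext rfl }

theorem gl_order_mem (g : GL32) : orderOf g ∈ ({1, 2, 3, 4, 7} : Finset ℕ) := by
  rcases mat_orders (g : Matrix (Fin 3) (Fin 3) (ZMod 2)) with h | h | h | h | h
  · exact absurd h ((g.isUnit.map Matrix.detMonoidHom).ne_zero)
  all_goals
    rw [← Units.val_pow_eq_pow_val, ← Units.val_one, ← Units.ext_iff] at h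
    have h2 := Nat.le_of_dvd (by norm_num) (orderOf_dvd_of_pow_eq_one h)
    have h3 := orderOf_dvd_of_pow_eq_one h
    simp only [Finset.mem_insert, Finset.mem_singleton]
    interval_cases hh : orderOf g <;> omega

/-- The number of elements of each order in `GL(3,2)`. -/
def glOrd (o : ℕ) : ℕ := if o = 1 then 1 else if o = 2 then 21 else if o = 3 then 56 else if o = 4 then 42 else if o = 7 then 48 else 0

theorem gl_pow_prime (o : ℕ) (ho : o.Prime) (c : ℕ) (hc : Nat.card {g : GL32 // g ^ o = 1} = c + 1) :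
    (Finset.univ.filter fun g : GL32 => orderOf g = o).card = c := by
  haveI : Fact o.Prime := ⟨ho⟩
  have h : (Finset.univ.filter fun g : GL32 => orderOf g = o) = (Finset.univ.filter fun g : GL32 => g ^ o = 1).erase 1 := by
    ext g
    simp only [Finset.mem_filter, Finset.mem_univ, true_and, Finset.mem_erase]
    refine ⟨fun h => ⟨?_, h ▸ pow_orderOf_eq_one g⟩, fun h => orderOf_eq_prime h.2 h.1⟩
    rintro rfl
    rw [orderOf_one] at h
    exact ho.one_lt.ne h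
  rw [h, Finset.card_erase_of_mem (by simp), ← Fintype.card_subtype, ← Nat.card_eq_fintype_card, hc]
  omega

theorem gl_ord : ∀ o ∈ ({1, 2, 3, 4, 7} : Finset ℕ), (Finset.univ.filter fun g : GL32 => orderOf g = o).card = glOrd o := by
  intro o ho
  simp only [Finset.mem_insert, Finset.mem_singleton] at ho
  rcases ho with rfl | rfl | rfl | rfl | rfl
  · simp [glOrd, orderOf_eq_one_iff, Finset.filter_eq']
  · exact gl_pow_prime 2 (by norm_num) 21 (by rw [gl_sol 2 (by norm_num), mat_two])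
  · exact gl_pow_prime 3 (by norm_num) 56 (by rw [gl_sol 3 (by norm_num), mat_three])
  · have h : (Finset.univ.filter fun g : GL32 => orderOf g = 4) =
        (Finset.univ.filter fun g : GL32 => g ^ 4 = 1) \ (Finset.univ.filter fun g : GL32 => g ^ 2 = 1) := by
      ext g
      simp only [Finset.mem_filter, Finset.mem_univ, true_and, Finset.mem_sdiff]
      constructor
      · intro h
        refine ⟨h ▸ pow_orderOf_eq_one g, fun h2 => ?_⟩
        have := Nat.le_of_dvd (by norm_num) (orderOf_dvd_of_pow_eq_one h2)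
        omega
      · intro h
        haveI : Fact (Nat.Prime 2) := ⟨Nat.prime_two⟩
        exact orderOf_eq_prime_pow (p := 2) (n := 1) (by simpa using h.2) (by simpa using h.1)
    rw [h, Finset.card_sdiff_of_subset]
    · rw [← Fintype.card_subtype, ← Fintype.card_subtype, ← Nat.card_eq_fintype_card, ← Nat.card_eq_fintype_card,
        gl_sol 4 (by norm_num), gl_sol 2 (by norm_num), mat_two, mat_four]
      rfl
    · intro g hg
      simp only [Finset.mem_filter, Finset.mem_univ, true_and] at hg ⊢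
      rw [show 4 = 2 * 2 from rfl, pow_mul, hg, one_pow]
  · exact gl_pow_prime 7 (by norm_num) 48 (by rw [gl_sol 7 (by norm_num), mat_seven])

theorem glCard : Nat.card GL32 = 168 := by
  have h := count_of_orders GL32 {1, 2, 3, 4, 7} glOrd gl_order_mem gl_ord 84
  unfold N at h
  have h2 : ∀ g : GL32, g ^ 84 = 1 := fun g => by
    have hg := gl_order_mem g
    simp only [Finset.mem_insert, Finset.mem_singleton] at hg
    refine orderOf_dvd_iff_pow_eq_one.1 ?_
    rcases hg with e | e | e | e | e <;> rw [e] <;> norm_num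
  rw [Nat.card_congr (Equiv.subtypeUnivEquiv h2)] at h
  rw [h]
  decide +kernel

def GLfac : Fac 84 where
  G := GL32
  cnt d := ∑ o ∈ ({1, 2, 3, 4, 7} : Finset ℕ).filter (· ∣ d), glOrd o
  card := 168
  hcnt d _ := count_of_orders GL32 {1, 2, 3, 4, 7} glOrd gl_order_mem gl_ord d
  hcard := glCard

/-- The identity factor. -/
def unitFac : Fac 84 := semiFac (Act.one (ZMod 1)) 84

def left : Fac 84 := ((X0.pow 12).prod
    ((X1.pow 12).prod
    ((X2.pow 60).prod
    ((X3.pow 6).prod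
    ((X7.pow 12).prod
    ((X9.pow 6).prod
    ((X11.pow 17).prod
    ((X13.pow 6).prod
    ((X16.pow 6).prod
    ((S4fac.pow 6).prod
    ((X21.pow 48).prod
    ((X23.pow 6).prod
    unitFac))))))))))))

def right : Fac 84 := ((X4.pow 6).prod
    ((X5.pow 6).prod
    ((X6.pow 2).prod
    ((X8.pow 6).prod
    ((X10.pow 27).prod
    ((X12.pow 34).prod
    ((X14.pow 33).prod
    ((X15.pow 6).prod
    ((X17.pow 3).prod
    ((X18.pow 3).prod
    ((X20.pow 20).prod
    ((X22.pow 12).prod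
    (GLfac.pow 6)))))))))))))

theorem counts : ∀ d ∈ (84 : ℕ).divisors, left.cnt d = right.cnt d := by decide +kernel

theorem left_full : left.cnt 84 = left.card := by decide +kernel

theorem right_full : right.cnt 84 = right.card := by decide +kernel

theorem solvable_sym4 : Group.IsSolvable (Equiv.Perm (Fin 4)) := by
  let G := Equiv.Perm (Fin 4)
  haveI : Group.IsSolvable (alternatingGroup (Fin 4)) := by
    have hV : ∀ a b : alternatingGroup (Fin 4), a ^ 2 = 1 → b ^ 2 = 1 → a * b = b * a := by decide +kernel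
    let V : Subgroup (alternatingGroup (Fin 4)) :=
      { carrier := {a | a ^ 2 = 1}
        one_mem' := one_pow 2
        mul_mem' := fun {a b} ha hb => by
          show (a * b) ^ 2 = 1
          rw [(show Commute a b from hV a b ha hb).mul_pow, ha, hb, one_mul]
        inv_mem' := fun {a} ha => by
          show a⁻¹ ^ 2 = 1
          rw [inv_pow, ha, inv_one] }
    haveI : V.Normal := ⟨fun a ha b => by
      show (b * a * b⁻¹) ^ 2 = 1
      rw [conj_pow, ha, mul_one, mul_inv_cancel]⟩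
    haveI : Group.IsSolvable V := Group.isSolvable_of_comm fun a b => Subtype.ext (hV a b a.2 b.2)
    have hsq : ∀ a b : alternatingGroup (Fin 4), (a⁻¹ * b⁻¹ * a * b) ^ 2 = 1 := by decide +kernel
    haveI : Group.IsSolvable (alternatingGroup (Fin 4) ⧸ V) := Group.isSolvable_of_comm fun a b => by
      induction a using QuotientGroup.induction_on with
      | _ a =>
      induction b using QuotientGroup.induction_on with
      | _ b =>
      refine QuotientGroup.eq.2 ?_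
      show ((a * b)⁻¹ * (b * a)) ^ 2 = 1
      rw [show (a * b)⁻¹ * (b * a) = b⁻¹ * a⁻¹ * b * a by group]
      exact hsq b a
    exact (Group.isSolvable_iff_subgroup_quotient V).2 ⟨inferInstance, inferInstance⟩
  refine Group.isSolvable_of_ker_le_range (alternatingGroup (Fin 4)).subtype Equiv.Perm.sign ?_
  rw [Subgroup.range_subtype]
  intro x hx
  exact hx

theorem left_solvable : Group.IsSolvable left.G := by
  refine Fac.solvable_prod (Fac.solvable_pow (semi_solvable _) 12) (Fac.solvable_prod (Fac.solvable_pow (semi_solvable _) 12) (Fac.solvable_prod (Fac.solvable_pow (semi_solvable _) 60) (Fac.solvable_prod (Fac.solvable_pow (semi_solvable _) 6) (Fac.solvable_prod (Fac.solvable_pow (semi_solvable _) 12) (Fac.solvable_prod (Fac.solvable_pow (semi_solvable _) 6) (Fac.solvable_prod (Fac.solvable_pow (semi_solvable _) 17) (Fac.solvable_prod (Fac.solvable_pow (semi_solvable _) 6) (Fac.solvable_prod (Fac.solvable_pow (semi_solvable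 _) 6) (Fac.solvable_prod (Fac.solvable_pow (solvable_sym4) 6) (Fac.solvable_prod (Fac.solvable_pow (semi_solvable _) 48) (Fac.solvable_prod (Fac.solvable_pow (semi_solvable _) 6) (semi_solvable _))))))))))))

theorem not_solvable_of_triple {G : Type} [Group G] (a b : G) (ha : a ^ 2 = 1) (hb : b ^ 3 = 1) (hab : (a * b) ^ 7 = 1)
    (hne : a ≠ 1) : ¬ Group.IsSolvable G := by
  intro hG
  let K := Subgroup.closure ({a, b} : Set G)
  let a' : K := ⟨a, Subgroup.subset_closure (Or.inl rfl)⟩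
  let b' : K := ⟨b, Subgroup.subset_closure (Or.inr rfl)⟩
  haveI : Group.IsSolvable G := hG
  haveI : Nontrivial K := ⟨⟨a', 1, fun h => hne (congrArg Subtype.val h)⟩⟩
  have hlt := Group.IsSolvable.commutator_lt_top_of_nontrivial (G := K)
  refine hlt.ne (top_le_iff.1 ?_)
  have htop : (⊤ : Subgroup K) = Subgroup.closure ({a', b'} : Set K) := by
    rw [eq_comm, eq_top_iff]
    intro x _
    have hmap : (Subgroup.closure ({a', b'} : Set K)).map K.subtype = K := by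
      rw [MonoidHom.map_closure, Set.image_pair]
      rfl
    obtain ⟨y, hy, hyx⟩ := (hmap.symm ▸ x.2 : (x : G) ∈ (Subgroup.closure ({a', b'} : Set K)).map K.subtype)
    rwa [Subtype.ext hyx] at hy
  have hA : (Abelianization.of a') ^ 2 = 1 := by rw [← map_pow, show a' ^ 2 = 1 from Subtype.ext ha, map_one]
  have hB : (Abelianization.of b') ^ 3 = 1 := by rw [← map_pow, show b' ^ 3 = 1 from Subtype.ext hb, map_one]
  have hAB : (Abelianization.of a' * Abelianization.of b') ^ 7 = 1 := by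
    rw [← map_mul, ← map_pow, show (a' * b') ^ 7 = 1 from Subtype.ext hab, map_one]
  have eA : (Abelianization.of a') ^ 7 = Abelianization.of a' := by
    rw [show (7 : ℕ) = 2 * 3 + 1 from rfl, pow_succ, pow_mul, hA, one_pow, one_mul]
  have eB : (Abelianization.of b') ^ 7 = Abelianization.of b' := by
    rw [show (7 : ℕ) = 3 * 2 + 1 from rfl, pow_succ, pow_mul, hB, one_pow, one_mul]
  rw [mul_pow, eA, eB] at hAB
  have hA1 : Abelianization.of a' = 1 := by
    have h3 : (Abelianization.of a') ^ 3 = 1 := by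
      rw [eq_inv_of_mul_eq_one_left hAB, inv_pow, hB, inv_one]
    rwa [pow_succ, hA, one_mul] at h3
  have hB1 : Abelianization.of b' = 1 := by rwa [hA1, one_mul] at hAB
  intro x _
  have hx : x ∈ Subgroup.closure ({a', b'} : Set K) := htop ▸ Subgroup.mem_top x
  refine (Subgroup.closure_le _).2 ?_ hx
  rintro x (rfl | rfl)
  · rw [SetLike.mem_coe, ← Abelianization.ker_of, MonoidHom.mem_ker, hA1]
  · rw [SetLike.mem_coe, ← Abelianization.ker_of, MonoidHom.mem_ker, hB1]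

theorem gl_not_solvable : ¬ Group.IsSolvable GL32 := by
  let a : GL32 := ⟨!![1, 1, 0; 0, 1, 0; 0, 0, 1], !![1, 1, 0; 0, 1, 0; 0, 0, 1], by decide +kernel, by decide +kernel⟩
  let b : GL32 := ⟨!![0, 0, 1; 1, 0, 0; 0, 1, 0], !![0, 1, 0; 0, 0, 1; 1, 0, 0], by decide +kernel, by decide +kernel⟩
  refine not_solvable_of_triple a b ?_ ?_ ?_ ?_ <;>
    simp only [Units.ext_iff, ne_eq, Units.val_pow_eq_pow_val, Units.val_mul, Units.val_one, a, b] <;> decide +kernel

theorem right_not_solvable : ¬ Group.IsSolvable right.G := by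
  intro h
  apply gl_not_solvable
  let π : right.G →* GL32 := (((((((((((((Pi.evalMonoidHom (fun _ => GL32) (0 : Fin 6)).comp (MonoidHom.snd _ _)).comp (MonoidHom.snd _ _)).comp (MonoidHom.snd _ _)).comp (MonoidHom.snd _ _)).comp (MonoidHom.snd _ _)).comp (MonoidHom.snd _ _)).comp (MonoidHom.snd _ _)).comp (MonoidHom.snd _ _)).comp (MonoidHom.snd _ _)).comp (MonoidHom.snd _ _)).comp (MonoidHom.snd _ _)).comp (MonoidHom.snd _ _))
  have hπ : Function.Surjective π := fun g => ⟨(1, (1, (1, (1, (1, (1, (1, (1, (1, (1, (1, (1, Function.update (fun _ => (1 : GL32)) (0 : Fin 6) g)))))))))))), by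
    show Function.update (fun _ => (1 : GL32)) (0 : Fin 6) g 0 = g
    exact Function.update_self _ _ _⟩
  haveI := h
  exact Group.isSolvable_of_surjective hπ

end Cfsg.Agent.Struct.OrderTypeData
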