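import Mathlib

/-!
Groups whose `p`-by-cyclic subgroups are cyclic or dihedral, `p` odd.
-/

set_option autoImplicit false
set_option linter.style.haveILetI false
set_option linter.unusedSectionVars false

namespace Cfsg.Agent.Struct.PByCyclic

open Subgroup DihedralGroup
open scoped commutatorElement IsMulCommutative

/-- Recognition of a dihedral group. -/
theorem dihedral_of_inverts {H : Type*} [Group H] [Finite H] (a h : H) {m : ℕ} [NeZero m] (ha : orderOf a = m)
    (hh : h * h = 1) (hha : h * a * h⁻¹ = a⁻¹) (hout : h ∉ zpowers a) (hcard : Nat.card H ≤ 2 * m) :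
    Nonempty (H ≃* DihedralGroup m) := by
  have hpow : ∀ i j : ZMod m, a ^ (i + j).val = a ^ i.val * a ^ j.val := fun i j => by
    rw [← pow_add, ZMod.val_add]
    conv_rhs => rw [← pow_mod_orderOf, ha]
  have hsub : ∀ i j : ZMod m, a ^ (j - i).val = (a ^ i.val)⁻¹ * a ^ j.val := fun i j => by
    have := hpow i (j - i)
    rw [add_sub_cancel] at this
    rw [this, inv_mul_cancel_left]
  have hinv : ∀ k : ℕ, a ^ k * h = h * (a ^ k)⁻¹ := fun k => by
    have h1 : h * a ^ k * h⁻¹ = (a ^ k)⁻¹ := by rw [← conj_pow, hha, inv_pow]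
    have h2 : h⁻¹ = h := inv_eq_of_mul_eq_one_right hh
    rw [← h1, h2, ← mul_assoc, ← mul_assoc, hh, one_mul]
  let f : DihedralGroup m →* H :=
    { toFun := fun x => match x with
        | r i => a ^ i.val
        | sr i => h * a ^ i.val
      map_one' := by show a ^ (0 : ZMod m).val = 1; simp
      map_mul' := fun x y => by
        rcases x with i | i <;> rcases y with j | j
        · exact hpow i j
        · show h * a ^ (j - i).val = a ^ i.val * (h * a ^ j.val)
          rw [hsub, ← mul_assoc, ← mul_assoc, hinv]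
        · show h * a ^ (i + j).val = h * a ^ i.val * a ^ j.val
          rw [hpow, mul_assoc]
        · show a ^ (j - i).val = h * a ^ i.val * (h * a ^ j.val)
          rw [hsub, mul_assoc h, ← mul_assoc (a ^ i.val), hinv, ← mul_assoc, ← mul_assoc, hh, one_mul] }
  have hfinj : Function.Injective f := by
    refine (injective_iff_map_eq_one f).2 fun x hx => ?_
    rcases x with i | i
    · change a ^ i.val = 1 at hx
      have h1 := orderOf_dvd_of_pow_eq_one hx
      rw [ha] at h1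
      have h2 : i.val = 0 := Nat.eq_zero_of_dvd_of_lt h1 (ZMod.val_lt i)
      rw [(ZMod.val_eq_zero i).1 h2]; rfl
    · exfalso
      change h * a ^ i.val = 1 at hx
      exact hout (by rw [eq_inv_of_mul_eq_one_left hx]; exact inv_mem (pow_mem (mem_zpowers a) _))
  have hbij : Function.Bijective f := by
    refine hfinj.bijective_of_nat_card_le ?_
    rw [DihedralGroup.nat_card]; exact hcard
  exact ⟨(MulEquiv.ofBijective f hbij).symm⟩

variable {G : Type*} [Group G] [Finite G] {p : ℕ} [Fact p.Prime]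

/-- In a dihedral group of order `2pⁿ` an element not centralizing an element of order `p` is a reflection. -/
theorem reflection {n : ℕ} {H : Type*} [Group H] (hp : p ≠ 2) (e : H ≃* DihedralGroup (p ^ n)) {x q : H}
    (hq : orderOf q ∣ p ^ n) (hxq : ¬ Commute x q) : x * x = 1 ∧ x * q * x⁻¹ = q⁻¹ := by
  have hodd : Odd (p ^ n) := ((Fact.out : p.Prime).odd_of_ne_two hp).pow
  obtain ⟨j, hj⟩ : ∃ j, e q = r j := by
    rcases hh : e q with j | j
    · exact ⟨j, rfl⟩
    exfalso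
    rw [← e.orderOf_eq, hh, orderOf_sr] at hq
    exact (Nat.not_even_iff_odd.2 hodd) (even_iff_two_dvd.2 hq)
  rcases hh : e x with i | i
  · exact absurd (e.injective (by rw [map_mul, map_mul, hh, hj, r_mul_r, r_mul_r, add_comm])) hxq
  · constructor
    · exact e.injective (by rw [map_mul, map_one, hh, sr_mul_sr, sub_self]; rfl)
    · apply e.injective
      rw [map_mul, map_mul, map_inv, map_inv, hh, hj, sr_mul_r, inv_sr, sr_mul_sr, inv_r]
      congr 1; ring

/-- The hypothesis on `p`-by-cyclic subgroups. -/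
def Hyp (p : ℕ) (G : Type*) [Group G] : Prop :=
  ∀ H : Subgroup G, (∀ S : Sylow p ↥H, (S : Subgroup ↥H).Normal) →
    (∀ (S : Sylow p ↥H) [(S : Subgroup ↥H).Normal], IsCyclic (↥H ⧸ (S : Subgroup ↥H))) →
    IsCyclic H ∨ (∃ n : ℕ, Nonempty (H ≃* DihedralGroup (p ^ n)))

theorem Hyp.apply (hG : Hyp p G) {S : Subgroup G} (hS : IsPGroup p S) {x : G}
    (hx : x ∈ normalizer (S : Set G)) :
    IsCyclic (zpowers x ⊔ S : Subgroup G) ∨
      ∃ n : ℕ, Nonempty ((zpowers x ⊔ S : Subgroup G) ≃* DihedralGroup (p ^ n)) := by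
  set H := zpowers x ⊔ S with hH
  have hle : H ≤ normalizer (S : Set G) := sup_le (zpowers_le.2 hx) le_normalizer
  haveI hn : (S.subgroupOf H).Normal := (normal_subgroupOf_iff_le_normalizer le_sup_right).2 hle
  let xH : H := ⟨x, mem_sup_left (mem_zpowers x)⟩
  have hgen : ∀ g : H, ∃ k : ℤ, ∃ s ∈ S.subgroupOf H, g = xH ^ k * s := by
    intro g
    have h1 : (g : G) ∈ ((zpowers x ⊔ S : Subgroup G) : Set G) := g.2
    rw [coe_mul_of_left_le_normalizer_right _ _ (zpowers_le.2 hx)] at h1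
    obtain ⟨y, hy, s, hs, hys⟩ := h1
    obtain ⟨k, rfl⟩ := mem_zpowers_iff.1 hy
    exact ⟨k, ⟨s, mem_sup_right hs⟩, hs, Subtype.ext hys.symm⟩
  haveI : (S.comap H.subtype).Normal := hn
  have hle' : ∀ T : Sylow p H, S.subgroupOf H ≤ T := fun T =>
    (hS.comap_of_injective H.subtype H.subtype_injective).le_sylow_of_normal T
  refine hG H (fun T => ?_) (fun T _ => ?_)
  · refine ⟨fun t ht g => ?_⟩
    have hcomm : ⁅g, t⁆ ∈ S.subgroupOf H := by
      rw [← QuotientGroup.eq_one_iff]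
      show QuotientGroup.mk' (S.subgroupOf H) ⁅g, t⁆ = 1
      have hpw : ∀ g : H, ∃ k : ℤ, QuotientGroup.mk' (S.subgroupOf H) g = QuotientGroup.mk' (S.subgroupOf H) xH ^ k := by
        intro g
        obtain ⟨k, s, hs, rfl⟩ := hgen g
        exact ⟨k, by rw [map_mul, map_zpow, QuotientGroup.mk'_apply _ s, (QuotientGroup.eq_one_iff s).2 hs, mul_one]⟩
      obtain ⟨k, hk⟩ := hpw g
      obtain ⟨l, hl⟩ := hpw t
      rw [map_commutatorElement, hk, hl]
      exact commutatorElement_eq_one_iff_commute.2 ((Commute.refl _).zpow_zpow k l)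
    have := mul_mem (hle' T hcomm) ht
    rwa [commutatorElement_def, inv_mul_cancel_right] at this
  · refine ⟨⟨(xH : H ⧸ (T : Subgroup H)), fun q => ?_⟩⟩
    induction q using QuotientGroup.induction_on with
    | H g =>
      obtain ⟨k, s, hs, rfl⟩ := hgen g
      refine ⟨k, ?_⟩
      show (xH : H ⧸ (T : Subgroup H)) ^ k = _
      rw [QuotientGroup.mk_mul, (QuotientGroup.eq_one_iff s).2 (hle' T hs), mul_one, QuotientGroup.mk_zpow]

theorem Hyp.cyclic_sylow (hG : Hyp p G) (hp : p ≠ 2) (P : Sylow p G) : IsCyclic P := by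
  have h := hG.apply P.isPGroup' (x := 1) (one_mem _)
  rw [zpowers_one_eq_bot, bot_sup_eq] at h
  rcases h with h | ⟨n, ⟨e⟩⟩
  · exact h
  exfalso
  obtain ⟨k, hk⟩ := IsPGroup.iff_card.1 P.isPGroup'
  have hc := Nat.card_congr e.toEquiv
  rw [hk, DihedralGroup.nat_card] at hc
  have := (Nat.prime_dvd_prime_iff_eq Nat.prime_two (Fact.out : p.Prime)).1
    (Nat.prime_two.dvd_of_dvd_pow (hc ▸ dvd_mul_right 2 _ : 2 ∣ p ^ k))
  exact hp this.symm

/-- An element normalizing but not centralizing a nontrivial `p`-subgroup `S` inverts it and is an involution. -/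
theorem Hyp.inverts (hG : Hyp p G) (hp : p ≠ 2) {S : Subgroup G} (hS : IsPGroup p S) {x : G}
    (hx : x ∈ normalizer (S : Set G)) (hx' : x ∉ centralizer (S : Set G)) :
    orderOf x = 2 ∧ ∀ s ∈ S, x * s * x⁻¹ = s⁻¹ := by
  obtain ⟨q, hq, hxq⟩ : ∃ q ∈ S, ¬ Commute x q := by
    by_contra hcon
    push Not at hcon
    exact hx' (mem_centralizer_iff.2 fun q hq => (hcon q hq).eq.symm)
  set H := zpowers x ⊔ S with hH
  let xH : H := ⟨x, mem_sup_left (mem_zpowers x)⟩
  rcases hG.apply hS hx with h | ⟨n, ⟨e⟩⟩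
  · exfalso
    haveI := h
    letI := IsCyclic.commGroup (α := H)
    exact hxq (congrArg Subtype.val (mul_comm xH ⟨q, mem_sup_right hq⟩))
  have hord : ∀ s : G, ∀ hs : s ∈ S, orderOf (⟨s, mem_sup_right hs⟩ : H) ∣ p ^ n := by
    intro s hs
    obtain ⟨k, hk⟩ := hS.exists_orderOf_eq_pow ⟨s, hs⟩
    rw [Subgroup.orderOf_mk] at hk
    rw [Subgroup.orderOf_mk, hk]
    have h1 : orderOf (⟨s, mem_sup_right hs⟩ : H) ∣ Nat.card H := orderOf_dvd_natCard _
    rw [Nat.card_congr e.toEquiv, DihedralGroup.nat_card, Subgroup.orderOf_mk, hk] at h1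
    exact ((Nat.coprime_primes (Fact.out : p.Prime) Nat.prime_two).2 hp).pow_left k |>.dvd_of_dvd_mul_left h1
  obtain ⟨h2, -⟩ := reflection hp e (hord q hq) (fun h => hxq (congrArg Subtype.val h.eq) : ¬ Commute xH ⟨q, mem_sup_right hq⟩)
  have hx2 : x * x = 1 := congrArg Subtype.val h2
  have hx1 : x ≠ 1 := fun h => hxq (h ▸ Commute.one_left q)
  refine ⟨orderOf_eq_prime (by rw [pow_two, hx2]) hx1, fun s hs => ?_⟩
  obtain ⟨j, hj⟩ : ∃ j, e ⟨s, mem_sup_right hs⟩ = r j := by
    rcases hh : e ⟨s, mem_sup_right hs⟩ with j | j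
    · exact ⟨j, rfl⟩
    exfalso
    have h3 := hord s hs
    rw [← e.orderOf_eq, hh, orderOf_sr] at h3
    exact (Nat.not_even_iff_odd.2 ((Fact.out : p.Prime).odd_of_ne_two hp).pow) (even_iff_two_dvd.2 h3)
  obtain ⟨i, hi⟩ : ∃ i, e xH = sr i := by
    rcases hh : e xH with i | i
    · exfalso
      obtain ⟨jq, hjq⟩ : ∃ jq, e ⟨q, mem_sup_right hq⟩ = r jq := by
        rcases hh' : e ⟨q, mem_sup_right hq⟩ with jq | jq
        · exact ⟨jq, rfl⟩
        exfalso
        have h3 := hord q hq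
        rw [← e.orderOf_eq, hh', orderOf_sr] at h3
        exact (Nat.not_even_iff_odd.2 ((Fact.out : p.Prime).odd_of_ne_two hp).pow) (even_iff_two_dvd.2 h3)
      exact hxq (congrArg Subtype.val (e.injective (by rw [map_mul, map_mul, hh, hjq, r_mul_r, r_mul_r, add_comm]) :
        xH * ⟨q, mem_sup_right hq⟩ = ⟨q, mem_sup_right hq⟩ * xH))
    · exact ⟨i, rfl⟩
  have h4 : xH * ⟨s, mem_sup_right hs⟩ * xH⁻¹ = (⟨s, mem_sup_right hs⟩ : H)⁻¹ := by
    apply e.injective
    rw [map_mul, map_mul, map_inv, map_inv, hi, hj, sr_mul_r, inv_sr, sr_mul_sr, inv_r]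
    congr 1; ring
  exact congrArg Subtype.val h4

/-- Elements inverting an odd-order subgroup throughout a coset force commutativity. -/
theorem comm_of_coset {C : Subgroup G} {x : G} (h : ∀ c ∈ C, x * c * (x * c) = 1) :
    (∀ a ∈ C, x * a * x⁻¹ = a⁻¹) ∧ ∀ a ∈ C, ∀ b ∈ C, a * b = b * a := by
  have hx : x * x = 1 := by simpa using h 1 (one_mem C)
  have hinv : x⁻¹ = x := inv_eq_of_mul_eq_one_right hx
  have h1 : ∀ a ∈ C, x * a * x⁻¹ = a⁻¹ := fun a ha => by
    rw [hinv, eq_inv_iff_mul_eq_one, mul_assoc _ x a]; exact h a ha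
  refine ⟨h1, fun a ha b hb => ?_⟩
  have h2 := h1 (a * b) (mul_mem ha hb)
  rw [show x * (a * b) * x⁻¹ = (x * a * x⁻¹) * (x * b * x⁻¹) by group, h1 a ha, h1 b hb, mul_inv_rev] at h2
  have := congrArg Inv.inv h2
  simp only [mul_inv_rev, inv_inv] at this
  exact this.symm

theorem forward (hG : Hyp p G) (hp : p ≠ 2) (P : Sylow p G) :
    IsCyclic P ∧ (normalizer ((P : Subgroup G) : Set G) = centralizer ((P : Subgroup G) : Set G) ∨
      ((centralizer ((P : Subgroup G) : Set G)).relIndex (normalizer ((P : Subgroup G) : Set G)) = 2 ∧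
        ∀ Q : Subgroup G, Q ≤ P → Nat.card Q = p →
          IsMulCommutative ↥(centralizer (Q : Set G)) ∧
          ∀ x : G, x ∈ normalizer (Q : Set G) → x ∉ centralizer (Q : Set G) →
            orderOf x = 2 ∧ ∀ c : G, c ∈ centralizer (Q : Set G) → x * c * x⁻¹ = c⁻¹)) := by
  refine ⟨hG.cyclic_sylow hp P, ?_⟩
  haveI := hG.cyclic_sylow hp P
  set N := normalizer ((P : Subgroup G) : Set G)
  set C := centralizer ((P : Subgroup G) : Set G)
  by_cases hNC : N = C
  · exact Or.inl hNC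
  have hCN : C ≤ N := Subgroup.centralizer_le_normalizer _
  obtain ⟨x, hxN, hxC⟩ := SetLike.exists_of_lt (lt_of_le_of_ne hCN (Ne.symm hNC))
  refine Or.inr ⟨?_, fun Q hQ hQc => ?_⟩
  · have h2 : ∀ y z : N, (y : G) ∉ C → (z : G) ∉ C → (y : G) * z ∈ C := by
      intro y z hy hz
      obtain ⟨-, hy'⟩ := hG.inverts hp P.isPGroup' y.2 hy
      obtain ⟨-, hz'⟩ := hG.inverts hp P.isPGroup' z.2 hz
      refine mem_centralizer_iff.2 fun s hs => ?_
      have : (y : G) * z * s * ((y : G) * z)⁻¹ = s := by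
        rw [show (y : G) * z * s * ((y : G) * z)⁻¹ = (y : G) * ((z : G) * s * (z : G)⁻¹) * (y : G)⁻¹ by group,
          hz' s hs, hy' s⁻¹ (inv_mem hs), inv_inv]
      exact (mul_inv_eq_iff_eq_mul.1 this).symm
    rw [relIndex, index_eq_two_iff]
    refine ⟨⟨x, hxN⟩, fun b => ?_⟩
    simp only [mem_subgroupOf, coe_mul]
    by_cases hb : (b : G) ∈ C
    · exact Or.inr ⟨hb, fun h => hxC ((mul_mem_cancel_left hb).1 h)⟩
    · exact Or.inl ⟨h2 b ⟨x, hxN⟩ hb hxC, hb⟩
  have hQp : IsPGroup p Q := IsPGroup.of_card (n := 1) (by rw [hQc, pow_one])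
  have hmain : ∀ y : G, y ∈ normalizer (Q : Set G) → y ∉ centralizer (Q : Set G) →
      orderOf y = 2 ∧ (∀ c ∈ centralizer (Q : Set G), y * c * y⁻¹ = c⁻¹) ∧
        ∀ a ∈ centralizer (Q : Set G), ∀ b ∈ centralizer (Q : Set G), a * b = b * a := by
    intro y hy hy'
    have hall : ∀ c ∈ centralizer (Q : Set G), y * c * (y * c) = 1 := by
      intro c hc
      have h1 : y * c ∈ normalizer (Q : Set G) := mul_mem hy (Subgroup.centralizer_le_normalizer _ hc)
      have h2 : y * c ∉ centralizer (Q : Set G) := fun h => hy' ((mul_mem_cancel_right hc).1 h)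
      rw [← pow_two, ← orderOf_dvd_iff_pow_eq_one, (hG.inverts hp hQp h1 h2).1]
    exact ⟨(hG.inverts hp hQp hy hy').1, (comm_of_coset hall).1, (comm_of_coset hall).2⟩
  refine ⟨?_, fun y hy hy' => ⟨(hmain y hy hy').1, (hmain y hy hy').2.1⟩⟩
  have hxQ : x ∈ normalizer (Q : Set G) := by
    refine mem_normalizer_fintype fun q hq => ?_
    rw [(hG.inverts hp P.isPGroup' hxN hxC).2 q (hQ hq)]
    exact inv_mem hq
  have hxQ' : x ∉ centralizer (Q : Set G) := by
    intro h
    haveI : Fact (Nat.Prime p) := inferInstance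
    obtain ⟨q, hq, hq1⟩ : ∃ q ∈ Q, q ≠ (1 : G) := by
      by_contra hcon
      push Not at hcon
      have : Q = ⊥ := (Subgroup.eq_bot_iff_forall Q).2 hcon
      rw [this, card_bot] at hQc
      exact (Fact.out : p.Prime).one_lt.ne hQc
    have h1 : x * q * x⁻¹ = q := by rw [← mem_centralizer_iff.1 h q hq, mul_inv_cancel_right]
    rw [(hG.inverts hp P.isPGroup' hxN hxC).2 q (hQ hq), inv_eq_iff_mul_eq_one, ← pow_two] at h1
    have h2 := orderOf_dvd_of_pow_eq_one h1
    have h3 : orderOf q ∣ p := hQc ▸ Subgroup.orderOf_dvd_natCard _ hq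
    exact hq1 (orderOf_eq_one_iff.1 (Nat.dvd_one.1 (((Nat.coprime_primes (Fact.out : p.Prime) Nat.prime_two).2 hp) ▸
      Nat.dvd_gcd h3 h2)))
  exact ⟨⟨fun a b => Subtype.ext ((hmain x hxQ hxQ').2.2 a a.2 b b.2)⟩⟩

theorem backward (hp : p ≠ 2) (P : Sylow p G) (hPc : IsCyclic P)
    (h : normalizer ((P : Subgroup G) : Set G) = centralizer ((P : Subgroup G) : Set G) ∨
      ((centralizer ((P : Subgroup G) : Set G)).relIndex (normalizer ((P : Subgroup G) : Set G)) = 2 ∧
        ∀ Q : Subgroup G, Q ≤ P → Nat.card Q = p →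
          IsMulCommutative ↥(centralizer (Q : Set G)) ∧
          ∀ x : G, x ∈ normalizer (Q : Set G) → x ∉ centralizer (Q : Set G) →
            orderOf x = 2 ∧ ∀ c : G, c ∈ centralizer (Q : Set G) → x * c * x⁻¹ = c⁻¹)) : Hyp p G := by
  intro H hn hcyc
  obtain ⟨S⟩ : Nonempty (Sylow p H) := inferInstance
  haveI := hn S
  haveI := hcyc S
  -- a conjugate of the Sylow subgroup of `H` lies in `P`
  obtain ⟨P', hP'⟩ := (S.isPGroup'.map H.subtype).exists_le_sylow
  obtain ⟨g, hg⟩ := MulAction.exists_smul_eq G P P'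
  obtain ⟨y, hy⟩ := QuotientGroup.mk_surjective (IsCyclic.exists_generator (α := H ⧸ (S : Subgroup H))).choose
  have hygen := (IsCyclic.exists_generator (α := H ⧸ (S : Subgroup H))).choose_spec
  rw [← hy] at hygen
  let φ : H →* G := (MulAut.conj g⁻¹).toMonoidHom.comp H.subtype
  have hφ : Function.Injective φ := (MulAut.conj g⁻¹).injective.comp H.subtype_injective
  have hSP : ∀ s ∈ (S : Subgroup H), φ s ∈ (P : Subgroup G) := by
    intro s hs
    have h1 : (s : G) ∈ (P' : Subgroup G) := hP' (mem_map_of_mem _ hs)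
    rw [← hg, Sylow.coe_subgroup_smul, mem_pointwise_smul_iff_inv_smul_mem, ← map_inv] at h1
    exact h1
  haveI : IsCyclic (S : Subgroup H) := by
    let f : (S : Subgroup H) →* (P : Subgroup G) := (φ.comp (S : Subgroup H).subtype).codRestrict _ fun s => hSP s s.2
    exact isCyclic_of_injective f fun a b hab => Subtype.ext (hφ (congrArg Subtype.val hab))
  obtain ⟨s, hs⟩ := IsCyclic.exists_generator (α := (S : Subgroup H))
  have hgenH : ∀ g : H, ∃ i j : ℤ, g = y ^ i * (s : H) ^ j := by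
    intro g
    obtain ⟨i, hi⟩ := mem_zpowers_iff.1 (hygen g)
    rw [← QuotientGroup.mk_zpow, QuotientGroup.eq] at hi
    obtain ⟨j, hj⟩ := mem_zpowers_iff.1 (hs ⟨(y ^ i)⁻¹ * g, hi⟩)
    refine ⟨i, j, ?_⟩
    rw [← coe_zpow, hj, mul_inv_cancel_left]
  by_cases hcomm : Commute y (s : H)
  · left
    haveI : IsMulCommutative H := ⟨⟨fun a b => by
      obtain ⟨i, j, rfl⟩ := hgenH a
      obtain ⟨i', j', rfl⟩ := hgenH b
      exact ((((Commute.refl y).zpow_zpow i i').mul_right (hcomm.zpow_zpow i j')).mul_left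
        (((hcomm.symm).zpow_zpow j i').mul_right ((Commute.refl (s : H)).zpow_zpow j j'))).eq⟩⟩
    haveI : IsCyclic (QuotientGroup.mk' (S : Subgroup H)).ker :=
      (QuotientGroup.ker_mk' (S : Subgroup H)).symm ▸ inferInstance
    refine Group.isCyclic_of_coprime_card_ker (QuotientGroup.mk' (S : Subgroup H)) ?_ ?_
    · rw [QuotientGroup.ker_mk', ← index_eq_card]
      exact S.card_coprime_index
    · exact QuotientGroup.mk'_surjective _
  right
  -- `y` induces on `s` an automorphism coming from the normalizer of `P`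
  haveI := hPc
  letI := IsCyclic.commGroup (α := (P : Subgroup G))
  have hPab : IsMulCommutative (P : Subgroup G) := ⟨⟨fun a b => mul_comm a b⟩⟩
  have hsn : y * (s : H) * y⁻¹ ∈ (S : Subgroup H) := (hn S).conj_mem _ s.2 y
  obtain ⟨m, hm, hme⟩ := Sylow.conj_eq_normalizer_conj_of_mem P (φ s) (φ y⁻¹) (hSP _ s.2) (by
    rw [← map_inv, ← map_mul, ← map_mul, inv_inv]; exact hSP _ hsn)
  rw [← map_inv, ← map_mul, ← map_mul, inv_inv] at hme
  rcases h with h | ⟨hidx, h⟩
  · exfalso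
    apply hcomm
    have hm' : m ∈ normalizer ((P : Subgroup G) : Set G) := hm
    rw [h] at hm'
    have h1 : φ (y * (s : H) * y⁻¹) = φ s := by
      rw [hme, mul_assoc, mem_centralizer_iff.1 hm' _ (hSP _ s.2), inv_mul_cancel_left]
    exact mul_inv_eq_iff_eq_mul.1 (hφ h1)
  set Y := φ y with hY
  obtain ⟨q, hq⟩ : ∃ q : (S : Subgroup H), orderOf q = p := by
    refine exists_prime_orderOf_dvd_card' p ?_
    obtain ⟨k, hk⟩ := IsPGroup.iff_card.1 S.isPGroup'
    rcases k with _ | k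
    · exfalso
      have h1 : (S : Subgroup H) = ⊥ := eq_bot_of_card_eq _ (by simpa using hk)
      have h2 : (s : H) = 1 := mem_bot.1 (h1.le s.2)
      exact hcomm (h2 ▸ Commute.one_right y)
    · exact hk ▸ dvd_pow_self p k.succ_ne_zero
  let Q : Subgroup G := zpowers (φ q)
  have hQP : Q ≤ P := zpowers_le.2 (hSP _ q.2)
  have hQc : Nat.card Q = p := by
    rw [Nat.card_zpowers, orderOf_injective φ hφ, Subgroup.orderOf_coe, hq]
  obtain ⟨hCab, hinv⟩ := h Q hQP hQc
  have hQin : ∀ x : H, x ∈ zpowers (q : H) → φ x ∈ Q := fun x hx => by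
    obtain ⟨i, rfl⟩ := mem_zpowers_iff.1 hx
    rw [map_zpow]; exact zpow_mem (mem_zpowers _) i
  obtain ⟨j, hj⟩ := mem_zpowers_iff.1 (hs q)
  have hYQ : Y ∈ normalizer (Q : Set G) := by
    obtain ⟨i, hi⟩ := mem_zpowers_iff.1 (hs ⟨_, hsn⟩)
    have h1 : y * (q : H) * y⁻¹ = (q : H) ^ i := by
      have h2 : y * (s : H) * y⁻¹ = (s : H) ^ i := by rw [← coe_zpow, hi]
      rw [← hj, coe_zpow, ← conj_zpow, h2, ← zpow_mul, ← zpow_mul, mul_comm]
    refine mem_normalizer_fintype fun w hw => ?_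
    obtain ⟨l, rfl⟩ := mem_zpowers_iff.1 hw
    rw [← conj_zpow, hY, ← map_inv, ← map_mul, ← map_mul, h1, map_zpow, ← zpow_mul]
    exact zpow_mem (mem_zpowers _) _
  have hsC : φ s ∈ centralizer (Q : Set G) := mem_centralizer_iff.2 fun w hw =>
    congrArg Subtype.val (hPab.is_comm.comm (⟨w, hQP hw⟩ : (P : Subgroup G)) ⟨φ s, hSP _ s.2⟩)
  have hYC : Y ∉ centralizer (Q : Set G) := fun hYC => by
    haveI := hCab
    have h1 : (⟨Y, hYC⟩ : centralizer (Q : Set G)) * ⟨φ s, hsC⟩ = ⟨φ s, hsC⟩ * ⟨Y, hYC⟩ := hCab.is_comm.comm _ _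
    have h2 := congrArg Subtype.val h1
    exact hcomm (hφ (by rw [map_mul, map_mul]; exact h2))
  obtain ⟨hY2, hYinv⟩ := hinv Y hYQ hYC
  have hy2 : y * y = 1 := hφ (by
    rw [map_mul, map_one, ← pow_two, ← orderOf_dvd_iff_pow_eq_one, hY2])
  have hys : y * (s : H) * y⁻¹ = (s : H)⁻¹ := hφ (by
    rw [map_mul, map_mul, map_inv, map_inv]; exact hYinv _ hsC)
  obtain ⟨k, hk⟩ := IsPGroup.iff_card.1 S.isPGroup'
  have hso : orderOf (s : H) = p ^ k := by
    rw [Subgroup.orderOf_coe, orderOf_eq_card_of_forall_mem_zpowers hs, hk]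
  haveI : NeZero (p ^ k) := ⟨pow_ne_zero _ (Fact.out : p.Prime).ne_zero⟩
  refine ⟨k, dihedral_of_inverts (s : H) y hso hy2 hys ?_ ?_⟩
  · intro hy'
    exact hcomm (by
      obtain ⟨i, rfl⟩ := mem_zpowers_iff.1 hy'
      exact (Commute.refl (s : H)).zpow_left i)
  · rw [← (S : Subgroup H).card_mul_index, hk, mul_comm, index_eq_card]
    refine Nat.mul_le_mul_right _ ?_
    rw [← orderOf_eq_card_of_forall_mem_zpowers hygen]
    refine Nat.le_of_dvd two_pos (orderOf_dvd_of_pow_eq_one ?_)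
    rw [← QuotientGroup.mk_pow, pow_two, hy2, QuotientGroup.mk_one]

end Cfsg.Agent.Struct.PByCyclic
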