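import Cfsg.Agent.Lib.Solv.Hall
import Cfsg.Agent.Lib.Solv.PSolvable

/-!
`p`-complements in `p`-soluble groups: existence and containment up to conjugacy.
-/

set_option autoImplicit false
set_option linter.style.haveILetI false

namespace Cfsg.Agent.Struct.PComplements

open Subgroup Cfsg.Agent.Solv
open scoped Pointwise

universe u

theorem pcompl_aux {p : ℕ} [hp' : Fact p.Prime] : ∀ (c : ℕ) (G : Type u) [Group G] [Finite G],
    IsPSolvable p G → Nat.card G = c → ∀ m n : ℕ, Nat.card G = m * n → m.Coprime n →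
      (∃ e : ℕ, n = p ^ e) →
      (∃ H : Subgroup G, Nat.card H = m) ∧
      (∀ K H : Subgroup G, (Nat.card K).Coprime n → Nat.card H = m →
        ∃ g : G, MulAut.conj g • K ≤ H) := by
  intro c
  induction c using Nat.strong_induction_on with
  | _ c ih =>
    intro G _ _ hS hc m n hG hmn hn
    rcases subsingleton_or_nontrivial G with hs | hs
    · have h1 : Nat.card G = 1 := Nat.card_eq_one_iff_unique.mpr ⟨hs, inferInstance⟩
      rw [h1, eq_comm, mul_eq_one] at hG
      refine ⟨⟨⊥, by rw [card_bot, hG.1]⟩, fun K H _ _ => ⟨1, ?_⟩⟩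
      intro x _
      rw [Subsingleton.elim x 1]
      exact H.one_mem
    obtain ⟨M, hMn, hM0, hMc⟩ : ∃ M : Subgroup G, M.Normal ∧ M ≠ ⊥ ∧
        (IsPGroup p M ∨ (Nat.card M).Coprime p) := by
      rcases core_ne_bot_of_isPSolvable hS with h | h
      · exact ⟨_, inferInstance, h, Or.inl (isPGroup_pCore p G)⟩
      · exact ⟨_, inferInstance, h, Or.inr (card_pPrimeCore_coprime p G)⟩
    haveI := hMn
    have hMG : Nat.card M * Nat.card (G ⧸ M) = Nat.card G := by
      rw [← index_eq_card, card_mul_index]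
    have hlt : Nat.card (G ⧸ M) < c := by
      rw [← hc, ← hMG]
      exact lt_mul_of_one_lt_left Nat.card_pos ((one_lt_card_iff_ne_bot M).mpr hM0)
    set f := QuotientGroup.mk' M with hf
    have hdiv : Nat.card M ∣ m ∨ (Nat.card M ∣ n ∧ Group.IsSolvable M) := by
      have h1 : Nat.card M ∣ m * n := by rw [← hG, ← hMG]; exact Dvd.intro _ rfl
      obtain ⟨e, rfl⟩ := hn
      rcases hMc with hMp | hMp
      · obtain ⟨a, ha⟩ := IsPGroup.iff_card.mp hMp
        have ha0 : a ≠ 0 := by
          rintro rfl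
          rw [pow_zero] at ha
          exact ((one_lt_card_iff_ne_bot M).mpr hM0).ne' ha
        haveI := hMp.isNilpotent
        refine ((Nat.Coprime.isPrimePow_dvd_mul hmn (hp'.out.isPrimePow.pow ha0)).mp
          (ha ▸ h1)).imp (fun h => ha ▸ h) fun h => ⟨ha ▸ h, inferInstance⟩
      · exact Or.inl ((hMp.pow_right e).dvd_of_dvd_mul_right h1)
    rcases hdiv with ⟨m', hm'⟩ | ⟨⟨n', hn'⟩, hMsol⟩
    · have hq : Nat.card (G ⧸ M) = m' * n := by
        refine Nat.eq_of_mul_eq_mul_left (Nat.card_pos (α := M)) ?_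
        rw [hMG, hG, hm', mul_assoc]
      obtain ⟨⟨Hb, hHb⟩, hcont⟩ := ih _ hlt (G ⧸ M) (isPSolvable_quotient hS M) rfl m' n hq
        (hmn.coprime_dvd_left (Dvd.intro_left _ hm'.symm)) hn
      refine ⟨⟨Hb.comap f, by rw [hf, card_comap_mk', hHb, hm']⟩, fun K H hK hH => ?_⟩
      have hMH : M ≤ H := by
        have h1 := card_sup_dvd_of_normal M H
        have h2 := card_subgroup_dvd_card (M ⊔ H)
        rw [hG] at h2
        have h3 : (Nat.card ↥(M ⊔ H)).Coprime n :=
          Nat.Coprime.coprime_dvd_left h1 (Nat.Coprime.mul_left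
            (hmn.coprime_dvd_left (Dvd.intro _ hm'.symm)) (by rwa [hH]))
        exact le_sup_left.trans (eq_of_le_of_card_ge (le_sup_right : H ≤ M ⊔ H)
          (hH ▸ Nat.le_of_dvd (Nat.pos_of_ne_zero (by intro h0; rw [h0, zero_mul] at hG; exact Nat.card_pos.ne' hG))
            (h3.dvd_of_dvd_mul_right h2))).ge
      have hHq : Nat.card ↥(H.map f) = m' := by
        refine Nat.eq_of_mul_eq_mul_left (Nat.card_pos (α := M)) ?_
        rw [hf, card_map_mk'_mul M H hMH, hH, hm']
      obtain ⟨gb, hgb⟩ := hcont (K.map f) (H.map f) (hK.coprime_dvd_left (card_map_dvd _ f)) hHq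
      obtain ⟨g, rfl⟩ := QuotientGroup.mk'_surjective M gb
      refine ⟨g, fun x hx => ?_⟩
      rw [← map_conj_smul, map_le_iff_le_comap, comap_map_eq_self (by rwa [QuotientGroup.ker_mk'])]
        at hgb
      exact hgb hx
    · have hcopM : (Nat.card M).Coprime m := (hmn.coprime_dvd_right (Dvd.intro _ hn'.symm)).symm
      have hq : Nat.card (G ⧸ M) = m * n' := by
        refine Nat.eq_of_mul_eq_mul_left (Nat.card_pos (α := M)) ?_
        rw [hMG, hG, hn']; ring
      obtain ⟨⟨Hb, hHb⟩, hcont⟩ := ih _ hlt (G ⧸ M) (isPSolvable_quotient hS M) rfl m n' hq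
        (hmn.coprime_dvd_right (Dvd.intro_left _ hn'.symm))
        (by obtain ⟨e, he⟩ := hn
            obtain ⟨i, -, hi⟩ := (Nat.dvd_prime_pow hp'.out).mp (he ▸ Dvd.intro_left _ hn'.symm)
            exact ⟨i, hi⟩)
      refine ⟨?_, fun K H hK hH => ?_⟩
      · have hML : M ≤ Hb.comap f := fun x hx => by
          rw [mem_comap, hf, QuotientGroup.mk'_apply, (QuotientGroup.eq_one_iff x).mpr hx]
          exact Hb.one_mem
        have hcL : Nat.card ↥(Hb.comap f) = Nat.card M * m := by rw [hf, card_comap_mk', hHb]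
        have hidx : (M.subgroupOf (Hb.comap f)).index = m := by
          have e := (M.subgroupOf (Hb.comap f)).card_mul_index
          rw [card_subgroupOf hML, hcL] at e
          exact Nat.eq_of_mul_eq_mul_left Nat.card_pos e
        obtain ⟨H, hH⟩ := exists_right_complement'_of_coprime (N := M.subgroupOf (Hb.comap f))
          (by rw [hidx, card_subgroupOf hML]; exact hcopM)
        exact ⟨H.map (Hb.comap f).subtype,
          by rw [card_map_subtype, ← hH.symm.index_eq_card, hidx]⟩
      · have hHq : Nat.card ↥(H.map f) = m := by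
          rw [card_map_of_inf_ker, hH]
          rw [hf, QuotientGroup.ker_mk']
          exact inf_eq_bot_of_coprime_card H M (by rw [hH]; exact hcopM.symm)
        obtain ⟨gb, hgb⟩ := hcont (K.map f) (H.map f)
          ((hK.coprime_dvd_left (card_map_dvd _ f)).coprime_dvd_right
            (Dvd.intro_left _ hn'.symm)) hHq
        obtain ⟨g, rfl⟩ := QuotientGroup.mk'_surjective M gb
        rw [← map_conj_smul, map_le_iff_le_comap, comap_map_eq, QuotientGroup.ker_mk'] at hgb
        set K' := MulAut.conj g • K with hK'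
        have hK'c : (Nat.card K').Coprime n := by rwa [hK', card_conj_smul]
        have hMK : (Nat.card M).Coprime (Nat.card K') :=
          (hK'c.coprime_dvd_right (Dvd.intro _ hn'.symm)).symm
        set X := H ⊓ (M ⊔ K') with hX
        have hsup : M ⊔ X = M ⊔ K' := by
          refine le_antisymm (sup_le le_sup_left inf_le_right) fun x hx => ?_
          have hx2 : x ∈ M ⊔ H := sup_le le_sup_left (hgb.trans (sup_comm H M).le) hx
          obtain ⟨u, hu, h, hh, rfl⟩ := mem_sup_of_normal_left.mp hx2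
          refine mul_mem_sup hu ⟨hh, ?_⟩
          simpa using mul_mem (inv_mem (mem_sup_left hu : u ∈ M ⊔ K')) hx
        have hMX : (Nat.card M).Coprime (Nat.card X) :=
          hcopM.coprime_dvd_right (hH ▸ card_dvd_of_le inf_le_left)
        have hXc : Nat.card X = Nat.card K' := by
          have e1 := card_sup_of_coprime (N := M) (H := X) le_normalizer_of_normal hMX
          rw [hsup, card_sup_of_coprime le_normalizer_of_normal hMK] at e1
          exact (Nat.eq_of_mul_eq_mul_left Nat.card_pos e1).symm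
        obtain ⟨u, -, hu⟩ := conj_of_card_eq M X K' (Or.inl hMsol) le_normalizer_of_normal
          (hsup.symm ▸ le_sup_right) hXc.symm hMX
        refine ⟨u⁻¹ * g, ?_⟩
        rw [← conj_smul_conj_smul, ← hK', ← hu, conj_smul_conj_smul, inv_mul_cancel, map_one,
          one_smul]
        exact inf_le_left

variable {G : Type u} [Group G] [Finite G] {p : ℕ} [Fact p.Prime]

/-- a subgroup of order prime to `p` and of `p`-power index has order the `p'`-part of `|G|` -/
theorem card_eq_ordCompl {H : Subgroup G} (h : (Nat.card H).Coprime p)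
    (hi : ∃ n : ℕ, H.index = p ^ n) : Nat.card H = ordCompl[p] (Nat.card G) := by
  obtain ⟨n, hn⟩ := hi
  have hpr : p.Prime := Fact.out
  rw [← H.card_mul_index, hn, Nat.ordCompl_mul, hpr.factorization_pow, Finsupp.single_eq_same,
    Nat.div_self (pow_pos hpr.pos n), mul_one]
  rw [Nat.factorization_eq_zero_of_not_dvd ((hpr.coprime_iff_not_dvd).1 h.symm), pow_zero,
    Nat.div_one]

theorem exists_pcompl (hS : IsPSolvable p G) :
    ∃ H : Subgroup G, (Nat.card H).Coprime p ∧ ∃ n : ℕ, H.index = p ^ n := by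
  have hpr : p.Prime := Fact.out
  have hcop : (ordCompl[p] (Nat.card G)).Coprime p :=
    (hpr.coprime_iff_not_dvd.2 (Nat.not_dvd_ordCompl hpr Nat.card_pos.ne')).symm
  obtain ⟨⟨H, hH⟩, -⟩ := pcompl_aux _ G hS rfl (ordCompl[p] (Nat.card G))
    (ordProj[p] (Nat.card G)) (by rw [mul_comm, Nat.ordProj_mul_ordCompl_eq_self])
    (hcop.pow_right _) ⟨_, rfl⟩
  refine ⟨H, hH ▸ hcop, (Nat.card G).factorization p, ?_⟩
  refine Nat.eq_of_mul_eq_mul_left (Nat.card_pos (α := H)) ?_
  rw [H.card_mul_index, hH, mul_comm, Nat.ordProj_mul_ordCompl_eq_self]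

theorem exists_conj_le (hS : IsPSolvable p G) {U H : Subgroup G} (hU : (Nat.card U).Coprime p)
    (h : (Nat.card H).Coprime p) (hi : ∃ n : ℕ, H.index = p ^ n) :
    ∃ g : G, U.map (MulAut.conj g).toMonoidHom ≤ H := by
  obtain ⟨n, hn⟩ := hi
  obtain ⟨g, hg⟩ := (pcompl_aux _ G hS rfl (Nat.card H) (p ^ n)
    (by rw [← hn, H.card_mul_index]) (h.pow_right _) ⟨n, rfl⟩).2 U H (hU.pow_right _) rfl
  exact ⟨g, hg⟩

end Cfsg.Agent.Struct.PComplements
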