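import Mathlib
import Cfsg.Prelude

/-!
# Counting conjugacy classes of elements of prime power order and of `π`-elements
-/

set_option autoImplicit false
set_option linter.style.haveILetI false
set_option linter.unusedSectionVars false

namespace Cfsg.Agent.Struct.PiClasses

open Subgroup

theorem card_image_mul_le {X Q : Type*} [Finite X] [Finite Q] (π : X → Q) (hπ : Function.Surjective π) (F : Set X)
    (m : ℕ) (hm : ∀ x ∉ F, m ≤ Nat.card {y : X // π y = π x}) :
    m * Nat.card Q ≤ Nat.card X + (m - 1) * F.ncard := by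
  classical
  haveI : Fintype Q := Fintype.ofFinite Q
  haveI : Fintype X := Fintype.ofFinite X
  have h1 : ∀ q : Q, m ≤ Nat.card {y : X // π y = q} + (m - 1) * Nat.card {y : X // π y = q ∧ y ∈ F} := by
    intro q
    obtain ⟨x, rfl⟩ := hπ q
    by_cases hx : x ∈ F
    · haveI : Nonempty {y : X // π y = π x ∧ y ∈ F} := ⟨⟨x, rfl, hx⟩⟩
      haveI : Nonempty {y : X // π y = π x} := ⟨⟨x, rfl⟩⟩
      calc m ≤ 1 + (m - 1) * 1 := by omega
        _ ≤ _ := Nat.add_le_add Nat.card_pos (Nat.mul_le_mul_left _ Nat.card_pos)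
    · exact (hm x hx).trans (Nat.le_add_right _ _)
  have h2 : ∑ q : Q, Nat.card {y : X // π y = q} = Nat.card X := by
    rw [← Nat.card_sigma, Nat.card_congr (Equiv.sigmaFiberEquiv π)]
  have h3 : ∑ q : Q, Nat.card {y : X // π y = q ∧ y ∈ F} = F.ncard := by
    rw [← Nat.card_sigma, ← Nat.card_coe_set_eq]
    exact Nat.card_congr
      { toFun := fun y => ⟨y.2.1, y.2.2.2⟩
        invFun := fun y => ⟨π y, y, rfl, y.2⟩
        left_inv := fun ⟨q, y, hq, hy⟩ => by subst hq; rfl
        right_inv := fun y => rfl }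
  calc m * Nat.card Q = ∑ _q : Q, m := by simp [Nat.card_eq_fintype_card, mul_comm]
    _ ≤ ∑ q : Q, (Nat.card {y : X // π y = q} + (m - 1) * Nat.card {y : X // π y = q ∧ y ∈ F}) :=
        Finset.sum_le_sum fun q _ => h1 q
    _ = _ := by rw [Finset.sum_add_distrib, ← Finset.mul_sum, h2, h3]

variable {G : Type*} [Group G]

/-- The classes consisting of `p`-elements. -/
abbrev PClasses (p : ℕ) (G : Type*) [Group G] : Type _ :=
  {c : ConjClasses G // ∀ x ∈ c.carrier, ∃ k : ℕ, orderOf x = p ^ k}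

theorem orderOf_conj_eq (g x : G) : orderOf (g * x * g⁻¹) = orderOf x :=
  orderOf_injective (MulAut.conj g).toMonoidHom (MulAut.conj g).injective x

theorem orderOf_of_mem_mk {x y : G} (h : y ∈ (ConjClasses.mk x).carrier) : orderOf y = orderOf x := by
  rw [ConjClasses.mem_carrier_iff_mk_eq, ConjClasses.mk_eq_mk_iff_isConj, isConj_iff] at h
  obtain ⟨c, rfl⟩ := h
  exact (orderOf_conj_eq c y).symm

variable [Finite G] {p : ℕ} [hp : Fact p.Prime]

/-- The class of an element of a Sylow subgroup. -/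
def ofSylow (P : Sylow p G) (x : ↥(P : Subgroup G)) : PClasses p G :=
  ⟨ConjClasses.mk (x : G), fun y hy => by
    obtain ⟨k, hk⟩ := IsPGroup.iff_orderOf.1 P.isPGroup' x
    exact ⟨k, by rw [orderOf_of_mem_mk hy, orderOf_coe, hk]⟩⟩

theorem ofSylow_eq_iff (P : Sylow p G) (x y : ↥(P : Subgroup G)) :
    ofSylow P x = ofSylow P y ↔ IsConj (x : G) (y : G) := by
  rw [Subtype.ext_iff]
  exact ConjClasses.mk_eq_mk_iff_isConj

theorem ofSylow_surjective (P : Sylow p G) : Function.Surjective (ofSylow P) := by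
  rintro ⟨c, hc⟩
  obtain ⟨x, rfl⟩ := c.exists_rep
  obtain ⟨k, hk⟩ := hc x ConjClasses.mem_carrier_mk
  obtain ⟨Q, hQ⟩ := (IsPGroup.of_card (p := p) (G := ↥(zpowers x)) (by rw [Nat.card_zpowers, hk])).exists_le_sylow
  obtain ⟨g, hg⟩ := MulAction.exists_smul_eq G Q P
  refine ⟨⟨g * x * g⁻¹, ?_⟩, Subtype.ext (ConjClasses.mk_eq_mk_iff_isConj.2 (isConj_iff.2 ⟨g⁻¹, by
    show g⁻¹ * (g * x * g⁻¹) * g⁻¹⁻¹ = x
    group⟩))⟩
  rw [← hg]
  exact ⟨x, hQ (mem_zpowers x), rfl⟩

theorem card_pClasses_le (P : Sylow p G) : Nat.card (PClasses p G) ≤ Nat.card ↥(P : Subgroup G) :=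
  Nat.card_le_card_of_surjective _ (ofSylow_surjective P)

theorem two_mul_card_le {H : Subgroup G} {K : Subgroup ↥H} (h : K ≠ ⊤) : 2 * Nat.card K ≤ Nat.card H := by
  rw [← K.card_mul_index, mul_comm]
  exact Nat.mul_le_mul_left _ (one_lt_index_of_ne_top h)

/-- Many classes of `p`-elements force an abelian Sylow subgroup and a normal `p`-complement. -/
theorem complement_of_many (P : Sylow p G)
    (h : (p + 1) * Nat.card ↥(P : Subgroup G) < 2 * p * Nat.card (PClasses p G)) :
    (∃ K : Subgroup G, K.Normal ∧ K.IsComplement' (P : Subgroup G)) ∧ IsMulCommutative ↥(P : Subgroup G) := by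
  classical
  have h2 := hp.out.two_le
  have hab : IsMulCommutative ↥(P : Subgroup G) := by
    by_contra hna
    have hne : center ↥(P : Subgroup G) ≠ ⊤ := fun e => hna
      ⟨⟨fun a b => (mem_center_iff.1 (e ▸ mem_top b) a)⟩⟩
    have hm : ∀ x ∉ (center ↥(P : Subgroup G) : Set ↥(P : Subgroup G)),
        p ≤ Nat.card {y : ↥(P : Subgroup G) // ofSylow P y = ofSylow P x} := by
      intro x hx
      have hne1 : (centralizer ({x} : Set ↥(P : Subgroup G))).index ≠ 1 := fun h1 => by
        rw [index_eq_one] at h1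
        exact hx (mem_center_iff.2 fun g => mem_centralizer_singleton_iff.1 (h1 ▸ mem_top g))
      obtain ⟨k, hk⟩ := IsPGroup.iff_card.1 P.isPGroup'
      obtain ⟨i, -, hi⟩ := (Nat.dvd_prime_pow hp.out).1 (hk ▸ index_dvd_card (centralizer ({x} : Set ↥(P : Subgroup G))))
      have hpi : p ≤ (centralizer ({x} : Set ↥(P : Subgroup G))).index := by
        rw [hi] at hne1 ⊢
        exact Nat.le_self_pow (fun h0 => hne1 (by rw [h0, pow_zero])) p
      refine hpi.trans ?_
      rw [index_eq_card]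
      refine Nat.card_le_card_of_injective (fun q => ⟨q.out * x * q.out⁻¹, (ofSylow_eq_iff P _ _).2
        (isConj_iff.2 ⟨(q.out : G)⁻¹, by push_cast; group⟩)⟩) fun a b hab => ?_
      have h1 := congrArg Subtype.val hab
      simp only at h1
      rw [← QuotientGroup.out_eq' a, ← QuotientGroup.out_eq' b, QuotientGroup.eq, mem_centralizer_singleton_iff]
      calc a.out⁻¹ * b.out * x = a.out⁻¹ * (b.out * x * b.out⁻¹) * b.out := by group
        _ = a.out⁻¹ * (a.out * x * a.out⁻¹) * b.out := by rw [h1]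
        _ = x * (a.out⁻¹ * b.out) := by group
    have h3 := card_image_mul_le _ (ofSylow_surjective P) _ p hm
    rw [← Nat.card_coe_set_eq] at h3
    have h4 := two_mul_card_le hne
    have h5 : (p - 1) * (2 * Nat.card ↥(center ↥(P : Subgroup G))) ≤ (p - 1) * Nat.card ↥(P : Subgroup G) :=
      Nat.mul_le_mul_left _ h4
    have h6 : 2 * p * Nat.card (PClasses p G) ≤ (p + 1) * Nat.card ↥(P : Subgroup G) := by
      obtain ⟨q, rfl⟩ : ∃ q, p = q + 1 := ⟨p - 1, by omega⟩
      simp only [Nat.add_sub_cancel] at h3 h5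
      nlinarith
    omega
  refine ⟨?_, hab⟩
  have hN : normalizer ((P : Subgroup G) : Set G) ≤ centralizer ((P : Subgroup G) : Set G) := by
    by_contra hcon
    let F : Subgroup ↥(P : Subgroup G) :=
      (centralizer (normalizer ((P : Subgroup G) : Set G) : Set G)).subgroupOf (P : Subgroup G)
    have hFne : F ≠ ⊤ := fun e => hcon fun n hn => mem_centralizer_iff.2 fun x hx =>
      (mem_centralizer_iff.1 (mem_subgroupOf.1 (e ▸ mem_top (⟨x, hx⟩ : ↥(P : Subgroup G)) : _)) n hn).symm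
    have hm : ∀ x ∉ (F : Set ↥(P : Subgroup G)), 2 ≤ Nat.card {y : ↥(P : Subgroup G) // ofSylow P y = ofSylow P x} := by
      intro x hx
      obtain ⟨n, hn, hne⟩ : ∃ n ∈ normalizer ((P : Subgroup G) : Set G), n * (x : G) ≠ x * n := by
        by_contra hh
        push Not at hh
        exact hx (mem_subgroupOf.2 (mem_centralizer_iff.2 hh))
      let y : ↥(P : Subgroup G) := ⟨n * x * n⁻¹, (mem_normalizer_iff.1 hn _).1 x.2⟩
      have hxy : y ≠ x := fun e => hne (mul_inv_eq_iff_eq_mul.1 (congrArg Subtype.val e))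
      haveI : Nontrivial {z : ↥(P : Subgroup G) // ofSylow P z = ofSylow P x} :=
        ⟨⟨y, (ofSylow_eq_iff P _ _).2 (isConj_iff.2 ⟨n⁻¹, by show n⁻¹ * (n * x * n⁻¹) * n⁻¹⁻¹ = x; group⟩)⟩,
          ⟨x, rfl⟩, fun e => hxy (congrArg Subtype.val e)⟩
      exact Finite.one_lt_card
    have h3 := card_image_mul_le _ (ofSylow_surjective P) _ 2 hm
    rw [← Nat.card_coe_set_eq] at h3
    have h4 : p * Nat.card F ≤ Nat.card ↥(P : Subgroup G) := by
      obtain ⟨k, hk⟩ := IsPGroup.iff_card.1 P.isPGroup'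
      obtain ⟨i, -, hi⟩ := (Nat.dvd_prime_pow hp.out).1 (hk ▸ F.index_dvd_card)
      have hi0 : i ≠ 0 := fun h0 => hFne (index_eq_one.1 (by rw [hi, h0, pow_zero]))
      rw [← F.card_mul_index, hi, mul_comm]
      exact Nat.mul_le_mul_left _ (Nat.le_self_pow hi0 p)
    have h5 := Nat.mul_le_mul_left p h3
    have e : (2 - 1) * Nat.card ↥F = Nat.card ↥F := one_mul _
    rw [show (Nat.card ↥((F : Set ↥(P : Subgroup G))) : ℕ) = Nat.card ↥F from rfl, e, mul_add] at h5
    nlinarith
  exact ⟨(MonoidHom.transferSylow P hN).ker, inferInstance, MonoidHom.ker_transferSylow_isComplement' P hN⟩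

theorem card_pClasses_of_complement (P : Sylow p G) (hab : IsMulCommutative ↥(P : Subgroup G)) {K : Subgroup G}
    [K.Normal] (hK : K.IsComplement' (P : Subgroup G)) : Nat.card ↥(P : Subgroup G) ≤ Nat.card (PClasses p G) := by
  refine Nat.card_le_card_of_injective (ofSylow P) fun x y h => ?_
  obtain ⟨g, hg⟩ := isConj_iff.1 ((ofSylow_eq_iff P x y).1 h)
  obtain ⟨n, hn, z, hz, rfl⟩ := mem_sup_of_normal_left.1 (hK.sup_eq_top.ge (mem_top g))
  have hzx : z * (x : G) * z⁻¹ = x := by
    rw [show z * (x : G) = x * z from congrArg Subtype.val (mul_comm' (⟨z, hz⟩ : ↥(P : Subgroup G)) x),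
      mul_inv_cancel_right]
  have hy : (y : G) = n * x * n⁻¹ := by
    rw [← hg]; nth_rw 2 [← hzx]; group
  refine Subtype.ext ?_
  have h1 : (x : G)⁻¹ * y ∈ K := by
    rw [hy, show (x : G)⁻¹ * (n * x * n⁻¹) = ((x : G)⁻¹ * n * ((x : G)⁻¹)⁻¹) * n⁻¹ by group]
    exact mul_mem (Normal.conj_mem inferInstance n hn _) (inv_mem hn)
  exact inv_mul_eq_one.1 (mem_bot.1 (hK.disjoint.le_bot ⟨h1, (P : Subgroup G).mul_mem ((P : Subgroup G).inv_mem x.2) y.2⟩))

/-- The classes of `π`-elements. -/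
abbrev PiCl (π : Finset ℕ) (G : Type*) [Group G] : Type _ :=
  {c : ConjClasses G // ∀ x ∈ c.carrier, ∀ r : ℕ, r.Prime → r ∣ orderOf x → r ∈ π}

/-- The `π`-part of a number. -/
def piPart (π : Finset ℕ) (n : ℕ) : ℕ := π.prod fun r => r ^ n.factorization r

theorem card_piCl_insert {r : ℕ} (hr : r.Prime) (π : Finset ℕ) (hπ : r ∉ π) {H : Type*} [Group H] [Finite H]
    (b : ℕ) (hb : ∀ x : H, Nat.card (PiCl π ↥(centralizer ({x} : Set H))) ≤ b) :
    Nat.card (PiCl (insert r π) H) ≤ Nat.card (PClasses r H) * b := by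
  classical
  haveI : Fintype (PClasses r H) := Fintype.ofFinite _
  let rep : PClasses r H → H := fun c => c.1.exists_rep.choose
  have hrep : ∀ c, ConjClasses.mk (rep c) = c.1 := fun c => c.1.exists_rep.choose_spec
  let T := Σ c : PClasses r H, PiCl π ↥(centralizer ({rep c} : Set H))
  let rep' : (c : PClasses r H) → PiCl π ↥(centralizer ({rep c} : Set H)) → H :=
    fun _ d => ((d.1.exists_rep.choose : ↥(centralizer _)) : H)
  have hprop : ∀ (c : PClasses r H) (d : PiCl π ↥(centralizer ({rep c} : Set H))),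
      Commute (rep' c d) (rep c) ∧ ∀ s : ℕ, s.Prime → s ∣ orderOf (rep c * rep' c d) → s ∈ insert r π := by
    intro c d
    have hcom : Commute (rep' c d) (rep c) := mem_centralizer_singleton_iff.1 d.1.exists_rep.choose.2
    refine ⟨hcom, fun s hs hsd => ?_⟩
    have hd := hsd.trans hcom.symm.orderOf_mul_dvd_lcm
    rcases (hs.dvd_mul).1 (hd.trans (Nat.lcm_dvd_mul _ _)) with h1 | h1
    · obtain ⟨k, hk⟩ := c.2 (rep c) (by rw [← hrep c]; exact ConjClasses.mem_carrier_mk)
      rw [hk] at h1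
      exact Finset.mem_insert.2 (Or.inl ((Nat.prime_dvd_prime_iff_eq hs hr).1 (hs.dvd_of_dvd_pow h1)))
    · rw [show orderOf (rep' c d) = orderOf d.1.exists_rep.choose from orderOf_coe _] at h1
      refine Finset.mem_insert.2 (Or.inr (d.2 _ ?_ s hs h1))
      exact (ConjClasses.mem_carrier_iff_mk_eq).2 d.1.exists_rep.choose_spec
  let f : T → PiCl (insert r π) H := fun t => ⟨ConjClasses.mk (rep t.1 * rep' t.1 t.2), fun x hx s hs hsd =>
    (hprop t.1 t.2).2 s hs (orderOf_of_mem_mk hx ▸ hsd)⟩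
  have hf : Function.Surjective f := by
    rintro ⟨C, hC⟩
    obtain ⟨y, rfl⟩ := C.exists_rep
    have hy := hC y ConjClasses.mem_carrier_mk
    have ho := Nat.ordProj_mul_ordCompl_eq_self (orderOf y) r
    set u := r ^ (orderOf y).factorization r
    set v := orderOf y / u
    have huv : Nat.Coprime u v := Nat.Coprime.pow_left _ (Nat.coprime_ordCompl hr (orderOf_pos y).ne')
    obtain ⟨a, b, hab⟩ := (Int.isCoprime_iff_nat_coprime (a := (u : ℤ)) (b := (v : ℤ))).2 huv
    set x := y ^ ((v : ℤ) * b) with hxdef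
    set z := y ^ ((u : ℤ) * a) with hzdef
    have hxz : x * z = y := by
      rw [hxdef, hzdef, ← zpow_add, show (v : ℤ) * b + (u : ℤ) * a = 1 by linear_combination hab, zpow_one]
    have hxo : orderOf x ∣ u := by
      refine orderOf_dvd_of_pow_eq_one ?_
      rw [hxdef, ← zpow_natCast, ← zpow_mul, ← orderOf_dvd_iff_zpow_eq_one, ← ho, Nat.cast_mul]
      exact ⟨b, by ring⟩
    have hzo : orderOf z ∣ v := by
      refine orderOf_dvd_of_pow_eq_one ?_
      rw [hzdef, ← zpow_natCast, ← zpow_mul, ← orderOf_dvd_iff_zpow_eq_one, ← ho, Nat.cast_mul]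
      exact ⟨a, by ring⟩
    obtain ⟨k, -, hk⟩ := (Nat.dvd_prime_pow hr).1 hxo
    let c : PClasses r H := ⟨ConjClasses.mk x, fun w hw => ⟨k, by rw [orderOf_of_mem_mk hw, hk]⟩⟩
    obtain ⟨g, hg⟩ := isConj_iff.1 (ConjClasses.mk_eq_mk_iff_isConj.1 (hrep c).symm)
    have hxzc : Commute x z := (Commute.refl y).zpow_zpow _ _
    have hzc : g * z * g⁻¹ ∈ centralizer ({rep c} : Set H) := by
      rw [mem_centralizer_singleton_iff, ← hg]
      calc g * z * g⁻¹ * (g * x * g⁻¹) = g * (z * x) * g⁻¹ := by group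
        _ = g * (x * z) * g⁻¹ := by rw [hxzc.eq]
        _ = g * x * g⁻¹ * (g * z * g⁻¹) := by group
    let d : PiCl π ↥(centralizer ({rep c} : Set H)) := ⟨ConjClasses.mk ⟨_, hzc⟩, fun w hw s hs hsd => by
      rw [orderOf_of_mem_mk hw, ← orderOf_coe] at hsd
      rw [show orderOf (((⟨_, hzc⟩ : ↥(centralizer ({rep c} : Set H))) : H)) = orderOf z from orderOf_conj_eq g z] at hsd
      have hsy : s ∣ orderOf y := hsd.trans (hzo.trans ⟨u, by rw [mul_comm]; exact ho.symm⟩)
      rcases Finset.mem_insert.1 (hy s hs hsy) with rfl | h'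
      · exact absurd ((hsd.trans hzo)) (Nat.not_dvd_ordCompl hs (orderOf_pos y).ne')
      · exact h'⟩
    refine ⟨⟨c, d⟩, Subtype.ext ?_⟩
    show ConjClasses.mk (rep c * rep' c d) = ConjClasses.mk y
    obtain ⟨e, he⟩ := isConj_iff.1 (ConjClasses.mk_eq_mk_iff_isConj.1 d.1.exists_rep.choose_spec.symm)
    have he' : (e : H) * (g * z * g⁻¹) * (e : H)⁻¹ = rep' c d := congrArg Subtype.val he
    rw [← hxz, ConjClasses.mk_eq_mk_iff_isConj]
    refine (isConj_iff.2 ⟨(e : H) * g, ?_⟩).symm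
    have hec : (e : H) * rep c * (e : H)⁻¹ = rep c := by
      rw [mem_centralizer_singleton_iff.1 e.2, mul_inv_cancel_right]
    calc (e : H) * g * (x * z) * ((e : H) * g)⁻¹
        = ((e : H) * (g * x * g⁻¹) * (e : H)⁻¹) * ((e : H) * (g * z * g⁻¹) * (e : H)⁻¹) := by group
      _ = rep c * rep' c d := by rw [hg, hec, he']
  refine (Nat.card_le_card_of_surjective f hf).trans ?_
  rw [Nat.card_sigma, Nat.card_eq_fintype_card (α := PClasses r H)]
  refine (Finset.sum_le_sum fun c _ => hb (rep c)).trans ?_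
  simp

theorem card_piCl_le.{u} (π : Finset ℕ) : (∀ r ∈ π, r.Prime) → ∀ (H : Type u) [Group H] [Finite H],
    Nat.card (PiCl π H) ≤ piPart π (Nat.card H) := by
  classical
  induction π using Finset.induction_on with
  | empty =>
    intro _ H _ _
    have h1 : ∀ c : PiCl (∅ : Finset ℕ) H, c.1 = ConjClasses.mk 1 := by
      rintro ⟨c, hc⟩
      obtain ⟨x, rfl⟩ := c.exists_rep
      by_contra hne
      have hx1 : x ≠ 1 := fun h => hne (congrArg ConjClasses.mk h)
      obtain ⟨r, hr, hrd⟩ := Nat.exists_prime_and_dvd (fun h => hx1 (orderOf_eq_one_iff.1 h))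
      simpa using hc x ConjClasses.mem_carrier_mk r hr hrd
    haveI : Subsingleton (PiCl (∅ : Finset ℕ) H) := ⟨fun a b => Subtype.ext ((h1 a).trans (h1 b).symm)⟩
    exact Finite.card_le_one_iff_subsingleton.2 inferInstance
  | @insert r π hr ih =>
    intro hπ H _ _
    have hrp : r.Prime := hπ r (Finset.mem_insert_self r π)
    haveI : Fact r.Prime := ⟨hrp⟩
    obtain ⟨P⟩ : Nonempty (Sylow r H) := inferInstance
    refine (card_piCl_insert hrp π hr (piPart π (Nat.card H)) fun x => ?_).trans ?_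
    · refine (ih (fun s hs => hπ s (Finset.mem_insert_of_mem hs)) _).trans ?_
      refine Finset.prod_le_prod' fun s hs => Nat.pow_le_pow_right (hπ s (Finset.mem_insert_of_mem hs)).pos ?_
      exact (Nat.factorization_le_iff_dvd Nat.card_pos.ne' Nat.card_pos.ne').2 (card_subgroup_dvd_card _) s
    · show Nat.card (PClasses r H) * piPart π (Nat.card H) ≤
        ∏ s ∈ insert r π, s ^ (Nat.card H).factorization s
      rw [Finset.prod_insert hr]
      show _ ≤ _ * piPart π (Nat.card H)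
      refine Nat.mul_le_mul_right _ ((card_pClasses_le P).trans ?_)
      rw [P.card_eq_multiplicity]

theorem many_at_each.{u} {H : Type u} [Group H] [Finite H] (π : Finset ℕ) (hπ : ∀ r ∈ π, r.Prime) {m : ℕ}
    (hmin : ∀ r ∈ π, m ≤ r) (hk : (m + 1) * piPart π (Nat.card H) < 2 * m * Nat.card (PiCl π H))
    {r : ℕ} (hr : r ∈ π) [Fact r.Prime] (P : Sylow r H) :
    (r + 1) * Nat.card ↥(P : Subgroup H) < 2 * r * Nat.card (PClasses r H) := by
  classical
  have hsplit : insert r (π.erase r) = π := Finset.insert_erase hr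
  set A := piPart (π.erase r) (Nat.card H)
  have h1 : Nat.card (PiCl π H) ≤ Nat.card (PClasses r H) * A := by
    conv_lhs => rw [← hsplit]
    refine card_piCl_insert (Fact.out : r.Prime) _ (Finset.notMem_erase r π) _ fun x => ?_
    refine (card_piCl_le _ (fun s hs => hπ s (Finset.mem_of_mem_erase hs)) _).trans ?_
    refine Finset.prod_le_prod' fun s hs => Nat.pow_le_pow_right (hπ s (Finset.mem_of_mem_erase hs)).pos ?_
    exact (Nat.factorization_le_iff_dvd Nat.card_pos.ne' Nat.card_pos.ne').2 (card_subgroup_dvd_card _) s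
  have h2 : piPart π (Nat.card H) = Nat.card ↥(P : Subgroup H) * A := by
    conv_lhs => rw [← hsplit]
    rw [piPart, Finset.prod_insert (Finset.notMem_erase r π), P.card_eq_multiplicity]
    rfl
  rw [h2] at hk
  have h3 : (m + 1) * Nat.card ↥(P : Subgroup H) < 2 * m * Nat.card (PClasses r H) := by
    by_contra hcon
    push Not at hcon
    have := Nat.mul_le_mul_left (2 * m) h1
    have := Nat.mul_le_mul_right A hcon
    nlinarith
  have hm1 := hmin r hr
  by_contra hcon
  push Not at hcon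
  have a1 := Nat.mul_le_mul_left m hcon
  have a2 := Nat.mul_lt_mul_of_pos_left h3 (Fact.out : r.Prime).pos
  have a3 := Nat.mul_le_mul_right (Nat.card ↥(P : Subgroup H)) hm1
  nlinarith

end Cfsg.Agent.Struct.PiClasses
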