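import Mathlib
import Cfsg.Agent.Lib.Solv.Coprime

/-!
# Normal subgroups consisting of all `π`-elements, extended along normal series
-/

set_option autoImplicit false
set_option linter.style.haveILetI false
set_option linter.unusedSectionVars false

namespace Cfsg.Agent.Struct.PiClosed

open Subgroup Cfsg.Agent.Solv
open scoped Pointwise

/-- All prime divisors lie in `π`. -/
def IsPi (π : Set ℕ) (n : ℕ) : Prop := ∀ p : ℕ, p.Prime → p ∣ n → p ∈ π

theorem IsPi.of_dvd {π : Set ℕ} {a b : ℕ} (h : IsPi π b) (hab : a ∣ b) : IsPi π a :=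
  fun p hp hpa => h p hp (hpa.trans hab)

theorem IsPi.mul {π : Set ℕ} {a b : ℕ} (ha : IsPi π a) (hb : IsPi π b) : IsPi π (a * b) :=
  fun p hp hpab => (hp.dvd_mul.1 hpab).elim (ha p hp) (hb p hp)

theorem isPi_card {π : Set ℕ} {H : Type*} [Group H] [Finite H] (h : ∀ x : H, IsPi π (orderOf x)) :
    IsPi π (Nat.card H) := fun p hp hd => by
  haveI := Fact.mk hp
  obtain ⟨x, hx⟩ := exists_prime_orderOf_dvd_card' p hd
  exact h x p hp (hx ▸ dvd_rfl)

variable {G : Type*} [Group G] [Finite G]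

/-- A `π`-element of a quotient is the image of a `π`-power of any lift. -/
theorem exists_pow_pi {H : Type*} [Group H] (f : G →* H) (π : Set ℕ) :
    ∀ g : G, IsPi π (orderOf (f g)) → ∃ k : ℕ, IsPi π (orderOf (g ^ k)) ∧ f (g ^ k) = f g := by
  intro g
  induction hn : orderOf g using Nat.strong_induction_on generalizing g with
  | _ n ih =>
  intro hg
  by_cases hpi : IsPi π n
  · exact ⟨1, by rwa [pow_one, hn], by rw [pow_one]⟩
  simp only [IsPi, not_forall] at hpi
  obtain ⟨q, hq, hqn, hqπ⟩ := hpi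
  set m := orderOf (f g) with hm
  have hqm : q.Coprime m := hq.coprime_iff_not_dvd.2 fun h => hqπ (hg q hq h)
  obtain ⟨k, hk1, hk0⟩ := Nat.chineseRemainder hqm.symm 1 0
  have hfk : f (g ^ k) = f g := by
    rw [map_pow, ← pow_one (f g), ← pow_mul, one_mul, pow_eq_pow_iff_modEq]
    exact hk1
  obtain ⟨c, rfl⟩ := Nat.modEq_zero_iff_dvd.1 hk0
  have hlt : orderOf (g ^ (q * c)) < n := by
    have h1 : orderOf (g ^ (q * c)) ∣ orderOf g / q := by
      refine orderOf_dvd_of_pow_eq_one ?_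
      rw [← pow_mul, mul_comm q c, mul_assoc, Nat.mul_div_cancel' (hn ▸ hqn), mul_comm, pow_mul,
        pow_orderOf_eq_one, one_pow]
    refine (Nat.le_of_dvd (Nat.div_pos (Nat.le_of_dvd (orderOf_pos g) (hn ▸ hqn)) hq.pos) h1).trans_lt ?_
    rw [hn]
    exact Nat.div_lt_self (hn ▸ orderOf_pos g) hq.one_lt
  obtain ⟨j, hj1, hj2⟩ := ih _ hlt (g ^ (q * c)) rfl (by rw [hfk]; exact hg)
  exact ⟨q * c * j, by rwa [pow_mul], by rw [pow_mul, hj2, hfk]⟩

/-- `π`-elements normalizing a `π'`-subgroup centralize it. -/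
def NCHyp (π : Set ℕ) (G : Type*) [Group G] : Prop :=
  ∀ H : Subgroup G, (∀ p : ℕ, p.Prime → p ∣ Nat.card H → p ∉ π) →
    ∀ x : G, IsPi π (orderOf x) → x ∈ normalizer (H : Set G) → ∀ h ∈ H, x * h = h * x

theorem ncHyp_of_relIndex {π : Set ℕ}
    (hhom : ∀ H : Subgroup G, H ≠ ⊥ → (∀ p : ℕ, p.Prime → p ∣ Nat.card ↥H → p ∉ π) →
      ∀ p : ℕ, p.Prime → p ∣ (Subgroup.centralizer (H : Set G)).relIndex
        (Subgroup.normalizer (H : Set G)) → p ∉ π) : NCHyp π G := by
  intro H hH x hx hxN h hh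
  by_cases hHb : H = ⊥
  · rw [hHb, mem_bot] at hh
    rw [hh, mul_one, one_mul]
  haveI : ((centralizer (H : Set G)).subgroupOf (normalizer (H : Set G))).Normal := inferInstance
  set N := normalizer (H : Set G)
  have h1 : orderOf ((⟨x, hxN⟩ : N) : N ⧸ (centralizer (H : Set G)).subgroupOf N) = 1 := by
    by_contra hne
    obtain ⟨p, hp, hpd⟩ := Nat.exists_prime_and_dvd hne
    refine hhom H hHb hH p hp (hpd.trans (_root_.orderOf_dvd_natCard _)) (hx p hp (hpd.trans ?_))
    refine (orderOf_map_dvd (QuotientGroup.mk' ((centralizer (H : Set G)).subgroupOf N)) ⟨x, hxN⟩).trans ?_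
    rw [Subgroup.orderOf_mk]
  rw [orderOf_eq_one_iff, QuotientGroup.eq_one_iff, mem_subgroupOf] at h1
  exact ((mem_centralizer_iff.1 h1) h hh).symm

/-- The extension step. -/
theorem closed_step {π : Set ℕ} (hnc : NCHyp π G) (L K M : Subgroup G) [L.Normal] [K.Normal]
    [M.Normal] (hLK : L ≤ K) (hKM : K ≤ M) (hL : ∀ x ∈ K, (x ∈ L ↔ IsPi π (orderOf x)))
    (hM : ∀ x ∈ M, IsPi π (orderOf (x : G ⧸ K))) :
    ∃ L' : Subgroup G, L' ≤ M ∧ ∀ x ∈ M, (x ∈ L' ↔ IsPi π (orderOf x)) := by
  classical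
  set φ := QuotientGroup.mk' L with hφ
  have hLpi : IsPi π (Nat.card L) := isPi_card fun x => by
    rw [← Subgroup.orderOf_coe]; exact (hL x (hLK x.2)).1 x.2
  set K' := K.map φ with hK'
  set M' := M.map φ with hM'
  haveI : K'.Normal := Subgroup.Normal.map inferInstance _ (QuotientGroup.mk'_surjective L)
  haveI : M'.Normal := Subgroup.Normal.map inferInstance _ (QuotientGroup.mk'_surjective L)
  have hK'p : ∀ p : ℕ, p.Prime → p ∣ Nat.card K' → p ∉ π := by
    intro p hp hd hpπ
    haveI := Fact.mk hp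
    obtain ⟨⟨w, hw⟩, hwo⟩ := exists_prime_orderOf_dvd_card' p hd
    rw [Subgroup.orderOf_mk] at hwo
    obtain ⟨x, hx, rfl⟩ := hw
    obtain ⟨k, hk, hkx⟩ := exists_pow_pi φ π x (fun r hr hrd => by
      rw [hwo] at hrd
      rwa [(Nat.prime_dvd_prime_iff_eq hr hp).1 hrd])
    have h1 : x ^ k ∈ L := (hL _ (pow_mem hx k)).2 hk
    have h2 : φ (x ^ k) = 1 := (QuotientGroup.eq_one_iff _).2 h1
    rw [hkx] at h2
    rw [h2, orderOf_one] at hwo
    exact hp.one_lt.ne hwo
  have hK'M' : K' ≤ M' := map_mono hKM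
  -- the index of `K'` in `M'`
  haveI hKn : (K'.subgroupOf M').Normal := inferInstance
  have hidx : IsPi π (K'.subgroupOf M').index := by
    rw [index_eq_card]
    refine isPi_card fun t => ?_
    obtain ⟨⟨_, x, hx, rfl⟩, rfl⟩ := QuotientGroup.mk_surjective t
    refine (hM x hx).of_dvd (orderOf_dvd_of_pow_eq_one ?_)
    rw [← QuotientGroup.mk_pow, QuotientGroup.eq_one_iff, mem_subgroupOf]
    show (φ x) ^ orderOf (x : G ⧸ K) ∈ K'
    rw [← map_pow]
    refine mem_map_of_mem φ ?_
    rw [← QuotientGroup.eq_one_iff, QuotientGroup.mk_pow, pow_orderOf_eq_one]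
  have hcop : (Nat.card (K'.subgroupOf M')).Coprime (K'.subgroupOf M').index := by
    by_contra hc
    obtain ⟨r, hr, hr1, hr2⟩ := Nat.Prime.not_coprime_iff_dvd.1 hc
    rw [Nat.card_congr (subgroupOfEquivOfLe hK'M').toEquiv] at hr1
    exact hK'p r hr hr1 (hidx r hr hr2)
  obtain ⟨T₀, hT₀⟩ := Subgroup.exists_right_complement'_of_coprime hcop
  set T := T₀.map M'.subtype with hT
  have hTcard : Nat.card T = (K'.subgroupOf M').index := by
    rw [card_map_of_injective (subtype_injective _)]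
    exact hT₀.symm.index_eq_card.symm
  have hTM : T ≤ M' := map_subtype_le _
  have hTK : T ⊔ K' = M' := by
    refine le_antisymm (sup_le hTM hK'M') fun w hw => ?_
    obtain ⟨⟨a, b⟩, hab⟩ := (hT₀ : Function.Bijective _).2 (⟨w, hw⟩ : M')
    have hab' : ((a : M') : G ⧸ L) * ((b : M') : G ⧸ L) = w := congrArg Subtype.val hab
    rw [← hab']
    exact mul_mem (mem_sup_right a.2) (mem_sup_left (mem_map_of_mem _ b.2))
  -- `T` centralizes `K'`
  have hTc : ∀ t ∈ T, ∀ w ∈ K', t * w = w * t := by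
    intro t ht
    have htpi : IsPi π (orderOf t) :=
      hidx.of_dvd (hTcard ▸ Subgroup.orderOf_dvd_natCard T ht)
    set C := centralizer ({t} : Set (G ⧸ L)) with hC
    suffices h : K' ≤ C by
      exact fun w hw => (mem_centralizer_singleton_iff.1 (h hw)).symm
    rw [← subgroupOf_eq_top, ← index_eq_one]
    by_contra hne
    obtain ⟨q, hq, hqd⟩ := Nat.exists_prime_and_dvd hne
    haveI := Fact.mk hq
    have hqK : q ∣ Nat.card K' := hqd.trans (index_dvd_card _)
    have htn : zpowers t ≤ normalizer (K' : Set (G ⧸ L)) := by rw [normalizer_eq_top]; exact le_top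
    have hcop' : (Nat.card (zpowers t)).Coprime (Nat.card K') := by
      by_contra hc
      obtain ⟨r, hr, hr1, hr2⟩ := Nat.Prime.not_coprime_iff_dvd.1 hc
      rw [Nat.card_zpowers] at hr1
      exact hK'p r hr hr2 (htpi r hr hr1)
    obtain ⟨Q₀, hQ₀⟩ := Cfsg.Agent.Solv.exists_invariant_sylow (zpowers t) K' htn hcop'
      (Or.inl inferInstance) q
    set Q := (Q₀ : Subgroup K').map K'.subtype with hQdef
    set R := Q.comap φ with hR
    obtain ⟨S⟩ := Sylow.nonempty (p := q) (G := R)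
    set H := (S : Subgroup R).map R.subtype with hHdef
    have hqπ : q ∉ π := hK'p q hq hqK
    have hHp : ∀ p : ℕ, p.Prime → p ∣ Nat.card H → p ∉ π := by
      intro p hp hd
      obtain ⟨i, hi⟩ := IsPGroup.iff_card.1 (S.isPGroup'.map R.subtype)
      rw [hHdef, hi] at hd
      rwa [(Nat.prime_dvd_prime_iff_eq hp hq).1 (hp.dvd_of_dvd_pow hd)]
    -- `H` covers `Q`
    have hHQ : Q ≤ H.map φ := by
      have hcardR : Nat.card R = Nat.card L * Nat.card Q := Cfsg.Agent.Solv.card_comap_mk' L Q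
      obtain ⟨i, hi⟩ := IsPGroup.iff_card.1 (Q₀.isPGroup'.map K'.subtype)
      have hS : Nat.card H = q ^ i := by
        rw [hHdef, card_map_of_injective (subtype_injective _), S.card_eq_multiplicity, hcardR,
          show Nat.card Q = q ^ i from hi,
          Nat.factorization_mul Nat.card_pos.ne' (pow_ne_zero _ hq.ne_zero), Finsupp.add_apply,
          Nat.factorization_eq_zero_of_not_dvd (fun h => hqπ (hLpi q hq h)),
          hq.factorization_pow, Finsupp.single_eq_same, zero_add]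
      have hdisj : H ⊓ L = ⊥ := by
        refine eq_bot_of_card_eq _ (Nat.dvd_one.1 ?_)
        have hc : (q ^ i).Coprime (Nat.card L) :=
          (hq.coprime_iff_not_dvd.2 fun h => hqπ (hLpi q hq h)).pow_left i
        exact hc ▸ Nat.dvd_gcd (hS ▸ card_dvd_of_le inf_le_left) (card_dvd_of_le inf_le_right)
      refine (eq_of_le_of_card_ge ?_ ?_).ge
      · rintro _ ⟨x, ⟨y, -, rfl⟩, rfl⟩
        exact y.2
      · have hinj : Function.Injective (fun x : H => (⟨φ x, mem_map_of_mem φ x.2⟩ : H.map φ)) := by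
          intro a b hab
          have h1 : φ a = φ b := congrArg Subtype.val hab
          have h2 : (a : G)⁻¹ * b ∈ H ⊓ L := ⟨H.mul_mem (H.inv_mem a.2) b.2, QuotientGroup.eq.1 h1⟩
          rw [hdisj, mem_bot, inv_mul_eq_one] at h2
          exact Subtype.ext h2
        calc Nat.card Q = q ^ i := hi
          _ = Nat.card H := hS.symm
          _ ≤ Nat.card (H.map φ) := Nat.card_le_card_of_injective _ hinj
    -- a `π`-lift of `t` normalizing `H`
    obtain ⟨x, rfl⟩ := QuotientGroup.mk'_surjective L t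
    have hxR : ∀ z ∈ R, x * z * x⁻¹ ∈ R := fun z hz => by
      show φ (x * z * x⁻¹) ∈ Q
      rw [map_mul, map_mul, map_inv]
      exact ((mem_normalizer_iff.1 (hQ₀ (mem_zpowers (φ x)))) (φ z)).1 hz
    have hmapR : R.map (MulAut.conj x).toMonoidHom = R := eq_of_le_of_card_ge
      (by rintro _ ⟨z, hz, rfl⟩; exact hxR z hz)
      (Nat.card_congr (R.equivMapOfInjective _ (MulAut.conj x).injective).toEquiv).le
    let S' : Sylow q R := Sylow.ofCard ((H.map (MulAut.conj x).toMonoidHom).subgroupOf R) (by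
      rw [Nat.card_congr (subgroupOfEquivOfLe ((map_mono (map_subtype_le _)).trans hmapR.le)).toEquiv,
        card_map_of_injective (MulAut.conj x).injective, ← hHdef]
      rw [hHdef, card_map_of_injective (subtype_injective _), S.card_eq_multiplicity])
    obtain ⟨r, hr⟩ := MulAction.exists_smul_eq R S' S
    have hnorm : (r : G) * x ∈ normalizer (H : Set G) := by
      have h1 := congrArg (fun P : Sylow q R => (P : Subgroup R).map R.subtype) hr
      rw [Sylow.coe_subgroup_smul, map_conj_smul, coe_subtype,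
        show ((S' : Subgroup R)).map R.subtype = H.map (MulAut.conj x).toMonoidHom from
          map_subgroupOf_eq_of_le ((map_mono (map_subtype_le _)).trans hmapR.le)] at h1
      rw [mem_normalizer_iff_map_conj_eq]
      refine Eq.trans ?_ h1
      rw [Subgroup.pointwise_smul_def]
      refine Eq.trans ?_ (Subgroup.map_map H _ _).symm
      congr 1
      ext z
      simp [mul_assoc]
    have himg : φ ((r : G) * x) = φ r * φ x := map_mul _ _ _
    -- replace by a `π`-power of `r * x` modulo `R`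
    haveI : (R.subgroupOf (normalizer (R : Set G))).Normal := normal_in_normalizer
    have hxN : x ∈ normalizer (R : Set G) := mem_normalizer_iff_map_conj_eq.2 hmapR
    have hrN : (r : G) ∈ normalizer (R : Set G) := le_normalizer r.2
    let ψ : normalizer (R : Set G) →* normalizer (R : Set G) ⧸ R.subgroupOf (normalizer (R : Set G)) :=
      QuotientGroup.mk' _
    have hψ : IsPi π (orderOf (ψ ⟨(r : G) * x, mul_mem hrN hxN⟩)) := by
      have h2 : ψ ⟨(r : G) * x, mul_mem hrN hxN⟩ = ψ ⟨x, hxN⟩ := by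
        rw [show (⟨(r : G) * x, mul_mem hrN hxN⟩ : normalizer (R : Set G)) = ⟨r, hrN⟩ * ⟨x, hxN⟩ from rfl,
          map_mul, show ψ ⟨r, hrN⟩ = 1 from (QuotientGroup.eq_one_iff _).2 r.2, one_mul]
      rw [h2]
      refine htpi.of_dvd (orderOf_dvd_of_pow_eq_one ?_)
      rw [← map_pow]
      refine (QuotientGroup.eq_one_iff _).2 ?_
      show φ (x ^ orderOf (φ x)) ∈ Q
      rw [map_pow, pow_orderOf_eq_one]
      exact one_mem Q
    obtain ⟨k, hk, hkψ⟩ := exists_pow_pi ψ π _ hψ
    rw [← Subgroup.orderOf_coe] at hk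
    change IsPi π (orderOf (((r : G) * x) ^ k)) at hk
    have hyc := hnc H hHp _ hk (pow_mem hnorm k)
    have hyr : ∃ z ∈ R, ((r : G) * x) ^ k = z * x := by
      have h2 := hkψ
      rw [QuotientGroup.mk'_apply, QuotientGroup.mk'_apply, eq_comm,
        QuotientGroup.eq_iff_div_mem] at h2
      rw [mem_subgroupOf, div_eq_mul_inv] at h2
      push_cast at h2
      refine ⟨((((r : G) * x)) * (((r : G) * x) ^ k)⁻¹)⁻¹ * r, mul_mem (inv_mem h2) r.2, by
        rw [mul_inv_rev, inv_inv, mul_assoc _ (r : G) x, inv_mul_cancel_right]⟩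
    obtain ⟨z, hz, hzx⟩ := hyr
    -- `φ x` centralizes `Q`
    have hy' : φ (((r : G) * x) ^ k) = φ z * φ x := by rw [hzx, map_mul]
    have hyQ : ∀ w ∈ Q, φ (((r : G) * x) ^ k) * w = w * φ (((r : G) * x) ^ k) := by
      intro w hw
      obtain ⟨h, hh, rfl⟩ := hHQ hw
      rw [← map_mul, hyc h hh, map_mul]
    have hv : φ z = 1 := by
      have hc : Commute (φ (((r : G) * x) ^ k)) (φ z)⁻¹ := hyQ _ (inv_mem hz)
      have hxe : φ x = φ (((r : G) * x) ^ k) * (φ z)⁻¹ := by rw [hc.eq, hy', inv_mul_cancel_left]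
      obtain ⟨i, hi⟩ := IsPGroup.iff_orderOf.1 (Q₀.isPGroup'.map K'.subtype) ⟨φ z, hz⟩
      rw [← Subgroup.orderOf_coe] at hi
      change orderOf (φ z) = q ^ i at hi
      rcases Nat.eq_zero_or_pos i with hi0 | hi0
      · rw [hi0, pow_zero, orderOf_eq_one_iff] at hi; exact hi
      exfalso
      have h2 : orderOf (φ z) ∣ orderOf (φ x) * orderOf (φ (((r : G) * x) ^ k)) := by
        rw [← orderOf_inv]
        refine orderOf_dvd_of_pow_eq_one ?_
        have h3 : (φ x) ^ (orderOf (φ x) * orderOf (φ (((r : G) * x) ^ k))) = 1 := by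
          rw [pow_mul, pow_orderOf_eq_one, one_pow]
        rw [hxe, hc.mul_pow] at h3
        rw [mul_comm, pow_mul (φ (((r : G) * x) ^ k)), pow_orderOf_eq_one, one_pow, one_mul, ← hxe] at h3
        rw [mul_comm]
        exact h3
      exact hqπ ((htpi.mul (hk.of_dvd (orderOf_map_dvd φ _))) q hq
        ((hi ▸ dvd_pow_self q hi0.ne' : q ∣ orderOf (φ z)).trans h2))
    have hQC : Q ≤ C := fun w hw => by
      rw [hC, mem_centralizer_singleton_iff]
      have h2 := hyQ w hw
      rw [hy', hv, one_mul] at h2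
      exact h2.symm
    exact Q₀.not_dvd_index (hqd.trans (index_dvd_of_le fun w hw => hQC (mem_map_of_mem _ hw)))
  refine ⟨(T.comap φ) ⊓ M, inf_le_right, fun x hx => ⟨fun hxT => ?_, fun hxpi => ⟨?_, hx⟩⟩⟩
  · refine fun p hp hd => ?_
    have h1 : orderOf x ∣ orderOf (φ x) * Nat.card L := by
      refine orderOf_dvd_of_pow_eq_one ?_
      rw [pow_mul]
      refine orderOf_dvd_iff_pow_eq_one.1 (Subgroup.orderOf_dvd_natCard L ?_)
      rw [← QuotientGroup.eq_one_iff, QuotientGroup.mk_pow]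
      exact pow_orderOf_eq_one _
    exact ((hidx.of_dvd (hTcard ▸ Subgroup.orderOf_dvd_natCard T hxT.1)).mul hLpi) p hp (hd.trans h1)
  · show φ x ∈ T
    have hxM : φ x ∈ T ⊔ K' := hTK ▸ mem_map_of_mem φ hx
    rw [Subgroup.mem_sup_of_normal_right] at hxM
    obtain ⟨t, ht, w, hw, htw⟩ := hxM
    have hwo : orderOf w = 1 := by
      by_contra hne
      obtain ⟨r, hr, hrd⟩ := Nat.exists_prime_and_dvd hne
      have hc : Commute t w := hTc t ht w hw
      refine hK'p r hr (hrd.trans (Subgroup.orderOf_dvd_natCard K' hw)) ?_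
      have h2 : orderOf w ∣ orderOf (φ x) * orderOf t := by
        refine orderOf_dvd_of_pow_eq_one ?_
        have h3 : (φ x) ^ (orderOf (φ x) * orderOf t) = 1 := by rw [pow_mul, pow_orderOf_eq_one, one_pow]
        rw [← htw, hc.mul_pow, mul_comm, pow_mul (a := t), pow_orderOf_eq_one, one_pow, one_mul] at h3
        rw [mul_comm, ← htw]; exact h3
      exact ((hxpi.of_dvd (orderOf_map_dvd φ x)).mul
        (hidx.of_dvd (hTcard ▸ Subgroup.orderOf_dvd_natCard T ht))) r hr (hrd.trans h2)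
    rw [orderOf_eq_one_iff] at hwo
    rw [← htw, hwo, mul_one]
    exact ht

end Cfsg.Agent.Struct.PiClosed
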