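import Mathlib
import Cfsg.Agent.Lib.Struct.DerangeClasses

/-!
Nilpotent normal subgroups and the centre of a faithful primitive group.
-/

set_option autoImplicit false

namespace Cfsg.Agent.Struct.PrimFit

open Subgroup MulAction

variable {A : Type*} [Group A] {X : Type*} [MulAction A X] [FaithfulSMul A X]

/-- The centralizer of a transitive abelian normal subgroup is the subgroup itself. -/
theorem centralizer_eq (hp : IsPreprimitive A X) [Nontrivial X] {N : Subgroup A} [N.Normal] (hN : N ≠ ⊥)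
    (hab : ∀ x ∈ N, ∀ y ∈ N, x * y = y * x) : centralizer (N : Set A) = N := by
  refine le_antisymm (fun c hc => ?_) (fun x hx => mem_centralizer_iff.2 fun y hy => hab y hy x hx)
  obtain ⟨x⟩ : Nonempty X := inferInstance
  obtain ⟨n, hn, hnc⟩ := Derange.transitive_of_normal hp N hN x (c • x)
  have : n⁻¹ * c = 1 := by
    refine FaithfulSMul.eq_of_smul_eq_smul (α := X) fun y => ?_
    obtain ⟨m, hm, rfl⟩ := Derange.transitive_of_normal hp N hN x y
    rw [one_smul, ← mul_smul]
    have hcomm : (n⁻¹ * c) * m = m * (n⁻¹ * c) := by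
      rw [mul_assoc, ← mem_centralizer_iff.1 hc m hm, ← mul_assoc, ← mul_assoc,
        hab _ (N.inv_mem hn) m hm]
    rw [hcomm, mul_smul, mul_smul, ← hnc, inv_smul_smul]
  rw [inv_mul_eq_one] at this
  exact this ▸ hn

theorem card_eq (hp : IsPreprimitive A X) [Nontrivial X] {N : Subgroup A} [N.Normal] (hN : N ≠ ⊥)
    (hab : ∀ x ∈ N, ∀ y ∈ N, x * y = y * x) : Nat.card N = Nat.card X := by
  obtain ⟨x⟩ : Nonempty X := inferInstance
  refine Nat.card_congr (Equiv.ofBijective (fun n : N => (n : A) • x) ⟨fun u v e => ?_, fun y => ?_⟩)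
  · have h : (v : A)⁻¹ * u = 1 := by
      refine FaithfulSMul.eq_of_smul_eq_smul (α := X) fun y => ?_
      obtain ⟨m, hm, rfl⟩ := Derange.transitive_of_normal hp N hN x y
      rw [one_smul, ← mul_smul, hab _ (N.mul_mem (N.inv_mem v.2) u.2) m hm, mul_smul, mul_smul,
        show (u : A) • x = (v : A) • x from e, inv_smul_smul]
    exact Subtype.ext (inv_mul_eq_one.1 h).symm
  · obtain ⟨n, hn, rfl⟩ := Derange.transitive_of_normal hp N hN x y
    exact ⟨⟨n, hn⟩, rfl⟩

theorem prime_of_center_ne_bot [Finite A] (hp : IsPreprimitive A X) [Nontrivial X] (hc : center A ≠ ⊥) :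
    (Nat.card A).Prime := by
  have hab : ∀ x ∈ center A, ∀ y ∈ center A, x * y = y * x := fun x _ y hy => mem_center_iff.1 hy x
  have h1 := centralizer_eq hp hc hab
  have htop : center A = ⊤ := by
    rw [← h1, eq_top_iff]
    exact fun g _ => mem_centralizer_iff.2 fun z hz => (mem_center_iff.1 hz g).symm
  have hcomm : ∀ x y : A, x * y = y * x := fun x y => mem_center_iff.1 (htop ▸ mem_top y) x
  haveI : Nontrivial A := by
    by_contra hn
    rw [not_nontrivial_iff_subsingleton] at hn
    exact hc (Subsingleton.elim _ _)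
  letI : CommGroup A := { (inferInstance : Group A) with mul_comm := hcomm }
  haveI : IsSimpleGroup A := by
    refine ⟨fun N hN => or_iff_not_imp_left.2 fun hne => ?_⟩
    have e1 := card_eq hp hne fun x _ y _ => hcomm x y
    have e2 := card_eq hp (N := ⊤) top_ne_bot fun x _ y _ => hcomm x y
    exact Subgroup.eq_top_of_card_eq N (by rw [e1, ← e2, Subgroup.card_top])
  exact IsSimpleGroup.prime_card

theorem nilpotent_normal [Finite A] (hp : IsPreprimitive A X) [Nontrivial X] {F : Subgroup A} [F.Normal]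
    (hnil : Group.IsNilpotent F) (hF : F ≠ ⊥) :
    (∀ x ∈ F, ∀ y ∈ F, x * y = y * x) ∧ centralizer (F : Set A) = F ∧ Nat.card F = Nat.card X ∧
      ∀ K : Subgroup A, K.Normal → K ≤ F → K ≠ ⊥ → K = F := by
  set Z := (center F).map F.subtype with hZ
  haveI hZn : Z.Normal := ConjAct.normal_of_characteristic_of_normal
  have hZne : Z ≠ ⊥ := by
    rw [hZ, Ne, map_eq_bot_iff_of_injective _ F.subtype_injective]
    haveI : Nontrivial F := (nontrivial_iff_ne_bot F).2 hF
    haveI := hnil
    exact Group.IsNilpotent.center_ne_bot _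
  have hZF : Z ≤ F := map_subtype_le _
  have hcom : ∀ x ∈ F, ∀ z ∈ Z, x * z = z * x := by
    rintro x hx _ ⟨z, hz, rfl⟩
    exact congrArg Subtype.val (mem_center_iff.1 hz ⟨x, hx⟩)
  have hZab : ∀ x ∈ Z, ∀ y ∈ Z, x * y = y * x := fun x hx y hy => hcom x (hZF hx) y hy
  have hFZ : F = Z := by
    refine le_antisymm (fun x hx => ?_) hZF
    rw [← centralizer_eq hp hZne hZab]
    exact mem_centralizer_iff.2 fun z hz => (hcom x hx z hz).symm
  have hab : ∀ x ∈ F, ∀ y ∈ F, x * y = y * x := by rw [hFZ]; exact hZab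
  refine ⟨hab, centralizer_eq hp hF hab, card_eq hp hF hab, fun K hK hKF hKne => ?_⟩
  haveI := hK
  have e1 := card_eq hp hKne fun x hx y hy => hab x (hKF hx) y (hKF hy)
  exact eq_of_le_of_card_ge hKF (by rw [e1, card_eq hp hF hab])

end Cfsg.Agent.Struct.PrimFit
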