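import Cfsg.Agent.Lib.Struct.OrderType
import Cfsg.Agent.Lib.Solv.Basic
import Mathlib.GroupTheory.Schreier
import Mathlib.GroupTheory.SpecificGroups.Quaternion
import Mathlib.GroupTheory.PGroup

/-!
# π-element subgroups in solvable groups whose `p`-subgroups have rank at most two
-/

set_option autoImplicit false
set_option linter.style.haveILetI false

namespace Cfsg.Agent.Struct

/-- Lift a subgroup of all π-elements through a normal subgroup of prime order. -/
theorem piEltSubgroup_liftPrimePow {G : Type*} [Group G] [Finite G] {π : ℕ → Prop} {q : ℕ} (hq : q.Prime)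
    (N : Subgroup G) [N.Normal] {k : ℕ} (hN : Nat.card N = q ^ k)
    (hexp : ∀ n ∈ N, n ^ q = 1)
    (hsmall : ¬ π q → ∀ (ψ : MulAut N) (p : ℕ), p.Prime → π p → orderOf ψ ≠ p)
    (L : Subgroup (G ⧸ N)) (hL : IsPiEltSubgroup π L) :
    ∃ L' : Subgroup G, IsPiEltSubgroup π L' := by
  have := Fact.mk hq
  have hmem : ∀ x : G, IsPiElt π x → (x : G ⧸ N) ∈ L := fun x hx =>
    (hL _).2 (isPiElt_map (QuotientGroup.mk' N) hx)
  by_cases hπ : π q
  · refine ⟨L.comap (QuotientGroup.mk' N), fun x => ⟨fun hx p hp hd => ?_, hmem x⟩⟩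
    have h1 : orderOf x ∣ orderOf (x : G ⧸ N) * q := by
      apply orderOf_dvd_of_pow_eq_one
      rw [pow_mul]
      have h2 : x ^ orderOf (x : G ⧸ N) ∈ N := by
        rw [← QuotientGroup.eq_one_iff, QuotientGroup.mk_pow, pow_orderOf_eq_one]
      exact hexp _ h2
    rcases hp.dvd_mul.1 (hd.trans h1) with h | h
    · exact (hL _).1 hx p hp h
    · exact (Nat.prime_dvd_prime_iff_eq hp hq).1 h ▸ hπ
  · -- the preimage is a direct product of N and the subgroup wanted
    set L₁ := L.comap (QuotientGroup.mk' N) with hL₁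
    have hNL : N ≤ L₁ := by
      intro n hn
      simp [hL₁, (QuotientGroup.eq_one_iff n).2 hn]
    have hNcard : Nat.card (N.subgroupOf L₁) = q ^ k := by
      rw [Nat.card_congr (Subgroup.subgroupOfEquivOfLe hNL).toEquiv, hN]
    have hidx : (N.subgroupOf L₁).index = Nat.card L := by
      have h := Subgroup.relIndex_map_map (H := N) (K := L₁) (f := QuotientGroup.mk' N)
      rw [hL₁, Subgroup.map_comap_eq_self_of_surjective (QuotientGroup.mk'_surjective N),
        QuotientGroup.map_mk'_self, Subgroup.relIndex_bot_left, QuotientGroup.ker_mk'] at h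
      rw [h, sup_idem, sup_eq_left.2 hNL]
      rfl
    have hLq : ¬ q ∣ Nat.card L := by
      intro hd
      exact absurd ((hL.map_factorization hq).2 hπ)
        (hq.factorization_pos_of_dvd Nat.card_pos.ne' hd).ne'
    obtain ⟨C, hC⟩ := Subgroup.exists_right_complement'_of_coprime (N := N.subgroupOf L₁)
      (by rw [hNcard, hidx]; exact (hq.coprime_iff_not_dvd.2 hLq).pow_left k)
    have hCcard : Nat.card C = Nat.card L := by
      rw [← hidx]; exact hC.symm.index_eq_card.symm
    -- C centralizes N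
    have hcent : ∀ c : ↥L₁, c ∈ C → ∀ n ∈ N, Commute (c : G) n := by
      intro c hc n hn
      let φ : MulAut N := MulAut.conjNormal (H := N) (c : G)
      have h2 : orderOf φ ∣ Nat.card L := by
        refine (orderOf_map_dvd _ (c : G)).trans ?_
        rw [← hCcard, Subgroup.orderOf_coe]
        exact Subgroup.orderOf_dvd_natCard _ hc
      have h3 : φ = 1 := by
        rw [← orderOf_eq_one_iff]
        by_contra hne
        obtain ⟨p, hp, hpd⟩ := Nat.exists_prime_and_dvd hne
        refine hsmall hπ (φ ^ (orderOf φ / p)) p hp ?_ ?_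
        · by_contra hπp
          exact absurd ((hL.map_factorization hp).2 hπp)
            (hp.factorization_pos_of_dvd Nat.card_pos.ne' (hpd.trans h2)).ne'
        · exact orderOf_pow_orderOf_div (orderOf_pos φ).ne' hpd
      have h4 : (φ ⟨n, hn⟩ : G) = n := by rw [h3]; rfl
      have h5 : (c : G) * n * (c : G)⁻¹ = n := h4
      rw [Commute, SemiconjBy]
      exact mul_inv_eq_iff_eq_mul.1 h5
    refine ⟨C.map L₁.subtype, fun x => ⟨?_, fun hx => ?_⟩⟩
    · rintro ⟨c, hc, rfl⟩ p hp hd
      have h : p ∣ Nat.card L := by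
        rw [← hCcard]
        refine hd.trans ?_
        rw [Subgroup.coe_subtype, Subgroup.orderOf_coe]
        exact Subgroup.orderOf_dvd_natCard _ hc
      by_contra hπp
      exact absurd ((hL.map_factorization hp).2 hπp)
        (hp.factorization_pos_of_dvd Nat.card_pos.ne' h).ne'
    · have hxL : x ∈ L₁ := hmem x hx
      obtain ⟨⟨⟨n, hn⟩, ⟨c, hc⟩⟩, hnc⟩ := hC.2 ⟨x, hxL⟩
      have hnN : (n : G) ∈ N := hn
      have hx' : (n : G) * (c : G) = x := congrArg Subtype.val hnc
      have hcomm : Commute (n : G) (c : G) := (hcent c hc _ hnN).symm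
      have hck : (c : G) ^ Nat.card L = 1 := by
        rw [← hCcard, ← orderOf_dvd_iff_pow_eq_one, Subgroup.orderOf_coe]
        exact Subgroup.orderOf_dvd_natCard _ hc
      have hxpow : x ^ Nat.card L = (n : G) ^ Nat.card L := by
        rw [← hx', hcomm.mul_pow, hck, mul_one]
      have hdq : orderOf x ∣ Nat.card L * q := by
        apply orderOf_dvd_of_pow_eq_one
        rw [pow_mul, hxpow]
        exact hexp _ (N.pow_mem hnN _)
      have hxq : orderOf x ∣ Nat.card L := by
        refine Nat.Coprime.dvd_of_dvd_mul_right ?_ hdq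
        refine (hq.coprime_iff_not_dvd.2 ?_).symm
        exact fun hd => hπ (hx q hq hd)
      have hn1 : (n : G) = 1 := by
        rw [← orderOf_eq_one_iff]
        refine Nat.eq_one_of_dvd_coprimes ((hq.coprime_iff_not_dvd.2 hLq).pow_left k)
          (hN ▸ Subgroup.orderOf_dvd_natCard _ hnN) ?_
        exact orderOf_dvd_of_pow_eq_one (hxpow ▸ orderOf_dvd_iff_pow_eq_one.1 hxq)
      exact ⟨c, hc, by simpa [hn1] using hx'⟩


open Subgroup

/-- Every `p`-subgroup, for every prime `p`, is generated by two elements. -/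
def RankTwo (A : Type*) [Group A] : Prop :=
  ∀ (p : ℕ) (S : Subgroup A), p.Prime → IsPGroup p S → ∃ a b : A, S = Subgroup.closure {a, b}

theorem rankTwo_quotient {A : Type*} [Group A] [Finite A] (hA : RankTwo A) (N : Subgroup A)
    [N.Normal] : RankTwo (A ⧸ N) := by
  intro p S hp hS
  haveI := Fact.mk hp
  set M := S.comap (QuotientGroup.mk' N) with hM
  have hMS : M.map (QuotientGroup.mk' N) = S :=
    map_comap_eq_self_of_surjective (QuotientGroup.mk'_surjective N) S
  let f : M →* S := ((QuotientGroup.mk' N).comp M.subtype).codRestrict S fun x => x.2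
  have hf : Function.Surjective f := by
    rintro ⟨s, hs⟩
    obtain ⟨x, rfl⟩ := QuotientGroup.mk'_surjective N s
    exact ⟨⟨x, hs⟩, rfl⟩
  obtain ⟨P⟩ := Sylow.nonempty (p := p) (G := M)
  obtain ⟨a, b, hab⟩ := hA p ((P : Subgroup M).map M.subtype) hp (P.isPGroup'.map _)
  refine ⟨QuotientGroup.mk' N a, QuotientGroup.mk' N b, ?_⟩
  have h1 : ((P : Subgroup M).map f) = ⊤ := by
    rw [← index_eq_one]
    by_contra hne
    obtain ⟨k, hk⟩ := hS.exists_card_eq
    have h2 : ((P : Subgroup M).map f).index ∣ (P : Subgroup M).index :=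
      index_map_dvd _ hf
    obtain ⟨j, -, hj⟩ := (Nat.dvd_prime_pow hp).1 (hk ▸ ((P : Subgroup M).map f).index_dvd_card)
    rcases Nat.eq_zero_or_pos j with rfl | hj0
    · exact hne (by rw [hj, pow_zero])
    · exact P.not_dvd_index ((dvd_pow_self p hj0.ne').trans (hj ▸ h2))
  have e : ((P : Subgroup M).map M.subtype).map (QuotientGroup.mk' N) = S := by
    have := congrArg (Subgroup.map S.subtype) h1
    rw [Subgroup.map_map, ← MonoidHom.range_eq_map, range_subtype] at this
    rw [Subgroup.map_map]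
    exact this
  rw [← e, hab, MonoidHom.map_closure, Set.image_pair]

theorem no_mulAut_orderOf {V : Type*} [Group V] [Finite V] {q r k : ℕ} [hq : Fact q.Prime]
    (hk : k ≤ 2) (hV : Nat.card V = q ^ k) (hr : r.Prime) (h5 : 5 ≤ r) (hqr : q < r)
    (ψ : MulAut V) : orderOf ψ ≠ r := by
  intro hψ
  haveI := Fact.mk hr
  let H : Subgroup (MulAut V) := zpowers ψ
  have hH : IsPGroup r H := IsPGroup.of_card (n := 1) (by rw [Nat.card_zpowers, hψ, pow_one])
  let F : Subgroup V :=
    { carrier := {v | ψ v = v}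
      one_mem' := map_one ψ
      mul_mem' := fun {a b} ha hb => by
        show ψ (a * b) = a * b
        rw [map_mul, show ψ a = a from ha, show ψ b = b from hb]
      inv_mem' := fun {a} ha => by
        show ψ a⁻¹ = a⁻¹
        rw [map_inv, show ψ a = a from ha] }
  have hfix : MulAction.fixedPoints H V = (F : Set V) := by
    ext v
    refine ⟨fun h => h ⟨ψ, mem_zpowers ψ⟩, fun h g => ?_⟩
    obtain ⟨m, hm⟩ := mem_zpowers_iff.1 g.2
    show (g : MulAut V) v = v
    rw [← hm]
    clear hm
    have h' : ψ⁻¹ v = v := by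
      calc ψ⁻¹ v = ψ⁻¹ (ψ v) := by rw [show ψ v = v from h]
        _ = v := ψ.symm_apply_apply v
    induction m using Int.induction_on with
    | zero => rfl
    | succ i ih => rw [zpow_add_one, MulAut.mul_apply, show ψ v = v from h, ih]
    | pred i ih => rw [zpow_sub_one, MulAut.mul_apply, h', ih]
  have hmod := hH.card_modEq_card_fixedPoints V
  rw [hV, show Nat.card (MulAction.fixedPoints H V) = Nat.card F by rw [hfix]; rfl] at hmod
  obtain ⟨j, hj, hFj⟩ := (Nat.dvd_prime_pow hq.out).1 (hV ▸ F.card_subgroup_dvd_card)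
  have hjk : j ≠ k := by
    intro e
    have htop : F = ⊤ := eq_top_of_card_eq F (by rw [hFj, e, hV])
    have h1 : ψ = 1 := MulEquiv.ext fun v => (htop ▸ mem_top v : v ∈ F)
    rw [h1, orderOf_one] at hψ
    exact hr.ne_one hψ.symm
  rw [hFj] at hmod
  have hle : q ^ j ≤ q ^ k := Nat.pow_le_pow_right hq.out.pos hj
  have hd : r ∣ q ^ k - q ^ j := (Nat.modEq_iff_dvd' hle).1 hmod.symm
  have h2 := hq.out.two_le
  have hnq : ¬ r ∣ q := fun h => absurd (Nat.le_of_dvd (by omega) h) (by omega)
  have hn1 : ¬ r ∣ q - 1 := fun h => absurd (Nat.le_of_dvd (by omega) h) (by omega)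
  have hn2 : ¬ r ∣ q + 1 := by
    intro h
    have hle' := Nat.le_of_dvd (by omega) h
    have he : r = q + 1 := by omega
    rcases hq.out.eq_two_or_odd' with h' | ⟨c, hc⟩
    · omega
    · rcases hr.eq_two_or_odd' with h'' | ⟨d, hd⟩ <;> omega
  have hcases : (j = 0 ∧ k = 1) ∨ (j = 0 ∧ k = 2) ∨ (j = 1 ∧ k = 2) := by omega
  rcases hcases with ⟨rfl, rfl⟩ | ⟨rfl, rfl⟩ | ⟨rfl, rfl⟩
  · exact hn1 (by simpa using hd)
  · rw [pow_zero, show q ^ 2 - 1 = (q - 1) * (q + 1) by
      rw [mul_comm, ← Nat.sq_sub_sq]] at hd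
    rcases hr.dvd_mul.1 hd with h | h
    · exact hn1 h
    · exact hn2 h
  · rw [pow_one, show q ^ 2 - q = q * (q - 1) by rw [Nat.mul_sub, sq, mul_one]] at hd
    rcases hr.dvd_mul.1 hd with h | h
    · exact hnq h
    · exact hn1 h

universe u

theorem piElt_of_rankTwo_aux (s : ℕ) (hs : 5 ≤ s) : ∀ (n : ℕ) (A : Type u) [Group A] [Finite A],
    Nat.card A = n → Group.IsSolvable A → RankTwo A →
      ∃ L : Subgroup A, IsPiEltSubgroup (fun p => s ≤ p) L := by
  intro n
  induction n using Nat.strong_induction_on with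
  | _ n ih =>
    intro A _ _ hn hsol hA
    rcases subsingleton_or_nontrivial A with h | h
    · exact ⟨⊥, fun x => ⟨fun _ p hp hd => by
          rw [Subsingleton.elim x 1, orderOf_one, Nat.dvd_one] at hd
          exact absurd hd hp.ne_one,
        fun _ => by rw [Subsingleton.elim x 1]; exact one_mem _⟩⟩
    haveI := hsol
    obtain ⟨N, hNn, -, hN, hmin⟩ :=
      Cfsg.Agent.Solv.exists_minimal_normal_le (N := (⊤ : Subgroup A)) top_ne_bot
    haveI := hNn
    obtain ⟨hcomm, q, hq, hexp⟩ := Cfsg.Agent.Solv.minimal_normal_elementary N hN hmin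
    haveI := Fact.mk hq
    have hNp : IsPGroup q N := fun x => ⟨1, Subtype.ext (by simpa using hexp x x.2)⟩
    obtain ⟨a, b, hab⟩ := hA q N hq hNp
    obtain ⟨k, hk⟩ := hNp.exists_card_eq
    have hk2 : k ≤ 2 := by
      have haN : a ∈ N := hab ▸ subset_closure (by simp)
      have hbN : b ∈ N := hab ▸ subset_closure (by simp)
      have e : (⊤ : Subgroup N) = closure {(⟨a, haN⟩ : N), ⟨b, hbN⟩} := by
        apply map_injective N.subtype_injective
        rw [MonoidHom.map_closure, Set.image_pair, ← MonoidHom.range_eq_map, range_subtype]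
        exact hab
      haveI := hcomm
      open scoped IsMulCommutative in
      have hrank : Group.rank N ≤ 2 := by
        classical
        exact le_trans (Group.rank_le (S := {(⟨a, haN⟩ : N), ⟨b, hbN⟩})
          (by rw [e]; simp)) (Finset.card_le_two)
      open scoped IsMulCommutative in
      have hd : Nat.card N ∣ q ^ 2 :=
        (card_dvd_exponent_pow_rank' (G := N) (n := q) fun x => Subtype.ext (by simpa using hexp x x.2)).trans
          (pow_dvd_pow q hrank)
      rw [hk] at hd
      exact (Nat.pow_dvd_pow_iff_le_right hq.one_lt).1 hd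
    have hlt : Nat.card (A ⧸ N) < n := by
      rw [← hn, Subgroup.card_eq_card_quotient_mul_card_subgroup N]
      exact lt_mul_of_one_lt_right Nat.card_pos ((one_lt_card_iff_ne_bot N).2 hN)
    obtain ⟨L, hL⟩ := ih _ hlt (A ⧸ N) rfl inferInstance (rankTwo_quotient hA N)
    exact piEltSubgroup_liftPrimePow hq N hk hexp
      (fun hns ψ p hp hsp => no_mulAut_orderOf hk2 hk hp (le_trans hs hsp) (by omega) ψ) L hL

theorem piElt_of_rankTwo {A : Type u} [Group A] [Finite A] [Group.IsSolvable A] (hA : RankTwo A)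
    {s : ℕ} (hs : 5 ≤ s) : ∃ L : Subgroup A, IsPiEltSubgroup (fun p => s ≤ p) L :=
  piElt_of_rankTwo_aux s hs _ A rfl inferInstance hA

theorem closure_pair_of_quaternion (n : ℕ) [NeZero n] :
    Subgroup.closure {QuaternionGroup.a (1 : ZMod (2 * n)), QuaternionGroup.xa 0} = ⊤ := by
  rw [eq_top_iff]
  rintro (i | i) -
  · rw [← ZMod.natCast_zmod_val i, ← QuaternionGroup.a_one_pow]
    exact pow_mem (subset_closure (by simp)) _
  · have : QuaternionGroup.xa i = QuaternionGroup.xa 0 * QuaternionGroup.a i := by simp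
    rw [this, ← ZMod.natCast_zmod_val i, ← QuaternionGroup.a_one_pow]
    exact mul_mem (subset_closure (by simp)) (pow_mem (subset_closure (by simp)) _)

end Cfsg.Agent.Struct
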