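import Cfsg.Agent.Lib.Classical.Linear

/-!
Transvection groups inside a subgroup of `SL(n,F)`: the tools for generation by regular unipotent
elements.
-/

set_option autoImplicit false
set_option linter.style.haveILetI false

namespace Cfsg.Agent.Struct.RegUnipGen

open Matrix

variable {F : Type*} [Field F] {n : ℕ}

/-- The transvection `1 + x φ` lies in `H`. -/
def In (H : Subgroup (SpecialLinearGroup (Fin n) F)) (x φ : Fin n → F) : Prop :=
  ∃ h ∈ H, (h : Matrix (Fin n) (Fin n) F) = 1 + vecMulVec x φ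

variable {H : Subgroup (SpecialLinearGroup (Fin n) F)}

theorem val_mul (a b : SpecialLinearGroup (Fin n) F) :
    ((a * b : SpecialLinearGroup (Fin n) F) : Matrix (Fin n) (Fin n) F) =
      (a : Matrix (Fin n) (Fin n) F) * (b : Matrix (Fin n) (Fin n) F) := rfl

theorem val_inv_mul (a : SpecialLinearGroup (Fin n) F) :
    ((a⁻¹ : SpecialLinearGroup (Fin n) F) : Matrix (Fin n) (Fin n) F) * (a : Matrix (Fin n) (Fin n) F) = 1 :=
  congrArg Subtype.val (inv_mul_cancel a)

theorem val_mul_inv (a : SpecialLinearGroup (Fin n) F) :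
    (a : Matrix (Fin n) (Fin n) F) * ((a⁻¹ : SpecialLinearGroup (Fin n) F) : Matrix (Fin n) (Fin n) F) = 1 :=
  congrArg Subtype.val (mul_inv_cancel a)

theorem in_zero_left (φ : Fin n → F) : In H 0 φ :=
  ⟨1, H.one_mem, by simp⟩

theorem in_zero_right (x : Fin n → F) : In H x 0 :=
  ⟨1, H.one_mem, by simp⟩

theorem in_add {x y φ : Fin n → F} (hy : φ ⬝ᵥ y = 0) (h1 : In H x φ) (h2 : In H y φ) : In H (x + y) φ := by
  obtain ⟨a, ha, hae⟩ := h1
  obtain ⟨b, hb, hbe⟩ := h2
  refine ⟨a * b, H.mul_mem ha hb, ?_⟩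
  rw [val_mul, hae, hbe, Matrix.add_mul, Matrix.one_mul, Matrix.mul_add, Matrix.mul_one,
    vecMulVec_mul_vecMulVec, hy, zero_smul, vecMulVec_zero, add_zero, add_vecMulVec]
  abel

theorem in_neg {x φ : Fin n → F} (hx : φ ⬝ᵥ x = 0) (h1 : In H x φ) : In H (-x) φ := by
  obtain ⟨a, ha, hae⟩ := h1
  refine ⟨a⁻¹, H.inv_mem ha, ?_⟩
  have e1 : ((a⁻¹ : SpecialLinearGroup (Fin n) F) : Matrix (Fin n) (Fin n) F) * (a : Matrix (Fin n) (Fin n) F) = 1 := by
    exact val_inv_mul a
  have e2 : (a : Matrix (Fin n) (Fin n) F) * (1 + vecMulVec (-x) φ) = 1 := by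
    rw [hae, Matrix.add_mul, Matrix.one_mul, Matrix.mul_add, Matrix.mul_one, vecMulVec_mul_vecMulVec, dotProduct_neg,
      hx, neg_zero, zero_smul, vecMulVec_zero, add_zero, neg_vecMulVec]
    abel
  exact left_inv_eq_right_inv e1 e2

theorem in_sub {x y φ : Fin n → F} (hy : φ ⬝ᵥ y = 0) (h1 : In H x φ) (h2 : In H y φ) : In H (x - y) φ := by
  rw [sub_eq_add_neg]
  exact in_add (by rw [dotProduct_neg, hy, neg_zero]) h1 (in_neg hy h2)

theorem in_smul_right (x φ : Fin n → F) (c : F) : In H x (c • φ) ↔ In H (c • x) φ := by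
  simp only [In, vecMulVec_smul, smul_vecMulVec]

theorem in_conj {g : SpecialLinearGroup (Fin n) F} (hg : g ∈ H) {x φ : Fin n → F} (h1 : In H x φ) :
    In H ((g : Matrix (Fin n) (Fin n) F) *ᵥ x) (φ ᵥ* ((g⁻¹ : SpecialLinearGroup (Fin n) F) : Matrix (Fin n) (Fin n) F)) := by
  obtain ⟨a, ha, hae⟩ := h1
  refine ⟨g * a * g⁻¹, H.mul_mem (H.mul_mem hg ha) (H.inv_mem hg), ?_⟩
  have e : (g : Matrix (Fin n) (Fin n) F) * ((g⁻¹ : SpecialLinearGroup (Fin n) F) : Matrix (Fin n) (Fin n) F) = 1 := by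
    exact val_mul_inv g
  rw [val_mul, val_mul, hae, Matrix.mul_add, Matrix.mul_one,
    Matrix.mul_vecMulVec, Matrix.add_mul, e, Matrix.vecMulVec_mul]

/-- An element of `H` fixing `φ` permutes the points of the transvection group of `φ`. -/
theorem in_fix {g : SpecialLinearGroup (Fin n) F} (hg : g ∈ H) {x φ : Fin n → F}
    (hφ : φ ᵥ* (g : Matrix (Fin n) (Fin n) F) = φ) (h1 : In H x φ) :
    In H ((g : Matrix (Fin n) (Fin n) F) *ᵥ x) φ := by
  have h := in_conj hg h1
  have e : φ ᵥ* ((g⁻¹ : SpecialLinearGroup (Fin n) F) : Matrix (Fin n) (Fin n) F) = φ := by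
    conv_lhs => rw [← hφ]
    rw [vecMul_vecMul, val_mul_inv, vecMul_one]
  rwa [e] at h

/-- The commutator step. -/
theorem in_comm {x φ y ψ : Fin n → F} (hx : φ ⬝ᵥ x = 0) (hy : φ ⬝ᵥ y = 0) (h1 : In H x φ) (h2 : In H y ψ) :
    In H ((ψ ⬝ᵥ x) • y) φ := by
  obtain ⟨a, ha, hae⟩ := h2
  have h := in_fix ha (φ := φ) (by
    rw [hae, vecMul_add, vecMul_one, vecMul_vecMulVec, hy, zero_smul, add_zero]) h1
  rw [hae, add_mulVec, one_mulVec, vecMulVec_mulVec, op_smul_eq_smul] at h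
  have h3 := in_sub hx h h1
  rwa [add_sub_cancel_left] at h3

/-- The functionals whose whole transvection group lies in `H`. -/
def Full (H : Subgroup (SpecialLinearGroup (Fin n) F)) (φ : Fin n → F) : Prop :=
  ∀ x, φ ⬝ᵥ x = 0 → In H x φ

theorem full_smul {φ : Fin n → F} (h : Full H φ) (c : F) : Full H (c • φ) := by
  intro x hx
  rcases eq_or_ne c 0 with rfl | hc
  · rw [zero_smul]; exact in_zero_right x
  · rw [smul_dotProduct, smul_eq_mul, mul_eq_zero] at hx
    exact (in_smul_right x φ c).2 (h _ (by rw [dotProduct_smul, hx.resolve_left hc, smul_zero]))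

theorem full_conj {φ : Fin n → F} (h : Full H φ) {g : SpecialLinearGroup (Fin n) F} (hg : g ∈ H) :
    Full H (φ ᵥ* (g : Matrix (Fin n) (Fin n) F)) := by
  intro x hx
  rw [← dotProduct_mulVec] at hx
  have h1 := in_conj (H.inv_mem hg) (h _ hx)
  rwa [inv_inv, mulVec_mulVec, val_inv_mul, one_mulVec] at h1

theorem full_add {φ ψ : Fin n → F} (h1 : Full H φ) (h2 : Full H ψ) : Full H (φ + ψ) := by
  classical
  by_cases hdep : ∀ y, ψ ⬝ᵥ y = 0 → φ ⬝ᵥ y = 0
  · rcases eq_or_ne ψ 0 with rfl | hψ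
    · rwa [add_zero]
    obtain ⟨i, hi⟩ := Function.ne_iff.1 hψ
    have hi' : ψ i ≠ 0 := hi
    have hφ : φ = (φ i / ψ i) • ψ := by
      funext j
      have h := hdep (Pi.single j 1 - (ψ j / ψ i) • Pi.single i 1) (by
        rw [dotProduct_sub, dotProduct_smul, dotProduct_single, dotProduct_single, mul_one, mul_one, smul_eq_mul,
          div_mul_cancel₀ _ hi', sub_self])
      rw [dotProduct_sub, dotProduct_smul, dotProduct_single, dotProduct_single, mul_one, mul_one, smul_eq_mul,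
        sub_eq_zero] at h
      rw [h, Pi.smul_apply, smul_eq_mul]
      field_simp
    rw [hφ, show (φ i / ψ i) • ψ + ψ = (φ i / ψ i + 1) • ψ by rw [add_smul, one_smul]]
    exact full_smul h2 _
  · push Not at hdep
    obtain ⟨y, hy, hy'⟩ := hdep
    set z := (φ ⬝ᵥ y)⁻¹ • y with hz
    have hz1 : φ ⬝ᵥ z = 1 := by rw [hz, dotProduct_smul, smul_eq_mul, inv_mul_cancel₀ hy']
    have hz2 : ψ ⬝ᵥ z = 0 := by rw [hz, dotProduct_smul, hy, smul_zero]
    obtain ⟨a, ha, hae⟩ := h2 z hz2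
    have h := full_conj h1 ha
    rwa [hae, vecMul_add, vecMul_one, vecMul_vecMulVec, hz1, one_smul] at h

theorem eq_top_of_full [NeZero n] (hn : 2 ≤ n) (h : ∀ φ, Full H φ) : H = ⊤ := by
  haveI : Nontrivial (Fin n) := Fin.nontrivial_iff_two_le.2 hn
  rw [← top_le_iff, ← Classical.closure_transvection_eq_top, Subgroup.closure_le]
  rintro _ ⟨i, j, hij, c, rfl⟩
  obtain ⟨a, ha, hae⟩ := h (Pi.single j c) (Pi.single i 1) (by
    rw [single_dotProduct, Pi.single_eq_of_ne hij.symm, mul_zero])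
  have e : SpecialLinearGroup.transvection hij c = a := Subtype.ext (by
    show (SpecialLinearGroup.transvection hij c : Matrix (Fin n) (Fin n) F) = (a : Matrix (Fin n) (Fin n) F)
    rw [SpecialLinearGroup.transvection_coe, hae]
    congr 1
    ext r s
    by_cases hr : i = r <;> by_cases hs : j = s <;> simp [vecMulVec_apply, Matrix.single_apply, Pi.single_apply, hr, hs, eq_comm, Ne.symm])
  exact e ▸ ha

end Cfsg.Agent.Struct.RegUnipGen
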