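import Cfsg.Agent.Lib.Struct.RegUnipGen
import Mathlib.Data.Nat.Choose.Lucas
import Mathlib.GroupTheory.Perm.Fin
import Mathlib.FieldTheory.Finite.Basic

/-!
Two regular unipotent elements `v`, `u` of `SL(n,F)` such that `(v⁻¹ u)²` is a transvection, and criteria for them
to generate the whole group.
-/

set_option autoImplicit false
set_option linter.unusedSectionVars false

namespace Cfsg.Agent.Struct.RegUnipTwo

open Matrix
open Cfsg.Agent.Struct.RegUnipGen

variable {F : Type*} [Field F] {n : ℕ}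

/-- Lower shift. -/
def sh (n : ℕ) (F : Type*) [Field F] : Matrix (Fin n) (Fin n) F :=
  Matrix.of fun i j => if (i : ℕ) = j + 1 then 1 else 0

/-- Basis vector with a natural index. -/
def ev (n : ℕ) (F : Type*) [Field F] (k : ℕ) : Fin n → F := fun j => if (j : ℕ) = k then 1 else 0

theorem dot_ev (φ : Fin n → F) (k : Fin n) : φ ⬝ᵥ ev n F (k : ℕ) = φ k := by
  rw [dotProduct, Finset.sum_eq_single k]
  · simp [ev]
  · intro j _ hj
    show φ j * (if (j : ℕ) = (k : ℕ) then 1 else 0) = 0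
    rw [if_neg (fun e => hj (Fin.ext e)), mul_zero]
  · simp

theorem dot_ev' (φ : Fin n → F) {k : ℕ} (hk : k < n) : φ ⬝ᵥ ev n F k = φ ⟨k, hk⟩ := dot_ev φ ⟨k, hk⟩

theorem sh_mulVec (x : Fin n → F) (i : Fin n) :
    (sh n F *ᵥ x) i = if 1 ≤ (i : ℕ) then x ⟨(i : ℕ) - 1, by omega⟩ else 0 := by
  simp only [Matrix.mulVec, dotProduct, sh, Matrix.of_apply]
  split_ifs with h
  · rw [Finset.sum_eq_single ⟨(i : ℕ) - 1, by omega⟩]
    · rw [if_pos (by show (i : ℕ) = (i : ℕ) - 1 + 1; omega), one_mul]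
    · intro j _ hj
      rw [if_neg (fun e => hj (Fin.ext (by show (j : ℕ) = (i : ℕ) - 1; omega))), zero_mul]
    · simp
  · exact Finset.sum_eq_zero fun j _ => by rw [if_neg (by omega), zero_mul]

theorem vecMul_sh (φ : Fin n → F) (j : Fin n) :
    (φ ᵥ* sh n F) j = if h : (j : ℕ) + 1 < n then φ ⟨(j : ℕ) + 1, h⟩ else 0 := by
  simp only [Matrix.vecMul, dotProduct, sh, Matrix.of_apply]
  split_ifs with h
  · rw [Finset.sum_eq_single ⟨(j : ℕ) + 1, h⟩]
    · simp
    · intro i _ hi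
      rw [if_neg (fun e => hi (Fin.ext e)), mul_zero]
    · simp
  · exact Finset.sum_eq_zero fun i _ => by rw [if_neg (by omega), mul_zero]

theorem sh_pow_mulVec (x : Fin n → F) : ∀ (k : ℕ) (i : Fin n),
    ((sh n F) ^ k *ᵥ x) i = if k ≤ (i : ℕ) then x ⟨(i : ℕ) - k, by omega⟩ else 0
  | 0, i => by simp
  | k + 1, i => by
    rw [pow_succ', ← Matrix.mulVec_mulVec, sh_mulVec]
    by_cases h : 1 ≤ (i : ℕ)
    · rw [if_pos h, sh_pow_mulVec x k]
      by_cases h' : k + 1 ≤ (i : ℕ)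
      · rw [if_pos (show k ≤ (i : ℕ) - 1 by omega), if_pos h']
        exact congrArg x (Fin.ext (by show (i : ℕ) - 1 - k = (i : ℕ) - (k + 1); omega))
      · rw [if_neg (show ¬ k ≤ (i : ℕ) - 1 by omega), if_neg h']
    · rw [if_neg h, if_neg (by omega)]

theorem one_add_sh_det : (1 + sh n F).det = 1 := by
  rw [Matrix.det_of_isLowerTriangular]
  · refine Finset.prod_eq_one fun i _ => ?_
    simp [sh]
  · intro i j hij
    have hij' : (i : ℕ) < j := hij
    have : i ≠ j := fun e => by rw [e] at hij'; omega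
    simp [sh, Matrix.one_apply_ne this]
    omega

/-- The regular unipotent `v = 1 + sh`. -/
def V (n : ℕ) (F : Type*) [Field F] : SpecialLinearGroup (Fin n) F := ⟨1 + sh n F, one_add_sh_det⟩

theorem V_mulVec (x : Fin n → F) : (V n F : Matrix (Fin n) (Fin n) F) *ᵥ x = x + sh n F *ᵥ x := by
  show (1 + sh n F) *ᵥ x = _
  rw [add_mulVec, one_mulVec]

/-- Coordinates of `v^k e₀`. -/
def wp (n : ℕ) (F : Type*) [Field F] (k : ℕ) : Fin n → F := fun j => (Nat.choose k j : F)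

/-- Coordinates of `v^(-m) e₀`. -/
def wn (n : ℕ) (F : Type*) [Field F] (m : ℕ) : Fin n → F :=
  fun j => (-1) ^ (j : ℕ) * (Nat.choose (m + (j : ℕ) - 1) j : F)

/-- `v^k e₀`. -/
def L (n : ℕ) (F : Type*) [Field F] (k : ℤ) : Fin n → F :=
  ((V n F ^ k : SpecialLinearGroup (Fin n) F) : Matrix (Fin n) (Fin n) F) *ᵥ ev n F 0

theorem L_zero : L n F 0 = ev n F 0 := by
  rw [L, zpow_zero]
  show (1 : Matrix (Fin n) (Fin n) F) *ᵥ _ = _
  rw [one_mulVec]

theorem zpow_L (i k : ℤ) :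
    ((V n F ^ i : SpecialLinearGroup (Fin n) F) : Matrix (Fin n) (Fin n) F) *ᵥ L n F k = L n F (i + k) := by
  rw [L, L, mulVec_mulVec, ← val_mul, ← _root_.zpow_add]

theorem L_natCast (k : ℕ) : L n F (k : ℤ) = wp n F k := by
  induction k with
  | zero =>
    rw [Nat.cast_zero, L_zero]
    funext j
    rcases Nat.eq_zero_or_pos (j : ℕ) with h | h
    · simp [ev, wp, h]
    · simp [ev, wp, h.ne', Nat.choose_eq_zero_of_lt h]
  | succ k ih =>
    have h := zpow_L (n := n) (F := F) 1 (k : ℤ)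
    rw [zpow_one, ih, add_comm (1 : ℤ)] at h
    rw [Nat.cast_succ, ← h, V_mulVec]
    funext j
    rw [Pi.add_apply, sh_mulVec]
    rcases Nat.eq_zero_or_pos (j : ℕ) with h0 | h0
    · simp [wp, h0]
    · rw [if_pos (show 1 ≤ (j : ℕ) from h0)]
      simp only [wp]
      obtain ⟨j', hj'⟩ : ∃ j', (j : ℕ) = j' + 1 := ⟨(j : ℕ) - 1, by omega⟩
      simp only [hj', Nat.add_sub_cancel, Nat.choose_succ_succ']
      push_cast
      ring

theorem L_neg (m : ℕ) : L n F (-(m : ℤ)) = wn n F m := by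
  induction m with
  | zero =>
    rw [Nat.cast_zero, neg_zero, L_zero]
    funext j
    rcases Nat.eq_zero_or_pos (j : ℕ) with h | h
    · simp [ev, wn, h]
    · simp [ev, wn, h.ne', Nat.choose_eq_zero_of_lt (show (j : ℕ) - 1 < j by omega)]
  | succ m ih =>
    have h : (V n F : Matrix (Fin n) (Fin n) F) *ᵥ wn n F (m + 1) = wn n F m := by
      rw [V_mulVec]
      funext j
      rw [Pi.add_apply, sh_mulVec]
      rcases Nat.eq_zero_or_pos (j : ℕ) with h0 | h0
      · simp [wn, h0]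
      · rw [if_pos (show 1 ≤ (j : ℕ) from h0)]
        simp only [wn]
        obtain ⟨j', hj'⟩ : ∃ j', (j : ℕ) = j' + 1 := ⟨(j : ℕ) - 1, by omega⟩
        simp only [hj', Nat.add_sub_cancel]
        rw [show m + 1 + (j' + 1) - 1 = (m + j') + 1 by omega, show m + 1 + j' - 1 = m + j' by omega,
          show m + (j' + 1) - 1 = m + j' by omega, Nat.choose_succ_succ']
        push_cast
        ring
    have h' := congrArg (fun x => ((V n F ^ (-1 : ℤ) : SpecialLinearGroup (Fin n) F) : Matrix (Fin n) (Fin n) F) *ᵥ x) h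
    simp only [mulVec_mulVec, ← val_mul] at h'
    rw [_root_.zpow_neg_one, inv_mul_cancel, ← ih, ← _root_.zpow_neg_one, zpow_L] at h'
    rw [show (-((m + 1 : ℕ) : ℤ)) = -1 + -(m : ℤ) by push_cast; ring, ← h']
    exact Matrix.one_mulVec _

/-- The functional of the transvection `(v⁻¹ u)²`. -/
def fv (n : ℕ) (ξ : F) : Fin n → F :=
  fun j => if (j : ℕ) + 2 = n then ξ + (-2) ^ n else if (j : ℕ) + 1 = n then 2 * ξ else 0

/-- `f (v^k e₀)`. -/
def A (n : ℕ) (ξ : F) (k : ℤ) : F := fv n ξ ⬝ᵥ L n F k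

/-- `f v^(-k)`. -/
def Φ (n : ℕ) (ξ : F) (k : ℤ) : Fin n → F :=
  fv n ξ ᵥ* ((V n F ^ (-k) : SpecialLinearGroup (Fin n) F) : Matrix (Fin n) (Fin n) F)

theorem Φ_dot_L (ξ : F) (k l : ℤ) : Φ n ξ l ⬝ᵥ L n F k = A n ξ (k - l) := by
  rw [Φ, ← dotProduct_mulVec, zpow_L, A, neg_add_eq_sub]

theorem fv_dot (hn : 2 ≤ n) (ξ : F) (x : Fin n → F) :
    fv n ξ ⬝ᵥ x = (ξ + (-2) ^ n) * x ⟨n - 2, by omega⟩ + 2 * ξ * x ⟨n - 1, by omega⟩ := by
  rw [dotProduct, Fintype.sum_eq_add (⟨n - 2, by omega⟩ : Fin n) (⟨n - 1, by omega⟩ : Fin n)]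
  · congr 1
    · rw [fv, if_pos (by show n - 2 + 2 = n; omega)]
    · rw [fv, if_neg (by show ¬ n - 1 + 2 = n; omega), if_pos (by show n - 1 + 1 = n; omega)]
  · intro e
    have e' : n - 2 = n - 1 := congrArg Fin.val e
    omega
  · rintro j ⟨h1, h2⟩
    have h1' : (j : ℕ) ≠ n - 2 := fun e => h1 (Fin.ext e)
    have h2' : (j : ℕ) ≠ n - 1 := fun e => h2 (Fin.ext e)
    rw [fv, if_neg (by omega), if_neg (by omega), zero_mul]

theorem A_natCast (hn : 2 ≤ n) (ξ : F) (k : ℕ) :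
    A n ξ (k : ℤ) = (ξ + (-2) ^ n) * (Nat.choose k (n - 2) : F) + 2 * ξ * (Nat.choose k (n - 1) : F) := by
  rw [A, L_natCast, fv_dot hn]; rfl

theorem A_small (hn : 3 ≤ n) (ξ : F) {k : ℕ} (hk : k ≤ n - 3) : A n ξ (k : ℤ) = 0 := by
  rw [A_natCast (by omega), Nat.choose_eq_zero_of_lt (by omega), Nat.choose_eq_zero_of_lt (by omega)]
  simp

theorem A_neg (hn : 2 ≤ n) (ξ : F) (m : ℕ) :
    A n ξ (-(m : ℤ)) = (-1) ^ n * ((ξ + (-2) ^ n) * (Nat.choose (m + (n - 2) - 1) (n - 2) : F) -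
      2 * ξ * (Nat.choose (m + (n - 1) - 1) (n - 1) : F)) := by
  rw [A, L_neg, fv_dot hn]
  simp only [wn]
  obtain ⟨n', rfl⟩ : ∃ n', n = n' + 2 := ⟨n - 2, by omega⟩
  simp only [Nat.add_sub_cancel, show n' + 2 - 1 = n' + 1 by omega, pow_succ]
  ring

/-- `κ = f (v⁻¹ e₀)`. -/
theorem A_neg_one (hn : 3 ≤ n) (ξ : F) : A n ξ (-1) = (-1) ^ n * ((-2) ^ n - ξ) := by
  have h := A_neg (F := F) (show 2 ≤ n by omega) ξ 1
  rw [Nat.cast_one] at h
  rw [h, show 1 + (n - 2) - 1 = n - 2 by omega, show 1 + (n - 1) - 1 = n - 1 by omega, Nat.choose_self, Nat.choose_self]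
  push_cast
  ring

section Generators

variable (n)

/-- The functional `e*`. -/
def Ef (ξ : F) : Fin n → F := fun k => if (k : ℕ) + 1 = n then 1 else 2 * (-2) ^ (k : ℕ) / ξ

/-- `v⁻¹ c`. -/
def g0 (ξ : F) : Fin n → F := (-ξ) • ev n F 0 + (-2 : F) • ev n F (n - 1)

/-- The last column vector `c` of `u`. -/
def cv (ξ : F) : Fin n → F := (-ξ) • (ev n F 0 + ev n F 1) + (-2 : F) • ev n F (n - 1)

/-- The second regular unipotent. -/
def uM (ξ : F) : Matrix (Fin n) (Fin n) F :=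
  1 + sh n F + vecMulVec (cv n ξ) (Ef n ξ) - vecMulVec (ev n F (n - 1)) (Ef n ξ ᵥ* sh n F)

/-- Projection to the kernel of `e*`. -/
def Pj (ξ : F) (x : Fin n → F) : Fin n → F := x - (Ef n ξ ⬝ᵥ x) • ev n F (n - 1)

/-- A cyclic basis of `u`. -/
def qv (ξ : F) : ℕ → (Fin n → F)
  | 0 => ev n F (n - 1)
  | k + 1 => Pj n ξ ((sh n F) ^ k *ᵥ cv n ξ)

/-- The matrix of the cyclic basis. -/
def QM (ξ : F) : Matrix (Fin n) (Fin n) F := Matrix.of fun i j => qv n ξ (j : ℕ) i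

variable {n}

theorem sh_last (hn : 1 ≤ n) : sh n F *ᵥ ev n F (n - 1) = 0 := by
  funext i
  rw [sh_mulVec, Pi.zero_apply]
  split_ifs with h
  · have := i.isLt
    simp [ev]; omega
  · rfl

theorem dots (hn : 4 ≤ n) {ξ : F} (hξ : ξ ≠ 0) :
    Ef n ξ ⬝ᵥ ev n F (n - 1) = 1 ∧ (Ef n ξ ᵥ* sh n F) ⬝ᵥ ev n F (n - 1) = 0 ∧ Ef n ξ ⬝ᵥ g0 n ξ = -4 ∧
      (Ef n ξ ᵥ* sh n F) ⬝ᵥ g0 n ξ = 4 ∧ Ef n ξ ⬝ᵥ cv n ξ = 0 := by
  have h1 : Ef n ξ ⬝ᵥ ev n F (n - 1) = 1 := by
    rw [dot_ev' _ (show n - 1 < n by omega), Ef, if_pos (by show n - 1 + 1 = n; omega)]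
  have h2 : (Ef n ξ ᵥ* sh n F) ⬝ᵥ ev n F (n - 1) = 0 := by
    rw [← dotProduct_mulVec, sh_last (by omega), dotProduct_zero]
  have e0 : Ef n ξ ⟨0, by omega⟩ = 2 / ξ := by
    rw [Ef, if_neg (by show ¬ 0 + 1 = n; omega)]; simp
  have e1 : Ef n ξ ⟨1, by omega⟩ = -4 / ξ := by
    rw [Ef, if_neg (by show ¬ 1 + 1 = n; omega)]; simp; ring
  refine ⟨h1, h2, ?_, ?_, ?_⟩
  · rw [g0, dotProduct_add, dotProduct_smul, dotProduct_smul, h1, dot_ev' _ (show 0 < n by omega), e0, smul_eq_mul, smul_eq_mul]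
    field_simp; ring
  · rw [g0, dotProduct_add, dotProduct_smul, dotProduct_smul, h2, dot_ev' _ (show 0 < n by omega), vecMul_sh, dif_pos (show 0 + 1 < n by omega),
      smul_eq_mul, smul_eq_mul, show Ef n ξ ⟨0 + 1, _⟩ = -4 / ξ from e1]
    field_simp; ring
  · rw [cv, dotProduct_add, dotProduct_smul, dotProduct_smul, dotProduct_add, h1, dot_ev' _ (show 0 < n by omega),
      dot_ev' _ (show 1 < n by omega), e0, e1, smul_eq_mul, smul_eq_mul]
    field_simp; ring

theorem V_mul_g0 (hn : 4 ≤ n) (ξ : F) : (V n F : Matrix (Fin n) (Fin n) F) *ᵥ g0 n ξ = cv n ξ := by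
  have h : sh n F *ᵥ ev n F 0 = ev n F 1 := by
    funext i
    rw [sh_mulVec]
    split_ifs with h
    · simp only [ev]
      by_cases h' : (i : ℕ) = 1
      · rw [if_pos (by omega), if_pos h']
      · rw [if_neg (by omega), if_neg h']
    · rw [ev, if_neg (by omega)]
  rw [V_mulVec, g0, mulVec_add, mulVec_smul, mulVec_smul, h, sh_last (by omega), smul_zero, add_zero, cv, smul_add]
  abel

theorem uM_eq (hn : 4 ≤ n) (ξ : F) :
    uM n ξ = (V n F : Matrix (Fin n) (Fin n) F) *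
      (1 + vecMulVec (g0 n ξ) (Ef n ξ) - vecMulVec (ev n F (n - 1)) (Ef n ξ ᵥ* sh n F)) := by
  rw [Matrix.mul_sub, Matrix.mul_add, Matrix.mul_one, Matrix.mul_vecMulVec, Matrix.mul_vecMulVec, V_mul_g0 hn,
    V_mulVec, sh_last (by omega), add_zero]
  rfl

theorem uM_mulVec (ξ : F) (x : Fin n → F) : uM n ξ *ᵥ x =
    x + sh n F *ᵥ x + (Ef n ξ ⬝ᵥ x) • cv n ξ - (Ef n ξ ⬝ᵥ (sh n F *ᵥ x)) • ev n F (n - 1) := by
  rw [uM, sub_mulVec, add_mulVec, add_mulVec, one_mulVec, vecMulVec_mulVec, vecMulVec_mulVec, op_smul_eq_smul,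
    op_smul_eq_smul, ← dotProduct_mulVec]

theorem uM_mul_Q (hn : 4 ≤ n) {ξ : F} (hξ : ξ ≠ 0) : uM n ξ * QM n ξ = QM n ξ * (V n F : Matrix (Fin n) (Fin n) F) := by
  obtain ⟨d1, d2, -, -, d5⟩ := dots hn hξ
  have hP : ∀ x, uM n ξ *ᵥ Pj n ξ x = Pj n ξ x + Pj n ξ (sh n F *ᵥ x) := fun x => by
    have hs : sh n F *ᵥ Pj n ξ x = sh n F *ᵥ x := by
      rw [Pj, mulVec_sub, mulVec_smul, sh_last (by omega), smul_zero, sub_zero]
    rw [uM_mulVec, hs, show Ef n ξ ⬝ᵥ Pj n ξ x = 0 by rw [Pj, dotProduct_sub, dotProduct_smul, d1, smul_eq_mul, mul_one, sub_self],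
      zero_smul, add_zero, Pj, Pj]
    abel
  have hlast : qv n ξ n = 0 := by
    obtain ⟨k, rfl⟩ : ∃ k, n = k + 1 := ⟨n - 1, by omega⟩
    show Pj (k + 1) ξ ((sh (k + 1) F) ^ k *ᵥ cv (k + 1) ξ) = 0
    have e : (sh (k + 1) F) ^ k *ᵥ cv (k + 1) ξ = cv (k + 1) ξ ⟨0, by omega⟩ • ev (k + 1) F (k + 1 - 1) := by
      funext i
      rw [sh_pow_mulVec, Pi.smul_apply, smul_eq_mul, ev]
      have := i.isLt
      by_cases h : k ≤ (i : ℕ)
      · rw [if_pos h, if_pos (by omega), mul_one]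
        exact congrArg (cv (k + 1) ξ) (Fin.ext (by show (i : ℕ) - k = 0; omega))
      · rw [if_neg h, if_neg (by omega), mul_zero]
    rw [Pj, e, dotProduct_smul, d1, smul_eq_mul, mul_one, sub_self]
  have hq : ∀ j : ℕ, uM n ξ *ᵥ qv n ξ j = qv n ξ j + qv n ξ (j + 1) := by
    intro j
    cases j with
    | zero =>
      show uM n ξ *ᵥ ev n F (n - 1) = ev n F (n - 1) + Pj n ξ ((sh n F) ^ 0 *ᵥ cv n ξ)
      rw [uM_mulVec, sh_last (by omega), d1, dotProduct_zero, zero_smul, one_smul, sub_zero, add_zero, pow_zero, one_mulVec, Pj,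
        d5, zero_smul, sub_zero]
    | succ j =>
      show uM n ξ *ᵥ Pj n ξ ((sh n F) ^ j *ᵥ cv n ξ) = Pj n ξ ((sh n F) ^ j *ᵥ cv n ξ) + Pj n ξ ((sh n F) ^ (j + 1) *ᵥ cv n ξ)
      rw [hP, pow_succ', ← mulVec_mulVec]
  ext i j
  have h1 : (uM n ξ * QM n ξ) i j = (uM n ξ *ᵥ qv n ξ (j : ℕ)) i := rfl
  have h2 : (QM n ξ * (V n F : Matrix (Fin n) (Fin n) F)) i j =
      ((fun r => QM n ξ i r) ᵥ* (1 + sh n F)) j := rfl
  rw [h1, hq, h2, vecMul_add, vecMul_one, Pi.add_apply, Pi.add_apply, vecMul_sh]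
  show qv n ξ (j : ℕ) i + _ = qv n ξ (j : ℕ) i + _
  congr 1
  split_ifs with h
  · rfl
  · have : (j : ℕ) + 1 = n := by have := j.isLt; omega
    rw [this, hlast]; rfl

theorem QM_det (hn : 4 ≤ n) (ξ : F) : (QM n ξ).det = ξ ^ (n - 1) := by
  obtain ⟨k, rfl⟩ : ∃ k, n = k + 1 := ⟨n - 1, by omega⟩
  have h := Matrix.det_permute' (finRotate (k + 1)) (QM (k + 1) ξ)
  rw [Matrix.det_of_isLowerTriangular] at h
  · have hdiag : ∀ i : Fin (k + 1), ((QM (k + 1) ξ).submatrix id (finRotate (k + 1))) i i = if (i : ℕ) = k then 1 else -ξ := by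
      intro i
      show qv (k + 1) ξ ((finRotate (k + 1) i : Fin (k + 1)) : ℕ) i = _
      rw [coe_finRotate]
      by_cases hi : (i : ℕ) = k
      · rw [if_pos (Fin.ext hi), if_pos hi]
        simp [qv, ev, hi]
      · rw [if_neg (fun e => hi (by rw [e]; rfl)), if_neg hi]
        show ((sh (k + 1) F) ^ (i : ℕ) *ᵥ cv (k + 1) ξ) i - _ * ev (k + 1) F (k + 1 - 1) i = _
        rw [sh_pow_mulVec, if_pos le_rfl]
        simp [cv, ev, hi]
        right; exact if_neg (by omega)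
    have hprod : ∏ i : Fin (k + 1), ((QM (k + 1) ξ).submatrix id (finRotate (k + 1))) i i = (-ξ) ^ k := by
      rw [Finset.prod_congr rfl fun i _ => hdiag i, Fin.prod_univ_castSucc]
      rw [show (if ((Fin.last k : Fin (k + 1)) : ℕ) = k then (1 : F) else -ξ) = 1 by simp, mul_one,
        Finset.prod_congr rfl fun (i : Fin k) _ => show (if ((Fin.castSucc i : Fin (k + 1)) : ℕ) = k then (1 : F) else -ξ) = -ξ by
          have := i.isLt; simp; omega,
        Finset.prod_const, Finset.card_univ, Fintype.card_fin]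
    rw [hprod, sign_finRotate, Nat.add_sub_cancel] at h
    push_cast at h
    rw [neg_pow] at h
    rw [Nat.add_sub_cancel]
    exact (mul_left_cancel₀ (pow_ne_zero k (neg_ne_zero.2 one_ne_zero)) h).symm
  · intro i j hij
    have hij' : (i : ℕ) < j := hij
    show qv (k + 1) ξ ((finRotate (k + 1) j : Fin (k + 1)) : ℕ) i = 0
    rw [coe_finRotate]
    by_cases hj : (j : ℕ) = k
    · rw [if_pos (Fin.ext hj)]
      simp [qv, ev]; omega
    · rw [if_neg (fun e => hj (by rw [e]; rfl))]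
      show ((sh (k + 1) F) ^ (j : ℕ) *ᵥ cv (k + 1) ξ) i - _ * ev (k + 1) F (k + 1 - 1) i = 0
      rw [sh_pow_mulVec, if_neg (by omega), ev, if_neg (by have := j.isLt; omega), mul_zero, sub_zero]

theorem uM_det (hn : 4 ≤ n) {ξ : F} (hξ : ξ ≠ 0) : (uM n ξ).det = 1 := by
  have h := congrArg Matrix.det (uM_mul_Q hn hξ)
  rw [Matrix.det_mul, Matrix.det_mul, (V n F).2, mul_one] at h
  have hQ : (QM n ξ).det ≠ 0 := by rw [QM_det hn]; exact pow_ne_zero _ hξ
  exact mul_right_cancel₀ hQ (h.trans (one_mul _).symm)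

/-- `u`. -/
def U (hn : 4 ≤ n) {ξ : F} (hξ : ξ ≠ 0) : SpecialLinearGroup (Fin n) F := ⟨uM n ξ, uM_det hn hξ⟩

theorem V_nilpotent (hn : 1 ≤ n) : IsNilpotent ((V n F : Matrix (Fin n) (Fin n) F) - 1) ∧
    ((V n F : Matrix (Fin n) (Fin n) F) - 1) ^ (n - 1) ≠ 0 := by
  have e : (V n F : Matrix (Fin n) (Fin n) F) - 1 = sh n F := add_sub_cancel_left (1 : Matrix (Fin n) (Fin n) F) (sh n F)
  rw [e]
  refine ⟨⟨n, ?_⟩, fun h => ?_⟩
  · refine Matrix.ext_of_mulVec_single fun j => ?_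
    funext i
    rw [sh_pow_mulVec, if_neg (by omega), zero_mulVec]
    rfl
  · have h' := congrFun (congrArg (fun M : Matrix (Fin n) (Fin n) F => M *ᵥ ev n F 0) h) ⟨n - 1, by omega⟩
    simp only [zero_mulVec, Pi.zero_apply] at h'
    rw [sh_pow_mulVec, if_pos le_rfl] at h'
    simp [ev] at h'

theorem U_nilpotent (hn : 4 ≤ n) {ξ : F} (hξ : ξ ≠ 0) : IsNilpotent ((U hn hξ : Matrix (Fin n) (Fin n) F) - 1) ∧
    ((U hn hξ : Matrix (Fin n) (Fin n) F) - 1) ^ (n - 1) ≠ 0 := by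
  have hQ : IsUnit (QM n ξ).det := isUnit_iff_ne_zero.2 (by rw [QM_det hn]; exact pow_ne_zero _ hξ)
  obtain ⟨⟨m, hm⟩, hne⟩ := V_nilpotent (F := F) (show 1 ≤ n by omega)
  set X := (U hn hξ : Matrix (Fin n) (Fin n) F) - 1
  set Y := (V n F : Matrix (Fin n) (Fin n) F) - 1
  have h : X * QM n ξ = QM n ξ * Y := by
    rw [Matrix.sub_mul, Matrix.mul_sub, Matrix.one_mul, Matrix.mul_one]
    show uM n ξ * QM n ξ - _ = _
    rw [uM_mul_Q hn hξ]
  have hk : ∀ k, X ^ k * QM n ξ = QM n ξ * Y ^ k := by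
    intro k
    induction k with
    | zero => rw [pow_zero, pow_zero, Matrix.one_mul, Matrix.mul_one]
    | succ k ih => rw [pow_succ, Matrix.mul_assoc, h, ← Matrix.mul_assoc, ih, Matrix.mul_assoc, ← pow_succ]
  refine ⟨⟨m, ?_⟩, fun e => hne ?_⟩
  · have h' := congrArg (· * (QM n ξ)⁻¹) (hk m)
    simp only [hm, Matrix.mul_zero, Matrix.zero_mul, Matrix.mul_assoc, Matrix.mul_nonsing_inv _ hQ, Matrix.mul_one] at h'
    exact h'
  · have h' := congrArg ((QM n ξ)⁻¹ * ·) (hk (n - 1))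
    simp only [e, Matrix.zero_mul, Matrix.mul_zero, ← Matrix.mul_assoc, Matrix.nonsing_inv_mul _ hQ, Matrix.one_mul] at h'
    exact h'.symm

/-- `u` is conjugate to `v` when `ξ` is an `n`-th power. -/
theorem U_conj (hn : 4 ≤ n) {ξ : F} (hξ : ξ ≠ 0) (t : F) (ht : t ^ n = ξ) :
    ∃ g : SpecialLinearGroup (Fin n) F, U hn hξ = g * V n F * g⁻¹ := by
  have hdet : ((t / ξ) • QM n ξ).det = 1 := by
    rw [Matrix.det_smul, Fintype.card_fin, QM_det hn, div_pow, ht]
    obtain ⟨k, rfl⟩ : ∃ k, n = k + 1 := ⟨n - 1, by omega⟩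
    rw [Nat.add_sub_cancel, pow_succ]
    field_simp
  refine ⟨(⟨_, hdet⟩ : SpecialLinearGroup (Fin n) F), eq_mul_inv_iff_mul_eq.2 (Subtype.ext ?_)⟩
  show uM n ξ * ((t / ξ) • QM n ξ) = ((t / ξ) • QM n ξ) * (V n F : Matrix (Fin n) (Fin n) F)
  rw [Matrix.mul_smul, Matrix.smul_mul, uM_mul_Q hn hξ]

theorem in_T (hn : 4 ≤ n) {ξ : F} (hξ : ξ ≠ 0) {H : Subgroup (SpecialLinearGroup (Fin n) F)} (hV : V n F ∈ H)
    (hU : U hn hξ ∈ H) : In H (ev n F 0) (fv n ξ) := by
  obtain ⟨d1, d2, d3, d4, -⟩ := dots hn hξ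
  set w := (V n F)⁻¹ * U hn hξ
  have hwH : w ∈ H := H.mul_mem (H.inv_mem hV) hU
  have hw : (w : Matrix (Fin n) (Fin n) F) =
      1 + vecMulVec (g0 n ξ) (Ef n ξ) - vecMulVec (ev n F (n - 1)) (Ef n ξ ᵥ* sh n F) := by
    rw [val_mul]
    show _ * uM n ξ = _
    rw [uM_eq hn, ← Matrix.mul_assoc, val_inv_mul, Matrix.one_mul]
  refine ⟨w * w, H.mul_mem hwH hwH, ?_⟩
  have hf : fv n ξ = ξ • (Ef n ξ ᵥ* sh n F + (2 : F) • Ef n ξ) := by
    funext j
    rw [Pi.smul_apply, Pi.add_apply, Pi.smul_apply, vecMul_sh]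
    simp only [fv, Ef, smul_eq_mul]
    have := j.isLt
    by_cases h1 : (j : ℕ) + 1 = n
    · rw [if_neg (by omega), if_pos h1, dif_neg (by omega), if_pos h1]; ring
    · rw [dif_pos (by omega), if_neg h1, if_neg h1]
      by_cases h2 : (j : ℕ) + 2 = n
      · rw [if_pos h2, if_pos (by show (j : ℕ) + 1 + 1 = n; omega)]
        have h4 : (-2 : F) ^ n = (-2) ^ (j : ℕ) * (-2) ^ 2 := by
          rw [← pow_add]; exact congrArg _ h2.symm
        field_simp
        rw [h4]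
        ring
      · rw [if_neg h2, if_neg (by show ¬ (j : ℕ) + 1 + 1 = n; omega)]
        field_simp
        ring
  rw [val_mul, hw, hf]
  simp only [Matrix.add_mul, Matrix.sub_mul, Matrix.mul_add, Matrix.mul_sub, Matrix.one_mul, Matrix.mul_one,
    vecMulVec_mul_vecMulVec, d1, d2, d3, d4, zero_smul, one_smul, vecMulVec_smul, vecMulVec_zero]
  ext i j
  simp [vecMulVec_apply, g0]
  ring

end Generators

section Generate

variable [Fintype F] {ξ : F} {H : Subgroup (SpecialLinearGroup (Fin n) F)}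

theorem in_L (hV : V n F ∈ H) {x : Fin n → F} (h : In H x (fv n ξ)) (i : ℤ) :
    In H (((V n F ^ i : SpecialLinearGroup (Fin n) F) : Matrix (Fin n) (Fin n) F) *ᵥ x) (Φ n ξ i) := by
  have h1 := in_conj (H.zpow_mem hV i) h
  rwa [← _root_.zpow_neg] at h1

theorem step (hV : V n F ∈ H) (hT : In H (ev n F 0) (fv n ξ)) {s : F} {k l : ℤ} (hk : A n ξ k = 0) (hl : A n ξ l = 0)
    (h : In H (s • L n F k) (fv n ξ)) : In H ((A n ξ (k - l) * s) • L n F l) (fv n ξ) := by
  have h2 := in_L hV (L_zero (n := n) (F := F) ▸ hT) l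
  rw [zpow_L, add_zero] at h2
  have h3 := in_comm (by rw [dotProduct_smul, show fv n ξ ⬝ᵥ L n F k = 0 from hk, smul_zero]) hl h h2
  rwa [dotProduct_smul, Φ_dot_L, smul_eq_mul, mul_comm] at h3

/-- Everything follows from the full transvection group of `f`. -/
theorem eq_top_of_full_fv (hn : 4 ≤ n) (hξ : ξ ≠ 0) (hV : V n F ∈ H) (hU : U hn hξ ∈ H)
    (ha : ξ + (-2) ^ n ≠ 0) (hf : Full H (fv n ξ)) : H = ⊤ := by
  classical
  haveI : NeZero n := ⟨by omega⟩
  have hneg : ∀ {φ : Fin n → F}, Full H φ → Full H (-φ) := fun {φ} h => by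
    rw [← neg_one_smul F φ]; exact full_smul h _
  have hsh : ∀ {φ : Fin n → F}, Full H φ → Full H (φ ᵥ* sh n F) := fun {φ} h => by
    have h1 := full_add (full_conj h hV) (hneg h)
    rwa [show φ ᵥ* (V n F : Matrix (Fin n) (Fin n) F) + -φ = φ ᵥ* sh n F by
      show φ ᵥ* (1 + sh n F) + -φ = _
      rw [vecMul_add, vecMul_one]; abel] at h1
  have hj : ∀ j : ℕ, Full H (fv n ξ ᵥ* (sh n F) ^ j) := by
    intro j
    induction j with
    | zero => rwa [pow_zero, vecMul_one]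
    | succ j ih => rw [pow_succ, ← vecMul_vecMul]; exact hsh ih
  have hjval : ∀ (j : ℕ) (i : Fin n), (fv n ξ ᵥ* (sh n F) ^ j) i =
      if h : (i : ℕ) + j < n then fv n ξ ⟨(i : ℕ) + j, h⟩ else 0 := by
    intro j
    induction j with
    | zero => intro i; simp
    | succ j ih =>
      intro i
      rw [pow_succ, ← vecMul_vecMul, vecMul_sh]
      by_cases h : (i : ℕ) + 1 < n
      · rw [dif_pos h, ih]
        by_cases h' : (i : ℕ) + (j + 1) < n
        · rw [dif_pos (show (i : ℕ) + 1 + j < n by omega), dif_pos h']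
          exact congrArg (fv n ξ) (Fin.ext (by show (i : ℕ) + 1 + j = (i : ℕ) + (j + 1); omega))
        · rw [dif_neg (show ¬ (i : ℕ) + 1 + j < n by omega), dif_neg h']
      · rw [dif_neg h, dif_neg (by omega)]
  have hlow : ∀ k, k + 2 ≤ n → Full H (ev n F k) := by
    rcases eq_or_ne (2 : F) 0 with h2 | h2
    · intro k hk
      have h := full_smul (hj (n - 2 - k)) (ξ + (-2) ^ n)⁻¹
      convert h using 1
      funext i
      rw [Pi.smul_apply, hjval, smul_eq_mul]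
      simp only [ev, fv, h2, zero_mul, ite_self]
      by_cases hi : (i : ℕ) = k
      · rw [if_pos hi, dif_pos (by omega), if_pos (by omega), inv_mul_cancel₀]
        rw [h2] at ha
        exact ha
      · rw [if_neg hi]
        split_ifs <;> simp <;> omega
    · intro k
      induction k with
      | zero =>
        intro _
        have h := full_smul (hj (n - 1)) (2 * ξ)⁻¹
        convert h using 1
        funext i
        rw [Pi.smul_apply, hjval, smul_eq_mul]
        simp only [ev, fv]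
        by_cases hi : (i : ℕ) = 0
        · rw [if_pos hi, dif_pos (by omega), if_neg (by omega), if_pos (by omega), inv_mul_cancel₀ (mul_ne_zero h2 hξ)]
        · rw [if_neg hi, dif_neg (by omega), mul_zero]
      | succ k ih =>
        intro hk
        have h := full_smul (full_add (hj (n - 2 - k)) (full_smul (ih (by omega)) (-(ξ + (-2) ^ n)))) (2 * ξ)⁻¹
        convert h using 1
        funext i
        rw [Pi.smul_apply, Pi.add_apply, Pi.smul_apply, hjval, smul_eq_mul, smul_eq_mul]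
        simp only [ev, fv]
        by_cases hi : (i : ℕ) = k + 1
        · rw [if_pos hi, dif_pos (by omega), if_neg (by omega), if_pos (by omega), if_neg (by omega)]
          field_simp
          ring
        · rw [if_neg hi]
          by_cases hi' : (i : ℕ) = k
          · rw [if_pos hi', dif_pos (by omega), if_pos (by omega)]; ring
          · rw [if_neg hi']
            split_ifs <;> first | (exfalso; omega) | ring
  set φ := ev n F 0 ᵥ* uM n ξ with hφd
  have hφ : Full H φ := full_conj (hlow 0 (by omega)) hU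
  have hlast : φ ⟨n - 1, by omega⟩ = -ξ := by
    rw [hφd]
    show (fun j => ev n F 0 ⬝ᵥ fun i => uM n ξ i j) ⟨n - 1, by omega⟩ = _
    simp only
    rw [dotProduct_comm, dot_ev' _ (show 0 < n by omega)]
    simp only [uM, Matrix.add_apply, Matrix.sub_apply, vecMulVec_apply, sh, Matrix.of_apply, cv, ev, Ef, Pi.add_apply, Pi.smul_apply, smul_eq_mul]
    rw [Matrix.one_apply_ne (fun e => by have e' : 0 = n - 1 := congrArg Fin.val e; omega)]
    simp only [show ¬ (0 = n - 1 + 1) by omega, show ¬ (0 = n - 1) by omega, show n - 1 + 1 = n by omega, if_false, if_true]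
    simp
    omega
  have hall : ∀ k, k < n → Full H (ev n F k) := by
    intro k hk
    rcases le_or_gt (k + 2) n with hk2 | hk2
    · exact hlow k hk2
    · have hkn : k = n - 1 := by omega
      have hs : Full H (∑ i : Fin n, if (i : ℕ) + 2 ≤ n then (-φ i) • ev n F (i : ℕ) else 0) :=
        Finset.sum_induction _ (Full H) (fun _ _ => full_add) (fun x _ => in_zero_right x)
          (fun i _ => by
            split_ifs with h
            · exact full_smul (hlow i h) _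
            · exact fun x _ => in_zero_right x)
      have h := full_smul (full_add hφ hs) (-ξ)⁻¹
      convert h using 1
      funext r
      rw [Pi.smul_apply, Pi.add_apply, Finset.sum_apply, Finset.sum_eq_single r]
      · have := r.isLt
        by_cases hr : (r : ℕ) + 2 ≤ n
        · rw [if_pos hr]; simp [ev]; omega
        · rw [if_neg hr, show r = ⟨n - 1, by omega⟩ from Fin.ext (by show (r : ℕ) = n - 1; omega), hlast]
          simp [ev, hkn, hξ]
      · intro i _ hi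
        split_ifs
        · rw [Pi.smul_apply, smul_eq_mul, ev, if_neg (fun e => hi (Fin.ext e).symm), mul_zero]
        · rfl
      · simp
  refine eq_top_of_full (by omega) fun φ => ?_
  have e : φ = ∑ i : Fin n, φ i • ev n F (i : ℕ) := by
    funext r
    rw [Finset.sum_apply, Finset.sum_eq_single r]
    · simp [ev]
    · intro i _ hi; rw [Pi.smul_apply, smul_eq_mul, ev, if_neg (fun e => hi (Fin.ext e).symm), mul_zero]
    · simp
  rw [e]
  exact Finset.sum_induction _ (Full H) (fun _ _ => full_add) (fun x _ => in_zero_right x)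
    (fun i _ => full_smul (hall i i.isLt) _)

theorem full_fv_of (hn : 4 ≤ n) (ha : ξ + (-2) ^ n ≠ 0) (hL : ∀ k : ℕ, k ≤ n - 3 → ∀ s : F, In H (s • L n F (k : ℤ)) (fv n ξ))
    (y : Fin n → F) (hy : fv n ξ ⬝ᵥ y = 0) (hylast : y ⟨n - 1, by omega⟩ ≠ 0)
    (hY : ∀ s : F, In H (s • y) (fv n ξ)) : Full H (fv n ξ) := by
  have hlow : ∀ (k : ℕ), k ≤ n - 2 → ∀ x : Fin n → F, (∀ i : Fin n, k ≤ (i : ℕ) → x i = 0) → In H x (fv n ξ) := by
    intro k
    induction k with
    | zero => intro _ x hx; rw [show x = 0 from funext fun i => hx i (Nat.zero_le _)]; exact in_zero_left _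
    | succ k ih =>
      intro hk x hx
      have hkn : k < n := by omega
      set s := x ⟨k, hkn⟩
      have h1 := ih (by omega) (x - s • L n F (k : ℤ)) (fun i hi => by
        rw [L_natCast, Pi.sub_apply, Pi.smul_apply, smul_eq_mul]
        simp only [wp]
        rcases Nat.eq_or_lt_of_le hi with h | h
        · rw [← h, Nat.choose_self, Nat.cast_one, mul_one]
          rw [show i = ⟨k, hkn⟩ from Fin.ext h.symm, sub_self]
        · rw [Nat.choose_eq_zero_of_lt h, Nat.cast_zero, mul_zero, sub_zero]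
          exact hx i h)
      have h2 := in_add (by rw [dotProduct_smul, show fv n ξ ⬝ᵥ L n F (k : ℤ) = 0 from A_small (by omega) ξ (by omega), smul_zero])
        h1 (hL k (by omega) s)
      rwa [sub_add_cancel] at h2
  intro x hx
  set r := x ⟨n - 1, by omega⟩ / y ⟨n - 1, by omega⟩
  set x' := x - r • y with hx'
  have h1 : x' ⟨n - 1, by omega⟩ = 0 := by
    simp [hx', r, div_mul_cancel₀ _ hylast]
  have hfx' : fv n ξ ⬝ᵥ x' = 0 := by rw [hx', dotProduct_sub, dotProduct_smul, hx, hy, smul_zero, sub_zero]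
  have h2 : x' ⟨n - 2, by omega⟩ = 0 := by
    rw [fv_dot (by omega), h1, mul_zero, add_zero, mul_eq_zero] at hfx'
    exact hfx'.resolve_left ha
  have h3 := hlow (n - 2) le_rfl x' (fun i hi => by
    have := i.isLt
    rcases Nat.eq_or_lt_of_le hi with h | h
    · rw [show i = ⟨n - 2, by omega⟩ from Fin.ext h.symm]; exact h2
    · rw [show i = ⟨n - 1, by omega⟩ from Fin.ext (by show (i : ℕ) = n - 1; omega)]; exact h1)
  have h4 := in_add (by rw [dotProduct_smul, hy, smul_zero]) h3 (hY r)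
  rwa [hx', sub_add_cancel] at h4

/-- Generic case. -/
theorem gen_generic (hn : 4 ≤ n) (hξ : ξ ≠ 0) (ha : ξ + (-2) ^ n ≠ 0) (hκ : ξ ≠ (-2) ^ n)
    (hgen : ∀ K : Subfield F, (ξ + (-2) ^ n) * A n ξ (-1) ^ (n - 2) ∈ K →
      (∀ m : ℕ, 2 ≤ m → m ≤ n - 3 → A n ξ (-(m : ℤ)) / A n ξ (-1) ^ m ∈ K) → ∀ x, x ∈ K) :
    Subgroup.closure ({V n F, U hn hξ} : Set (SpecialLinearGroup (Fin n) F)) = ⊤ := by
  classical
  set H := Subgroup.closure ({V n F, U hn hξ} : Set (SpecialLinearGroup (Fin n) F))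
  have hV : V n F ∈ H := Subgroup.subset_closure (by simp)
  have hU : U hn hξ ∈ H := Subgroup.subset_closure (by simp)
  have hT := in_T hn hξ hV hU
  set a := ξ + (-2) ^ n
  set κ := A n ξ (-1) with hκd
  have hκ0 : κ ≠ 0 := by
    rw [hκd, A_neg_one (by omega)]
    exact mul_ne_zero (pow_ne_zero _ (neg_ne_zero.2 one_ne_zero)) (sub_ne_zero.2 hκ.symm)
  have hA0 : ∀ k : ℕ, k ≤ n - 3 → A n ξ (k : ℤ) = 0 := fun k hk => A_small (by omega) ξ hk
  have climb : ∀ (i : ℕ) (k : ℕ) (s : F), k + i ≤ n - 3 → In H (s • L n F (k : ℤ)) (fv n ξ) →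
      In H ((κ ^ i * s) • L n F ((k + i : ℕ) : ℤ)) (fv n ξ) := by
    intro i
    induction i with
    | zero => intro k s _ h; rwa [pow_zero, one_mul, add_zero]
    | succ i ih =>
      intro k s hki h
      have h1 := step hV hT (hA0 _ (by omega)) (hA0 (k + i + 1) (by omega)) (ih k s (by omega) h)
      rw [show ((k + i : ℕ) : ℤ) - ((k + i + 1 : ℕ) : ℤ) = -1 by push_cast; ring, ← hκd] at h1
      rwa [pow_succ', mul_assoc, ← add_assoc]
  have hback : In H (κ • L n F 0) (Φ n ξ (-1)) := by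
    have h1 := in_L hV (L_zero (n := n) (F := F) ▸ hT) (-1)
    rw [zpow_L, add_zero] at h1
    have hT' : In H (L n F 0) (fv n ξ) := by rw [L_zero]; exact hT
    have h2 := in_comm (by rw [Φ_dot_L, sub_self]; exact hA0 0 (Nat.zero_le _)) (by
      rw [Φ_dot_L, show (0 : ℤ) - -1 = ((1 : ℕ) : ℤ) by norm_num]; exact hA0 1 (by omega)) h1 hT'
    exact h2
  have loop : ∀ s, In H (s • L n F ((n - 3 : ℕ) : ℤ)) (fv n ξ) → In H ((a * κ * s) • L n F 0) (fv n ξ) := by
    intro s h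
    have h1 := in_comm (by rw [dotProduct_smul, show fv n ξ ⬝ᵥ L n F ((n - 3 : ℕ) : ℤ) = 0 from hA0 _ le_rfl, smul_zero])
      (by rw [dotProduct_smul, show fv n ξ ⬝ᵥ L n F 0 = 0 from hA0 0 (Nat.zero_le _), smul_zero]) h hback
    rw [dotProduct_smul, Φ_dot_L, show ((n - 3 : ℕ) : ℤ) - -1 = ((n - 2 : ℕ) : ℤ) by omega, A_natCast (by omega),
      Nat.choose_self, Nat.choose_eq_zero_of_lt (show n - 2 < n - 1 by omega), Nat.cast_one, Nat.cast_zero, mul_zero, add_zero,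
      mul_one, smul_eq_mul, smul_smul] at h1
    rwa [show a * κ * s = s * a * κ by ring]
  let S : AddSubgroup F :=
    { carrier := {s | In H (s • L n F 0) (fv n ξ)}
      zero_mem' := by show In H _ _; rw [zero_smul]; exact in_zero_left _
      add_mem' := fun {a b} ha hb => by
        show In H _ _
        rw [add_smul]
        exact in_add (by rw [dotProduct_smul, show fv n ξ ⬝ᵥ L n F 0 = 0 from hA0 0 (Nat.zero_le _), smul_zero]) ha hb
      neg_mem' := fun {a} ha => by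
        show In H _ _
        rw [neg_smul]
        exact in_neg (by rw [dotProduct_smul, show fv n ξ ⬝ᵥ L n F 0 = 0 from hA0 0 (Nat.zero_le _), smul_zero]) ha }
  have h1S : (1 : F) ∈ S := by show In H _ _; rw [one_smul, L_zero]; exact hT
  let R : Subring F :=
    { carrier := {r | ∀ s ∈ S, r * s ∈ S}
      one_mem' := fun s hs => by rwa [one_mul]
      mul_mem' := fun {r r'} hr hr' s hs => by rw [mul_assoc]; exact hr _ (hr' s hs)
      zero_mem' := fun s _ => by rw [zero_mul]; exact S.zero_mem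
      add_mem' := fun {r r'} hr hr' s hs => by rw [add_mul]; exact S.add_mem (hr s hs) (hr' s hs)
      neg_mem' := fun {r} hr s hs => by rw [neg_mul]; exact S.neg_mem (hr s hs) }
  let K : Subfield F := { R with
    inv_mem' := fun x hx => by
      rcases eq_or_ne x 0 with rfl | hx0
      · rw [_root_.inv_zero]; exact R.zero_mem
      · have h2 : 2 ≤ Fintype.card F := Fintype.one_lt_card
        have e : x⁻¹ = x ^ (Fintype.card F - 2) := by
          apply inv_eq_of_mul_eq_one_right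
          rw [← pow_succ', show Fintype.card F - 2 + 1 = Fintype.card F - 1 by omega, FiniteField.pow_card_sub_one_eq_one x hx0]
        rw [e]; exact pow_mem (show x ∈ R from hx) _ }
  have hε : a * κ ^ (n - 2) ∈ K := by
    intro s hs
    have h1 := climb (n - 3) 0 s (by omega) hs
    rw [zero_add] at h1
    have h2 := loop _ h1
    show In H _ _
    rwa [show a * κ ^ (n - 2) * s = a * κ * (κ ^ (n - 3) * s) by
      rw [show n - 2 = n - 3 + 1 by omega, pow_succ]; ring]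
  have hjump : ∀ m : ℕ, 2 ≤ m → m ≤ n - 3 → A n ξ (-(m : ℤ)) / κ ^ m ∈ K := by
    intro m hm2 hm
    have h1 : a * κ ^ (n - 2) * (A n ξ (-(m : ℤ)) / κ ^ m) ∈ K := by
      intro s hs
      have h1 := step hV hT (k := 0) (l := (m : ℤ)) (hA0 0 (Nat.zero_le _)) (hA0 m hm) hs
      rw [zero_sub] at h1
      have h2 := climb (n - 3 - m) m _ (by omega) h1
      rw [show m + (n - 3 - m) = n - 3 by omega] at h2
      have h3 := loop _ h2
      show In H _ _
      convert h3 using 2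
      rw [show n - 2 = (n - 3 - m) + 1 + m by omega, pow_add, pow_add]
      field_simp
    have h2 := K.mul_mem (K.inv_mem hε) h1
    rwa [← mul_assoc, inv_mul_cancel₀ (mul_ne_zero ha (pow_ne_zero _ hκ0)), one_mul] at h2
  have hS : ∀ s, s ∈ S := fun s => by
    have h := hgen K hε hjump s 1 h1S
    rwa [mul_one] at h
  have hL : ∀ k : ℕ, k ≤ n - 3 → ∀ s : F, In H (s • L n F (k : ℤ)) (fv n ξ) := by
    intro k hk s
    have h := climb k 0 (s / κ ^ k) (by omega) (hS _)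
    rwa [zero_add, mul_div_cancel₀ _ (pow_ne_zero _ hκ0)] at h
  -- the vector `y`
  set B := A n ξ ((n - 1 : ℕ) : ℤ)
  set y := B • L n F ((n - 2 : ℕ) : ℤ) - a • L n F ((n - 1 : ℕ) : ℤ) with hyd
  have hAa : A n ξ ((n - 2 : ℕ) : ℤ) = a := by
    rw [A_natCast (by omega), Nat.choose_self, Nat.choose_eq_zero_of_lt (by omega), Nat.cast_one, Nat.cast_zero, mul_one, mul_zero, add_zero]
  have hy : fv n ξ ⬝ᵥ y = 0 := by
    rw [hyd, dotProduct_sub, dotProduct_smul, dotProduct_smul, show fv n ξ ⬝ᵥ L n F ((n - 2 : ℕ) : ℤ) = a from hAa, smul_eq_mul, smul_eq_mul]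
    show B * a - a * B = 0
    ring
  have hylast : y ⟨n - 1, by omega⟩ ≠ 0 := by
    rw [hyd, L_natCast, L_natCast, Pi.sub_apply, Pi.smul_apply, Pi.smul_apply]
    simp only [wp, smul_eq_mul]
    rw [Nat.choose_self, Nat.choose_eq_zero_of_lt (show n - 2 < n - 1 by omega), Nat.cast_one, Nat.cast_zero, mul_zero, mul_one, zero_sub]
    exact neg_ne_zero.2 ha
  have hΦy : Φ n ξ 2 ⬝ᵥ L n F ((n - 1 : ℕ) : ℤ) = 0 := by
    rw [Φ_dot_L, show ((n - 1 : ℕ) : ℤ) - 2 = ((n - 3 : ℕ) : ℤ) by omega]; exact hA0 _ le_rfl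
  have h2y : ∀ s : F, In H (s • y) (Φ n ξ 2) := by
    intro s
    have h1 := in_L hV (hL (n - 4) (by omega) (s * B)) 2
    rw [mulVec_smul, zpow_L, show (2 : ℤ) + ((n - 4 : ℕ) : ℤ) = ((n - 2 : ℕ) : ℤ) by omega] at h1
    have h2 := in_L hV (hL (n - 3) le_rfl (s * a)) 2
    rw [mulVec_smul, zpow_L, show (2 : ℤ) + ((n - 3 : ℕ) : ℤ) = ((n - 1 : ℕ) : ℤ) by omega] at h2
    have h3 := in_sub (by rw [dotProduct_smul, hΦy, smul_zero]) h1 h2
    rwa [hyd, smul_sub, smul_smul, smul_smul]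
  refine eq_top_of_full_fv hn hξ hV hU ha (full_fv_of hn ha hL y hy hylast fun s => ?_)
  have h1 := in_comm (by rw [dotProduct_smul, show fv n ξ ⬝ᵥ L n F ((1 : ℕ) : ℤ) = 0 from hA0 1 (by omega), smul_zero])
    (by rw [dotProduct_smul, hy, smul_zero]) (hL 1 (by omega) 1) (h2y (s / κ))
  rw [one_smul, Φ_dot_L, show ((1 : ℕ) : ℤ) - 2 = -1 by norm_num, ← hκd, smul_smul, mul_div_cancel₀ _ hκ0] at h1
  exact h1

/-- The degenerate case over a prime field. -/
theorem gen_degenerate (hn : 5 ≤ n) (hp : (Fintype.card F).Prime) (h2 : (2 : F) ≠ 0) (hξ : ξ ≠ 0) (hdeg : ξ = (-2) ^ n)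
    (hodd : Even n → ∃ l : ℕ, Odd l ∧ (Nat.choose (l + 1) (n - 1) : F) = 0 ∧ (Nat.choose (l + (n - 3)) (n - 1) : F) ≠ 0 ∧
      (l ≤ n - 3 ∨ (n = 6 ∧ l = 5 ∧ (Nat.choose 5 5 : F) ≠ 0))) :
    Subgroup.closure ({V n F, U (by omega) hξ} : Set (SpecialLinearGroup (Fin n) F)) = ⊤ := by
  classical
  have hn4 : 4 ≤ n := by omega
  set H := Subgroup.closure ({V n F, U hn4 hξ} : Set (SpecialLinearGroup (Fin n) F))
  have hV : V n F ∈ H := Subgroup.subset_closure (by simp)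
  have hU : U hn4 hξ ∈ H := Subgroup.subset_closure (by simp)
  have hT := in_T hn4 hξ hV hU
  have haeq : ξ + (-2) ^ n = 2 * ξ := by rw [← hdeg]; ring
  have ha : ξ + (-2) ^ n ≠ 0 := by rw [haeq]; exact mul_ne_zero h2 hξ
  have hAk : ∀ k : ℕ, A n ξ (k : ℤ) = 2 * ξ * (Nat.choose (k + 1) (n - 1) : F) := fun k => by
    rw [A_natCast (by omega), haeq, show n - 1 = (n - 2) + 1 by omega, Nat.choose_succ_succ']
    push_cast; ring
  have hAn : ∀ m : ℕ, A n ξ (-((m + 1 : ℕ) : ℤ)) = (-1) ^ n * (-(2 * ξ * (Nat.choose (m + 1 + (n - 3)) (n - 1) : F))) := fun m => by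
    rw [A_neg (by omega), haeq, show m + 1 + (n - 1) - 1 = (m + 1 + (n - 3)) + 1 by omega,
      show m + 1 + (n - 2) - 1 = m + 1 + (n - 3) by omega]
    conv_lhs => rw [show n - 1 = (n - 2) + 1 by omega, Nat.choose_succ_succ', show n - 2 + 1 = n - 1 by omega]
    push_cast; ring
  have hm1 : A n ξ (-1) = 0 := by rw [A_neg_one (by omega), hdeg, sub_self, mul_zero]
  have hA0 : ∀ k : ℕ, k ≤ n - 3 → A n ξ (k : ℤ) = 0 := fun k hk => A_small (by omega) ξ hk
  let G : ℤ → Prop := fun k => A n ξ k = 0 ∧ ∀ s : F, In H (s • L n F k) (fv n ξ)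
  have scal : ∀ k, A n ξ k = 0 → ∀ c : F, c ≠ 0 → In H (c • L n F k) (fv n ξ) → G k := by
    intro k hk c hc h
    refine ⟨hk, fun s => ?_⟩
    have hdot : ∀ r : F, fv n ξ ⬝ᵥ (r • L n F k) = 0 := fun r => by
      rw [dotProduct_smul, show fv n ξ ⬝ᵥ L n F k = 0 from hk, smul_zero]
    let S : AddSubgroup F :=
      { carrier := {s | In H (s • L n F k) (fv n ξ)}
        zero_mem' := by show In H _ _; rw [zero_smul]; exact in_zero_left _
        add_mem' := fun {a b} ha hb => by show In H _ _; rw [add_smul]; exact in_add (hdot b) ha hb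
        neg_mem' := fun {a} ha => by show In H _ _; rw [neg_smul]; exact in_neg (hdot a) ha }
    haveI : Fact (Nat.card F).Prime := ⟨by rw [Nat.card_eq_fintype_card]; exact hp⟩
    rcases S.eq_bot_or_eq_top_of_prime_card with h' | h'
    · exact absurd ((AddSubgroup.mem_bot).1 (h' ▸ (show c ∈ S from h))) hc
    · exact (show s ∈ S from h' ▸ AddSubgroup.mem_top s)
  have G0 : G 0 := scal 0 (hA0 0 (Nat.zero_le _)) 1 one_ne_zero (by rw [one_smul, L_zero]; exact hT)
  have hstep : ∀ k l : ℤ, G k → A n ξ l = 0 → A n ξ (k - l) ≠ 0 → G l := fun k l hk hl hne =>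
    scal l hl _ hne (by simpa using step hV hT hk.1 hl (hk.2 1))
  have up2 : ∀ k : ℕ, G (k : ℤ) → k + 2 ≤ n - 3 → G ((k + 2 : ℕ) : ℤ) := fun k hk hle => by
    refine hstep _ _ hk (hA0 _ hle) ?_
    rw [show (k : ℤ) - ((k + 2 : ℕ) : ℤ) = -((1 + 1 : ℕ) : ℤ) by push_cast; ring, hAn,
      show 1 + 1 + (n - 3) = n - 1 by omega, Nat.choose_self, Nat.cast_one, mul_one]
    exact mul_ne_zero (pow_ne_zero _ (neg_ne_zero.2 one_ne_zero)) (neg_ne_zero.2 (mul_ne_zero h2 hξ))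
  have ups : ∀ (i k : ℕ), G (k : ℤ) → k + 2 * i ≤ n - 3 → G ((k + 2 * i : ℕ) : ℤ) := by
    intro i
    induction i with
    | zero => intro k hk _; exact hk
    | succ i ih => intro k hk hle; exact up2 _ (ih k hk (by omega)) (by omega)
  have toNeg : G ((n - 3 : ℕ) : ℤ) → G (-1) := fun h => by
    refine hstep _ _ h hm1 ?_
    rw [show ((n - 3 : ℕ) : ℤ) - -1 = ((n - 2 : ℕ) : ℤ) by omega, hAk, show n - 2 + 1 = n - 1 by omega, Nat.choose_self,
      Nat.cast_one, mul_one]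
    exact mul_ne_zero h2 hξ
  have fromNeg : G (-1) → G ((1 : ℕ) : ℤ) := fun h => by
    refine hstep _ _ h (hA0 1 (by omega)) ?_
    rw [show (-1 : ℤ) - ((1 : ℕ) : ℤ) = -((1 + 1 : ℕ) : ℤ) by norm_num, hAn,
      show 1 + 1 + (n - 3) = n - 1 by omega, Nat.choose_self, Nat.cast_one, mul_one]
    exact mul_ne_zero (pow_ne_zero _ (neg_ne_zero.2 one_ne_zero)) (neg_ne_zero.2 (mul_ne_zero h2 hξ))
  have hEven : ∀ k : ℕ, k ≤ n - 3 → Even k → G (k : ℤ) := fun k hk ⟨i, hi⟩ => by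
    have h := ups i 0 G0 (by omega)
    rwa [show 0 + 2 * i = k by omega] at h
  have hN1 : G (-1) := by
    rcases Nat.even_or_odd n with he | ho
    · obtain ⟨l, hlodd, hl0, hlne, hl⟩ := hodd he
      obtain ⟨i, hi⟩ := hlodd
      obtain ⟨j, hj⟩ := he
      have hl' : G (l : ℤ) := by
        refine hstep 0 _ G0 (by rw [hAk, hl0, mul_zero]) ?_
        rw [zero_sub, show l = 2 * i + 1 by omega, hAn, show 2 * i + 1 + (n - 3) = l + (n - 3) by omega]
        exact mul_ne_zero (pow_ne_zero _ (neg_ne_zero.2 one_ne_zero)) (neg_ne_zero.2 (mul_ne_zero (mul_ne_zero h2 hξ) hlne))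
      rcases hl with hl | ⟨rfl, rfl, h55⟩
      · have h := ups (j - 2 - i) l hl' (by omega)
        rw [show l + 2 * (j - 2 - i) = n - 3 by omega] at h
        exact toNeg h
      · have h1 : G ((1 : ℕ) : ℤ) := by
          refine hstep _ _ hl' (hA0 1 (by omega)) ?_
          rw [show ((5 : ℕ) : ℤ) - ((1 : ℕ) : ℤ) = ((4 : ℕ) : ℤ) by norm_num, hAk]
          exact mul_ne_zero (mul_ne_zero h2 hξ) h55
        exact toNeg (up2 1 h1 le_rfl)
    · obtain ⟨j, hj⟩ := ho
      exact toNeg (hEven (n - 3) le_rfl ⟨j - 1, by omega⟩)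
  have hall : ∀ k : ℕ, k ≤ n - 3 → ∀ s : F, In H (s • L n F (k : ℤ)) (fv n ξ) := by
    intro k hk
    rcases Nat.even_or_odd k with he | ⟨i, hi⟩
    · exact (hEven k hk he).2
    · have h := ups i 1 (fromNeg hN1) (by omega)
      rw [show 1 + 2 * i = k by omega] at h
      exact h.2
  refine eq_top_of_full_fv hn4 hξ hV hU ha (full_fv_of hn4 ha hall (L n F (-1)) hm1 ?_ hN1.2)
  rw [show (-1 : ℤ) = -((1 : ℕ) : ℤ) by norm_num, L_neg]
  simp only [wn]
  rw [show 1 + (n - 1) - 1 = n - 1 by omega, Nat.choose_self, Nat.cast_one, mul_one]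
  exact pow_ne_zero _ (neg_ne_zero.2 one_ne_zero)

end Generate

end Cfsg.Agent.Struct.RegUnipTwo
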