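/-
Tools for multipliers of two-generator groups, and bilinear extensions.
-/
import Cfsg.Agent.Lib.Struct.SchurMain
import Mathlib.Algebra.Group.Subgroup.Basic
import Mathlib.GroupTheory.Abelianization.Defs
import Mathlib.Tactic.LinearCombination
import Mathlib.Tactic.Linarith
import Mathlib.Tactic.Ring

set_option autoImplicit false

open scoped commutatorElement

namespace Cfsg.Agent.Struct.Schur

universe u v w

section TwoGen

variable {Γ : Type u} [Group Γ]

/-- If every element is `a^i * b^j * central` then the commutator subgroup is generated by `⁅a, b⁆` whenever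
that generates a normal subgroup. -/
theorem commutator_le_zpowers (a b : Γ)
    (hgen : ∀ g : Γ, ∃ i j : ℤ, ∃ z ∈ Subgroup.center Γ, g = a ^ i * b ^ j * z)
    (hn : (Subgroup.zpowers ⁅a, b⁆).Normal) : commutator Γ ≤ Subgroup.zpowers ⁅a, b⁆ := by
  set N := Subgroup.zpowers ⁅a, b⁆
  haveI := hn
  set f := QuotientGroup.mk' N
  have hab : Commute (f a) (f b) := by
    rw [← commutatorElement_eq_one_iff_commute, ← map_commutatorElement, QuotientGroup.mk'_apply,
      QuotientGroup.eq_one_iff]
    exact Subgroup.mem_zpowers _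
  have hz : ∀ z ∈ Subgroup.center Γ, ∀ x, Commute (f z) x := by
    intro z hz x
    obtain ⟨y, rfl⟩ := QuotientGroup.mk'_surjective N x
    exact Commute.map (show Commute z y from commute_of_mem_center hz y) f
  rw [commutator_def, Subgroup.commutator_le]
  intro g _ h _
  rw [← QuotientGroup.eq_one_iff, ← QuotientGroup.mk'_apply, map_commutatorElement,
    commutatorElement_eq_one_iff_commute]
  obtain ⟨i, j, z, hzc, rfl⟩ := hgen g
  obtain ⟨k, l, z', hzc', rfl⟩ := hgen h
  simp only [map_mul, map_zpow]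
  have h1 : Commute (f a ^ i * f b ^ j) (f a ^ k * f b ^ l) := by
    apply Commute.mul_left <;> apply Commute.mul_right
    · exact (Commute.refl _).zpow_zpow _ _
    · exact hab.zpow_zpow _ _
    · exact hab.symm.zpow_zpow _ _
    · exact (Commute.refl _).zpow_zpow _ _
  exact ((hz z hzc _).mul_right (hz z hzc _)).symm.symm |> fun h2 =>
    Commute.mul_left ((h1.mul_right (hz z' hzc' _).symm)) h2

/-- The relations of a lift of a dihedral or dicyclic pair `a, x`, `x a x⁻¹ = a⁻¹`. -/
theorem invert_pair {Q : Type v} [Group Q] (σ : Γ →* Q) (hc : σ.ker ≤ Subgroup.center Γ) (a x : Γ)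
    (hinv : σ (x * a * x⁻¹ * a) = 1) (hgen : ∀ g : Γ, ∃ i j : ℤ, σ g = σ (a ^ i * x ^ j))
    (n : ℕ) (hcomm : Commute x (a ^ n)) :
    ∃ c : Γ, commutator Γ ≤ Subgroup.zpowers c ∧ (∀ j : ℤ, σ (c ^ j) = σ a ^ (-2 * j)) ∧
      c ^ n = 1 := by
  set w := x * a * x⁻¹ * a with hwdef
  have hw : w ∈ Subgroup.center Γ := hc hinv
  have hwc := commute_of_mem_center hw
  have hxa : x * a * x⁻¹ = w * a⁻¹ := by rw [hwdef]; group
  have hcpow : ∀ j : ℤ, ⁅x, a⁆ ^ j = w ^ j * a ^ (-2 * j) := by
    intro j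
    have h : ⁅x, a⁆ = w * a ^ (-2 : ℤ) := by
      rw [commutatorElement_def, hxa]; group
    rw [h, (show Commute w (a ^ (-2 : ℤ)) from hwc _).mul_zpow, ← zpow_mul]
  have hxpow : ∀ j : ℤ, x * a ^ j * x⁻¹ = w ^ j * a ^ (-j) := by
    intro j
    rw [← conj_zpow, hxa, (show Commute w a⁻¹ from hwc _).mul_zpow, inv_zpow']
  have hxc : x * ⁅x, a⁆ * x⁻¹ = ⁅x, a⁆⁻¹ := by
    have h := hcpow (-1)
    rw [zpow_neg_one] at h
    have h1 := hcpow 1
    rw [zpow_one, zpow_one] at h1
    rw [h]
    conv_lhs => rw [h1]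
    rw [← conj_mul, ← hwc x, mul_inv_cancel_right, hxpow, ← mul_assoc, ← zpow_one_add]
    norm_num
  have hac : Commute a ⁅x, a⁆ := by
    have h1 := hcpow 1
    rw [zpow_one, zpow_one] at h1
    rw [h1]
    exact (show Commute w a from hwc a).symm.mul_right (Commute.self_zpow a _)
  have hzgen : ∀ g : Γ, ∃ i j : ℤ, ∃ z ∈ Subgroup.center Γ, g = a ^ i * x ^ j * z := fun g => by
    obtain ⟨i, j, h⟩ := hgen g
    exact ⟨i, j, (a ^ i * x ^ j)⁻¹ * g, hc (by rw [MonoidHom.mem_ker, map_mul, map_inv, ← h, inv_mul_cancel]), by group⟩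
  have hN : ∀ g : Γ, g ∈ Subgroup.normalizer (Subgroup.zpowers ⁅x, a⁆ : Set Γ) := by
    have hx' : x ∈ Subgroup.normalizer (Subgroup.zpowers ⁅x, a⁆ : Set Γ) := by
      rw [Subgroup.mem_normalizer_iff]
      intro h
      have h1 : (Subgroup.zpowers ⁅x, a⁆).map (MulAut.conj x).toMonoidHom = Subgroup.zpowers ⁅x, a⁆ := by
        rw [MonoidHom.map_zpowers]
        show Subgroup.zpowers (x * ⁅x, a⁆ * x⁻¹) = _
        rw [hxc, Subgroup.zpowers_inv]
      constructor
      · intro hh; rw [← h1]; exact ⟨h, hh, rfl⟩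
      · intro hh
        rw [← h1] at hh
        obtain ⟨y, hy, hye⟩ := hh
        have : y = h := by
          have hye' : x * y * x⁻¹ = x * h * x⁻¹ := hye
          exact mul_left_cancel (mul_right_cancel hye')
        exact this ▸ hy
    have ha' : a ∈ Subgroup.normalizer (Subgroup.zpowers ⁅x, a⁆ : Set Γ) := by
      apply Subgroup.centralizer_le_normalizer
      rw [Subgroup.mem_centralizer_iff]
      rintro _ ⟨k, rfl⟩
      exact (hac.zpow_right k).symm
    intro g
    obtain ⟨i, j, z, hz, rfl⟩ := hzgen g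
    refine mul_mem (mul_mem (zpow_mem ha' i) (zpow_mem hx' j)) ?_
    apply Subgroup.centralizer_le_normalizer
    rw [Subgroup.mem_centralizer_iff]
    exact fun h _ => (commute_of_mem_center hz h).symm
  refine ⟨⁅x, a⁆, ?_, fun j => ?_, ?_⟩
  · have hs : Subgroup.zpowers ⁅a, x⁆ = Subgroup.zpowers ⁅x, a⁆ := by
      rw [← commutatorElement_inv x a, Subgroup.zpowers_inv]
    rw [← hs]
    refine commutator_le_zpowers a x hzgen ?_
    rw [hs, ← Subgroup.normalizer_eq_top_iff]
    exact eq_top_iff.2 fun g _ => hN g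
  · rw [hcpow, map_mul, map_zpow, map_zpow, show σ w = 1 from hinv, one_zpow, one_mul]
  · have h1 := hxpow n
    rw [zpow_natCast, hcomm.eq, mul_inv_cancel_right] at h1
    have h2 : w ^ (n : ℤ) = a ^ (2 * n : ℤ) := by
      have h3 := congrArg (fun t => t * a ^ (n : ℤ)) h1
      simp only [mul_assoc, zpow_neg, inv_mul_cancel, mul_one] at h3
      rw [← h3, two_mul, zpow_add, zpow_natCast]
    rw [← zpow_natCast, hcpow, h2, ← zpow_add]
    norm_num

end TwoGen

/-- The central extension of `G` by `Z` defined by a bilinear cocycle. -/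
@[ext] structure BilExt {G : Type u} {Z : Type v} [Group G] [CommGroup Z] (β : G →* G →* Z) where
  /-- The component in `G`. -/
  fst : G
  /-- The central component. -/
  snd : Z

namespace BilExt

variable {G : Type u} {Z : Type v} [Group G] [CommGroup Z] (β : G →* G →* Z)

instance instGroupBilExt : Group (BilExt β) where
  mul x y := ⟨x.fst * y.fst, x.snd * y.snd * β x.fst y.fst⟩
  one := ⟨1, 1⟩
  inv x := ⟨x.fst⁻¹, x.snd⁻¹ * β x.fst x.fst⟩
  mul_assoc x y z := BilExt.ext (mul_assoc _ _ _) (by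
    show x.snd * y.snd * β x.fst y.fst * z.snd * β (x.fst * y.fst) z.fst =
      x.snd * (y.snd * z.snd * β y.fst z.fst) * β x.fst (y.fst * z.fst)
    simp only [map_mul, MonoidHom.mul_apply]
    simp only [mul_comm, mul_left_comm, mul_assoc])
  one_mul x := BilExt.ext (one_mul _) (by
    show 1 * x.snd * β 1 x.fst = x.snd
    simp)
  mul_one x := BilExt.ext (mul_one _) (by
    show x.snd * 1 * β x.fst 1 = x.snd
    simp)
  inv_mul_cancel x := BilExt.ext (inv_mul_cancel _) (by
    show x.snd⁻¹ * β x.fst x.fst * x.snd * β x.fst⁻¹ x.fst = 1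
    simp [mul_comm, mul_left_comm])

theorem mul_fst (x y : BilExt β) : (x * y).fst = x.fst * y.fst := rfl
theorem mul_snd (x y : BilExt β) : (x * y).snd = x.snd * y.snd * β x.fst y.fst := rfl
theorem one_fst : (1 : BilExt β).fst = 1 := rfl
theorem one_snd : (1 : BilExt β).snd = 1 := rfl

/-- The projection. -/
def proj : BilExt β →* G where
  toFun := BilExt.fst
  map_one' := rfl
  map_mul' _ _ := rfl

/-- The central embedding. -/
def incl : Z →* BilExt β where
  toFun z := ⟨1, z⟩
  map_one' := rfl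
  map_mul' z z' := BilExt.ext (one_mul _).symm (by rw [mul_snd]; simp)

theorem proj_surjective : Function.Surjective (proj β) := fun g => ⟨⟨g, 1⟩, rfl⟩

theorem incl_injective : Function.Injective (incl β) := fun _ _ h => congrArg BilExt.snd h

theorem ker_proj : (proj β).ker = (incl β).range := by
  ext x
  exact ⟨fun h => ⟨x.snd, BilExt.ext (Eq.symm h) rfl⟩, by rintro ⟨z, rfl⟩; rfl⟩

theorem ker_le_center : (proj β).ker ≤ Subgroup.center (BilExt β) := by
  rw [ker_proj]
  rintro _ ⟨z, rfl⟩
  refine Subgroup.mem_center_iff.2 fun y => BilExt.ext ?_ ?_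
  · simp [mul_fst, incl]
  · simp [mul_snd, incl, mul_comm]

theorem incl_mem_commutator {g h : G} (hgh : Commute g h) :
    incl β (β g h * (β h g)⁻¹) ∈ commutator (BilExt β) := by
  have key : (⟨g, 1⟩ : BilExt β) * ⟨h, 1⟩ = incl β (β g h * (β h g)⁻¹) * (⟨h, 1⟩ * ⟨g, 1⟩) := by
    refine BilExt.ext ?_ ?_
    · simp [mul_fst, incl, hgh.eq]
    · simp [mul_snd, incl]
  have h2 : ⁅(⟨g, 1⟩ : BilExt β), ⟨h, 1⟩⁆ = incl β (β g h * (β h g)⁻¹) := by
    rw [commutatorElement_def, mul_assoc, ← mul_inv_rev, key, mul_inv_cancel_right]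
  rw [← h2]
  exact Subgroup.commutator_mem_commutator (Subgroup.mem_top _) (Subgroup.mem_top _)

theorem finite_bilExt [Finite G] [Finite Z] : Finite (BilExt β) :=
  Finite.of_injective (fun x => (x.fst, x.snd)) fun x y h => BilExt.ext (congrArg Prod.fst h) (congrArg Prod.snd h)

theorem card_ker : Nat.card (proj β).ker = Nat.card Z := by
  rw [ker_proj]
  exact (Nat.card_congr (MonoidHom.ofInjective (incl_injective β)).toEquiv).symm

/-- The stem property follows when the alternating values generate `Z`. -/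
theorem isStemExtension_proj
    (hgen : Subgroup.closure {z : Z | ∃ g h : G, Commute g h ∧ z = β g h * (β h g)⁻¹} = ⊤) :
    Cfsg.IsStemExtension (proj β) := by
  refine ⟨proj_surjective β, ker_le_center β, ?_⟩
  rw [ker_proj, MonoidHom.range_eq_map, ← hgen, MonoidHom.map_closure, Subgroup.closure_le]
  rintro _ ⟨z, ⟨g, h, hgh, rfl⟩, rfl⟩
  exact incl_mem_commutator β hgh

end BilExt

end Cfsg.Agent.Struct.Schur
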