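/-
Schur multipliers from arbitrary finite presentations.
-/
import Cfsg.Agent.Lib.Struct.SchurMain
import Mathlib.GroupTheory.Rank
import Mathlib.GroupTheory.PresentedGroup
import Mathlib.LinearAlgebra.Dimension.RankNullity
import Mathlib.LinearAlgebra.Dimension.Localization
import Mathlib.LinearAlgebra.FreeModule.PID
import Mathlib.LinearAlgebra.Pi
import Mathlib.LinearAlgebra.Dimension.Constructions

set_option autoImplicit false

open scoped commutatorElement

namespace Cfsg.Agent.Struct.Schur

universe u v w x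

/-- Every free presentation computes the multiplier. -/
theorem equiv_schurM {Q : Type u} [Group Q] [Finite Q] {F : Type v} [Group F] {ι : Type w}
    (b : FreeGroupBasis ι F) {π : F →* Q} (hπ : Function.Surjective π) {A : Type x} [CommGroup A]
    (hA : Cfsg.HasSchurMultiplier Q A) : Nonempty (A ≃* schurM π) := by
  obtain ⟨e⟩ := equiv_schurMul Q hA
  have := schurM_finite π
  obtain ⟨q1, hq1⟩ := exists_surj_schurM π b hπ (cproj (fproj Q))
    (cproj_surjective (fproj_surjective Q)) (cproj_ker_le_center _)
  obtain ⟨q2, hq2⟩ := exists_surj_schurM (fproj Q) (FreeGroupBasis.ofFreeGroup Q)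
    (fproj_surjective Q) (cproj π) (cproj_surjective hπ) (cproj_ker_le_center π)
  let f : schurM π →* schurMul Q := q1
  have hcard : Nat.card (schurM π) = Nat.card (schurMul Q) :=
    le_antisymm (Nat.card_le_card_of_surjective q2 hq2) (Nat.card_le_card_of_surjective q1 hq1)
  exact ⟨e.trans (MulEquiv.ofBijective f ((Nat.bijective_iff_surjective_and_card _).2 ⟨hq1, hcard⟩)).symm⟩

/-- A commutative group reached by a free module of rank `k` is generated by `k` elements. -/
theorem rank_le_of_surjective {A : Type u} [CommGroup A] [Group.FG A] {M : Type v} [AddCommGroup M]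
    [Module ℤ M] [Module.Finite ℤ M] [Module.Free ℤ M] (f : M →ₗ[ℤ] Additive A)
    (hf : Function.Surjective f) : Group.rank A ≤ Module.finrank ℤ M := by
  classical
  let b := Module.finBasis ℤ M
  have hgen : Subgroup.closure
      ((Finset.univ.image fun i => Additive.toMul (f (b i))) : Set A) = ⊤ := by
    rw [eq_top_iff]
    intro a _
    obtain ⟨m, hm⟩ := hf (Additive.ofMul a)
    have ha : a = Additive.toMul (f m) := by rw [hm]; rfl
    rw [ha, ← b.sum_repr m, map_sum, toMul_sum]
    refine Subgroup.prod_mem _ fun i _ => ?_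
    have h := f.map_smul (b.repr m i) (b i)
    rw [h]
    show Additive.toMul (f (b i)) ^ (b.repr m i) ∈ _
    refine Subgroup.zpow_mem _ (Subgroup.subset_closure ?_) _
    simp
  exact (Group.rank_le hgen).trans (Finset.card_image_le.trans (by simp))

/-- `r` relators on `n` generators: the multiplier needs at most `r - n` generators. -/
theorem rank_multiplier_le (n : ℕ) (rels : Finset (FreeGroup (Fin n)))
    [Finite (PresentedGroup (rels : Set (FreeGroup (Fin n))))] {A : Type u} [CommGroup A] [Finite A]
    (hA : Cfsg.HasSchurMultiplier (PresentedGroup (rels : Set (FreeGroup (Fin n)))) A) :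
    Group.rank A ≤ rels.card - n := by
  classical
  set π := PresentedGroup.mk (rels : Set (FreeGroup (Fin n))) with hπdef
  have hπ := PresentedGroup.mk_surjective (rels : Set (FreeGroup (Fin n)))
  let b := FreeGroupBasis.ofFreeGroup (Fin n)
  obtain ⟨eA⟩ := equiv_schurM b hπ hA
  have hcc := cproj_ker_le_center π
  obtain ⟨α, hα, hαb⟩ := exists_abelian_coords b π
  letI := centralKerCommGroup hcc
  have hrel : ∀ r : rels, (QuotientGroup.mk r.1 : SchurC π) ∈ (cproj π).ker := fun r =>
    PresentedGroup.one_of_mem r.2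
  let v : rels → Additive (cproj π).ker := fun r => Additive.ofMul ⟨QuotientGroup.mk r.1, hrel r⟩
  let Φ : (rels → ℤ) →ₗ[ℤ] Additive (cproj π).ker := Fintype.linearCombination ℤ v
  have hΦ : Function.Surjective Φ := by
    let S : Subgroup (cproj π).ker := AddSubgroup.toSubgroup' Φ.toAddMonoidHom.range
    intro z
    have hn : (S.map (cproj π).ker.subtype).Normal := ⟨fun k hk g => by
      obtain ⟨k', hk', rfl⟩ := hk
      rw [show g * (cproj π).ker.subtype k' * g⁻¹ = (cproj π).ker.subtype k' by
        simp only [Subgroup.coe_subtype]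
        rw [← commute_of_mem_center (hcc k'.2) g, mul_inv_cancel_right]]
      exact ⟨k', hk', rfl⟩⟩
    have hle : Subgroup.normalClosure (rels : Set (FreeGroup (Fin n))) ≤
        (S.map (cproj π).ker.subtype).comap (QuotientGroup.mk' _) :=
      Subgroup.normalClosure_le_normal fun r hr =>
        ⟨⟨QuotientGroup.mk r, hrel ⟨r, hr⟩⟩, ⟨Pi.single ⟨r, hr⟩ 1, by simp [Φ, v]; rfl⟩, rfl⟩
    obtain ⟨g, hg⟩ := QuotientGroup.mk'_surjective _ (Additive.toMul z).1
    have hgk : g ∈ Subgroup.normalClosure (rels : Set (FreeGroup (Fin n))) := by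
      refine PresentedGroup.mk_eq_one_iff.1 ?_
      have := MonoidHom.mem_ker.1 (Additive.toMul z).2
      rwa [← hg] at this
    obtain ⟨k, ⟨c, hc⟩, hk⟩ := hle hgk
    exact ⟨c, hc.trans (congrArg Additive.ofMul (Subtype.ext (hk.trans hg)))⟩
  let a : Additive (cproj π).ker →ₗ[ℤ] (Fin n →₀ ℤ) :=
    (MonoidHom.toAdditiveLeft (α.comp (cproj π).ker.subtype)).toIntLinearMap
  let e := Nat.card (PresentedGroup (rels : Set (FreeGroup (Fin n))))
  have hsingle : ∀ i, Finsupp.single i (e : ℤ) ∈ LinearMap.range (a.comp Φ) := by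
    intro i
    have hk : (QuotientGroup.mk (b i ^ e) : SchurC π) ∈ (cproj π).ker := by
      show π (b i ^ e) = 1
      rw [map_pow, pow_card_eq_one']
    obtain ⟨c, hc⟩ := hΦ (Additive.ofMul ⟨_, hk⟩)
    refine ⟨c, ?_⟩
    rw [LinearMap.comp_apply, hc]
    show Multiplicative.toAdd (α (QuotientGroup.mk (b i ^ e))) = _
    rw [QuotientGroup.mk_pow, map_pow, hαb, toAdd_pow, toAdd_ofAdd, Finsupp.smul_single]
    simp
  have hrange : n ≤ Module.finrank ℤ (LinearMap.range (a.comp Φ)) := by
    let s : (Fin n →₀ ℤ) →ₗ[ℤ] LinearMap.range (a.comp Φ) :=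
      Finsupp.linearCombination ℤ fun i => ⟨_, hsingle i⟩
    have hs : ∀ x, (s x : Fin n →₀ ℤ) = (e : ℤ) • x := by
      intro x
      induction x using Finsupp.induction_linear with
      | zero => simp
      | add f g hf hg => rw [map_add, Submodule.coe_add, hf, hg, smul_add]
      | single i c => simp [s, mul_comm]
    have hinj : Function.Injective s := fun x y h => by
      have := congrArg Subtype.val h
      rw [hs, hs] at this
      exact smul_right_injective _ (Int.natCast_ne_zero.2 Nat.card_pos.ne') this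
    have := LinearMap.finrank_le_finrank_of_injective hinj
    simpa using this
  have hk := Submodule.finrank_quotient_add_finrank (LinearMap.ker (a.comp Φ))
  rw [LinearEquiv.finrank_eq (a.comp Φ).quotKerEquivRange, Module.finrank_pi,
    Fintype.card_coe] at hk
  have hmem : ∀ c : LinearMap.ker (a.comp Φ), (Additive.toMul (Φ c.1)).1 ∈ schurM π := by
    intro c
    refine ⟨(Additive.toMul (Φ c.1)).2, ?_⟩
    show _ ∈ commutator (SchurC π)
    rw [← hα, MonoidHom.mem_ker]
    exact Multiplicative.toAdd.injective (LinearMap.mem_ker.1 c.2)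
  let toM : LinearMap.ker (a.comp Φ) →+ Additive (schurM π) :=
    AddMonoidHom.mk' (fun c => Additive.ofMul ⟨_, hmem c⟩) fun c d => by
      apply Additive.toMul.injective
      apply Subtype.ext
      show (Additive.toMul (Φ (c.1 + d.1))).1 = _
      rw [map_add]
      rfl
  let f : LinearMap.ker (a.comp Φ) →ₗ[ℤ] Additive A :=
    ((MonoidHom.toAdditive eA.symm.toMonoidHom).comp toM).toIntLinearMap
  have hf : Function.Surjective f := by
    intro z
    set m := eA (Additive.toMul z) with hm
    obtain ⟨c, hc⟩ := hΦ (Additive.ofMul ⟨m.1, m.2.1⟩)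
    have hck : c ∈ LinearMap.ker (a.comp Φ) := by
      rw [LinearMap.mem_ker, LinearMap.comp_apply, hc]
      show Multiplicative.toAdd (α m.1) = 0
      rw [show α m.1 = 1 from MonoidHom.mem_ker.1 (hα ▸ m.2.2)]
      rfl
    refine ⟨⟨c, hck⟩, Additive.toMul.injective ?_⟩
    show eA.symm ⟨(Additive.toMul (Φ c)).1, hmem ⟨c, hck⟩⟩ = Additive.toMul z
    rw [MulEquiv.symm_apply_eq]
    refine Subtype.ext ?_
    show (Additive.toMul (Φ c)).1 = (eA (Additive.toMul z)).1
    rw [hc]
    rfl
  refine (rank_le_of_surjective f hf).trans ?_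
  omega

end Cfsg.Agent.Struct.Schur
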