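/-
The multiplier of a direct product.
-/
import Cfsg.Agent.Lib.Struct.SchurExamples
import Mathlib.LinearAlgebra.TensorProduct.Basic
import Mathlib.GroupTheory.NoncommCoprod
import Mathlib.GroupTheory.Abelianization.Defs
import Mathlib.GroupTheory.FiniteAbelian.Basic
import Mathlib.RingTheory.TensorProduct.Finite

set_option autoImplicit false

open scoped commutatorElement TensorProduct

namespace Cfsg.Agent.Struct.Schur

universe u v w

variable {Q₁ : Type u} {Q₂ : Type v} [Group Q₁] [Group Q₂]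

theorem abelianization_surjective (G : Type w) [Group G] :
    Function.Surjective (Abelianization.of : G →* Abelianization G) :=
  QuotientGroup.mk'_surjective _

/-- The tensor product of the two abelianizations, written multiplicatively. -/
abbrev abTensor (Q₁ : Type u) (Q₂ : Type v) [Group Q₁] [Group Q₂] : Type (max u v) :=
  Multiplicative (TensorProduct ℤ (Additive (Abelianization Q₁)) (Additive (Abelianization Q₂)))

/-- The tensor symbol as a bihomomorphism. -/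
def tmulHom (Q₁ : Type u) (Q₂ : Type v) [Group Q₁] [Group Q₂] :
    Q₁ →* Q₂ →* abTensor Q₁ Q₂ where
  toFun a :=
    { toFun := fun b => Multiplicative.ofAdd
        (Additive.ofMul (Abelianization.of a) ⊗ₜ[ℤ] Additive.ofMul (Abelianization.of b))
      map_one' := by rw [map_one, ofMul_one, TensorProduct.tmul_zero, ofAdd_zero]
      map_mul' := fun b b' => by rw [map_mul, ofMul_mul, TensorProduct.tmul_add, ofAdd_add] }
  map_one' := MonoidHom.ext fun b => by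
    show Multiplicative.ofAdd (_ ⊗ₜ[ℤ] _) = 1
    rw [map_one, ofMul_one, TensorProduct.zero_tmul, ofAdd_zero]
  map_mul' a a' := MonoidHom.ext fun b => by
    show Multiplicative.ofAdd (_ ⊗ₜ[ℤ] _) = Multiplicative.ofAdd (_ ⊗ₜ[ℤ] _) * Multiplicative.ofAdd (_ ⊗ₜ[ℤ] _)
    rw [map_mul, ofMul_mul, TensorProduct.add_tmul, ofAdd_add]

theorem finite_abTensor [Finite Q₁] [Finite Q₂] :
    Finite (abTensor Q₁ Q₂) := by
  have : Finite (TensorProduct ℤ (Additive (Abelianization Q₁)) (Additive (Abelianization Q₂))) := by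
    have : Finite (Abelianization Q₁) := Finite.of_surjective _ (abelianization_surjective Q₁)
    have : Finite (Abelianization Q₂) := Finite.of_surjective _ (abelianization_surjective Q₂)
    have : Module.Finite ℤ (Additive (Abelianization Q₁)) := Module.Finite.of_finite
    have : Module.Finite ℤ (Additive (Abelianization Q₂)) := Module.Finite.of_finite
    have : Module.Finite ℤ (TensorProduct ℤ (Additive (Abelianization Q₁))
        (Additive (Abelianization Q₂))) := Module.Finite.tensorProduct ℤ _ _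
    refine Module.finite_of_fg_torsion _ fun {x} => ?_
    refine ⟨⟨(Nat.card (Abelianization Q₁) : ℤ), mem_nonZeroDivisors_of_ne_zero
      (Int.natCast_ne_zero.2 Nat.card_pos.ne')⟩, ?_⟩
    show (Nat.card (Abelianization Q₁) : ℤ) • x = 0
    induction x using TensorProduct.induction_on with
    | zero => rw [smul_zero]
    | tmul a b =>
      rw [natCast_zsmul, TensorProduct.smul_tmul']
      show ((Nat.card (Abelianization Q₁) • a) ⊗ₜ[ℤ] b) = 0
      rw [show Nat.card (Abelianization Q₁) • a = 0 from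
        Additive.toMul.injective (pow_card_eq_one' (x := Additive.toMul a)), TensorProduct.zero_tmul]
    | add a b ha hb => rw [smul_add, ha, hb, add_zero]
  infer_instance

theorem tmulHom_eq_one_left {a : Q₁} (h : a ∈ commutator Q₁) (b : Q₂) : tmulHom Q₁ Q₂ a b = 1 := by
  show Multiplicative.ofAdd (_ ⊗ₜ[ℤ] _) = 1
  rw [show Abelianization.of a = 1 from (Abelianization.ker_of Q₁).ge h, ofMul_one,
    TensorProduct.zero_tmul, ofAdd_zero]

theorem closure_range_tmulHom :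
    Subgroup.closure {z : abTensor Q₁ Q₂ | ∃ a b, z = tmulHom Q₁ Q₂ a b} = ⊤ := by
  refine eq_top_iff.2 fun z _ => ?_
  suffices ∀ t : TensorProduct ℤ (Additive (Abelianization Q₁)) (Additive (Abelianization Q₂)),
      Multiplicative.ofAdd t ∈ Subgroup.closure {z : abTensor Q₁ Q₂ | ∃ a b, z = tmulHom Q₁ Q₂ a b} from
    this (Multiplicative.toAdd z)
  intro t
  induction t using TensorProduct.induction_on with
  | zero => exact one_mem _
  | tmul x y =>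
    obtain ⟨a, ha⟩ := abelianization_surjective Q₁ (Additive.toMul x)
    obtain ⟨b, hb⟩ := abelianization_surjective Q₂ (Additive.toMul y)
    exact Subgroup.subset_closure ⟨a, b, by
      show Multiplicative.ofAdd (x ⊗ₜ[ℤ] y) = Multiplicative.ofAdd (_ ⊗ₜ[ℤ] _)
      rw [ha, hb]; rfl⟩
  | add x y hx hy => exact mul_mem hx hy

/-- The universal property of the tensor product, written multiplicatively. -/
theorem exists_tensor_hom {Z : Type w} [CommGroup Z] (f : Q₁ →* Q₂ →* Z) :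
    ∃ ψ : abTensor Q₁ Q₂ →* Z, ∀ a b, ψ (tmulHom Q₁ Q₂ a b) = f a b := by
  let f₁ : Q₁ →* (Abelianization Q₂ →* Z) :=
    { toFun := fun a => Abelianization.lift (f a)
      map_one' := by
        apply Abelianization.hom_ext
        ext b; simp
      map_mul' := fun a a' => by
        apply Abelianization.hom_ext
        ext b; simp }
  let g : Abelianization Q₁ →* Abelianization Q₂ →* Z := Abelianization.lift f₁
  let gl : Additive (Abelianization Q₁) →+ (Additive (Abelianization Q₂) →ₗ[ℤ] Additive Z) :=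
    AddMonoidHom.mk' (fun x => (MonoidHom.toAdditive (g (Additive.toMul x))).toIntLinearMap)
      fun x x' => by
        apply LinearMap.ext
        intro y
        show Additive.ofMul (g (Additive.toMul x * Additive.toMul x') (Additive.toMul y)) = _
        rw [map_mul]
        rfl
  refine ⟨AddMonoidHom.toMultiplicativeLeft (TensorProduct.lift gl.toIntLinearMap).toAddMonoidHom,
    fun a b => ?_⟩
  show g (Abelianization.of a) (Abelianization.of b) = f a b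
  rw [Abelianization.lift_apply_of]
  exact Abelianization.lift_apply_of (f a) b

/-- A central extension of a product: existence of the cover. -/
theorem exists_prod_cover [Finite Q₁] [Finite Q₂] {Γ₁ : Type u} {Γ₂ : Type v} [Group Γ₁] [Group Γ₂]
    [Finite Γ₁] [Finite Γ₂] (σ₁ : Γ₁ →* Q₁) (σ₂ : Γ₂ →* Q₂) (h₁ : Cfsg.IsStemExtension σ₁)
    (h₂ : Cfsg.IsStemExtension σ₂) :
    ∃ (Γ : Type (max u v)) (_ : Group Γ) (_ : Finite Γ) (σ : Γ →* Q₁ × Q₂),
      Cfsg.IsStemExtension σ ∧ Nonempty (σ.ker ≃* σ₁.ker × σ₂.ker × abTensor Q₁ Q₂) := by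
  let β : Γ₁ × Γ₂ →* Γ₁ × Γ₂ →* abTensor Q₁ Q₂ :=
    { toFun := fun x => (tmulHom Q₁ Q₂ (σ₁ x.1)).comp (σ₂.comp (MonoidHom.snd Γ₁ Γ₂))
      map_one' := MonoidHom.ext fun y => by simp
      map_mul' := fun x x' => MonoidHom.ext fun y => by simp }
  have hfin : Finite (abTensor Q₁ Q₂) := finite_abTensor
  have hβ1 : ∀ x y, σ₁ x.1 = 1 → β x y = 1 := fun x y h => by
    show tmulHom Q₁ Q₂ (σ₁ x.1) (σ₂ y.2) = 1
    rw [h, map_one, MonoidHom.one_apply]
  have hβ2 : ∀ x y, σ₂ y.2 = 1 → β x y = 1 := fun x y h => by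
    show tmulHom Q₁ Q₂ (σ₁ x.1) (σ₂ y.2) = 1
    rw [h, map_one]
  have hstem : Cfsg.IsStemExtension (BilExt.proj β) := by
    refine BilExt.isStemExtension_proj β (eq_top_iff.2 fun z _ => ?_)
    have hz : z ∈ Subgroup.closure {z : abTensor Q₁ Q₂ | ∃ a b, z = tmulHom Q₁ Q₂ a b} :=
      closure_range_tmulHom (Q₁ := Q₁) (Q₂ := Q₂) ▸ Subgroup.mem_top z
    refine Subgroup.closure_mono ?_ hz
    rintro z ⟨a, b, rfl⟩
    obtain ⟨x, rfl⟩ := h₁.1 a
    obtain ⟨y, rfl⟩ := h₂.1 b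
    refine ⟨((x, 1) : Γ₁ × Γ₂), (1, y), ?_, ?_⟩
    · show ((x, 1) : Γ₁ × Γ₂) * (1, y) = (1, y) * (x, 1)
      simp
    · show tmulHom Q₁ Q₂ (σ₁ x) (σ₂ y) =
        tmulHom Q₁ Q₂ (σ₁ x) (σ₂ y) * (tmulHom Q₁ Q₂ (σ₁ 1) (σ₂ 1))⁻¹
      simp
  let σ : BilExt β →* Q₁ × Q₂ := (σ₁.prodMap σ₂).comp (BilExt.proj β)
  have hker : ∀ x : BilExt β, x ∈ σ.ker ↔ x.fst.1 ∈ σ₁.ker ∧ x.fst.2 ∈ σ₂.ker := fun x => by
    show (σ₁ x.fst.1, σ₂ x.fst.2) = 1 ↔ _
    rw [Prod.mk_eq_one]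
    rfl
  refine ⟨BilExt β, inferInstance, BilExt.finite_bilExt β, σ, ⟨?_, ?_, ?_⟩, ⟨?_⟩⟩
  · rintro ⟨a, b⟩
    obtain ⟨x, rfl⟩ := h₁.1 a
    obtain ⟨y, rfl⟩ := h₂.1 b
    exact ⟨⟨(x, y), 1⟩, rfl⟩
  · intro z hz
    obtain ⟨hz1, hz2⟩ := (hker z).1 hz
    refine Subgroup.mem_center_iff.2 fun g => BilExt.ext ?_ ?_
    · exact Prod.ext (Subgroup.mem_center_iff.1 (h₁.2.1 hz1) _) (Subgroup.mem_center_iff.1 (h₂.2.1 hz2) _)
    · rw [BilExt.mul_snd, BilExt.mul_snd, hβ2 _ _ hz2, hβ1 _ _ hz1, mul_comm g.snd]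
  · intro z hz
    obtain ⟨hz1, hz2⟩ := (hker z).1 hz
    have hd : z.fst ∈ commutator (Γ₁ × Γ₂) := by
      rw [commutator_def, ← Subgroup.top_prod_top, Subgroup.commutator_prod_prod, Subgroup.mem_prod]
      exact ⟨h₁.2.2 hz1, h₂.2.2 hz2⟩
    rw [commutator_def, ← Subgroup.map_top_of_surjective _ hstem.1, ← Subgroup.map_commutator,
      ← commutator_def] at hd
    obtain ⟨c, hc, hcz⟩ := hd
    have : c⁻¹ * z ∈ commutator (BilExt β) := hstem.2.2 (by
      rw [MonoidHom.mem_ker, map_mul, map_inv, hcz]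
      exact inv_mul_cancel z.fst)
    simpa using mul_mem hc this
  · exact
      { toFun := fun z => (⟨z.1.fst.1, ((hker z.1).1 z.2).1⟩, ⟨z.1.fst.2, ((hker z.1).1 z.2).2⟩, z.1.snd)
        invFun := fun w => ⟨⟨(w.1.1, w.2.1.1), w.2.2⟩, (hker _).2 ⟨w.1.2, w.2.1.2⟩⟩
        left_inv := fun _ => rfl
        right_inv := fun _ => rfl
        map_mul' := fun a b => by
          refine Prod.ext rfl (Prod.ext rfl ?_)
          show a.1.snd * b.1.snd * β a.1.fst b.1.fst = a.1.snd * b.1.snd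
          rw [hβ1 _ _ ((hker a.1).1 a.2).1, mul_one] }

/-- The bound: the kernel of a stem extension of a product is hit by the three pieces. -/
theorem exists_surj_prod [Finite Q₁] [Finite Q₂] {A B : Type w} [CommGroup A] [CommGroup B]
    (hA : Cfsg.HasSchurMultiplier Q₁ A) (hB : Cfsg.HasSchurMultiplier Q₂ B)
    {Δ : Type (max u v)} [Group Δ] (τ : Δ →* Q₁ × Q₂) (hτ : Cfsg.IsStemExtension τ) :
    ∃ π : A × B × abTensor Q₁ Q₂ →* τ.ker, Function.Surjective π := by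
  obtain ⟨hs, hc, hd⟩ := hτ
  letI := centralKerCommGroup hc
  let D₁ : Subgroup Δ := ((MonoidHom.snd Q₁ Q₂).comp τ).ker
  let D₂ : Subgroup Δ := ((MonoidHom.fst Q₁ Q₂).comp τ).ker
  let t₁ : D₁ →* Q₁ := ((MonoidHom.fst Q₁ Q₂).comp τ).comp D₁.subtype
  let t₂ : D₂ →* Q₂ := ((MonoidHom.snd Q₁ Q₂).comp τ).comp D₂.subtype
  have ht₁ : Function.Surjective t₁ := fun a => by
    obtain ⟨d, hd⟩ := hs (a, 1)
    exact ⟨⟨d, congrArg Prod.snd hd⟩, congrArg Prod.fst hd⟩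
  have ht₂ : Function.Surjective t₂ := fun a => by
    obtain ⟨d, hd⟩ := hs (1, a)
    exact ⟨⟨d, congrArg Prod.fst hd⟩, congrArg Prod.snd hd⟩
  have hk₁ : ∀ x : D₁, t₁ x = 1 → x.1 ∈ τ.ker := fun x h => Prod.ext h x.2
  have hk₂ : ∀ x : D₂, t₂ x = 1 → x.1 ∈ τ.ker := fun x h => Prod.ext x.2 h
  have hc₁ : t₁.ker ≤ Subgroup.center D₁ := fun x hx => Subgroup.mem_center_iff.2 fun y =>
    Subtype.ext (Subgroup.mem_center_iff.1 (hc (hk₁ x hx)) y.1)
  have hc₂ : t₂.ker ≤ Subgroup.center D₂ := fun x hx => Subgroup.mem_center_iff.2 fun y =>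
    Subtype.ext (Subgroup.mem_center_iff.1 (hc (hk₂ x hx)) y.1)
  obtain ⟨qA, hqA⟩ := exists_surj_of_central Q₁ hA t₁ ht₁ hc₁
  obtain ⟨qB, hqB⟩ := exists_surj_of_central Q₂ hB t₂ ht₂ hc₂
  let iA : ↥(t₁.ker ⊓ commutator D₁) →* τ.ker :=
    (D₁.subtype.comp (Subgroup.subtype _)).codRestrict _ fun x => hk₁ x.1 x.2.1
  let iB : ↥(t₂.ker ⊓ commutator D₂) →* τ.ker :=
    (D₂.subtype.comp (Subgroup.subtype _)).codRestrict _ fun x => hk₂ x.1 x.2.1
  have hcomm : ∀ (x : D₁) (y : D₂), ⁅x.1, y.1⁆ ∈ τ.ker := fun x y => by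
    rw [MonoidHom.mem_ker, map_commutatorElement]
    refine Prod.ext ?_ ?_
    · show ⁅(τ x.1).1, (τ y.1).1⁆ = 1
      rw [show (τ y.1).1 = 1 from y.2, commutatorElement_one_right]
    · show ⁅(τ x.1).2, (τ y.1).2⁆ = 1
      rw [show (τ x.1).2 = 1 from x.2, commutatorElement_one_left]
  let f₀ : D₁ → D₂ → τ.ker := fun x y => ⟨⁅x.1, y.1⁆, hcomm x y⟩
  let β : D₁ →* D₂ →* τ.ker :=
    MonoidHom.mk' (fun x => MonoidHom.mk' (f₀ x) fun y y' => Subtype.ext (by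
      show ⁅x.1, y.1 * y'.1⁆ = ⁅x.1, y.1⁆ * ⁅x.1, y'.1⁆
      have h := commute_of_mem_center (hc (hcomm x y')) y.1
      calc ⁅x.1, y.1 * y'.1⁆ = ⁅x.1, y.1⁆ * (y.1 * ⁅x.1, y'.1⁆ * y.1⁻¹) := by
            simp only [commutatorElement_def]; group
        _ = ⁅x.1, y.1⁆ * ⁅x.1, y'.1⁆ := by rw [← h, mul_inv_cancel_right]))
      fun x x' => MonoidHom.ext fun y => Subtype.ext (by
      show ⁅x.1 * x'.1, y.1⁆ = ⁅x.1, y.1⁆ * ⁅x'.1, y.1⁆
      have h := commute_of_mem_center (hc (hcomm x' y)) x.1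
      calc ⁅x.1 * x'.1, y.1⁆ = (x.1 * ⁅x'.1, y.1⁆ * x.1⁻¹) * ⁅x.1, y.1⁆ := by
            simp only [commutatorElement_def]; group
        _ = ⁅x'.1, y.1⁆ * ⁅x.1, y.1⁆ := by rw [← h, mul_inv_cancel_right]
        _ = _ := commute_of_mem_center (hc (hcomm x' y)) _)
  have hβ₁ : ∀ x, t₁ x = 1 → β x = 1 := fun x hx => MonoidHom.ext fun y => Subtype.ext (by
    show ⁅x.1, y.1⁆ = 1
    exact commutatorElement_eq_one_iff_mul_comm.2 (commute_of_mem_center (hc (hk₁ x hx)) y.1))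
  have hβ₂ : ∀ x y, t₂ y = 1 → β x y = 1 := fun x y hy => Subtype.ext (by
    show ⁅x.1, y.1⁆ = 1
    exact commutatorElement_eq_one_iff_mul_comm.2
      (Subgroup.mem_center_iff.1 (hc (hk₂ y hy)) x.1))
  let β' : D₁ →* Q₂ →* τ.ker :=
    MonoidHom.mk' (fun x => t₂.liftOfSurjective ht₂ ⟨β x, fun y hy => hβ₂ x y hy⟩) fun x x' => by
      refine MonoidHom.ext fun b => ?_
      obtain ⟨y, rfl⟩ := ht₂ b
      simp only [MonoidHom.mul_apply, MonoidHom.liftOfRightInverse_comp_apply]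
      rw [map_mul, MonoidHom.mul_apply]
  have hβ' : ∀ x y, β' x (t₂ y) = β x y := fun x y =>
    MonoidHom.liftOfRightInverse_comp_apply _ _ _ _ y
  let β'' : Q₁ →* Q₂ →* τ.ker := t₁.liftOfSurjective ht₁ ⟨β', fun x hx => MonoidHom.ext fun b => by
    obtain ⟨y, rfl⟩ := ht₂ b
    rw [hβ', hβ₁ x hx]
    rfl⟩
  obtain ⟨ψ, hψ⟩ := exists_tensor_hom β''
  have hψ' : ∀ x y, ψ (tmulHom Q₁ Q₂ (t₁ x) (t₂ y)) = β x y := fun x y => by
    rw [hψ, MonoidHom.liftOfRightInverse_comp_apply, hβ']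
  refine ⟨((iA.comp qA).comp (MonoidHom.fst A (B × abTensor Q₁ Q₂))) *
    ((iB.comp qB).comp ((MonoidHom.fst B _).comp (MonoidHom.snd A _))) *
    (ψ.comp ((MonoidHom.snd B _).comp (MonoidHom.snd A _))), fun k => ?_⟩
  -- decomposition of commutators
  let C₁ : Subgroup Δ := (commutator D₁).map D₁.subtype
  let C₂ : Subgroup Δ := (commutator D₂).map D₂.subtype
  let N : Subgroup Δ := ψ.range.map τ.ker.subtype
  have hN : N ≤ Subgroup.center Δ := (Subgroup.map_subtype_le _).trans hc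
  have hNn : N.Normal := ⟨fun n hn g => by
    rwa [← commute_of_mem_center (hN hn) g, mul_inv_cancel_right]⟩
  have hmemN : ∀ (x : D₁) (y : D₂), ⁅x.1, y.1⁆ ∈ N := fun x y => ⟨_, ⟨_, hψ' x y⟩, rfl⟩
  have hC : ∀ (a : C₁) (b : C₂), Commute (C₁.subtype a) (C₂.subtype b) := by
    rintro ⟨_, a, ha, rfl⟩ ⟨_, b, hb, rfl⟩
    have h1 : β a = 1 := Abelianization.commutator_subset_ker β ha
    exact commutatorElement_eq_one_iff_mul_comm.1 (congrArg Subtype.val (DFunLike.congr_fun h1 b))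
  let φ := C₁.subtype.noncommCoprod C₂.subtype hC
  have hφ : φ.range = C₁ ⊔ C₂ := by
    rw [MonoidHom.noncommCoprod_range, Subgroup.range_subtype, Subgroup.range_subtype]
  have hle : commutator Δ ≤ C₁ ⊔ C₂ ⊔ N := by
    rw [commutator_def, Subgroup.commutator_le]
    intro g _ g' _
    let f := QuotientGroup.mk' N
    have hsplit : ∀ d : Δ, ∃ (x : D₁) (y : D₂), d = x.1 * y.1 := fun d => by
      obtain ⟨x, hx⟩ := ht₁ (τ d).1
      refine ⟨x, ⟨x.1⁻¹ * d, ?_⟩, (mul_inv_cancel_left _ _).symm⟩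
      show (τ (x.1⁻¹ * d)).1 = 1
      rw [map_mul, map_inv, Prod.fst_mul, Prod.fst_inv, show (τ x.1).1 = _ from hx, inv_mul_cancel]
    obtain ⟨x, y, rfl⟩ := hsplit g
    obtain ⟨x', y', rfl⟩ := hsplit g'
    have hcm : ∀ (a : D₁) (b : D₂), f a.1 * f b.1 = f b.1 * f a.1 := fun a b => by
      rw [← commutatorElement_eq_one_iff_mul_comm, ← map_commutatorElement, QuotientGroup.mk'_apply,
        QuotientGroup.eq_one_iff]
      exact hmemN a b
    have key : f ⁅x.1 * y.1, x'.1 * y'.1⁆ = f (⁅x.1, x'.1⁆ * ⁅y.1, y'.1⁆) := by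
      have h1 := hcm (x⁻¹) (y * y' * y⁻¹)
      have h2 := hcm (x'⁻¹) (y * y' * y⁻¹ * y'⁻¹)
      have h3 := hcm x' y
      simp only [Subgroup.coe_mul, Subgroup.coe_inv, map_mul, map_inv] at h1 h2
      simp only [commutatorElement_def, map_mul, map_inv, mul_inv_rev]
      calc f x.1 * f y.1 * (f x'.1 * f y'.1) * ((f y.1)⁻¹ * (f x.1)⁻¹) * ((f y'.1)⁻¹ * (f x'.1)⁻¹)
          = f x.1 * (f y.1 * f x'.1) * (f y'.1 * (f y.1)⁻¹ * (f x.1)⁻¹) * ((f y'.1)⁻¹ * (f x'.1)⁻¹) := by group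
        _ = f x.1 * f x'.1 * ((f y.1 * f y'.1 * (f y.1)⁻¹) * (f x.1)⁻¹) * ((f y'.1)⁻¹ * (f x'.1)⁻¹) := by
            rw [← h3]; group
        _ = f x.1 * f x'.1 * ((f x.1)⁻¹ * (f y.1 * f y'.1 * (f y.1)⁻¹)) * ((f y'.1)⁻¹ * (f x'.1)⁻¹) := by
            rw [h1]
        _ = f x.1 * f x'.1 * (f x.1)⁻¹ * ((f y.1 * f y'.1 * (f y.1)⁻¹ * (f y'.1)⁻¹) * (f x'.1)⁻¹) := by group
        _ = _ := by rw [← h2]; group
    rw [QuotientGroup.mk'_apply, QuotientGroup.mk'_apply, QuotientGroup.eq] at key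
    have hm : ⁅x.1, x'.1⁆ * ⁅y.1, y'.1⁆ ∈ C₁ ⊔ C₂ :=
      mul_mem (Subgroup.mem_sup_left ⟨⁅x, x'⁆,
          Subgroup.commutator_mem_commutator (Subgroup.mem_top _) (Subgroup.mem_top _), rfl⟩)
        (Subgroup.mem_sup_right ⟨⁅y, y'⁆,
          Subgroup.commutator_mem_commutator (Subgroup.mem_top _) (Subgroup.mem_top _), rfl⟩)
    rw [show ⁅x.1 * y.1, x'.1 * y'.1⁆ = ⁅x.1, x'.1⁆ * ⁅y.1, y'.1⁆ *
      ((⁅x.1 * y.1, x'.1 * y'.1⁆)⁻¹ * (⁅x.1, x'.1⁆ * ⁅y.1, y'.1⁆))⁻¹ by group]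
    exact mul_mem (Subgroup.mem_sup_left hm) (Subgroup.mem_sup_right (inv_mem key))
  obtain ⟨c, hcm', n, hn, hk⟩ := Subgroup.mem_sup_of_normal_right.1 (hle (hd k.2))
  rw [← hφ] at hcm'
  obtain ⟨⟨⟨_, a, ha, rfl⟩, ⟨_, b, hb, rfl⟩⟩, rfl⟩ := hcm'
  obtain ⟨z, ⟨tt, rfl⟩, rfl⟩ := hn
  have hab : τ (a.1 * b.1) = 1 := by
    have h1 : τ k.1 = 1 := k.2
    rw [← hk, map_mul] at h1
    have h2 : τ ((τ.ker.subtype) (ψ tt)) = 1 := (ψ tt).2
    rw [h2, mul_one] at h1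
    exact h1
  have hta : t₁ a = 1 := by
    have h1 := congrArg Prod.fst hab
    rw [map_mul, Prod.fst_mul, show (τ b.1).1 = 1 from b.2, mul_one] at h1
    exact h1
  have htb : t₂ b = 1 := by
    have h1 := congrArg Prod.snd hab
    rw [map_mul, Prod.snd_mul, show (τ a.1).2 = 1 from a.2, one_mul] at h1
    exact h1
  obtain ⟨a', ha'⟩ := hqA ⟨a, hta, ha⟩
  obtain ⟨b', hb'⟩ := hqB ⟨b, htb, hb⟩
  refine ⟨(a', b', tt), Subtype.ext ?_⟩
  show (iA (qA a')).1 * (iB (qB b')).1 * (ψ tt).1 = k.1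
  rw [ha', hb', ← hk]
  rfl

theorem hasSchurMultiplier_prod [Finite Q₁] [Finite Q₂] {A B : Type w} [CommGroup A] [CommGroup B]
    (hA : Cfsg.HasSchurMultiplier Q₁ A) (hB : Cfsg.HasSchurMultiplier Q₂ B) :
    Cfsg.HasSchurMultiplier (Q₁ × Q₂) (A × B × abTensor Q₁ Q₂) := by
  refine ⟨?_, fun Δ _ _ τ hτ => exists_surj_prod hA hB τ hτ⟩
  obtain ⟨⟨Γ₁, _, _, σ₁, h₁, ⟨e₁⟩⟩, -⟩ := hA
  obtain ⟨⟨Γ₂, _, _, σ₂, h₂, ⟨e₂⟩⟩, -⟩ := hB
  obtain ⟨Γ, i, j, σ, hσ, ⟨e⟩⟩ := exists_prod_cover σ₁ σ₂ h₁ h₂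
  exact ⟨Γ, i, j, σ, hσ, ⟨e.trans (e₁.prodCongr (e₂.prodCongr (MulEquiv.refl _)))⟩⟩

theorem subsingleton_abTensor [Finite Q₁] [Finite Q₂]
    (hcop : Nat.Coprime (Nat.card (Abelianization Q₁)) (Nat.card (Abelianization Q₂))) :
    Subsingleton (abTensor Q₁ Q₂) := by
  refine subsingleton_of_forall_eq 1 fun z => ?_
  have hz : z ∈ Subgroup.closure {z : abTensor Q₁ Q₂ | ∃ a b, z = tmulHom Q₁ Q₂ a b} :=
    closure_range_tmulHom (Q₁ := Q₁) (Q₂ := Q₂) ▸ Subgroup.mem_top z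
  induction hz using Subgroup.closure_induction with
  | mem w hw =>
    obtain ⟨a, b, rfl⟩ := hw
    have h1 : tmulHom Q₁ Q₂ a b ^ Nat.card (Abelianization Q₁) = 1 := by
      rw [← MonoidHom.pow_apply, ← map_pow]
      exact tmulHom_eq_one_left (by
        rw [← Abelianization.ker_of, MonoidHom.mem_ker, map_pow, pow_card_eq_one']) b
    have h2 : tmulHom Q₁ Q₂ a b ^ Nat.card (Abelianization Q₂) = 1 := by
      rw [← map_pow]
      show Multiplicative.ofAdd (_ ⊗ₜ[ℤ] _) = 1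
      rw [show Abelianization.of (b ^ Nat.card (Abelianization Q₂)) = 1 by
        rw [map_pow, pow_card_eq_one'], ofMul_one, TensorProduct.tmul_zero, ofAdd_zero]
    have := pow_gcd_eq_one.2 ⟨h1, h2⟩
    rwa [hcop.gcd_eq_one, pow_one] at this
  | one => rfl
  | mul x y _ _ hx hy => rw [hx, hy, one_mul]
  | inv x _ hx => rw [hx, inv_one]

end Cfsg.Agent.Struct.Schur
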