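import Cfsg.Agent.Lib.Struct.SemisimpleEnd

/-!
Matrices of finite order prime to the characteristic: classification by characteristic polynomial.
-/

set_option autoImplicit false
set_option linter.style.haveILetI false

namespace Cfsg.Agent.Struct.SemisimpleClasses

open Polynomial Matrix Module

variable {F : Type*} [Field F] {n : ℕ}

theorem dvd_of_dvd_charpoly (A : Matrix (Fin n) (Fin n) F) {m : ℕ} (hm : (m : F) ≠ 0) (hA : A ^ m = 1)
    {g : F[X]} (hgm : g.Monic) (hgi : Irreducible g) (hg : g ∣ A.charpoly) : g ∣ X ^ m - 1 := by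
  set T : Module.End F (Fin n → F) := Matrix.toLinAlgEquiv' A
  have hT : T ^ m = 1 := by rw [← map_pow, hA, map_one]
  obtain ⟨W, hW, hW0, hWc, hmin⟩ := SemisimpleEnd.exists_simple_charpoly _ T rfl hm hT g hgm hgi
    (by
      show g ∣ (Matrix.toLin' A).charpoly
      rwa [Matrix.charpoly_toLin'])
  haveI : Nontrivial W := Submodule.nontrivial_iff_ne_bot.2 hW0
  obtain ⟨-, hch, -⟩ := SemisimpleEnd.simple_field (T.restrict hW) hmin
  rw [← hWc, hch]
  refine minpoly.dvd F _ ?_
  rw [map_sub, map_pow, aeval_X, map_one, SemisimpleEnd.restrict_pow hT hW, sub_self]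

theorem dvd_X_pow_sub_C_of_dvd_charpoly (A : Matrix (Fin n) (Fin n) F) {m r : ℕ} {c : F} (hm : (m : F) ≠ 0)
    (hA : A ^ m = 1) (hr : A ^ r = Matrix.scalar (Fin n) c) {g : F[X]} (hgm : g.Monic) (hgi : Irreducible g)
    (hg : g ∣ A.charpoly) : g ∣ X ^ r - C c := by
  set T : Module.End F (Fin n → F) := Matrix.toLinAlgEquiv' A
  have hT : T ^ m = 1 := by rw [← map_pow, hA, map_one]
  have hTr : ∀ v, (T ^ r) v = c • v := fun v => by
    rw [← map_pow, hr, Matrix.scalar_apply, Matrix.toLinAlgEquiv'_apply]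
    ext i
    simp [Matrix.mulVec_diagonal]
  obtain ⟨W, hW, hW0, hWc, hmin⟩ := SemisimpleEnd.exists_simple_charpoly _ T rfl hm hT g hgm hgi
    (by
      show g ∣ (Matrix.toLin' A).charpoly
      rwa [Matrix.charpoly_toLin'])
  haveI : Nontrivial W := Submodule.nontrivial_iff_ne_bot.2 hW0
  obtain ⟨-, hch, -⟩ := SemisimpleEnd.simple_field (T.restrict hW) hmin
  rw [← hWc, hch]
  refine minpoly.dvd F _ ?_
  rw [map_sub, map_pow, aeval_X, aeval_C, Module.End.pow_restrict r (h := hW), sub_eq_zero]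
  ext w : 2
  simp [hTr, Module.algebraMap_end_apply]

theorem isConj_of_charpoly_eq {A B : GL (Fin n) F} {m k : ℕ} (hm : (m : F) ≠ 0) (hA : A ^ m = 1)
    (hk : (k : F) ≠ 0) (hB : B ^ k = 1)
    (h : (A : Matrix (Fin n) (Fin n) F).charpoly = (B : Matrix (Fin n) (Fin n) F).charpoly) : IsConj A B := by
  set T : Module.End F (Fin n → F) := Matrix.toLinAlgEquiv' (A : Matrix (Fin n) (Fin n) F) with hT
  set S : Module.End F (Fin n → F) := Matrix.toLinAlgEquiv' (B : Matrix (Fin n) (Fin n) F) with hS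
  have hT1 : T ^ m = 1 := by rw [hT, ← map_pow, ← Units.val_pow_eq_pow_val, hA, Units.val_one, map_one]
  have hS1 : S ^ k = 1 := by rw [hS, ← map_pow, ← Units.val_pow_eq_pow_val, hB, Units.val_one, map_one]
  have hTc : T.charpoly = (A : Matrix (Fin n) (Fin n) F).charpoly := Matrix.charpoly_toLin' _
  have hSc : S.charpoly = (B : Matrix (Fin n) (Fin n) F).charpoly := Matrix.charpoly_toLin' _
  obtain ⟨e, he⟩ := SemisimpleEnd.exists_conj _ T S rfl hm hT1 hk hS1 (hTc.trans (h.trans hSc.symm))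
  let u : GL (Fin n) F := ⟨LinearMap.toMatrix' e.toLinearMap, LinearMap.toMatrix' e.symm.toLinearMap,
    by rw [← LinearMap.toMatrix'_comp]; simp [LinearMap.toMatrix'_id],
    by rw [← LinearMap.toMatrix'_comp]; simp [LinearMap.toMatrix'_id]⟩
  refine isConj_iff.2 ⟨u, mul_inv_eq_iff_eq_mul.2 (Units.ext ?_)⟩
  refine Matrix.toLin'.injective (LinearMap.ext fun v => ?_)
  simp only [Units.val_mul, Matrix.toLin'_mul, LinearMap.comp_apply, u, Matrix.toLin'_toMatrix']
  exact he v

theorem charpoly_eq_of_isConj {A B : GL (Fin n) F} (h : IsConj A B) :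
    (A : Matrix (Fin n) (Fin n) F).charpoly = (B : Matrix (Fin n) (Fin n) F).charpoly := by
  obtain ⟨u, rfl⟩ := isConj_iff.1 h
  rw [Units.val_mul, Units.val_mul, Matrix.coe_units_inv, Matrix.charpoly_units_conj]

/-- Realisation of a product of irreducible factors of `X ^ m - 1` as a characteristic polynomial. -/
theorem exists_charpoly {m : ℕ} (M : Multiset F[X]) :
    (∀ g ∈ M, g.Monic ∧ Irreducible g ∧ g ∣ X ^ m - 1) → (M.map natDegree).sum = n →
      ∃ A : Matrix (Fin n) (Fin n) F, A ^ m = 1 ∧ A.charpoly = M.prod := by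
  induction M using Multiset.induction generalizing n with
  | empty =>
    intro _ hn
    simp only [Multiset.map_zero, Multiset.sum_zero] at hn
    subst hn
    exact ⟨1, one_pow _, by simp [Matrix.charpoly, Matrix.det_isEmpty]⟩
  | cons g M ih =>
    intro hM hn
    rw [Multiset.map_cons, Multiset.sum_cons] at hn
    obtain ⟨hgm, hgi, hgd⟩ := hM g (Multiset.mem_cons_self _ _)
    obtain ⟨A, hA, hAc⟩ := ih (fun f hf => hM f (Multiset.mem_cons_of_mem hf)) rfl
    let pB := AdjoinRoot.powerBasis hgm.ne_zero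
    let C := Algebra.leftMulMatrix pB.basis pB.gen
    have hC : C ^ m = 1 := by
      rw [← map_pow, show pB.gen = AdjoinRoot.root g from AdjoinRoot.powerBasis_gen hgm.ne_zero]
      have h0 : (AdjoinRoot.mk g) (X ^ m - 1) = 0 := AdjoinRoot.mk_eq_zero.2 hgd
      rw [map_sub, map_pow, AdjoinRoot.mk_X, map_one, sub_eq_zero] at h0
      rw [h0, map_one]
    have hCc : C.charpoly = g := by
      rw [charpoly_leftMulMatrix pB, show pB.gen = AdjoinRoot.root g from AdjoinRoot.powerBasis_gen hgm.ne_zero,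
        AdjoinRoot.minpoly_root hgm.ne_zero, hgm.leadingCoeff, inv_one, map_one, mul_one]
    have e : Fin pB.dim ⊕ Fin (M.map natDegree).sum ≃ Fin n :=
      finSumFinEquiv.trans (finCongr (by rw [show pB.dim = g.natDegree from AdjoinRoot.powerBasis_dim hgm.ne_zero]; exact hn))
    refine ⟨Matrix.reindexAlgEquiv F F e (Matrix.fromBlocks C 0 0 A), ?_, ?_⟩
    · rw [← map_pow, Matrix.fromBlocks_diagonal_pow, hC, hA, Matrix.fromBlocks_one, map_one]
    · rw [Matrix.coe_reindexAlgEquiv, Matrix.charpoly_reindex, Matrix.charpoly_fromBlocks_zero₁₂, hCc, hAc,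
        Multiset.prod_cons]

end Cfsg.Agent.Struct.SemisimpleClasses
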