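import Mathlib

/-!
Endomorphisms of finite order prime to the characteristic: conjugacy and the determinant on the commutant.
-/

set_option autoImplicit false
set_option linter.style.haveILetI false

namespace Cfsg.Agent.Struct.SemisimpleEnd

open Polynomial Module

universe u v

variable {F : Type u} [Field F]

theorem exists_compl {V : Type v} [AddCommGroup V] [Module F V] [FiniteDimensional F V]
    {T : Module.End F V} {m : ℕ} (hm : (m : F) ≠ 0) (hT : T ^ m = 1) {W : Submodule F V}
    (hW : ∀ w ∈ W, T w ∈ W) : ∃ U : Submodule F V, (∀ x ∈ U, T x ∈ U) ∧ IsCompl W U := by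
  have hss : T.IsSemisimple := Module.End.isSemisimple_of_squarefree_aeval_eq_zero
    (p := (X : F[X]) ^ m - 1) ((X_pow_sub_one_separable_iff.2 hm).squarefree) (by simp [hT])
  obtain ⟨U, hU, hc⟩ := Module.End.isSemisimple_iff.1 hss W hW
  exact ⟨U, hU, hc⟩

theorem restrict_pow {V : Type v} [AddCommGroup V] [Module F V] {T : Module.End F V} {m : ℕ}
    (hT : T ^ m = 1) {W : Submodule F V} (hW : ∀ w ∈ W, T w ∈ W) :
    (T.restrict hW : Module.End F W) ^ m = 1 := by
  rw [Module.End.pow_restrict m (h := hW)]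
  ext w
  simp [hT]

theorem split {V : Type v} [AddCommGroup V] [Module F V] [FiniteDimensional F V]
    {T : Module.End F V} {W U : Submodule F V} (hW : ∀ w ∈ W, T w ∈ W) (hU : ∀ w ∈ U, T w ∈ U)
    (h : IsCompl W U) : ∀ p : W × U, Submodule.prodEquivOfIsCompl W U h ((T.restrict hW).prodMap (T.restrict hU) p) =
      T (Submodule.prodEquivOfIsCompl W U h p) := fun p => by
  simp [Submodule.coe_prodEquivOfIsCompl']

theorem charpoly_split {V : Type v} [AddCommGroup V] [Module F V] [FiniteDimensional F V]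
    {T : Module.End F V} {W U : Submodule F V} (hW : ∀ w ∈ W, T w ∈ W) (hU : ∀ w ∈ U, T w ∈ U)
    (h : IsCompl W U) :
    T.charpoly = (T.restrict hW : Module.End F W).charpoly * (T.restrict hU : Module.End F U).charpoly := by
  rw [← LinearMap.charpoly_prodMap, ← LinearEquiv.charpoly_conj (Submodule.prodEquivOfIsCompl W U h)]
  congr 1
  ext x
  rw [LinearEquiv.conj_apply_apply, split hW hU h, LinearEquiv.apply_symm_apply]

theorem map_aeval {V : Type v} [AddCommGroup V] [Module F V] {T : Module.End F V} {W : Submodule F V}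
    (hW : ∀ w ∈ W, T w ∈ W) (p : F[X]) : ∀ w ∈ W, aeval T p w ∈ W := by
  induction p using Polynomial.induction_on' with
  | add p q hp hq => intro w hw; rw [map_add, LinearMap.add_apply]; exact W.add_mem (hp w hw) (hq w hw)
  | monomial k c =>
    intro w hw
    rw [aeval_monomial, Module.End.mul_apply, Module.algebraMap_end_apply]
    exact W.smul_mem c (Module.End.pow_apply_mem_of_forall_mem k hW w hw)

/-- An irreducible invariant subspace is a field over which it is one dimensional. -/
theorem simple_field {V : Type v} [AddCommGroup V] [Module F V] [FiniteDimensional F V]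
    (T : Module.End F V) [Nontrivial V]
    (hmin : ∀ W : Submodule F V, (∀ w ∈ W, T w ∈ W) → W = ⊥ ∨ W = ⊤) :
    ∃ _ : Irreducible (minpoly F T), T.charpoly = minpoly F T ∧
      ∃ ψ : AdjoinRoot (minpoly F T) ≃ₗ[F] V,
        ∀ k, ψ (AdjoinRoot.root (minpoly F T) * k) = T (ψ k) := by
  set g := minpoly F T
  have hint : IsIntegral F T := Algebra.IsIntegral.isIntegral T
  have hmonic : g.Monic := minpoly.monic hint
  have hker : ∀ p : F[X], (LinearMap.ker (aeval T p) = ⊤) ∨ LinearMap.ker (aeval T p) = ⊥ := fun p => by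
    refine (hmin _ fun w hw => ?_).symm
    rw [LinearMap.mem_ker] at hw ⊢
    rw [← Module.End.mul_apply, show aeval T p * T = T * aeval T p from by
      simpa using ((Commute.all p X).map (aeval (R := F) T)).eq, Module.End.mul_apply, hw, map_zero]
  have hirr : Irreducible g := by
    refine ⟨minpoly.not_isUnit F T, fun a b hab => ?_⟩
    have ha0 : a ≠ 0 := fun e => hmonic.ne_zero (by rw [show g = a * b from hab, e, zero_mul])
    have hb0 : b ≠ 0 := fun e => hmonic.ne_zero (by rw [show g = a * b from hab, e, mul_zero])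
    have h0 : aeval T a * aeval T b = 0 := by rw [← map_mul, ← hab]; exact minpoly.aeval F T
    have hdeg : g.natDegree = a.natDegree + b.natDegree := by rw [show g = a * b from hab, natDegree_mul ha0 hb0]
    have hmind : ∀ c : F[X], c ≠ 0 → aeval T c = 0 → g.natDegree ≤ c.natDegree := fun c hc hc0 =>
      natDegree_le_of_dvd (minpoly.dvd F T hc0) hc
    rcases hker b with h | h
    · have := hmind b hb0 (LinearMap.ker_eq_top.1 h)
      exact Or.inl (isUnit_iff_degree_eq_zero.2 (by rw [degree_eq_natDegree ha0]; simp; omega))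
    · have ha : aeval T a = 0 := by
        have hs : Function.Surjective (aeval T b) := LinearMap.injective_iff_surjective.1 (LinearMap.ker_eq_bot.1 h)
        refine LinearMap.ext fun x => ?_
        obtain ⟨y, rfl⟩ := hs x
        exact LinearMap.congr_fun h0 y
      have := hmind a ha0 ha
      exact Or.inr (isUnit_iff_degree_eq_zero.2 (by rw [degree_eq_natDegree hb0]; simp; omega))
  haveI : Fact (Irreducible g) := ⟨hirr⟩
  obtain ⟨v, hv⟩ := exists_ne (0 : V)
  let Φ : AdjoinRoot g →ₐ[F] Module.End F V := Ideal.Quotient.liftₐ (Ideal.span {g}) (aeval T) fun a ha => by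
    obtain ⟨r, rfl⟩ := Ideal.mem_span_singleton'.1 ha
    rw [map_mul, show aeval T g = 0 from minpoly.aeval F T, mul_zero]
  let ψ₀ : AdjoinRoot g →ₗ[F] V := (LinearMap.applyₗ v).comp Φ.toLinearMap
  have hinj : Function.Injective ψ₀ := by
    refine (injective_iff_map_eq_zero ψ₀).2 fun k hk => by_contra fun hk0 => hv ?_
    have h1 : Φ k⁻¹ (Φ k v) = v := by
      rw [← Module.End.mul_apply, ← map_mul, inv_mul_cancel₀ hk0, map_one, Module.End.one_apply]
    rw [← h1, show Φ k v = 0 from hk, map_zero]
  have hroot : ∀ k, ψ₀ (AdjoinRoot.root g * k) = T (ψ₀ k) := fun k => by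
    show Φ (AdjoinRoot.root g * k) v = T (Φ k v)
    rw [map_mul, Module.End.mul_apply, show Φ (AdjoinRoot.root g) = aeval T X from rfl, aeval_X]
  have hsurj : Function.Surjective ψ₀ := by
    rw [← LinearMap.range_eq_top]
    refine (hmin _ ?_).resolve_left ?_
    · rintro _ ⟨k, rfl⟩
      exact ⟨_, hroot k⟩
    · intro e
      refine hv ?_
      have : ψ₀ 1 ∈ (⊥ : Submodule F V) := e ▸ LinearMap.mem_range_self ψ₀ 1
      rw [Submodule.mem_bot] at this
      simpa [ψ₀] using this
  refine ⟨hirr, ?_, LinearEquiv.ofBijective ψ₀ ⟨hinj, hsurj⟩, hroot⟩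
  refine eq_of_monic_of_dvd_of_natDegree_le hmonic (LinearMap.charpoly_monic T) (LinearMap.minpoly_dvd_charpoly T) ?_
  rw [LinearMap.charpoly_natDegree, ← LinearEquiv.finrank_eq (LinearEquiv.ofBijective ψ₀ ⟨hinj, hsurj⟩),
    (AdjoinRoot.powerBasis hmonic.ne_zero).finrank, AdjoinRoot.powerBasis_dim]

/-- A minimal invariant subspace. -/
theorem exists_simple {V : Type v} [AddCommGroup V] [Module F V] [FiniteDimensional F V] [Nontrivial V]
    (T : Module.End F V) : ∃ (W : Submodule F V) (hW : ∀ w ∈ W, T w ∈ W), W ≠ ⊥ ∧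
      ∀ X : Submodule F W, (∀ w ∈ X, (T.restrict hW) w ∈ X) → X = ⊥ ∨ X = ⊤ := by
  obtain ⟨W, hWm⟩ := exists_minimal_of_wellFoundedLT (fun W : Submodule F V => (∀ w ∈ W, T w ∈ W) ∧ W ≠ ⊥)
    ⟨⊤, fun _ _ => Submodule.mem_top, top_ne_bot⟩
  obtain ⟨hW, hW0⟩ := hWm.prop
  refine ⟨W, hW, hW0, fun X hX => or_iff_not_imp_left.2 fun hX0 => ?_⟩
  have h1 : ∀ w ∈ X.map W.subtype, T w ∈ X.map W.subtype := by
    rintro _ ⟨w, hw, rfl⟩
    exact ⟨_, hX w hw, rfl⟩
  have h2 := hWm.le_of_le (y := X.map W.subtype) ⟨h1, fun e => hX0 (Submodule.map_injective_of_injective W.injective_subtype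
    (e.trans (Submodule.map_bot _).symm))⟩ (Submodule.map_subtype_le W X)
  refine eq_top_iff.2 fun w _ => ?_
  obtain ⟨w', hw', he⟩ := h2 w.2
  rwa [← Subtype.ext he]

/-- A simple invariant subspace with prescribed irreducible factor of the characteristic polynomial. -/
theorem exists_simple_charpoly : ∀ (d : ℕ) {V : Type v} [AddCommGroup V] [Module F V] [FiniteDimensional F V]
    (T : Module.End F V) {m : ℕ}, finrank F V = d → (m : F) ≠ 0 → T ^ m = 1 → ∀ g : F[X], g.Monic → Irreducible g →
      g ∣ T.charpoly → ∃ (W : Submodule F V) (hW : ∀ w ∈ W, T w ∈ W), W ≠ ⊥ ∧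
        (T.restrict hW : Module.End F W).charpoly = g ∧
        ∀ X : Submodule F W, (∀ w ∈ X, (T.restrict hW) w ∈ X) → X = ⊥ ∨ X = ⊤ := by
  intro d
  induction d using Nat.strong_induction_on with
  | _ d ih =>
  intro V _ _ _ T m hd hm hT g hgm hgi hg
  rcases subsingleton_or_nontrivial V with hV | hV
  · exfalso
    have h0 : finrank F V = 0 := Module.finrank_zero_of_subsingleton
    have h1 := natDegree_le_of_dvd hg (LinearMap.charpoly_monic T).ne_zero
    rw [LinearMap.charpoly_natDegree, h0] at h1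
    have := hgi.natDegree_pos
    omega
  obtain ⟨W, hW, hW0, hWmin⟩ := exists_simple T
  haveI : Nontrivial W := Submodule.nontrivial_iff_ne_bot.2 hW0
  obtain ⟨hirr, hchar, -⟩ := simple_field (T.restrict hW) hWmin
  obtain ⟨U, hU, hc⟩ := exists_compl hm hT hW
  rw [charpoly_split hW hU hc] at hg
  rcases hgi.prime.dvd_or_dvd hg with h | h
  · refine ⟨W, hW, hW0, ?_, hWmin⟩
    rw [hchar] at h ⊢
    exact (eq_of_monic_of_associated hgm (minpoly.monic (Algebra.IsIntegral.isIntegral _))
      (hgi.associated_of_dvd hirr h)).symm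
  · have hlt : finrank F U < d := by
      have h1 := Submodule.finrank_add_eq_of_isCompl hc
      have h2 : 0 < finrank F W := Module.finrank_pos
      omega
    obtain ⟨X, hX, hX0, hXc, hXmin⟩ := ih _ hlt (T.restrict hU) rfl hm (restrict_pow hT hU) g hgm hgi h
    have hX' : ∀ w ∈ X.map U.subtype, T w ∈ X.map U.subtype := by
      rintro _ ⟨w, hw, rfl⟩
      exact ⟨_, hX w hw, rfl⟩
    let e : X ≃ₗ[F] X.map U.subtype := Submodule.equivMapOfInjective _ U.injective_subtype X
    refine ⟨X.map U.subtype, hX', fun h0 => hX0 (Submodule.map_injective_of_injective U.injective_subtype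
      (h0.trans (Submodule.map_bot _).symm)), ?_, fun Y hY => ?_⟩
    · rw [← hXc, ← LinearEquiv.charpoly_conj e]
      congr 1
      ext x
      obtain ⟨y, rfl⟩ := e.surjective x
      simp [e]
    · have h := hXmin (Y.comap e.toLinearMap) fun w hw => by
        have := hY _ hw
        rw [Submodule.mem_comap] at hw ⊢
        convert this using 1
        simp [e]
        rfl
      rcases h with h | h
      · left
        rw [← Submodule.map_comap_eq_of_surjective e.surjective Y, h, Submodule.map_bot]
      · right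
        rw [← Submodule.map_comap_eq_of_surjective e.surjective Y, h, Submodule.map_top, LinearEquiv.range]

/-- Semisimple endomorphisms with equal characteristic polynomials are conjugate. -/
theorem exists_conj : ∀ (d : ℕ) {V V' : Type v} [AddCommGroup V] [Module F V] [FiniteDimensional F V]
    [AddCommGroup V'] [Module F V'] [FiniteDimensional F V'] (T : Module.End F V) (S : Module.End F V') {m k : ℕ},
      finrank F V = d → (m : F) ≠ 0 → T ^ m = 1 → (k : F) ≠ 0 → S ^ k = 1 → T.charpoly = S.charpoly →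
      ∃ e : V ≃ₗ[F] V', ∀ v, e (T v) = S (e v) := by
  intro d
  induction d using Nat.strong_induction_on with
  | _ d ih =>
  intro V V' _ _ _ _ _ _ T S m k hd hm hT hk hS hcp
  have hdim : finrank F V = finrank F V' := by
    rw [← LinearMap.charpoly_natDegree T, hcp, LinearMap.charpoly_natDegree S]
  rcases subsingleton_or_nontrivial V with hV | hV
  · haveI : Subsingleton V' := Module.finrank_zero_iff.1 (hdim ▸ Module.finrank_zero_of_subsingleton (R := F) (M := V))
    exact ⟨LinearEquiv.ofFinrankEq V V' hdim, fun v => Subsingleton.elim _ _⟩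
  obtain ⟨W, hW, hW0, hWmin⟩ := exists_simple T
  haveI : Nontrivial W := Submodule.nontrivial_iff_ne_bot.2 hW0
  obtain ⟨hirr, hchar, ψ, hψ⟩ := simple_field (T.restrict hW) hWmin
  obtain ⟨U, hU, hc⟩ := exists_compl hm hT hW
  have hmonic := minpoly.monic (Algebra.IsIntegral.isIntegral (R := F) (T.restrict hW : Module.End F W))
  have hdvd : minpoly F (T.restrict hW : Module.End F W) ∣ S.charpoly := by
    rw [← hcp, charpoly_split hW hU hc, hchar]
    exact dvd_mul_right _ _
  obtain ⟨W', hW', hW'0, hW'c, hW'min⟩ := exists_simple_charpoly _ S rfl hk hS _ hmonic hirr hdvd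
  haveI : Nontrivial W' := Submodule.nontrivial_iff_ne_bot.2 hW'0
  obtain ⟨-, hchar', ψ', hψ'⟩ := simple_field (S.restrict hW') hW'min
  obtain ⟨U', hU', hc'⟩ := exists_compl hk hS hW'
  have hg : minpoly F (S.restrict hW' : Module.End F W') = minpoly F (T.restrict hW : Module.End F W) := by
    rw [← hchar', hW'c]
  have hlt : finrank F U < d := by
    have h1 := Submodule.finrank_add_eq_of_isCompl hc
    have h2 : 0 < finrank F W := Module.finrank_pos
    omega
  obtain ⟨eU, heU⟩ := ih _ hlt (T.restrict hU) (S.restrict hU') rfl hm (restrict_pow hT hU) hk (restrict_pow hS hU') (by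
    have h := hcp
    rw [charpoly_split hW hU hc, charpoly_split hW' hU' hc', hW'c, hchar] at h
    exact mul_left_cancel₀ hmonic.ne_zero h)
  obtain ⟨eW, heW⟩ : ∃ eW : W ≃ₗ[F] W', ∀ w, eW (T.restrict hW w) = S.restrict hW' (eW w) := by
    generalize minpoly F (S.restrict hW' : Module.End F W') = g at hg ψ' hψ'
    subst hg
    refine ⟨ψ.symm.trans ψ', fun w => ?_⟩
    obtain ⟨y, rfl⟩ := ψ.surjective w
    rw [← hψ]
    simp [hψ']
  refine ⟨(Submodule.prodEquivOfIsCompl W U hc).symm.trans ((eW.prodCongr eU).trans (Submodule.prodEquivOfIsCompl W' U' hc')), fun v => ?_⟩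
  obtain ⟨⟨a, b⟩, rfl⟩ := (Submodule.prodEquivOfIsCompl W U hc).surjective v
  rw [← split hW hU hc]
  simp only [LinearEquiv.trans_apply, LinearEquiv.symm_apply_apply]
  rw [← split hW' hU' hc']
  congr 1
  exact Prod.ext (heW a) (heU b)

/-- The determinant is surjective on the commutant of a semisimple endomorphism. -/
theorem exists_commute_det [Finite F] {V : Type v} [AddCommGroup V] [Module F V] [FiniteDimensional F V] [Nontrivial V]
    (T : Module.End F V) {m : ℕ} (hm : (m : F) ≠ 0) (hT : T ^ m = 1) {c : F} :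
    ∃ D : Module.End F V, LinearMap.det D = c ∧ ∀ v, D (T v) = T (D v) := by
  obtain ⟨W, hW, hW0, hWmin⟩ := exists_simple T
  haveI : Nontrivial W := Submodule.nontrivial_iff_ne_bot.2 hW0
  obtain ⟨hirr, -, ψ, hψ⟩ := simple_field (T.restrict hW) hWmin
  generalize minpoly F (T.restrict hW : Module.End F W) = g at hirr ψ hψ
  obtain ⟨U, hU, hsp⟩ := exists_compl hm hT hW
  haveI : Fact (Irreducible g) := ⟨hirr⟩
  haveI : FiniteDimensional F (AdjoinRoot g) := ψ.symm.finiteDimensional
  haveI : Finite (AdjoinRoot g) := Module.finite_of_finite F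
  obtain ⟨k, hk⟩ := FiniteField.norm_surjective F (AdjoinRoot g) c
  have hψ' : ∀ k, ψ (AdjoinRoot.root g * k) = T.restrict hW (ψ k) := hψ
  let DW : Module.End F W := ψ.conj (LinearMap.mulLeft F k)
  have hDW : ∀ w, DW (T.restrict hW w) = T.restrict hW (DW w) := fun w => by
    obtain ⟨y, rfl⟩ := ψ.surjective w
    rw [← hψ']
    simp only [DW, LinearEquiv.conj_apply_apply, LinearMap.mulLeft_apply, LinearEquiv.symm_apply_apply]
    rw [← hψ', mul_left_comm k]
  let e := Submodule.prodEquivOfIsCompl W U hsp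
  refine ⟨e.conj (DW.prodMap LinearMap.id), ?_, fun v => ?_⟩
  · rw [LinearEquiv.conj_apply, LinearMap.comp_assoc, LinearMap.det_conj, LinearMap.det_prodMap, LinearMap.det_id, mul_one]
    rw [show DW = (ψ : AdjoinRoot g →ₗ[F] W) ∘ₗ LinearMap.mulLeft F k ∘ₗ (ψ.symm : W →ₗ[F] AdjoinRoot g) from rfl,
      LinearMap.det_conj]
    rw [← hk, Algebra.norm_apply]
    rfl
  · obtain ⟨⟨a, b⟩, rfl⟩ := e.surjective v
    rw [← split hW hU hsp]
    simp only [e, LinearEquiv.conj_apply_apply, LinearEquiv.symm_apply_apply]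
    rw [← split hW hU hsp]
    congr 1
    exact Prod.ext (hDW a) rfl

end Cfsg.Agent.Struct.SemisimpleEnd
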