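import Mathlib.GroupTheory.Index
import Mathlib.Tactic.Group
import Mathlib.Algebra.Group.Subgroup.Basic
import Mathlib.SetTheory.Cardinal.Finite

/-!
Abstract Shintani descent.
-/

set_option autoImplicit false

namespace Cfsg.Agent.Struct.Shintani

variable {X : Type*} [Group X]

theorem key0 (σ : MulAut X) (u w : X) (h : u * (σ u)⁻¹ = w * (σ w)⁻¹) : σ (w⁻¹ * u) = w⁻¹ * u := by
  rw [map_mul, map_inv]
  calc (σ w)⁻¹ * σ u = w⁻¹ * (w * (σ w)⁻¹) * σ u := by group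
    _ = _ := by rw [← h]; group

theorem key0' (σ : MulAut X) (u w : X) (h : ((σ u)⁻¹ * u)⁻¹ = w * (σ w)⁻¹) : σ (u * w) = u * w := by
  rw [map_mul]
  calc σ u * σ w = u * ((σ u)⁻¹ * u)⁻¹ * σ w := by group
    _ = _ := by rw [h]; group

theorem descent (σ : MulAut X) (e : ℕ)
    (Y : Subgroup X) (hY : ∀ y : X, y ∈ Y ↔ σ y ∈ Y)
    (hYL : ∀ y ∈ Y, ∃ a ∈ Y, y = a * (σ a)⁻¹) (hYLe : ∀ y ∈ Y, ∃ a ∈ Y, y = a * ((σ ^ e) a)⁻¹)
    (g : X) (a : X) (ha : g = a * (σ a)⁻¹) :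
    Nat.card {k : ↥((MulEquiv.toMonoidHom (σ ^ e)).eqLocus (MonoidHom.id X)) // (k : X)⁻¹ * g * σ k ∈ Y} *
        Nat.card ↥(Y ⊓ (MulEquiv.toMonoidHom σ).eqLocus (MonoidHom.id X)) =
      Nat.card {h : ↥((MulEquiv.toMonoidHom σ).eqLocus (MonoidHom.id X)) // (h : X)⁻¹ * (((σ ^ e) a)⁻¹ * a) * h ∈ Y} *
        Nat.card ↥(Y ⊓ (MulEquiv.toMonoidHom (σ ^ e)).eqLocus (MonoidHom.id X)) := by
  set τ := σ ^ e with hτ
  have hYτ : ∀ y ∈ Y, τ y ∈ Y := by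
    rw [hτ]
    clear hYLe hτ τ
    induction e with
    | zero => intro y hy; simpa using hy
    | succ n ih => intro y hy; rw [pow_succ', MulAut.mul_apply]; exact (hY _).1 (ih y hy)
  have hH : ∀ h : X, σ h = h → τ h = h := by
    intro h hh
    rw [hτ]
    clear hYLe hτ hYτ τ
    induction e with
    | zero => simp
    | succ n ih => rw [pow_succ', MulAut.mul_apply, ih, hh]
  set G := (MulEquiv.toMonoidHom τ).eqLocus (MonoidHom.id X)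
  set H := (MulEquiv.toMonoidHom σ).eqLocus (MonoidHom.id X)
  choose c hcY hc using fun k : {k : G // (k : X)⁻¹ * g * σ k ∈ Y} => hYL _ k.2
  choose d hdY hd using fun h : {h : H // (h : X)⁻¹ * ((τ a)⁻¹ * a) * h ∈ Y} => hYLe _ (Y.inv_mem h.2)
  let P := {q : X × X // τ q.1 = q.1 ∧ q.2 ∈ Y ∧ q.1⁻¹ * g * σ q.1 = q.2 * (σ q.2)⁻¹}
  let e₁ : {k : G // (k : X)⁻¹ * g * σ k ∈ Y} × ↥(Y ⊓ H) ≃ P :=
    { toFun := fun q => ⟨((q.1.1 : X), c q.1 * q.2), q.1.1.2, Y.mul_mem (hcY _) q.2.2.1, by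
        have h2 : σ (q.2 : X) = q.2 := q.2.2.2
        rw [map_mul, h2, hc q.1]
        group⟩
      invFun := fun q => (⟨⟨q.1.1, q.2.1⟩, by
          rw [show ((⟨q.1.1, q.2.1⟩ : G) : X) = q.1.1 from rfl, q.2.2.2]
          exact Y.mul_mem q.2.2.1 (Y.inv_mem ((hY _).1 q.2.2.1))⟩,
        ⟨(c ⟨⟨q.1.1, q.2.1⟩, by
          rw [show ((⟨q.1.1, q.2.1⟩ : G) : X) = q.1.1 from rfl, q.2.2.2]
          exact Y.mul_mem q.2.2.1 (Y.inv_mem ((hY _).1 q.2.2.1))⟩)⁻¹ * q.1.2,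
          Y.mul_mem (Y.inv_mem (hcY _)) q.2.2.1, by
          show σ (_ * _) = _ * _
          have hm : ((⟨q.1.1, q.2.1⟩ : G) : X)⁻¹ * g * σ ((⟨q.1.1, q.2.1⟩ : G) : X) ∈ Y := by
            rw [show ((⟨q.1.1, q.2.1⟩ : G) : X) = q.1.1 from rfl, q.2.2.2]
            exact Y.mul_mem q.2.2.1 (Y.inv_mem ((hY _).1 q.2.2.1))
          have h1 : q.1.2 * (σ q.1.2)⁻¹ = c ⟨_, hm⟩ * (σ (c ⟨_, hm⟩))⁻¹ := q.2.2.2.symm.trans (hc ⟨_, hm⟩)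
          exact key0 σ _ _ h1⟩)
      left_inv := fun q => Prod.ext rfl (Subtype.ext (by simp))
      right_inv := fun q => Subtype.ext (Prod.ext rfl (by simp)) }
  let P' := {q : X × X // σ q.1 = q.1 ∧ q.2 ∈ Y ∧ q.1⁻¹ * ((τ a)⁻¹ * a) * q.1 = (τ q.2)⁻¹ * q.2}
  let e₂ : {h : H // (h : X)⁻¹ * ((τ a)⁻¹ * a) * h ∈ Y} × ↥(Y ⊓ G) ≃ P' :=
    { toFun := fun q => ⟨((q.1.1 : X), (q.2 : X) * (d q.1)⁻¹), q.1.1.2,
        Y.mul_mem q.2.2.1 (Y.inv_mem (hdY _)), by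
        have h2 : τ (q.2 : X) = q.2 := q.2.2.2
        rw [map_mul, map_inv, h2, inv_eq_iff_eq_inv.1 (hd q.1)]
        group⟩
      invFun := fun q => (⟨⟨q.1.1, q.2.1⟩, by
          rw [show ((⟨q.1.1, q.2.1⟩ : H) : X) = q.1.1 from rfl, q.2.2.2]
          exact Y.mul_mem (Y.inv_mem (hYτ _ q.2.2.1)) q.2.2.1⟩,
        ⟨q.1.2 * d ⟨⟨q.1.1, q.2.1⟩, by
          rw [show ((⟨q.1.1, q.2.1⟩ : H) : X) = q.1.1 from rfl, q.2.2.2]
          exact Y.mul_mem (Y.inv_mem (hYτ _ q.2.2.1)) q.2.2.1⟩,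
          Y.mul_mem q.2.2.1 (hdY _), by
          show τ (_ * _) = _ * _
          have hm : ((⟨q.1.1, q.2.1⟩ : H) : X)⁻¹ * ((τ a)⁻¹ * a) * ((⟨q.1.1, q.2.1⟩ : H) : X) ∈ Y := by
            rw [show ((⟨q.1.1, q.2.1⟩ : H) : X) = q.1.1 from rfl, q.2.2.2]
            exact Y.mul_mem (Y.inv_mem (hYτ _ q.2.2.1)) q.2.2.1
          have h1 : ((τ q.1.2)⁻¹ * q.1.2)⁻¹ = d ⟨_, hm⟩ * (τ (d ⟨_, hm⟩))⁻¹ :=
            (congrArg Inv.inv q.2.2.2.symm).trans (hd ⟨_, hm⟩)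
          exact key0' τ _ _ h1⟩)
      left_inv := fun q => Prod.ext rfl (Subtype.ext (by simp))
      right_inv := fun q => Subtype.ext (Prod.ext rfl (by simp)) }
  have key1 : ∀ k c : X, k⁻¹ * g * σ k = c * (σ c)⁻¹ → σ (a⁻¹ * k * c) = a⁻¹ * k * c := by
    intro k c h
    rw [map_mul, map_mul, map_inv]
    calc (σ a)⁻¹ * σ k * σ c = a⁻¹ * k * (k⁻¹ * g * σ k) * σ c := by rw [ha]; group
      _ = _ := by rw [h]; group
  have key2 : ∀ h c : X, h⁻¹ * ((τ a)⁻¹ * a) * h = (τ c)⁻¹ * c → τ h = h → τ (a * h * c⁻¹) = a * h * c⁻¹ := by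
    intro h c e1 e2
    rw [map_mul, map_mul, map_inv, e2]
    calc τ a * h * (τ c)⁻¹ = τ a * h * ((τ c)⁻¹ * c) * c⁻¹ := by group
      _ = _ := by rw [← e1]; group
  let e₃ : P ≃ P' :=
    { toFun := fun q => ⟨(a⁻¹ * q.1.1 * q.1.2, q.1.2), key1 _ _ q.2.2.2, q.2.2.1, by
        have h1 := hH _ (key1 _ _ q.2.2.2)
        rw [map_mul, map_mul, map_inv, q.2.1] at h1
        have h2 : (τ a)⁻¹ = a⁻¹ * q.1.1 * q.1.2 * (τ q.1.2)⁻¹ * q.1.1⁻¹ := by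
          calc (τ a)⁻¹ = (τ a)⁻¹ * q.1.1 * τ q.1.2 * (τ q.1.2)⁻¹ * q.1.1⁻¹ := by group
            _ = _ := by rw [h1]
        rw [h2]; group⟩
      invFun := fun q => ⟨(a * q.1.1 * q.1.2⁻¹, q.1.2), key2 _ _ q.2.2.2 (hH _ q.2.1), q.2.2.1, by
        rw [map_mul, map_mul, map_inv, q.2.1, ha]; group⟩
      left_inv := fun q => Subtype.ext (Prod.ext (by show a * (a⁻¹ * q.1.1 * q.1.2) * q.1.2⁻¹ = q.1.1; group) rfl)
      right_inv := fun q => Subtype.ext (Prod.ext (by show a⁻¹ * (a * q.1.1 * q.1.2⁻¹) * q.1.2 = q.1.1; group) rfl) }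
  rw [← Nat.card_prod, ← Nat.card_prod, Nat.card_congr (e₁.trans (e₃.trans e₂.symm))]

end Cfsg.Agent.Struct.Shintani
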