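import Mathlib

/-!
# Subgroups of prime power order (Wielandt's counting)
-/

namespace Cfsg.Agent.Struct.SubgroupCount

open Pointwise

variable {G : Type*} [Group G] [Finite G]

/-- The right cosets of subgroups of order `k`, as finite sets. -/
theorem count_mod (p β m : ℕ) [hp : Fact p.Prime] (hG : Nat.card G = p ^ β * m) :
    (Nat.card G).choose (p ^ β) ≡ Nat.card {H : Subgroup G // Nat.card H = p ^ β} * m [MOD p * m] := by
  classical
  haveI := Fintype.ofFinite G
  let K := {X : Finset G // X.card = p ^ β}
  let act : MulAction G K :=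
    { smul := fun g X => ⟨g • X.1, by rw [Finset.card_smul_finset]; exact X.2⟩
      one_smul := fun X => Subtype.ext (one_smul G X.1)
      mul_smul := fun g h X => Subtype.ext (mul_smul g h X.1) }
  letI := act
  have hsmul : ∀ (g : G) (X : K), (g • X).1 = g • X.1 := fun _ _ => rfl
  have hKcard : Nat.card K = (Nat.card G).choose (p ^ β) := by
    rw [Nat.card_eq_fintype_card, Nat.card_eq_fintype_card, Fintype.card_finset_len]
  let good : K → Prop := fun X => Nat.card (MulAction.stabilizer G X) = p ^ β
  -- a stabiliser fills up right cosets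
  have hdvd : ∀ X : K, Nat.card (MulAction.stabilizer G X) ∣ p ^ β := by
    intro X
    let H := MulAction.stabilizer G X
    let S : Set G := (·⁻¹) '' (X.1 : Set G)
    have hS : QuotientGroup.mk ⁻¹' ((QuotientGroup.mk : G → G ⧸ H) '' S) = S := by
      refine Set.Subset.antisymm ?_ (Set.subset_preimage_image _ _)
      rintro y ⟨_, ⟨x, hx, rfl⟩, he⟩
      have hh : x * y ∈ H := by simpa using QuotientGroup.eq.1 he
      refine ⟨y⁻¹, ?_, inv_inv y⟩
      have h1 : (x * y)⁻¹ • X = X := inv_mem hh
      have h2 : (x * y)⁻¹ • x ∈ (X.1 : Set G) := by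
        rw [Finset.mem_coe, ← congrArg Subtype.val h1, hsmul]
        exact Finset.smul_mem_smul_finset hx
      simpa [mul_assoc] using h2
    have hc : Nat.card S = p ^ β := by
      rw [Nat.card_image_of_injective inv_injective, Nat.card_coe_set_eq, Set.ncard_coe_finset]
      exact X.2
    rw [← hc, ← hS, Nat.card_congr (QuotientGroup.preimageMkEquivSubgroupProdSet H _), Nat.card_prod]
    exact dvd_mul_right _ _
  -- the good sets
  have hgood : Nat.card {X : K // good X} = Nat.card {H : Subgroup G // Nat.card H = p ^ β} * m := by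
    have hidx : ∀ H : {H : Subgroup G // Nat.card H = p ^ β}, Nat.card (G ⧸ H.1) = m := by
      intro H
      have := H.1.card_mul_index
      rw [H.2, hG] at this
      rw [← Subgroup.index_eq_card]
      exact Nat.eq_of_mul_eq_mul_left (pow_pos hp.out.pos _) this
    have hfc : ∀ w : Σ H : {H : Subgroup G // Nat.card H = p ^ β}, G ⧸ H.1,
        ((Finset.univ : Finset G).filter fun x => ((x⁻¹ : G) : G ⧸ w.1.1) = w.2).card = p ^ β := by
      rintro ⟨H, q⟩
      rw [← Nat.card_eq_finsetCard, Nat.card_congr (Equiv.subtypeEquivRight fun x => (Finset.mem_filter.trans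
        (and_iff_right (Finset.mem_univ x)))), Nat.card_congr (Equiv.subtypeEquiv (Equiv.inv G)
        (q := fun y : G => ((y : G) : G ⧸ H.1) ∈ ({q} : Set (G ⧸ H.1))) fun x => by simp)]
      rw [show Nat.card {y : G // (y : G ⧸ H.1) ∈ ({q} : Set (G ⧸ H.1))} =
          Nat.card ((QuotientGroup.mk : G → G ⧸ H.1) ⁻¹' {q}) from rfl,
        Nat.card_congr (QuotientGroup.preimageMkEquivSubgroupProdSet H.1 {q}), Nat.card_prod, H.2]
      simp
    let f : (Σ H : {H : Subgroup G // Nat.card H = p ^ β}, G ⧸ H.1) → K := fun w => ⟨_, hfc w⟩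
    have hmem : ∀ w x, x ∈ (f w).1 ↔ ((x⁻¹ : G) : G ⧸ w.1.1) = w.2 := fun w x => by simp [f]
    have hstab : ∀ w, MulAction.stabilizer G (f w) = w.1.1 := by
      intro w
      ext g
      obtain ⟨y, hy⟩ := QuotientGroup.mk_surjective w.2
      rw [MulAction.mem_stabilizer_iff]
      constructor
      · intro h
        have hy' : y⁻¹ ∈ (f w).1 := (hmem w _).2 (by rw [inv_inv, hy])
        have h2 : g * y⁻¹ ∈ (f w).1 := by
          rw [← congrArg Subtype.val h, hsmul]
          exact Finset.smul_mem_smul_finset hy'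
        have h3 := (hmem w _).1 h2
        rw [← hy, mul_inv_rev, inv_inv, QuotientGroup.eq] at h3
        simpa using h3
      · intro hg
        refine Subtype.ext (Finset.ext fun x => ?_)
        rw [hsmul, ← Finset.inv_smul_mem_iff, hmem, hmem, smul_eq_mul, mul_inv_rev, inv_inv,
          QuotientGroup.mk_mul_of_mem _ hg]
    have hinj : Function.Injective f := by
      intro w w' h
      have e : w.1 = w'.1 := Subtype.ext (by rw [← hstab w, h, hstab w'])
      obtain ⟨H, q⟩ := w
      obtain ⟨H', q'⟩ := w'
      simp only at e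
      subst e
      obtain ⟨y, rfl⟩ := QuotientGroup.mk_surjective q
      have hy : y⁻¹ ∈ (f ⟨H, y⟩).1 := (hmem _ _).2 (by rw [inv_inv])
      rw [h, hmem, inv_inv] at hy
      rw [hy]
    have hrange : Set.range f = {X : K | good X} := by
      ext X
      constructor
      · rintro ⟨w, rfl⟩
        show Nat.card _ = _
        rw [hstab w, w.1.2]
      · intro hX
        obtain ⟨x, hx⟩ := Finset.card_pos.1 (X.2.symm ▸ pow_pos hp.out.pos β : 0 < X.1.card)
        refine ⟨⟨⟨MulAction.stabilizer G X, hX⟩, (x⁻¹ : G)⟩, Subtype.ext (Finset.eq_of_subset_of_card_le ?_ ?_)⟩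
        · intro y hy
          rw [hmem, QuotientGroup.eq, inv_inv] at hy
          have h1 : (y * x⁻¹) • X = X := hy
          have h2 : (y * x⁻¹) • x ∈ X.1 := by
            rw [← congrArg Subtype.val h1, hsmul]
            exact Finset.smul_mem_smul_finset hx
          simpa using h2
        · rw [X.2, (f _).2]
    rw [show Nat.card {X : K // good X} = Nat.card (Set.range f) by rw [hrange]; rfl,
      Nat.card_range_of_injective hinj, Nat.card_sigma, Finset.sum_congr rfl fun H _ => hidx H,
      Finset.sum_const, smul_eq_mul, Finset.card_univ, Nat.card_eq_fintype_card]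
  -- the other orbits have length divisible by `p m`
  have hbad : p * m ∣ Nat.card {X : K // ¬ good X} := by
    have hinv : ∀ (g : G) (X : K), good (g • X) ↔ good X := by
      intro g X
      show Nat.card _ = _ ↔ Nat.card _ = _
      rw [MulAction.stabilizer_smul_eq_stabilizer_map_conj,
        ← Nat.card_congr (Subgroup.equivMapOfInjective _ _ (MulAut.conj g).injective).toEquiv]
    letI : MulAction G {X : K // ¬ good X} :=
      { smul := fun g X => ⟨g • X.1, fun h => X.2 ((hinv g X.1).1 h)⟩
        one_smul := fun X => Subtype.ext (one_smul G X.1)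
        mul_smul := fun g h X => Subtype.ext (mul_smul g h X.1) }
    rw [Nat.card_congr (MulAction.selfEquivSigmaOrbits G {X : K // ¬ good X}), Nat.card_sigma]
    refine Finset.dvd_sum fun o _ => ?_
    obtain ⟨X, rfl⟩ := Quotient.exists_rep o
    obtain ⟨Y, hY⟩ : ∃ Y, Quotient.out (Quotient.mk (MulAction.orbitRel G {X : K // ¬ good X}) X) = Y := ⟨_, rfl⟩
    rw [hY]
    have hst : MulAction.stabilizer G Y = MulAction.stabilizer G Y.1 := by
      ext g
      exact ⟨fun h => congrArg Subtype.val h, fun h => Subtype.ext h⟩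
    obtain ⟨i, hi, hiY⟩ := (Nat.dvd_prime_pow hp.out).1 (hdvd Y.1)
    have hib : i < β := lt_of_le_of_ne hi fun h => Y.2 (by show Nat.card _ = _; rw [hiY, h])
    have e := (MulAction.stabilizer G Y).card_mul_index
    rw [MulAction.index_stabilizer, hst, hiY, hG] at e
    have e2 : p ^ i * (MulAction.orbit G Y).ncard = p ^ i * (p ^ (β - i) * m) := by
      rw [e, ← mul_assoc, ← pow_add, Nat.add_sub_cancel' hi]
    rw [Nat.card_coe_set_eq, Nat.eq_of_mul_eq_mul_left (pow_pos hp.out.pos _) e2]
    exact mul_dvd_mul_right (dvd_pow_self p (by omega)) m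
  have hsplit : Nat.card K = Nat.card {X : K // good X} + Nat.card {X : K // ¬ good X} := by
    rw [← Nat.card_sum, Nat.card_congr (Equiv.sumCompl good)]
  rw [← hKcard, hsplit, hgood]
  conv_rhs => rw [← add_zero (Nat.card {H : Subgroup G // Nat.card H = p ^ β} * m)]
  exact Nat.ModEq.add_left _ (Nat.modEq_zero_iff_dvd.2 hbad)

/-- The number of subgroups of order `p ^ β` is `1` modulo `p`. -/
theorem card_subgroups_modEq_one (p β : ℕ) [hp : Fact p.Prime] (hdiv : p ^ β ∣ Nat.card G) :
    Nat.card {H : Subgroup G // Nat.card H = p ^ β} ≡ 1 [MOD p] := by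
  obtain ⟨m, hm⟩ := hdiv
  have hm0 : m ≠ 0 := fun h => by
    rw [h, mul_zero] at hm
    exact Nat.card_pos.ne' hm
  haveI : NeZero (Nat.card G) := ⟨Nat.card_pos.ne'⟩
  let C := Multiplicative (ZMod (Nat.card G))
  have hC : Nat.card C = p ^ β * m := by
    rw [← hm]
    exact (Nat.card_congr Multiplicative.toAdd).trans (Nat.card_zmod _)
  have h1 := count_mod p β m hm
  have h2 := count_mod (G := C) p β m hC
  have huniq : Nat.card {H : Subgroup C // Nat.card H = p ^ β} = 1 := by
    haveI : IsCyclic C := inferInstance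
    obtain ⟨H, hH⟩ := Sylow.exists_subgroup_card_pow_prime (G := C) p (n := β) ⟨m, hC⟩
    rw [Nat.card_eq_one_iff_unique]
    refine ⟨⟨fun a b => Subtype.ext ?_⟩, ⟨H, hH⟩⟩
    classical
    haveI := Fintype.ofFinite C
    let S : Finset C := Finset.univ.filter fun x => x ^ p ^ β = 1
    have hS : S.card ≤ p ^ β := IsCyclic.card_pow_eq_one_le (pow_pos hp.out.pos β)
    have key : ∀ A : Subgroup C, Nat.card A = p ^ β → ∀ x, x ∈ A ↔ x ∈ S := by
      intro A hA x
      have hsub : (Finset.univ.filter fun x => x ∈ A) ⊆ S := fun y hy => by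
        refine Finset.mem_filter.2 ⟨Finset.mem_univ _, ?_⟩
        have h := pow_card_eq_one' (x := (⟨y, (Finset.mem_filter.1 hy).2⟩ : A))
        rw [hA] at h
        exact (SubgroupClass.coe_pow (⟨y, (Finset.mem_filter.1 hy).2⟩ : A) (p ^ β)).symm.trans (congrArg Subtype.val h)
      have hcard : (Finset.univ.filter fun x => x ∈ A).card = p ^ β := by
        rw [← Nat.card_eq_finsetCard, Nat.card_congr (Equiv.subtypeEquivRight fun x => (Finset.mem_filter.trans
          (and_iff_right (Finset.mem_univ x))))]
        exact hA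
      rw [← Finset.eq_of_subset_of_card_le hsub (by rw [hcard]; exact hS)]
      simp
    exact SetLike.ext fun x => (key a.1 a.2 x).trans (key b.1 b.2 x).symm
  rw [huniq, one_mul, show Nat.card C = Nat.card G by rw [hC, hm]] at h2
  have h3 := h1.symm.trans h2
  exact Nat.ModEq.mul_right_cancel' hm0 (by rwa [one_mul])

end Cfsg.Agent.Struct.SubgroupCount
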