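import Cfsg.Agent.Lib.Classical.Linear

/-!
Sylow subgroups of `GL(n,q)` for primes larger than `n` and prime to `q`.
-/

set_option autoImplicit false
set_option linter.style.haveILetI false

namespace Cfsg.Agent.Struct.SylowLargePrime

open Polynomial Matrix

variable {r q : ℕ} [hr : Fact r.Prime]

theorem dvd_pow_sub_one_iff (hq : 0 < q) (j : ℕ) : r ∣ q ^ j - 1 ↔ orderOf (q : ZMod r) ∣ j := by
  rw [← ZMod.natCast_eq_zero_iff, Nat.cast_sub (Nat.one_le_pow _ _ hq), Nat.cast_pow, Nat.cast_one, sub_eq_zero,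
    orderOf_dvd_iff_pow_eq_one]

theorem order_pos (hrq : ¬ r ∣ q) : 0 < orderOf (q : ZMod r) := by
  have h : (q : ZMod r) ≠ 0 := fun h => hrq ((ZMod.natCast_eq_zero_iff _ _).1 h)
  exact Nat.pos_of_dvd_of_pos (orderOf_dvd_of_pow_eq_one (ZMod.pow_card_sub_one_eq_one h)) (by have := hr.out.two_le; omega)

theorem val_cyclotomic (hq : 1 < q) (hrq : ¬ r ∣ q) :
    padicValNat r ((cyclotomic (orderOf (q : ZMod r)) ℤ).eval (q : ℤ)).natAbs =
      padicValNat r (q ^ orderOf (q : ZMod r) - 1) := by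
  set i := orderOf (q : ZMod r) with hi
  have hi0 : 0 < i := order_pos hrq
  have hz : ((q ^ i - 1 : ℕ) : ℤ) = (q : ℤ) ^ i - 1 := by
    rw [Nat.cast_sub (Nat.one_le_pow _ _ (by omega)), Nat.cast_pow, Nat.cast_one]
  have hprod := congrArg (Polynomial.eval (q : ℤ)) (prod_cyclotomic_eq_X_pow_sub_one hi0 ℤ)
  rw [eval_prod, eval_sub, eval_pow, eval_X, eval_one, ← hz, ← Nat.cons_self_properDivisors hi0.ne',
    Finset.prod_cons] at hprod
  have hN : q ^ i - 1 = ((cyclotomic i ℤ).eval (q : ℤ)).natAbs *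
      (∏ d ∈ i.properDivisors, (cyclotomic d ℤ).eval (q : ℤ)).natAbs := by
    rw [← Int.natAbs_mul, hprod, Int.natAbs_natCast]
  have hN0 : q ^ i - 1 ≠ 0 := (Nat.sub_pos_of_lt (Nat.one_lt_pow hi0.ne' hq)).ne'
  have hR : ¬ r ∣ (∏ d ∈ i.properDivisors, (cyclotomic d ℤ).eval (q : ℤ)).natAbs := by
    intro h
    rw [← Int.natCast_dvd] at h
    obtain ⟨d, hd, hdr⟩ := (Nat.prime_iff_prime_int.1 hr.out).exists_mem_finset_dvd h
    rw [Nat.mem_properDivisors] at hd
    have hd0 : 0 < d := Nat.pos_of_dvd_of_pos hd.1 hi0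
    have h1 : (cyclotomic d ℤ).eval (q : ℤ) ∣ (q : ℤ) ^ d - 1 := by
      have := eval_dvd (x := (q : ℤ)) (cyclotomic.dvd_X_pow_sub_one d ℤ)
      simpa using this
    have h2 : (r : ℤ) ∣ ((q ^ d - 1 : ℕ) : ℤ) := by
      rw [Nat.cast_sub (Nat.one_le_pow _ _ (by omega)), Nat.cast_pow, Nat.cast_one]
      exact hdr.trans h1
    have h3 := Nat.le_of_dvd hd0 ((dvd_pow_sub_one_iff (by omega) d).1 (Int.natCast_dvd_natCast.1 h2))
    omega
  rw [hN]
  rw [hN] at hN0
  rw [padicValNat.mul (left_ne_zero_of_mul hN0) (right_ne_zero_of_mul hN0),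
    padicValNat.eq_zero_of_not_dvd hR, add_zero]

theorem val_pow_mul (hq : 1 < q) (hrq : ¬ r ∣ q) (s : ℕ) (hs : ¬ r ∣ s) :
    padicValNat r (q ^ (orderOf (q : ZMod r) * s) - 1) = padicValNat r (q ^ orderOf (q : ZMod r) - 1) := by
  set i := orderOf (q : ZMod r) with hi
  have hi0 : 0 < i := order_pos hrq
  have hx : 1 < q ^ i := Nat.one_lt_pow hi0.ne' hq
  have hg : (∑ k ∈ Finset.range s, (q ^ i) ^ k) * (q ^ i - 1) = (q ^ i) ^ s - 1 := geom_sum_mul_of_one_le hx.le s
  have hS : ¬ r ∣ ∑ k ∈ Finset.range s, (q ^ i) ^ k := by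
    rw [← ZMod.natCast_eq_zero_iff, Nat.cast_sum]
    have h1 : (q : ZMod r) ^ i = 1 := pow_orderOf_eq_one _
    simp only [Nat.cast_pow, h1, one_pow, Finset.sum_const, Finset.card_range, nsmul_one]
    rwa [ZMod.natCast_eq_zero_iff]
  rw [pow_mul, ← hg, padicValNat.mul (fun h => hS (by rw [h]; exact dvd_zero r)) (Nat.sub_pos_of_lt hx).ne',
    padicValNat.eq_zero_of_not_dvd hS, zero_add]

variable {F : Type*} [Field F] [Fintype F]

theorem factorization_card_GL (hq : Fintype.card F = q) (hrq : ¬ r ∣ q) {n : ℕ}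
    (hn : n / orderOf (q : ZMod r) < r) :
    (Nat.card (GL (Fin n) F)).factorization r =
      n / orderOf (q : ZMod r) * padicValNat r (q ^ orderOf (q : ZMod r) - 1) := by
  have hq1 : 1 < q := hq ▸ Fintype.one_lt_card
  set i := orderOf (q : ZMod r) with hi
  have hterm : ∀ j : Fin n, (q ^ n - q ^ (j : ℕ)).factorization r =
      if i ∣ n - j then padicValNat r (q ^ i - 1) else 0 := by
    intro j
    have hj := j.isLt
    have e : q ^ n - q ^ (j : ℕ) = q ^ (j : ℕ) * (q ^ (n - j) - 1) := by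
      rw [Nat.mul_sub, ← pow_add, mul_one]; congr 2; omega
    rw [Nat.factorization_def _ hr.out, e, padicValNat.mul (pow_ne_zero _ (by omega))
      (Nat.sub_pos_of_lt (Nat.one_lt_pow (by omega) hq1)).ne',
      padicValNat.eq_zero_of_not_dvd (fun h => hrq (hr.out.dvd_of_dvd_pow h)), zero_add]
    split_ifs with h
    · obtain ⟨s, hs⟩ := h
      rw [hs]
      refine val_pow_mul hq1 hrq s fun hrs => ?_
      have h1 : 0 < s := Nat.pos_of_ne_zero fun h0 => by rw [h0, mul_zero] at hs; omega
      have h2 := Nat.le_of_dvd h1 hrs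
      have h3 : i * r ≤ n := (Nat.mul_le_mul_left i h2).trans (by omega)
      have h4 : r ≤ n / i := (Nat.le_div_iff_mul_le (order_pos hrq)).2 (by rw [mul_comm]; exact h3)
      omega
    · exact padicValNat.eq_zero_of_not_dvd fun h' => h ((dvd_pow_sub_one_iff (by omega) _).1 h')
  rw [Matrix.card_GL_field, hq, Nat.factorization_prod_apply fun j _ =>
    (Nat.sub_pos_of_lt (Nat.pow_lt_pow_right hq1 j.isLt)).ne']
  rw [Finset.sum_congr rfl fun j _ => hterm j, ← Finset.sum_filter, Finset.sum_const, smul_eq_mul]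
  congr 1
  rw [← Nat.Ioc_filter_dvd_card_eq_div n i]
  refine Finset.card_bij (fun j _ => n - (j : ℕ)) ?_ ?_ ?_
  · intro j hj
    simp only [Finset.mem_filter, Finset.mem_univ, true_and] at hj
    simp only [Finset.mem_filter, Finset.mem_Ioc]
    have := j.isLt
    exact ⟨⟨by omega, by omega⟩, hj⟩
  · intro a _ b _ h
    have := a.isLt; have := b.isLt
    exact Fin.ext (by omega)
  · intro x hx
    simp only [Finset.mem_filter, Finset.mem_Ioc] at hx
    refine ⟨⟨n - x, by omega⟩, ?_, by show n - (n - x) = x; omega⟩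
    simp only [Finset.mem_filter, Finset.mem_univ, true_and]
    rw [show n - (n - x) = x by omega]
    exact hx.2

/-- An element of order the full `r`-part in the smallest general linear group containing one. -/
theorem exists_block (hq : Fintype.card F = q) (hrq : ¬ r ∣ q) :
    ∃ c : GL (Fin (orderOf (q : ZMod r))) F,
      orderOf c = r ^ padicValNat r (q ^ orderOf (q : ZMod r) - 1) := by
  classical
  obtain ⟨p, hp⟩ := CharP.exists F
  haveI := hp
  haveI : Fact p.Prime := ⟨CharP.char_is_prime F p⟩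
  obtain ⟨⟨f, hf⟩, -, hqf⟩ := FiniteField.card F p
  simp only [PNat.mk_coe] at hqf
  have hco : p.Coprime r := (Nat.coprime_primes Fact.out hr.out).2 fun e => hrq (by
    rw [← hq, hqf, e]; exact dvd_pow_self r hf.ne')
  set i := orderOf (q : ZMod r) with hi
  obtain ⟨g, hgm, hgi, hgd⟩ : ∃ g : F[X], g.Monic ∧ Irreducible g ∧ g ∣ cyclotomic r F := by
    have hd : 0 < (cyclotomic r F).natDegree := by
      rw [natDegree_cyclotomic, Nat.totient_prime hr.out]; have := hr.out.two_le; omega
    obtain ⟨g, hgm, hgi, hgd⟩ := Polynomial.exists_monic_irreducible_factor (cyclotomic r F)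
      (fun h => by have := natDegree_eq_zero_of_isUnit h; omega)
    exact ⟨g, hgm, hgi, hgd⟩
  have hdeg : g.natDegree = i := by
    rw [natDegree_of_dvd_cyclotomic_of_irreducible hqf hco hgd hgi, ← orderOf_units, ZMod.coe_unitOfCoprime, hi,
      ← hq, hqf]
  haveI : Fact (Irreducible g) := ⟨hgi⟩
  let pB := AdjoinRoot.powerBasis hgm.ne_zero
  haveI : FiniteDimensional F (AdjoinRoot g) := pB.finite
  haveI : Finite (AdjoinRoot g) := Module.finite_of_finite F
  haveI : Fintype (AdjoinRoot g) := Fintype.ofFinite _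
  have hcard : Nat.card (AdjoinRoot g)ˣ = q ^ i - 1 := by
    rw [Nat.card_units, Nat.card_eq_fintype_card, Module.card_eq_pow_finrank (K := F), hq, pB.finrank,
      AdjoinRoot.powerBasis_dim, hdeg]
  obtain ⟨z, hz⟩ := (isCyclic_iff_exists_orderOf_eq_natCard (α := (AdjoinRoot g)ˣ)).1 inferInstance
  have hd : r ^ padicValNat r (q ^ i - 1) ∣ orderOf z := by rw [hz, hcard]; exact pow_padicValNat_dvd
  have hz' := orderOf_pow_orderOf_div (orderOf_pos z).ne' hd
  let ψ : AdjoinRoot g →ₐ[F] Matrix (Fin i) (Fin i) F :=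
    (Matrix.reindexAlgEquiv F F (finCongr ((AdjoinRoot.powerBasis_dim hgm.ne_zero).trans hdeg))).toAlgHom.comp
      (Algebra.leftMulMatrix pB.basis)
  have hψ : Function.Injective ψ := fun x y h => Algebra.leftMulMatrix_injective pB.basis
    ((Matrix.reindexAlgEquiv F F _).injective h)
  refine ⟨Units.map ψ.toRingHom.toMonoidHom (z ^ (orderOf z / r ^ padicValNat r (q ^ i - 1))), ?_⟩
  rw [orderOf_injective _ (Units.map_injective (f := ψ.toRingHom.toMonoidHom) hψ), hz']

/-- The homocyclic `r`-subgroup of block diagonal matrices. -/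
theorem exists_hom (hq : Fintype.card F = q) (hrq : ¬ r ∣ q) (n : ℕ) :
    ∃ f : (Fin (n / orderOf (q : ZMod r)) →
        Multiplicative (ZMod (r ^ padicValNat r (q ^ orderOf (q : ZMod r) - 1)))) →* GL (Fin n) F,
      Function.Injective f := by
  classical
  set i := orderOf (q : ZMod r) with hi
  set N := r ^ padicValNat r (q ^ i - 1) with hN
  obtain ⟨c, hc⟩ := exists_block (r := r) hq hrq
  haveI : NeZero N := ⟨pow_ne_zero _ hr.out.ne_zero⟩
  let u : Multiplicative (ZMod N) ≃* Subgroup.zpowers c :=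
    mulEquivOfCyclicCardEq (by rw [Nat.card_zpowers, hc, Nat.card_congr Multiplicative.toAdd, Nat.card_zmod])
  let v : Multiplicative (ZMod N) →* Matrix (Fin i) (Fin i) F :=
    (Units.coeHom _).comp ((Subgroup.zpowers c).subtype.comp u.toMonoidHom)
  have hv : Function.Injective v := fun a b h =>
    u.injective (Subtype.ext (Units.ext h))
  set m := n / i with hm
  have e : (Fin i × Fin m) ⊕ Fin (n - m * i) ≃ Fin n :=
    (Equiv.sumCongr finProdFinEquiv (Equiv.refl _)).trans (finSumFinEquiv.trans (finCongr (by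
      have := Nat.div_mul_le_self n i
      rw [← hm] at this
      rw [mul_comm i m]; omega)))
  let B : (Fin m → Multiplicative (ZMod N)) →* Matrix (Fin n) (Fin n) F :=
    { toFun := fun w => Matrix.reindexAlgEquiv F F e
        (Matrix.fromBlocks (Matrix.blockDiagonal fun k => v (w k)) 0 0 1)
      map_one' := by
        have h1 : (fun k : Fin m => v ((1 : Fin m → Multiplicative (ZMod N)) k)) = 1 := funext fun k => map_one v
        simp only [h1, Matrix.blockDiagonal_one, Matrix.fromBlocks_one, map_one]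
      map_mul' := fun a b => by
        rw [← map_mul, Matrix.fromBlocks_multiply]
        simp only [Matrix.mul_zero, Matrix.zero_mul, add_zero, zero_add, Matrix.one_mul]
        rw [← Matrix.blockDiagonal_mul]
        simp only [Pi.mul_apply, map_mul] }
  have hB : Function.Injective B := fun a b h => by
    have h1 := (Matrix.fromBlocks_inj.1 ((Matrix.reindexAlgEquiv F F e).injective h)).1
    exact funext fun k => hv (congrFun (Matrix.blockDiagonal_injective h1) k)
  exact ⟨B.toHomUnits, fun a b h => hB (congrArg Units.val h)⟩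

/-- The structure of a Sylow `r`-subgroup of `GL(n,q)`, `r > n`, `r ∤ q`. -/
theorem sylow_equiv (hq : Fintype.card F = q) (hrq : ¬ r ∣ q) {n : ℕ} (hn : n / orderOf (q : ZMod r) < r)
    (P : Sylow r (GL (Fin n) F)) :
    Nonempty (↥(P : Subgroup (GL (Fin n) F)) ≃* (Fin (n / orderOf (q : ZMod r)) →
        Multiplicative (ZMod (r ^ padicValNat r ((cyclotomic (orderOf (q : ZMod r)) ℤ).eval (q : ℤ)).natAbs)))) := by
  classical
  rw [val_cyclotomic (hq ▸ Fintype.one_lt_card) hrq]
  obtain ⟨f, hf⟩ := exists_hom (r := r) hq hrq n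
  have hcard : Nat.card f.range = r ^ (Nat.card (GL (Fin n) F)).factorization r := by
    rw [← Nat.card_congr (MonoidHom.ofInjective hf).toEquiv, Nat.card_fun, Nat.card_congr Multiplicative.toAdd,
      Nat.card_zmod, Nat.card_fin, ← pow_mul, factorization_card_GL hq hrq hn, mul_comm]
  exact ⟨(P.equiv (Sylow.ofCard f.range hcard)).trans (MonoidHom.ofInjective hf).symm⟩

end Cfsg.Agent.Struct.SylowLargePrime
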