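import Mathlib

/-!
Sylow 2-subgroups of the symmetric groups are self-normalizing, and for degree at least 6 so are those of the
alternating groups: the pairs of the wreath product are the fixed point sets of point stabilizers.
-/

set_option autoImplicit false

namespace Cfsg.Agent.Struct.SymSylowTwo

open Equiv

variable {β : Type*}

/-- The signed permutation `(f, σ)` of `β × Bool`. -/
def mk (f : β → Bool) (σ : Perm β) : Perm (β × Bool) where
  toFun x := (σ x.1, xor (f x.1) x.2)
  invFun x := (σ.symm x.1, xor (f (σ.symm x.1)) x.2)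
  left_inv x := by obtain ⟨b, e⟩ := x; simp
  right_inv x := by obtain ⟨b, e⟩ := x; simp

@[simp] theorem mk_apply (f : β → Bool) (σ : Perm β) (x : β × Bool) : mk f σ x = (σ x.1, xor (f x.1) x.2) := rfl

theorem mk_mul (f g : β → Bool) (σ ρ : Perm β) :
    mk f σ * mk g ρ = mk (fun b => xor (f (ρ b)) (g b)) (σ * ρ) := by
  refine Equiv.ext fun ⟨b, e⟩ => ?_
  simp [Bool.xor_assoc]

theorem mk_one : mk (fun _ : β => false) 1 = 1 := by
  refine Equiv.ext fun ⟨b, e⟩ => ?_
  simp

theorem mk_inj {f g : β → Bool} {σ ρ : Perm β} (h : mk f σ = mk g ρ) : f = g ∧ σ = ρ := by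
  have h1 : ∀ b, σ b = ρ b ∧ f b = g b := fun b => by
    have := congrArg (fun p : Perm (β × Bool) => p (b, false)) h
    simpa using this
  exact ⟨funext fun b => (h1 b).2, Equiv.ext fun b => (h1 b).1⟩

/-- The wreath product of a group of order two with `P₀`. -/
def wreath (P₀ : Subgroup (Perm β)) : Subgroup (Perm (β × Bool)) where
  carrier := {c | ∃ (f : β → Bool) (σ : Perm β), σ ∈ P₀ ∧ c = mk f σ}
  one_mem' := ⟨_, 1, P₀.one_mem, mk_one.symm⟩
  mul_mem' := by
    rintro _ _ ⟨f, σ, hσ, rfl⟩ ⟨g, ρ, hρ, rfl⟩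
    exact ⟨_, _, P₀.mul_mem hσ hρ, mk_mul f g σ ρ⟩
  inv_mem' := by
    rintro _ ⟨f, σ, hσ, rfl⟩
    refine ⟨fun b => f (σ⁻¹ b), σ⁻¹, P₀.inv_mem hσ, inv_eq_of_mul_eq_one_right ?_⟩
    rw [mk_mul, mul_inv_cancel, ← mk_one]
    congr 1
    funext b
    simp

theorem card_wreath [Finite β] (P₀ : Subgroup (Perm β)) :
    Nat.card (wreath P₀) = 2 ^ Nat.card β * Nat.card P₀ := by
  classical
  haveI := Fintype.ofFinite β
  let φ : (β → Bool) × P₀ → wreath P₀ := fun x => ⟨mk x.1 x.2, x.1, x.2, x.2.2, rfl⟩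
  have hφ : Function.Bijective φ := by
    refine ⟨fun x y h => ?_, ?_⟩
    · obtain ⟨h1, h2⟩ := mk_inj (congrArg Subtype.val h)
      exact Prod.ext h1 (Subtype.ext h2)
    · rintro ⟨_, f, σ, hσ, rfl⟩
      exact ⟨(f, ⟨σ, hσ⟩), rfl⟩
  rw [← Nat.card_eq_of_bijective φ hφ, Nat.card_prod, Nat.card_fun, Nat.card_eq_fintype_card (α := Bool),
    Fintype.card_bool]

variable [DecidableEq β] [Fintype β]

/-- The flip of one pair. -/
def flip (b : β) : Perm (β × Bool) := mk (fun x => decide (x = b)) 1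

theorem flip_mem (P₀ : Subgroup (Perm β)) (b : β) : flip b ∈ wreath P₀ := ⟨_, 1, P₀.one_mem, rfl⟩

theorem flip_eq_swap (b : β) : flip b = Equiv.swap (b, false) (b, true) := by
  refine Equiv.ext fun ⟨x, e⟩ => ?_
  rcases eq_or_ne x b with rfl | hx
  · cases e <;> simp [flip]
  · rw [Equiv.swap_apply_of_ne_of_ne (by simp [hx]) (by simp [hx])]
    simp [flip, hx]

theorem sign_flip (b : β) : Perm.sign (flip b) = -1 := by
  rw [flip_eq_swap, Perm.sign_swap (by simp)]

theorem sign_mk_false (σ : Perm β) : Perm.sign (mk (fun _ => false) σ) = 1 := by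
  have h : mk (fun _ => false) σ = Equiv.prodCongrLeft fun _ : Bool => σ := by
    refine Equiv.ext fun ⟨b, e⟩ => ?_
    simp
  rw [h, Perm.sign_prodCongrLeft]
  simp

/-- What is needed of a subgroup `S` of the wreath product. -/
structure Rich (P₀ : Subgroup (Perm β)) (S : Subgroup (Perm (β × Bool))) : Prop where
  le : S ≤ wreath P₀
  move : ∀ b b' : β, b' ≠ b → ∃ f : β → Bool, mk f 1 ∈ S ∧ f b = false ∧ f b' = true
  lift : ∀ σ ∈ P₀, mk (fun _ => false) σ ∈ S

theorem rich_wreath (P₀ : Subgroup (Perm β)) : Rich P₀ (wreath P₀) where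
  le := le_rfl
  move b b' h := ⟨fun x => decide (x = b'), flip_mem P₀ b', by simpa using h.symm, by simp⟩
  lift σ hσ := ⟨_, σ, hσ, rfl⟩

theorem rich_even (P₀ : Subgroup (Perm β)) (hm : 3 ≤ Fintype.card β) :
    Rich P₀ (wreath P₀ ⊓ alternatingGroup (β × Bool)) where
  le := inf_le_left
  move b b' h := by
    obtain ⟨c, -, hc⟩ := Finset.exists_mem_notMem_of_card_lt_card (s := ({b, b'} : Finset β)) (t := Finset.univ) (by
      refine lt_of_le_of_lt Finset.card_le_two ?_
      rw [Finset.card_univ]; omega)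
    simp only [Finset.mem_insert, Finset.mem_singleton, not_or] at hc
    refine ⟨fun x => xor (decide (x = b')) (decide (x = c)), ?_, ?_, ?_⟩
    · have he : mk (fun x => xor (decide (x = b')) (decide (x = c))) 1 = flip b' * flip c := by
        rw [flip, flip, mk_mul, mul_one]
        rfl
      rw [he]
      refine ⟨Subgroup.mul_mem _ (flip_mem P₀ b') (flip_mem P₀ c), ?_⟩
      show Perm.sign (flip b' * flip c) = 1
      rw [map_mul, sign_flip, sign_flip]
      rfl
    · simp [h.symm, Ne.symm hc.1]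
    · simp [Ne.symm hc.2]
  lift σ hσ := ⟨⟨_, σ, hσ, rfl⟩, sign_mk_false σ⟩

/-- The main step: a normalizer of a rich subgroup preserves the pairs. -/
theorem mem_wreath {P₀ : Subgroup (Perm β)} (h₀ : ∀ σ ∈ Subgroup.normalizer (P₀ : Set (Perm β)), σ ∈ P₀)
    {S : Subgroup (Perm (β × Bool))} (hS : Rich P₀ S) {g : Perm (β × Bool)}
    (hg : g ∈ Subgroup.normalizer (S : Set (Perm (β × Bool)))) : g ∈ wreath P₀ := by
  rw [Subgroup.mem_normalizer_iff] at hg
  have key : ∀ b, g (b, true) = ((g (b, false)).1, !(g (b, false)).2) := by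
    intro b
    rcases hgt : g (b, true) with ⟨c', e'⟩
    rcases hgf : g (b, false) with ⟨c, e⟩
    have hcc : c' = c := by
      by_contra hne
      obtain ⟨f, hf, hfc, hfc'⟩ := hS.move c c' hne
      have h2 : g⁻¹ * mk f 1 * g ∈ S := by
        rw [hg, show g * (g⁻¹ * mk f 1 * g) * g⁻¹ = mk f 1 by group]
        exact hf
      obtain ⟨u, ρ, -, hu⟩ := hS.le h2
      have e1 := congrArg (fun p : Perm (β × Bool) => p (b, false)) hu
      have e2 := congrArg (fun p : Perm (β × Bool) => p (b, true)) hu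
      simp only [Perm.mul_apply, mk_apply, hgf, hgt, hfc, hfc', Perm.one_apply, Bool.false_xor, Bool.true_xor] at e1 e2
      rw [← hgf, Perm.inv_def, Equiv.symm_apply_apply] at e1
      simp only [Prod.mk.injEq] at e1
      rw [← e1.1, show u b = false by simpa using e1.2.symm, Bool.false_xor, Perm.inv_eq_iff_eq, hgt] at e2
      simp at e2
    subst hcc
    have : e' ≠ e := fun h => by
      subst h
      exact absurd (g.injective (hgt.trans hgf.symm)) (by simp)
    simp only [Prod.mk.injEq, true_and]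
    cases e <;> cases e' <;> simp at this ⊢
  let s : β → β := fun b => (g (b, false)).1
  have hsurj : Function.Surjective s := fun c => by
    obtain ⟨⟨b, e⟩, he⟩ := g.surjective (c, false)
    refine ⟨b, ?_⟩
    cases e
    · simp [s, he]
    · rw [key] at he
      exact (Prod.mk.injEq _ _ _ _ ▸ he).1
  let σ : Perm β := Equiv.ofBijective s (Finite.injective_iff_surjective.2 hsurj |>.bijective_of_finite)
  let f : β → Bool := fun b => (g (b, false)).2
  have hge : g = mk f σ := by
    refine Equiv.ext fun ⟨b, e⟩ => ?_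
    cases e
    · simp [σ, s, f]
    · rw [key]
      simp [σ, s, f]
  refine ⟨f, σ, h₀ σ ?_, hge⟩
  refine Subgroup.mem_normalizer_fintype fun ρ hρ => ?_
  obtain ⟨u, ρ', hρ', hu⟩ := hS.le ((hg _).1 (hS.lift ρ hρ))
  rw [mul_inv_eq_iff_eq_mul, hge, mk_mul, mk_mul] at hu
  have h2 := (mk_inj hu).2
  show σ * ρ * σ⁻¹ ∈ P₀
  rwa [h2, mul_inv_cancel_right]

/-- The extension by a fixed point. -/
def opt : Perm (β × Bool) →* Perm (Option (β × Bool)) where
  toFun := Equiv.optionCongr
  map_one' := Equiv.optionCongr_refl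
  map_mul' p q := Equiv.ext fun x => by cases x <;> simp

theorem opt_injective : Function.Injective (opt (β := β)) := fun _ _ h => Equiv.optionCongr_injective h

theorem mem_opt {P₀ : Subgroup (Perm β)} (h₀ : ∀ σ ∈ Subgroup.normalizer (P₀ : Set (Perm β)), σ ∈ P₀)
    {S : Subgroup (Perm (β × Bool))} (hS : Rich P₀ S) (hm : 2 ≤ Fintype.card β ∨ S = wreath P₀)
    {g : Perm (Option (β × Bool))}
    (hg : g ∈ Subgroup.normalizer ((S.map opt : Subgroup _) : Set (Perm (Option (β × Bool))))) :
    g ∈ (wreath P₀).map opt := by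
  classical
  rw [Subgroup.mem_normalizer_iff] at hg
  have hmove : ∀ x : β × Bool, ∃ s ∈ S, s x ≠ x := by
    rintro ⟨b, e⟩
    rcases hm with hm | rfl
    · obtain ⟨b₀, hb₀⟩ := Fintype.exists_ne_of_one_lt_card (by omega) b
      obtain ⟨f, hf, -, hfb⟩ := hS.move b₀ b hb₀.symm
      exact ⟨_, hf, by simp [hfb]⟩
    · exact ⟨_, flip_mem P₀ b, by simp [flip]⟩
  have hnone : g none = none := by
    by_contra hne
    obtain ⟨x, hx⟩ := Option.ne_none_iff_exists'.1 hne
    obtain ⟨s, hs, hsx⟩ := hmove x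
    obtain ⟨t, -, ht⟩ := Subgroup.mem_map.1 (((hg (g⁻¹ * opt s * g)).2 (by
      rw [show g * (g⁻¹ * opt s * g) * g⁻¹ = opt s by group]; exact Subgroup.mem_map_of_mem _ hs)))
    have e := congrArg (fun p : Perm (Option (β × Bool)) => p none) ht
    simp only [Perm.mul_apply, hx] at e
    have e' := congrArg g e
    rw [show g ((opt t) none) = g none by simp [opt], hx, ← Perm.mul_apply, mul_inv_cancel, Perm.one_apply] at e'
    simp [opt] at e'
    exact hsx e'.symm
  have hge : g = opt (Equiv.removeNone g) := by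
    refine Equiv.ext fun x => ?_
    cases x with
    | none => simpa [opt] using hnone
    | some x =>
      have h1 : g (some x) ≠ none := fun h => by simpa using g.injective (h.trans hnone.symm)
      obtain ⟨y, hy⟩ := Option.ne_none_iff_exists'.1 h1
      show g (some x) = some (Equiv.removeNone g x)
      exact (Equiv.removeNone_some g ⟨y, hy⟩).symm
  rw [hge]
  refine Subgroup.mem_map_of_mem _ (mem_wreath h₀ hS (Subgroup.mem_normalizer_iff.2 fun s => ?_))
  have h := hg (opt s)
  rw [hge, ← map_inv, ← map_mul, ← map_mul] at h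
  exact ((Subgroup.mem_map_iff_mem opt_injective).symm.trans h).trans (Subgroup.mem_map_iff_mem opt_injective)

/-- Self-normalization of `P` and, from degree six on, of its even part. -/
def Good {α : Type*} [DecidableEq α] [Fintype α] (P : Subgroup (Perm α)) : Prop :=
  (∀ g ∈ Subgroup.normalizer (P : Set (Perm α)), g ∈ P) ∧
    (6 ≤ Fintype.card α → ∀ g ∈ Subgroup.normalizer ((P ⊓ alternatingGroup α : Subgroup _) : Set (Perm α)), g ∈ P)

theorem good_wreath {P₀ : Subgroup (Perm β)} (h₀ : Good P₀) : Good (wreath P₀) := by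
  refine ⟨fun g hg => mem_wreath h₀.1 (rich_wreath P₀) hg, fun hc g hg => mem_wreath h₀.1 (rich_even P₀ ?_) hg⟩
  rw [Fintype.card_prod, Fintype.card_bool] at hc
  omega

theorem good_opt {P₀ : Subgroup (Perm β)} (h₀ : Good P₀) : Good ((wreath P₀).map opt) := by
  refine ⟨fun g hg => mem_opt h₀.1 (rich_wreath P₀) (Or.inr rfl) hg, fun hc g hg => ?_⟩
  rw [Fintype.card_option, Fintype.card_prod, Fintype.card_bool] at hc
  refine mem_opt h₀.1 (rich_even P₀ (by omega)) (Or.inl (by omega)) ?_
  convert hg using 3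
  ext p
  simp only [Subgroup.mem_map, Subgroup.mem_inf, Perm.mem_alternatingGroup]
  constructor
  · rintro ⟨q, ⟨hq, hq'⟩, rfl⟩
    exact ⟨⟨q, hq, rfl⟩, by rw [show opt q = Equiv.optionCongr q from rfl, Equiv.optionCongr_sign]; exact hq'⟩
  · rintro ⟨⟨q, hq, rfl⟩, hp⟩
    rw [show opt q = Equiv.optionCongr q from rfl, Equiv.optionCongr_sign] at hp
    exact ⟨q, ⟨hq, hp⟩, rfl⟩

/-- Transport along an isomorphism preserving the sign. -/
theorem good_transfer {α γ : Type*} [DecidableEq α] [Fintype α] [DecidableEq γ] [Fintype γ] (Φ : Perm α ≃* Perm γ)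
    (hcard : Fintype.card α = Fintype.card γ) (hsign : ∀ p, Perm.sign (Φ p) = Perm.sign p) {P : Subgroup (Perm α)}
    (hP : Good P) : Good (P.map Φ.toMonoidHom) := by
  have key : ∀ (H : Subgroup (Perm α)) (g : Perm γ),
      g ∈ Subgroup.normalizer ((H.map Φ.toMonoidHom : Subgroup _) : Set (Perm γ)) →
        Φ.symm g ∈ Subgroup.normalizer (H : Set (Perm α)) := by
    intro H g hg
    rw [Subgroup.mem_normalizer_iff] at hg ⊢
    intro h
    have h1 := hg (Φ h)
    rw [show g * Φ h * g⁻¹ = Φ (Φ.symm g * h * (Φ.symm g)⁻¹) by simp] at h1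
    exact ((Subgroup.mem_map_iff_mem Φ.injective).symm.trans h1).trans (Subgroup.mem_map_iff_mem Φ.injective)
  refine ⟨fun g hg => ?_, fun hc g hg => ?_⟩
  · exact ⟨_, hP.1 _ (key P g hg), Φ.apply_symm_apply g⟩
  · refine ⟨_, hP.2 (by omega) _ (key _ g ?_), Φ.apply_symm_apply g⟩
    convert hg using 3
    ext p
    simp only [Subgroup.mem_map, Subgroup.mem_inf, Perm.mem_alternatingGroup]
    constructor
    · rintro ⟨q, ⟨hq, hq'⟩, rfl⟩
      exact ⟨⟨q, hq, rfl⟩, (hsign q).trans hq'⟩
    · rintro ⟨⟨q, hq, rfl⟩, hp⟩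
      exact ⟨q, ⟨hq, (hsign q).symm.trans hp⟩, rfl⟩

theorem good_of_card {α : Type*} [DecidableEq α] [Fintype α] {n : ℕ} (e : α ≃ Fin n) (P₁ : Subgroup (Perm α))
    (hP₁ : Good P₁) (hc : Nat.card P₁ = 2 ^ (n.factorial).factorization 2) (P : Sylow 2 (Perm (Fin n))) :
    Good (P : Subgroup (Perm (Fin n))) := by
  have hc' : Nat.card (P₁.map e.permCongrHom.toMonoidHom) = 2 ^ (Nat.card (Perm (Fin n))).factorization 2 := by
    rw [Subgroup.card_map_of_injective e.permCongrHom.injective, hc, Nat.card_perm, Nat.card_fin]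
  obtain ⟨c, hcP⟩ := MulAction.exists_smul_eq (Perm (Fin n)) (Sylow.ofCard _ hc') P
  have h := good_transfer (e.permCongrHom.trans (MulAut.conj c))
    ((Fintype.card_congr e))
    (fun p => by
      rw [MulEquiv.trans_apply, MulAut.conj_apply, map_mul, map_mul, map_inv, mul_right_comm, mul_inv_cancel, one_mul]
      exact Perm.sign_permCongr e p) hP₁
  convert h using 1
  rw [← hcP]
  rw [Sylow.coe_subgroup_smul, Subgroup.pointwise_smul_def]
  exact Subgroup.map_map P₁ (MulAut.conj c).toMonoidHom e.permCongrHom.toMonoidHom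

/-- Sylow 2-subgroups of `Sym(n)` are self-normalizing, and so are their even parts for `n ≥ 6`. -/
theorem good_sylow : ∀ (n : ℕ) (P : Sylow 2 (Perm (Fin n))), Good (P : Subgroup (Perm (Fin n))) := by
  intro n
  induction n using Nat.strong_induction_on with
  | _ n ih =>
  intro P
  rcases Nat.lt_or_ge n 2 with hn | hn
  · haveI : Subsingleton (Perm (Fin n)) := by interval_cases n <;> infer_instance
    exact ⟨fun g _ => by rw [Subsingleton.elim g 1]; exact one_mem _, fun hc => by simp at hc; omega⟩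
  · haveI : Fact (Nat.Prime 2) := ⟨Nat.prime_two⟩
    obtain ⟨m, hm⟩ : ∃ m, n = 2 * m ∨ n = 2 * m + 1 := ⟨n / 2, by omega⟩
    obtain ⟨P₀⟩ : Nonempty (Sylow 2 (Perm (Fin m))) := inferInstance
    have h₀ := ih m (by omega) P₀
    have hc₀ : Nat.card (wreath (P₀ : Subgroup (Perm (Fin m)))) = 2 ^ ((2 * m).factorial).factorization 2 := by
      rw [card_wreath, Sylow.card_eq_multiplicity, Nat.card_perm, Nat.card_fin, ← pow_add,
        Nat.factorization_def _ Nat.prime_two, Nat.factorization_def _ Nat.prime_two, padicValNat_factorial_mul, add_comm]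
    rcases hm with rfl | rfl
    · exact good_of_card (Fintype.equivFinOfCardEq (by simp [mul_comm])) _ (good_wreath h₀) hc₀ P
    · refine good_of_card (Fintype.equivFinOfCardEq (by simp [mul_comm])) _ (good_opt h₀) ?_ P
      rw [Subgroup.card_map_of_injective opt_injective, hc₀, Nat.factorial_succ (2 * m),
        Nat.factorization_mul (by omega) (Nat.factorial_ne_zero _), Finsupp.add_apply,
        Nat.factorization_eq_zero_of_not_dvd (n := 2 * m + 1) (by omega), zero_add]

/-- Sylow 2-subgroups of `A_n`, `n ≥ 6`, are self-normalizing. -/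
theorem alt_self_normalizing {n : ℕ} (hn : 6 ≤ n) (R : Sylow 2 ↥(alternatingGroup (Fin n))) :
    ∀ g ∈ Subgroup.normalizer ((R : Subgroup ↥(alternatingGroup (Fin n))) : Set ↥(alternatingGroup (Fin n))),
      g ∈ (R : Subgroup ↥(alternatingGroup (Fin n))) := by
  haveI : Fact (Nat.Prime 2) := ⟨Nat.prime_two⟩
  intro g hg
  obtain ⟨P, hP⟩ := (R.2.map (alternatingGroup (Fin n)).subtype).exists_le_sylow
  have hR : (P : Subgroup (Perm (Fin n))).comap (alternatingGroup (Fin n)).subtype = R :=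
    R.3 (P.2.comap_of_injective _ Subtype.val_injective) (Subgroup.map_le_iff_le_comap.1 hP)
  rw [← hR]
  refine Subgroup.mem_comap.2 ((good_sylow n P).2 (by rw [Fintype.card_fin]; exact hn) _ ?_)
  rw [Subgroup.mem_normalizer_iff] at hg ⊢
  intro h
  constructor
  · rintro ⟨h1, h2⟩
    have h3 := (hg ⟨h, h2⟩).1 (by rw [← hR]; exact h1)
    rw [← hR] at h3
    exact ⟨h3, ((g * ⟨h, h2⟩ * g⁻¹ : ↥(alternatingGroup (Fin n)))).2⟩
  · rintro ⟨h1, h2⟩
    have h4 : h ∈ alternatingGroup (Fin n) := by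
      have := mul_mem (mul_mem (inv_mem g.2) h2) g.2
      simpa [mul_assoc] using this
    have h3 := (hg ⟨h, h4⟩).2 (by rw [← hR]; exact h1)
    rw [← hR] at h3
    exact ⟨h3, h4⟩

end Cfsg.Agent.Struct.SymSylowTwo
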