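import Mathlib
import Cfsg.Agent.Lib.Struct.HallHigmanCore

/-!
# Weights of an abelian group in a representation on which `S₃` is fixed point free

If `M` is abelian, `R` acts on `M` through an abelian group, both have order prime to `6` and `S₃`
acts fixed point freely on everything, then `R` fixes every weight of `M`.
-/

namespace Cfsg.Agent.Struct.SymThree

open Module

theorem mem_of_pow_mem {G : Type*} [Group G] [Finite G] (S : Subgroup G) {g : G} {n : ℕ}
    (hn : (Nat.card G).Coprime n) (h : g ^ n ∈ S) : g ∈ S := by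
  obtain ⟨a, b, hab⟩ := (Int.isCoprime_iff_gcd_eq_one.2 (by simpa [Int.gcd_natCast_natCast] using hn) :
    IsCoprime ((Nat.card G : ℤ)) (n : ℤ))
  have : g = (g ^ n) ^ b := by
    calc g = g ^ (a * (Nat.card G : ℤ) + b * n) := by rw [hab, zpow_one]
      _ = (g ^ n) ^ b := by
        rw [zpow_add, mul_comm a, zpow_mul, zpow_natCast, pow_card_eq_one', one_zpow, one_mul,
          mul_comm b, zpow_mul, zpow_natCast]
  rw [this]
  exact S.zpow_mem h b

/-- `{tⁱ, s tⁱ}` as a subgroup. -/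
def dihedralSub {L : Type*} [Group L] (s t : L) (hs : s * s = 1) (ht : t ^ 3 = 1)
    (hst : s * t * s = t⁻¹) : Subgroup L where
  carrier := {g | ∃ i : ℕ, g = t ^ i ∨ g = s * t ^ i}
  one_mem' := ⟨0, Or.inl (by simp)⟩
  mul_mem' := by
    have hts : ∀ i : ℕ, t ^ i * s = s * t ^ (2 * i) := by
      intro i
      induction i with
      | zero => simp
      | succ i ih =>
        have h1 : t * s = s * t ^ 2 := by
          have hinv : t⁻¹ = t ^ 2 := inv_eq_of_mul_eq_one_left (by rw [← pow_succ]; exact ht)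
          rw [← hinv, ← hst, mul_assoc s t s, ← mul_assoc s s, hs, one_mul]
        rw [pow_succ', mul_assoc, ih, ← mul_assoc, h1, mul_assoc, ← pow_add]
        ring_nf
    rintro _ _ ⟨i, rfl | rfl⟩ ⟨j, rfl | rfl⟩
    · exact ⟨i + j, Or.inl (pow_add t i j).symm⟩
    · exact ⟨2 * i + j, Or.inr (by rw [← mul_assoc, hts, mul_assoc, pow_add])⟩
    · exact ⟨i + j, Or.inr (by rw [mul_assoc, pow_add])⟩
    · exact ⟨2 * i + j, Or.inl (by rw [mul_assoc, ← mul_assoc (t ^ i), hts, mul_assoc, ← mul_assoc s s,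
        hs, one_mul, pow_add])⟩
  inv_mem' := by
    rintro _ ⟨i, rfl | rfl⟩
    · refine ⟨2 * i, Or.inl (inv_eq_of_mul_eq_one_left ?_)⟩
      rw [← pow_add, show 2 * i + i = 3 * i by ring, pow_mul, ht, one_pow]
    · refine ⟨i, Or.inr (inv_eq_of_mul_eq_one_left ?_)⟩
      have h1 : s * t ^ i * s = (t ^ i)⁻¹ := by
        have hsi : s⁻¹ = s := inv_eq_of_mul_eq_one_left hs
        calc s * t ^ i * s = s * t ^ i * s⁻¹ := by rw [hsi]
          _ = (s * t * s⁻¹) ^ i := (conj_pow ..).symm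
          _ = (t ^ i)⁻¹ := by rw [hsi, hst, inv_pow]
      rw [← mul_assoc, h1, inv_mul_cancel]

variable {k : Type*} [Field k] [IsAlgClosed k] {L : Type*} [Group L] [Finite L]
  {U : Type*} [AddCommGroup U] [Module k U] [FiniteDimensional k U]

theorem weights_fixed (ρ : L →* End k U) (M R : Subgroup L) (s t : L)
    (hs : s * s = 1) (ht : t ^ 3 = 1) (hst : s * t * s = t⁻¹)
    (hfix : ∀ u, ρ s u = u → ρ t u = u → u = 0)
    (hMab : ∀ a ∈ M, ∀ b ∈ M, a * b = b * a)
    (hsM : s ∈ Subgroup.normalizer (M : Set L)) (htM : t ∈ Subgroup.normalizer (M : Set L))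
    (hRM : R ≤ Subgroup.normalizer (M : Set L))
    (hsR : s ∈ Subgroup.normalizer (R : Set L)) (htR : t ∈ Subgroup.normalizer (R : Set L))
    (hMk : (Nat.card M : k) ≠ 0) (hM6 : (Nat.card M).Coprime 6) (hR6 : (Nat.card R).Coprime 6)
    (hMfix : ∀ m ∈ M, s * m = m * s → t * m = m * t → m = 1)
    (hRab : ∀ a ∈ R, ∀ b ∈ R, ∀ m ∈ M, (a * b) * m * (a * b)⁻¹ = (b * a) * m * (b * a)⁻¹)
    (hRlift : ∀ r ∈ R, (∀ m ∈ M, (s * r * s⁻¹) * m * (s * r * s⁻¹)⁻¹ = r * m * r⁻¹) →
      (∀ m ∈ M, (t * r * t⁻¹) * m * (t * r * t⁻¹)⁻¹ = r * m * r⁻¹) → ∀ m ∈ M, r * m * r⁻¹ = m) :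
    ∀ r ∈ R, ∀ m ∈ M, ρ (r * m * r⁻¹) = ρ m := by
  classical
  -- everything happens inside the normaliser
  let N := Subgroup.normalizer (M : Set L)
  let c : N →* MulAut M := M.normalizerMonoidHom
  let R' : Subgroup N := R.subgroupOf N
  obtain ⟨S, hS⟩ : ∃ S : N, (S : L) = s := ⟨⟨s, hsM⟩, rfl⟩
  obtain ⟨T, hT⟩ : ∃ T : N, (T : L) = t := ⟨⟨t, htM⟩, rfl⟩
  have hSS : S * S = 1 := Subtype.ext (by simp [hS, hs])
  have hTTT : T ^ 3 = 1 := Subtype.ext (by simp [hT, ht])
  have hSTS : S * T * S = T⁻¹ := Subtype.ext (by simp [hS, hT, hst])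
  have hSi : S⁻¹ = S := inv_eq_of_mul_eq_one_left hSS
  have hTi : T⁻¹ = T ^ 2 := inv_eq_of_mul_eq_one_left (by rw [← pow_succ]; exact hTTT)
  have hT3 : T * T * T = 1 := by rw [← pow_two, ← pow_succ]; exact hTTT
  have hTT : T * T = T⁻¹ := by rw [hTi, pow_two]
  have hTiTi : T⁻¹ * T⁻¹ = T := by rw [← mul_inv_rev, hTT, inv_inv]
  have hTTr : ∀ r : N, T * (T * r * T⁻¹) * T⁻¹ = T⁻¹ * r * T := fun r => by
    calc T * (T * r * T⁻¹) * T⁻¹ = (T * T) * r * (T * T)⁻¹ := by group
      _ = _ := by rw [hTT, inv_inv]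
  have hTTl : ∀ r : N, T * (T⁻¹ * r * T) * T⁻¹ = r := fun r => by group
  have hTS : T * S = S * T⁻¹ := by rw [← hSTS, ← mul_assoc, ← mul_assoc, hSS, one_mul]
  have hc : ∀ (g : N) (m : M), ((c g m : M) : L) = g * m * (g : L)⁻¹ := fun g m => rfl
  have hM' : ∀ a b : M, a * b = b * a := fun a b => Subtype.ext (hMab _ a.2 _ b.2)
  -- the action of the normaliser on functions
  let tw : N → (M → k) → (M → k) := fun g χ m => χ (c g⁻¹ m)
  have tw_mul : ∀ (g h : N) χ, tw (g * h) χ = tw g (tw h χ) := fun g h χ => funext fun m => by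
    simp only [tw, mul_inv_rev, map_mul, MulAut.mul_apply]
  have tw_one : ∀ χ, tw 1 χ = χ := fun χ => funext fun m => by
    simp only [tw, inv_one, map_one, MulAut.one_apply]
  have tw_cancel : ∀ (g : N) χ, tw g⁻¹ (tw g χ) = χ := fun g χ => by
    rw [← tw_mul, inv_mul_cancel, tw_one]
  have tw_inj : ∀ (g : N) {χ ψ}, tw g χ = tw g ψ → χ = ψ := fun g χ ψ h => by
    rw [← tw_cancel g χ, h, tw_cancel]
  -- weight spaces
  let E : (M → k) → Submodule k U := fun χ => ⨅ m : M, (ρ (m : L)).eigenspace (χ m)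
  have hE : ∀ {χ u}, u ∈ E χ ↔ ∀ m : M, ρ (m : L) u = χ m • u := by
    intro χ u
    simp [E, Submodule.mem_iInf, Module.End.mem_eigenspace_iff]
  have hEg : ∀ (g : N) {χ u}, u ∈ E χ → ρ (g : L) u ∈ E (tw g χ) := by
    intro g χ u hu
    rw [hE] at hu ⊢
    intro m
    have h1 := hu (c g⁻¹ m)
    rw [hc] at h1
    rw [← Module.End.mul_apply, ← map_mul, show (m : L) * (g : L) = g * (((g⁻¹ : N) : L) * m * ((g⁻¹ : N) : L)⁻¹) by
      simp [mul_assoc], map_mul, Module.End.mul_apply, h1, map_smul]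
  let W : (M → k) → Prop := fun χ => E χ ≠ ⊥
  have hWg : ∀ (g : N) {χ}, W χ → W (tw g χ) := by
    intro g χ hχ
    obtain ⟨u, hu, hu0⟩ := Submodule.exists_mem_ne_zero_of_ne_bot hχ
    intro hbot
    have h1 := hEg g hu
    rw [hbot, Submodule.mem_bot] at h1
    have := congrArg (ρ (g : L)⁻¹) h1
    rw [← Module.End.mul_apply, ← map_mul, inv_mul_cancel, map_one, map_zero] at this
    exact hu0 this
  have hWmul : ∀ {χ}, W χ → ∀ a b : M, χ (a * b) = χ a * χ b := by
    intro χ hχ a b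
    obtain ⟨u, hu, hu0⟩ := Submodule.exists_mem_ne_zero_of_ne_bot hχ
    rw [hE] at hu
    refine smul_left_injective k hu0 ?_
    show χ (a * b) • u = (χ a * χ b) • u
    rw [← hu, Subgroup.coe_mul, map_mul, Module.End.mul_apply, hu, map_smul, hu, smul_smul, mul_comm]
  have hWone : ∀ {χ}, W χ → χ 1 = 1 := by
    intro χ hχ
    obtain ⟨u, hu, hu0⟩ := Submodule.exists_mem_ne_zero_of_ne_bot hχ
    rw [hE] at hu
    refine smul_left_injective k hu0 ?_
    show χ 1 • u = (1 : k) • u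
    rw [← hu, OneMemClass.coe_one, map_one, one_smul]
    rfl
  have hWpow : ∀ {χ}, W χ → ∀ (a : M) (n : ℕ), χ (a ^ n) = χ a ^ n := by
    intro χ hχ a n
    induction n with
    | zero => simpa using hWone hχ
    | succ n ih => rw [pow_succ, hWmul hχ, ih, pow_succ]
  have hroot : ∀ {χ}, W χ → ∀ (a : M) {n : ℕ}, (Nat.card M).Coprime n → χ a ^ n = 1 → χ a = 1 := by
    intro χ hχ a n hn h
    have h1 : χ a ^ Nat.card M = 1 := by rw [← hWpow hχ, pow_card_eq_one', hWone hχ]
    have := pow_gcd_eq_one.2 ⟨h1, h⟩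
    rwa [hn, pow_one] at this
  have hM2 : (Nat.card M).Coprime 2 := hM6.coprime_dvd_right (by norm_num)
  have hM3 : (Nat.card M).Coprime 3 := hM6.coprime_dvd_right (by norm_num)
  -- some nontrivial element of `S₃` fixes every weight
  have hstab : ∀ {χ}, W χ → tw T χ = χ ∨ ∃ i : ℕ, i < 3 ∧ tw (S * T ^ i) χ = χ := by
    intro χ hχ
    by_contra hcon
    push Not at hcon
    obtain ⟨hct, hcs⟩ := hcon
    let Γ : Subgroup N := dihedralSub S T hSS hTTT hSTS
    letI : Fintype Γ := Fintype.ofFinite Γ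
    obtain ⟨u, hu, hu0⟩ := Submodule.exists_mem_ne_zero_of_ne_bot hχ
    have hred : ∀ i : ℕ, T ^ i = T ^ (i % 3) := fun i => by
      conv_lhs => rw [← Nat.mod_add_div i 3, pow_add, pow_mul, hTTT, one_pow, mul_one]
    have hinj : Function.Injective fun g : Γ => tw (g : N) χ := by
      intro g g' hgg
      have h1 : tw ((g⁻¹ * g' : Γ) : N) χ = χ := by
        have hgg' : tw (g : N) χ = tw (g' : N) χ := hgg
        rw [Subgroup.coe_mul, Subgroup.coe_inv, tw_mul, ← hgg']
        exact tw_cancel _ _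
      suffices h2 : g⁻¹ * g' = 1 from inv_mul_eq_one.1 h2
      obtain ⟨i, hi | hi⟩ := (g⁻¹ * g').2
      · rw [hi, hred] at h1
        apply Subtype.ext
        rw [hi, hred, OneMemClass.coe_one]
        have h3 : i % 3 < 3 := Nat.mod_lt _ (by norm_num)
        interval_cases hj : i % 3
        · simp
        · exact absurd (by simpa using h1) hct
        · refine absurd ?_ hct
          have h4 := congrArg (tw T) h1
          rw [← tw_mul, ← pow_succ', hTTT, tw_one] at h4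
          exact h4.symm
      · rw [hi, hred] at h1
        exact absurd h1 (hcs _ (Nat.mod_lt _ (by norm_num)))
    have hne : ∀ g : Γ, ρ ((g : N) : L) u ≠ 0 := by
      intro g h
      have := congrArg (ρ ((g : N) : L)⁻¹) h
      rw [← Module.End.mul_apply, ← map_mul, inv_mul_cancel, map_one, map_zero] at this
      exact hu0 this
    let χhom : Γ → (M →* k) := fun g =>
      { toFun := tw (g : N) χ, map_one' := hWone (hWg _ hχ), map_mul' := hWmul (hWg _ hχ) }
    have hli := HallHigman.linearIndependent_of_eigen (fun m : M => ρ (m : L))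
      (fun g : Γ => ρ ((g : N) : L) u) hne χhom
      (fun g g' h => hinj (congrArg (fun f : M →* k => (f : M → k)) h))
      (fun m g => (hE.1 (hEg (g : N) hu)) m)
    have hsum : ∀ a : Γ, ρ ((a : N) : L) (∑ g : Γ, ρ ((g : N) : L) u) = ∑ g : Γ, ρ ((g : N) : L) u := by
      intro a
      rw [map_sum]
      exact Fintype.sum_equiv (Equiv.mulLeft a) _ _ (fun g => by
        show _ = ρ (((a * g : Γ) : N) : L) u
        rw [Subgroup.coe_mul, Subgroup.coe_mul, map_mul, Module.End.mul_apply])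
    have hs1 := hsum ⟨S, 0, Or.inr (by rw [pow_zero, mul_one])⟩
    have ht1 := hsum ⟨T, 1, Or.inl (pow_one T).symm⟩
    rw [show ((S : N) : L) = s from hS] at hs1
    rw [show ((T : N) : L) = t from hT] at ht1
    have h0 := hfix _ hs1 ht1
    exact one_ne_zero (Fintype.linearIndependent_iff.1 hli (fun _ => (1 : k))
      (by simpa using h0) 1)
  -- relations coming from fixed point freeness on `M`
  have hz : ∀ m : M, (m * c T m * c T (c T m)) * c S (m * c T m * c T (c T m)) = 1 := by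
    intro m
    obtain ⟨y, hy⟩ : ∃ y, y = m * c T m * c T (c T m) := ⟨_, rfl⟩
    rw [← hy]
    have hTy : c T y = y := by
      rw [hy, map_mul, map_mul, ← MulAut.mul_apply, ← MulAut.mul_apply, ← map_mul, ← map_mul,
        ← pow_two, ← pow_succ', hTTT, map_one, MulAut.one_apply, hM' _ m, ← mul_assoc, map_pow, pow_two,
        MulAut.mul_apply]
    have hTy' : c T⁻¹ y = y := by
      conv_lhs => rw [← hTy, ← MulAut.mul_apply, ← map_mul, inv_mul_cancel, map_one, MulAut.one_apply]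
    have h1 : c S (y * c S y) = y * c S y := by
      rw [map_mul, ← MulAut.mul_apply, ← map_mul, hSS, map_one, MulAut.one_apply, hM']
    have h2 : c T (y * c S y) = y * c S y := by
      rw [map_mul, hTy, ← MulAut.mul_apply, ← map_mul, hTS, map_mul, MulAut.mul_apply, hTy']
    refine Subtype.ext (hMfix _ (y * c S y).2 ?_ ?_)
    · have := congrArg Subtype.val h1
      rw [hc, hS] at this
      exact mul_inv_eq_iff_eq_mul.1 this
    · have := congrArg Subtype.val h2
      rw [hc, hT] at this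
      exact mul_inv_eq_iff_eq_mul.1 this
  have hzchi : ∀ {χ}, W χ → ∀ m : M,
      (χ m * χ (c T m) * χ (c T (c T m))) * (χ (c S m) * χ (c S (c T m)) * χ (c S (c T (c T m)))) = 1 := by
    intro χ hχ m
    rw [← hWmul hχ, ← hWmul hχ, ← hWmul hχ, ← hWmul hχ, ← map_mul, ← map_mul, ← hWmul hχ, hz, hWone hχ]
  have htwS : ∀ χ m, tw S χ m = χ (c S m) := fun χ m => by simp only [tw, hSi]
  have hST : c S * c T = c T⁻¹ * c S := by
    rw [← map_mul, ← map_mul, show S * T = T⁻¹ * S by rw [← hSTS, mul_assoc _ S S, hSS, mul_one]]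
  -- weights fixed by `T` are inverted by `S`
  have hTinv : ∀ {χ}, W χ → tw T χ = χ → ∀ m, χ (c S m) = (χ m)⁻¹ := by
    intro χ hχ hTχ m
    have h1 : ∀ m, χ (c T⁻¹ m) = χ m := fun m => congrFun hTχ m
    have h2 : ∀ m, χ (c T m) = χ m := fun m => by
      rw [← h1 (c T m), ← MulAut.mul_apply, ← map_mul, inv_mul_cancel, map_one, MulAut.one_apply]
    have h3 : ∀ m, χ (c S (c T m)) = χ (c S m) := fun m => by
      rw [← MulAut.mul_apply, hST, MulAut.mul_apply, h1]
    have h4 := hzchi hχ m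
    rw [h2, h2, h2, h3 (c T m), h3 m] at h4
    have h5 : χ (m * c S m) = 1 := hroot hχ _ hM3 (by
      rw [hWmul hχ, mul_pow, pow_three', pow_three']; exact h4)
    rw [hWmul hχ] at h5
    exact eq_inv_of_mul_eq_one_right h5
  -- the action of `R`
  have hRc : ∀ a ∈ R', ∀ b ∈ R', c a * c b = c b * c a := by
    intro a ha b hb
    refine MulEquiv.ext fun m => Subtype.ext ?_
    have := hRab _ ha _ hb (m : L) m.2
    rw [← map_mul, ← map_mul, hc, hc, Subgroup.coe_mul, Subgroup.coe_mul]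
    exact this
  have htw_comm : ∀ a ∈ R', ∀ b ∈ R', ∀ χ, tw a (tw b χ) = tw b (tw a χ) := by
    intro a ha b hb χ
    rw [← tw_mul, ← tw_mul]
    funext m
    simp only [tw, mul_inv_rev, map_mul, hRc _ (inv_mem hb) _ (inv_mem ha)]
  have hRS : ∀ r ∈ R', S * r * S⁻¹ ∈ R' := fun r hr => by
    show ((S * r * S⁻¹ : N) : L) ∈ R
    simp only [Subgroup.coe_mul, Subgroup.coe_inv, hS]
    exact (Subgroup.mem_normalizer_iff.1 hsR _).1 hr
  have hRT : ∀ r ∈ R', T * r * T⁻¹ ∈ R' := fun r hr => by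
    show ((T * r * T⁻¹ : N) : L) ∈ R
    simp only [Subgroup.coe_mul, Subgroup.coe_inv, hT]
    exact (Subgroup.mem_normalizer_iff.1 htR _).1 hr
  have hRT' : ∀ r ∈ R', T⁻¹ * r * T ∈ R' := fun r hr => by
    have := hRT _ (hRT r hr)
    rwa [hTTr] at this
  have hstabpow : ∀ r ∈ R', ∀ {χ : M → k} (n : ℕ), (Nat.card R).Coprime n → tw (r ^ n) χ = χ → tw r χ = χ := by
    intro r hr χ n hn h
    let St : Subgroup R' :=
      { carrier := {g | tw (g : N) χ = χ}
        one_mem' := tw_one χ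
        mul_mem' := fun {a b} ha hb => by
          show tw ((a : N) * b) χ = χ
          rw [tw_mul, hb, ha]
        inv_mem' := fun {a} ha => by
          show tw (a : N)⁻¹ χ = χ
          conv_lhs => rw [← (ha : tw (a : N) χ = χ)]
          exact tw_cancel _ _ }
    exact mem_of_pow_mem St (g := ⟨r, hr⟩) (n := n)
      (by rwa [Nat.card_congr (Subgroup.subgroupOfEquivOfLe hRM).toEquiv]) h
  have hRpow : ∀ r ∈ R', ∀ j : ℕ, T ^ j * r * (T ^ j)⁻¹ ∈ R' := by
    intro r hr j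
    induction j with
    | zero => simpa using hr
    | succ j ih =>
      rw [show T ^ (j + 1) * r * (T ^ (j + 1))⁻¹ = T * (T ^ j * r * (T ^ j)⁻¹) * T⁻¹ by
        rw [pow_succ']; group]
      exact hRT _ ih
  have hTSi : T⁻¹ * S = S * T := by rw [← hSTS, mul_assoc _ S S, hSS, mul_one]
  -- the product of the six conjugates acts trivially
  have hP : ∀ r ∈ R', c (r * (T * r * T⁻¹) * (T⁻¹ * r * T) *
      (S * (r * (T * r * T⁻¹) * (T⁻¹ * r * T)) * S⁻¹)) = 1 := by
    intro r hr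
    obtain ⟨Y, hY⟩ : ∃ Y, Y = r * (T * r * T⁻¹) * (T⁻¹ * r * T) := ⟨_, rfl⟩
    rw [← hY]
    have hYR : Y ∈ R' := hY ▸ mul_mem (mul_mem hr (hRT r hr)) (hRT' r hr)
    have hTY : c (T * Y * T⁻¹) = c Y := by
      have e : T * Y * T⁻¹ = (T * r * T⁻¹) * (T⁻¹ * r * T) * r := by
        rw [hY]
        calc T * (r * (T * r * T⁻¹) * (T⁻¹ * r * T)) * T⁻¹
            = (T * r * T⁻¹) * (T * (T * r * T⁻¹) * T⁻¹) * (T * (T⁻¹ * r * T) * T⁻¹) := by group
          _ = _ := by rw [hTTr, hTTl]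
      rw [e, map_mul c ((T * r * T⁻¹) * (T⁻¹ * r * T)) r, hRc _ (mul_mem (hRT r hr) (hRT' r hr)) _ hr,
        ← map_mul, hY, ← mul_assoc r]
    have hTY' : c (T⁻¹ * Y * T) = c Y := by
      calc c (T⁻¹ * Y * T) = c T⁻¹ * c (T * Y * T⁻¹) * c T := by rw [hTY, map_mul, map_mul]
        _ = c Y := by rw [← map_mul, ← map_mul]; congr 1; group
    have hZ : Y * (S * Y * S⁻¹) ∈ R' := mul_mem hYR (hRS Y hYR)
    refine MulEquiv.ext fun m => Subtype.ext ?_
    rw [hc, MulAut.one_apply]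
    refine hRlift ((Y * (S * Y * S⁻¹) : N) : L) hZ ?_ ?_ (m : L) m.2
    · intro m hm
      have e : c (S * (Y * (S * Y * S⁻¹)) * S⁻¹) = c (Y * (S * Y * S⁻¹)) := by
        rw [show S * (Y * (S * Y * S⁻¹)) * S⁻¹ = (S * Y * S⁻¹) * ((S * S) * Y * (S * S)⁻¹) by group,
          hSS, one_mul, inv_one, mul_one, map_mul, hRc _ (hRS Y hYR) _ hYR, ← map_mul]
      have := congrArg Subtype.val (DFunLike.congr_fun e (⟨m, hm⟩ : M))
      rw [hc, hc] at this
      simpa only [Subgroup.coe_mul, Subgroup.coe_inv, hS] using this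
    · intro m hm
      have e : c (T * (Y * (S * Y * S⁻¹)) * T⁻¹) = c (Y * (S * Y * S⁻¹)) := by
        rw [show T * (Y * (S * Y * S⁻¹)) * T⁻¹ = (T * Y * T⁻¹) * ((T * S) * Y * (T * S)⁻¹) by group,
          map_mul, hTY, hTS, show S * T⁻¹ * Y * (S * T⁻¹)⁻¹ = S * (T⁻¹ * Y * T) * S⁻¹ by group]
        simp only [map_mul] at hTY' ⊢
        rw [hTY']
      have := congrArg Subtype.val (DFunLike.congr_fun e (⟨m, hm⟩ : M))
      rw [hc, hc] at this
      simpa only [Subgroup.coe_mul, Subgroup.coe_inv, hT] using this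
  have hsix : ∀ r ∈ R', ∀ χ : M → k,
      tw (T * r * T⁻¹) χ = tw r χ → tw (T⁻¹ * r * T) χ = tw r χ →
      tw (S * r * S⁻¹) χ = tw r χ → tw (S * (T * r * T⁻¹) * S⁻¹) χ = tw r χ →
      tw (S * (T⁻¹ * r * T) * S⁻¹) χ = tw r χ → tw r χ = χ := by
    intro r hr χ h1 h2 h3 h4 h5
    refine hstabpow r hr 6 hR6 ?_
    have hR1 := hRT r hr
    have hR2 := hRT' r hr
    have h0 : ∀ χ, tw (r * (T * r * T⁻¹) * (T⁻¹ * r * T) *
      (S * (r * (T * r * T⁻¹) * (T⁻¹ * r * T)) * S⁻¹)) χ = χ := fun χ => funext fun m => by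
      simp only [tw, map_inv, hP r hr, inv_one, MulAut.one_apply]
    have h' := h0 χ
    obtain ⟨a1, ha1⟩ : ∃ a, a = T * r * T⁻¹ := ⟨_, rfl⟩
    obtain ⟨a2, ha2⟩ : ∃ a, a = T⁻¹ * r * T := ⟨_, rfl⟩
    rw [← ha1] at h' h1 h4 hR1
    rw [← ha2] at h' h2 h5 hR2
    obtain ⟨b0, hb0⟩ : ∃ a, a = S * r * S⁻¹ := ⟨_, rfl⟩
    obtain ⟨b1, hb1⟩ : ∃ a, a = S * a1 * S⁻¹ := ⟨_, rfl⟩
    obtain ⟨b2, hb2⟩ : ∃ a, a = S * a2 * S⁻¹ := ⟨_, rfl⟩
    have hB0 : b0 ∈ R' := hb0 ▸ hRS r hr
    have hB1 : b1 ∈ R' := hb1 ▸ hRS a1 hR1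
    have hB2 : b2 ∈ R' := hb2 ▸ hRS a2 hR2
    rw [show S * (r * a1 * a2) * S⁻¹ = (S * r * S⁻¹) * (S * a1 * S⁻¹) * (S * a2 * S⁻¹) by group,
      ← hb0, ← hb1, ← hb2] at h'
    rw [← hb0] at h3
    rw [← hb1] at h4
    rw [← hb2] at h5
    have step : ∀ g ∈ R', ∀ a ∈ R', ∀ n : ℕ, tw a χ = tw r χ → tw (g * a) (tw (r ^ n) χ) = tw g (tw (r ^ (n + 1)) χ) := by
      intro g hg a ha n he
      rw [tw_mul g a, htw_comm a ha _ (pow_mem hr n), he, ← tw_mul (r ^ n), ← pow_succ]
    have hP2 := mul_mem (mul_mem hr hR1) hR2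
    have e : tw (r * a1 * a2 * b0 * b1 * b2) (tw (r ^ 0) χ) = tw r (tw (r ^ 5) χ) := by
      rw [step _ (mul_mem (mul_mem hP2 hB0) hB1) _ hB2 0 h5, step _ (mul_mem hP2 hB0) _ hB1 1 h4,
        step _ hP2 _ hB0 2 h3, step _ (mul_mem hr hR1) _ hR2 3 h2, step _ hr _ hR1 4 h1]
    rw [pow_zero, tw_one, ← tw_mul, ← pow_succ'] at e
    rw [show r * a1 * a2 * (b0 * b1 * b2) = r * a1 * a2 * b0 * b1 * b2 by group] at h'
    exact e.symm.trans h'
  -- weights fixed by `T`
  have caseT : ∀ {χ}, W χ → tw T χ = χ → ∀ r ∈ R', tw r χ = χ := by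
    intro χ hχ hTχ r hr
    by_cases htriv : ∀ m, χ m = 1
    · funext m; simp only [tw, htriv]
    have hSχ : tw S χ = fun m => (χ m)⁻¹ := funext fun m => by rw [htwS, hTinv hχ hTχ]
    have hall : ∀ r ∈ R', tw T (tw r χ) = tw r χ := by
      intro r hr
      rcases hstab (hWg r hχ) with h | ⟨i, -, hi⟩
      · exact h
      · exfalso
        obtain ⟨q, hq⟩ : ∃ q, q = S * T ^ i * r * (S * T ^ i)⁻¹ := ⟨_, rfl⟩
        have hqR : q ∈ R' := by
          rw [hq, show S * T ^ i * r * (S * T ^ i)⁻¹ = S * (T ^ i * r * (T ^ i)⁻¹) * S⁻¹ by group]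
          exact hRS _ (hRpow r hr i)
        have hTi' : ∀ j : ℕ, tw (T ^ j) χ = χ := by
          intro j
          induction j with
          | zero => rw [pow_zero, tw_one]
          | succ j ih => rw [pow_succ, tw_mul, hTχ, ih]
        have h1 : tw q (tw S χ) = tw r χ := by
          conv_rhs => rw [← hi, ← tw_mul, show S * T ^ i * r = q * (S * T ^ i) by rw [hq]; group,
            tw_mul, tw_mul, hTi']
        have h2 : tw S χ = tw (q⁻¹ * r) χ := ((tw_mul _ _ _).trans (by rw [← h1]; exact tw_cancel q (tw S χ))).symm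
        have h3 : tw ((q⁻¹ * r) ^ 2) χ = χ := by
          rw [pow_two, tw_mul, ← h2, hSχ]
          funext m
          have h4 : χ (c (q⁻¹ * r)⁻¹ m) = (χ m)⁻¹ := by
            have := congrFun h2 m
            rw [hSχ] at this
            exact this.symm
          show (χ (c (q⁻¹ * r)⁻¹ m))⁻¹ = χ m
          rw [h4, inv_inv]
        have h5 := hstabpow _ (mul_mem (inv_mem hqR) hr) 2 (hR6.coprime_dvd_right (by norm_num)) h3
        refine htriv fun m => hroot hχ m hM2 ?_
        have h6 := congrFun (h2.trans h5) m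
        rw [hSχ] at h6
        have hne : χ m ≠ 0 := fun h0 => by
          have hcard : χ m ^ Nat.card M = 1 := by rw [← hWpow hχ, pow_card_eq_one', hWone hχ]
          rw [h0, zero_pow Nat.card_pos.ne'] at hcard
          exact zero_ne_one hcard
        calc χ m ^ 2 = χ m * (χ m)⁻¹ := by rw [pow_two]; nth_rewrite 2 [← h6]; rfl
          _ = 1 := mul_inv_cancel₀ hne
    have hTr : ∀ r ∈ R', tw (T * r * T⁻¹) χ = tw r χ := by
      intro r hr
      conv_rhs => rw [← hall r hr, ← tw_mul, show T * r = (T * r * T⁻¹) * T by group, tw_mul, hTχ]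
    have hSr : ∀ r ∈ R', tw (S * r * S⁻¹) χ = tw r χ := by
      intro r hr
      have h1 : tw (S * r * S⁻¹) (tw S χ) = tw r (tw S χ) := by
        rw [← tw_mul, show S * r * S⁻¹ * S = S * r by group, tw_mul, hSχ]
        funext m
        exact (htwS (tw r χ) m).trans (hTinv (hWg r hχ) (hall r hr) m)
      funext m
      rw [hSχ] at h1
      exact inv_injective (congrFun h1 m)
    have hT2 : ∀ r ∈ R', tw (T⁻¹ * r * T) χ = tw r χ := by
      intro r hr
      conv_rhs => rw [show r = T * (T⁻¹ * r * T) * T⁻¹ by group, hTr _ (hRT' r hr)]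
    exact hsix r hr χ (hTr r hr) (hT2 r hr) (hSr r hr) ((hSr _ (hRT r hr)).trans (hTr r hr))
      ((hSr _ (hRT' r hr)).trans (hT2 r hr))
  -- weights fixed by an involution
  have caseS : ∀ {χ}, W χ → tw T χ ≠ χ → tw S χ = χ → ∀ r ∈ R', tw r χ = χ := by
    intro χ hχ hTχ hSχ
    let O : Set (M → k) := {ψ | ∃ r ∈ R', tw r χ = ψ}
    have hnoT : ∀ ψ ∈ O, tw T ψ ≠ ψ := by
      rintro _ ⟨r, hr, rfl⟩ h
      have h1 := caseT (hWg r hχ) h r⁻¹ (inv_mem hr)
      rw [tw_cancel] at h1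
      exact hTχ (by rw [← h1] at h; exact h)
    have hOS : ∀ ψ ∈ O, tw S ψ ∈ O := by
      rintro _ ⟨r, hr, rfl⟩
      refine ⟨S * r * S⁻¹, hRS r hr, ?_⟩
      conv_lhs => rw [← hSχ, ← tw_mul, show S * r * S⁻¹ * S = S * r by group, tw_mul]
    have hnotT : ¬ ∀ ψ ∈ O, tw T ψ ∈ O := by
      intro hOT
      letI : MulAction R' (M → k) :=
        { smul := fun g ψ => tw (g : N) ψ
          one_smul := tw_one
          mul_smul := fun g h ψ => tw_mul (g : N) h ψ }
      have hO : O = MulAction.orbit R' χ := by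
        ext ψ
        exact ⟨fun ⟨r, hr, h⟩ => ⟨⟨r, hr⟩, h⟩, fun ⟨r, h⟩ => ⟨r, r.2, h⟩⟩
      haveI : Finite O := by rw [hO]; exact (Set.finite_range _).to_subtype
      haveI := Fintype.ofFinite O
      let σ : Equiv.Perm O :=
        { toFun := fun ψ => ⟨tw T ψ, hOT _ ψ.2⟩
          invFun := fun ψ => ⟨tw T (tw T ψ), hOT _ (hOT _ ψ.2)⟩
          left_inv := fun ψ => Subtype.ext (by
            show tw T (tw T (tw T (ψ : M → k))) = _
            rw [← tw_mul, ← tw_mul, ← mul_assoc, hT3, tw_one])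
          right_inv := fun ψ => Subtype.ext (by
            show tw T (tw T (tw T (ψ : M → k))) = _
            rw [← tw_mul, ← tw_mul, ← mul_assoc, hT3, tw_one]) }
      have hσ : σ ^ 3 ^ 1 = 1 := by
        refine Equiv.ext fun ψ => Subtype.ext ?_
        show tw T (tw T (tw T (ψ : M → k))) = _
        rw [← tw_mul, ← tw_mul, ← mul_assoc, hT3, tw_one]
        rfl
      haveI := Fact.mk Nat.prime_three
      obtain ⟨ψ, hψ⟩ := Equiv.Perm.exists_fixed_point_of_prime (p := 3) (n := 1) (α := O) (by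
        rw [← Nat.card_eq_fintype_card]
        intro h3
        have h4 : Nat.card O ∣ Nat.card R := by
          rw [← Nat.card_congr (Subgroup.subgroupOfEquivOfLe hRM).toEquiv, hO]
          exact ⟨_, (by
            have := (MulAction.stabilizer R' χ).card_mul_index
            rw [MulAction.index_stabilizer] at this
            rw [← this, mul_comm, ← Nat.card_coe_set_eq])⟩
        exact absurd (Nat.eq_one_of_dvd_coprimes (hR6.coprime_dvd_right (by norm_num : (3 : ℕ) ∣ 6))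
          (h3.trans h4) dvd_rfl) (by norm_num)) hσ
      exact hnoT _ ψ.2 (congrArg Subtype.val hψ)
    have hstep : ∀ (i : ℕ), ∀ r ∈ R', tw (T ^ i) (tw r χ) ∈ O → ∀ ψ ∈ O, tw (T ^ i) ψ ∈ O := by
      rintro i r hr ⟨r₁, hr₁, e₁⟩ _ ⟨r', hr', rfl⟩
      refine ⟨(T ^ i * (r' * r⁻¹) * (T ^ i)⁻¹) * r₁, mul_mem (hRpow _ (mul_mem hr' (inv_mem hr)) i) hr₁, ?_⟩
      rw [tw_mul, e₁, ← tw_mul, ← tw_mul, ← tw_mul]
      congr 1
      group
    have hfixS : ∀ r ∈ R', tw S (tw r χ) = tw r χ := by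
      intro r hr
      rcases hstab (hWg r hχ) with h | ⟨i, hi3, hi⟩
      · exact absurd h (hnoT _ ⟨r, hr, rfl⟩)
      have hmem : tw (T ^ i) (tw r χ) ∈ O := by
        have hi' := hi
        rw [tw_mul S (T ^ i)] at hi'
        have h1 := congrArg (tw S) hi'
        rw [← tw_mul S S (tw (T ^ i) (tw r χ)), hSS, tw_one] at h1
        rw [h1]
        exact hOS _ ⟨r, hr, rfl⟩
      interval_cases i
      · simpa using hi
      · exact absurd (fun ψ hψ => by simpa using hstep 1 r hr hmem ψ hψ) hnotT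
      · refine absurd (fun ψ hψ => ?_) hnotT
        have h2 := hstep 2 r hr hmem _ (hstep 2 r hr hmem ψ hψ)
        rwa [← tw_mul, ← pow_add, pow_succ T 3, hTTT, one_mul] at h2
    have hSr : ∀ r ∈ R', tw (S * r * S⁻¹) χ = tw r χ := by
      intro r hr
      conv_rhs => rw [← hfixS r hr, ← tw_mul, show S * r = S * r * S⁻¹ * S by group, tw_mul, hSχ]
    -- weights fixed by `S` have trivial norm
    have hnorm : ∀ r ∈ R', ∀ m, tw r χ m * tw T (tw r χ) m * tw T (tw T (tw r χ)) m = 1 := by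
      intro r hr
      obtain ⟨ψ, hψd⟩ : ∃ ψ, ψ = tw r χ := ⟨_, rfl⟩
      intro m
      rw [← hψd]
      have hψ : W ψ := hψd ▸ hWg r hχ
      have hS' : ∀ m, ψ (c S m) = ψ m := fun m => by
        rw [← htwS ψ m, hψd, hfixS r hr]
      have h := hzchi hψ m
      rw [hS', hS', hS'] at h
      have h2 : ψ (m * c T m * c T (c T m)) = 1 := hroot hψ _ hM2 (by
        rw [hWmul hψ, hWmul hψ, pow_two]; exact h)
      rw [hWmul hψ, hWmul hψ] at h2
      have e1 : ψ (c T⁻¹ m) = ψ (c T (c T m)) := by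
        rw [← MulAut.mul_apply, ← map_mul, hTT]
      have e2 : ψ (c T⁻¹ (c T⁻¹ m)) = ψ (c T m) := by
        rw [← MulAut.mul_apply, ← map_mul, hTiTi]
      show ψ m * ψ (c T⁻¹ m) * ψ (c T⁻¹ (c T⁻¹ m)) = 1
      rw [e1, e2, ← h2]
      ring
    have hsym : ∀ g ∈ R', tw (g * (S * g * S⁻¹)) χ = χ := by
      intro g hg
      obtain ⟨h, hh⟩ : ∃ h, h = g * (S * g * S⁻¹) := ⟨_, rfl⟩
      have hhR : h ∈ R' := hh ▸ mul_mem hg (hRS g hg)
      rw [← hh]
      have hcS : c (S * h * S⁻¹) = c h := by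
        rw [hh, show S * (g * (S * g * S⁻¹)) * S⁻¹ = (S * g * S⁻¹) * ((S * S) * g * (S * S)⁻¹) by group,
          hSS, one_mul, inv_one, mul_one, map_mul, hRc _ (hRS g hg) _ hg, ← map_mul]
      have h12 : tw (T * h * T⁻¹) χ = tw (T⁻¹ * h * T) χ := by
        rw [← hSr _ (hRT h hhR), show S * (T * h * T⁻¹) * S⁻¹ = T⁻¹ * (S * h * S⁻¹) * T by
          calc S * (T * h * T⁻¹) * S⁻¹ = (S * T) * h * (S * T)⁻¹ := by group
            _ = (T⁻¹ * S) * h * (T⁻¹ * S)⁻¹ := by rw [hTSi]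
            _ = _ := by group]
        funext m
        show χ (c (T⁻¹ * (S * h * S⁻¹) * T)⁻¹ m) = χ (c (T⁻¹ * h * T)⁻¹ m)
        rw [map_inv, map_inv, map_mul c (T⁻¹ * (S * h * S⁻¹)), map_mul c T⁻¹ (S * h * S⁻¹), hcS,
          ← map_mul, ← map_mul]
      have hη : tw h χ = tw (T * h * T⁻¹) χ := by
        funext m
        have h1 := hnorm _ (hRT h hhR) m
        have h2 := hnorm 1 (one_mem _) (c h⁻¹ m)
        rw [tw_one] at h2
        have h2' : tw h χ m * tw h (tw T χ) m * tw h (tw T (tw T χ)) m = 1 := h2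
        have f1 : tw h (tw T χ) = tw T (tw (T * h * T⁻¹) χ) := by
          rw [h12, ← tw_mul, ← tw_mul]; congr 1; group
        have f2 : tw h (tw T (tw T χ)) = tw T (tw T (tw (T * h * T⁻¹) χ)) := by
          rw [← tw_mul T T, ← tw_mul, ← tw_mul, ← tw_mul, hTT]
          congr 1
          rw [← mul_assoc, hTT]; group
        rw [f1, f2, mul_assoc] at h2'
        rw [mul_assoc] at h1
        exact mul_right_cancel₀ (right_ne_zero_of_mul_eq_one h1) (h2'.trans h1.symm)
      exact hsix h hhR χ hη.symm (h12.symm.trans hη.symm) (hSr h hhR)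
        ((hSr _ (hRT h hhR)).trans hη.symm) ((hSr _ (hRT' h hhR)).trans (h12.symm.trans hη.symm))
    intro g hg
    refine hstabpow g hg 2 (hR6.coprime_dvd_right (by norm_num)) ?_
    have h1 := hsym g hg
    rw [tw_mul, hSr g hg, ← tw_mul, ← pow_two] at h1
    exact h1
  -- all weights
  have hall : ∀ {χ}, W χ → ∀ r ∈ R', tw r χ = χ := by
    intro χ hχ r hr
    by_cases hTχ : tw T χ = χ
    · exact caseT hχ hTχ r hr
    rcases hstab hχ with h | ⟨i, hi3, hi⟩
    · exact absurd h hTχ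
    have key : ∀ g : N, (∀ r ∈ R', g * r * g⁻¹ ∈ R') → tw S (tw g χ) = tw g χ →
        tw T (tw g χ) ≠ tw g χ → tw r χ = χ := by
      intro g hg hS' hT'
      have h1 := caseS (hWg g hχ) hT' hS' _ (hg r hr)
      rw [← tw_mul, show g * r * g⁻¹ * g = g * r by group, tw_mul] at h1
      exact tw_inj g h1
    have hTne : tw T (tw T χ) ≠ tw T χ := fun h => hTχ (tw_inj T h)
    interval_cases i
    · exact caseS hχ hTχ (by simpa using hi) r hr
    · refine key T⁻¹ (fun r hr => by simpa using hRT' r hr) ?_ fun h => hTχ ?_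
      · conv_rhs => rw [← hi, ← tw_mul, pow_one]
        rw [← tw_mul]
        congr 1
        rw [← mul_assoc, hTSi, mul_assoc, hTT]
      · rw [← tw_mul, mul_inv_cancel, tw_one] at h
        conv_lhs => rw [h, ← tw_mul, mul_inv_cancel, tw_one]
    · refine key T hRT ?_ hTne
      conv_rhs => rw [← hi, ← tw_mul]
      rw [← tw_mul]
      congr 1
      rw [← mul_assoc, hTS, mul_assoc, pow_two, ← mul_assoc, ← mul_assoc, mul_assoc S, inv_mul_cancel, mul_one]
  intro r hr m hm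
  have htop : ⨆ χ : M → k, E χ = ⊤ := by
    have hss : ∀ i : M, (ρ (i : L)).IsSemisimple := fun i => by
      refine Module.End.isSemisimple_of_squarefree_aeval_eq_zero
        (p := Polynomial.X ^ Nat.card M - Polynomial.C 1)
        ((Polynomial.separable_X_pow_sub_C (1 : k) hMk one_ne_zero).squarefree) ?_
      have : ρ (i : L) ^ Nat.card M = 1 := by
        rw [← map_pow, show (i : L) ^ Nat.card M = 1 from
          (SubgroupClass.coe_pow i _).symm.trans (congrArg Subtype.val pow_card_eq_one'), map_one]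
      simp [this]
    have := Module.End.iSup_iInf_maxGenEigenspace_eq_top_of_iSup_maxGenEigenspace_eq_top_of_commute
      (fun i : M => ρ (i : L))
      (fun a b _ => by show Commute _ _; rw [commute_iff_eq, ← map_mul, ← map_mul, hMab _ a.2 _ b.2])
      (fun i => Module.End.iSup_maxGenEigenspace_eq_top _)
    rw [← this]
    congr 1
    funext χ
    exact iInf_congr fun i => ((hss i).isFinitelySemisimple.maxGenEigenspace_eq_eigenspace _).symm
  refine LinearMap.ext fun u => ?_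
  have hu : u ∈ ⨆ χ : M → k, E χ := htop ▸ Submodule.mem_top
  induction hu using Submodule.iSup_induction' with
  | mem χ u hu =>
    by_cases hχ : W χ
    · have h1 := congrFun (hall hχ (⟨r, hRM hr⟩⁻¹) (inv_mem (show (⟨r, hRM hr⟩ : N) ∈ R' from hr))) ⟨m, hm⟩
      simp only [tw, inv_inv] at h1
      have hu' := hE.1 hu (c ⟨r, hRM hr⟩ ⟨m, hm⟩)
      rw [hc] at hu'
      rw [hu', hE.1 hu ⟨m, hm⟩, h1]
    · rw [not_ne_iff.1 hχ, Submodule.mem_bot] at hu
      simp [hu]
  | zero => simp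
  | add a b _ _ ha hb => rw [map_add, map_add, ha, hb]

end Cfsg.Agent.Struct.SymThree
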