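import Mathlib
import Cfsg.Agent.Lib.Struct.SymThreeWeights
import Cfsg.Agent.Lib.Struct.HallHigman
import Cfsg.Agent.Lib.Struct.HallHigmanBridge
import Cfsg.Agent.Lib.Solv.Basic
import Cfsg.Agent.Lib.Solv.Coprime

/-!
# Linear groups on which `S₃` acts fixed point freely are abelian
-/

namespace Cfsg.Agent.Struct.SymThree

open Module
open scoped commutatorElement

/-- A finite nilpotent group with abelian Sylow subgroups is abelian. -/
theorem comm_of_nilpotent {G : Type*} [Group G] [Finite G] (hG : Group.IsNilpotent G)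
    (h : ∀ q : ℕ, q.Prime → ∀ P : Sylow q G, ∀ a ∈ (P : Subgroup G), ∀ b ∈ (P : Subgroup G), a * b = b * a) :
    ∀ a b : G, a * b = b * a := by
  haveI := hG
  suffices htop : ∀ R : Subgroup G, (∃ q, q.Prime ∧ IsPGroup q R ∧ R ≤ ⊤) → R ≤ Subgroup.center G by
    intro a b
    exact (Subgroup.mem_center_iff.1 (((Cfsg.Agent.Solv.sup_sylow_eq (⊤ : Subgroup G)).trans
      (sSup_le htop)) (Subgroup.mem_top b)) a)
  rintro R ⟨q, hq, hR, -⟩ x hx
  haveI := Fact.mk hq
  obtain ⟨P, hP⟩ := hR.exists_le_sylow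
  refine Subgroup.mem_center_iff.2 fun g => ?_
  have hall : (⊤ : Subgroup G) ≤ Subgroup.centralizer {x} := by
    refine (Cfsg.Agent.Solv.sup_sylow_eq ⊤).trans (sSup_le ?_)
    rintro S ⟨r, hr, hS, -⟩ y hy
    haveI := Fact.mk hr
    obtain ⟨Q, hQ⟩ := hS.exists_le_sylow
    rw [Subgroup.mem_centralizer_singleton_iff]
    by_cases hqr : q = r
    · subst hqr
      haveI hPn : (P : Subgroup G).Normal :=
        Sylow.normal_of_normalizerCondition Group.normalizerCondition_of_isNilpotent P
      haveI := Sylow.unique_of_normal P hPn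
      rw [Subsingleton.elim Q P] at hQ
      exact h q hq P y (hQ hy) x (hP hx)
    · haveI hPn : (P : Subgroup G).Normal :=
        Sylow.normal_of_normalizerCondition Group.normalizerCondition_of_isNilpotent P
      haveI hQn : (Q : Subgroup G).Normal :=
        Sylow.normal_of_normalizerCondition Group.normalizerCondition_of_isNilpotent Q
      exact Subgroup.commute_of_normal_of_disjoint _ _ hQn hPn
        (IsPGroup.disjoint_of_ne r q (Ne.symm hqr) _ _ Q.isPGroup' P.isPGroup') y x (hQ hy) (hP hx)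
  exact Subgroup.mem_centralizer_singleton_iff.1 (hall (Subgroup.mem_top g))

theorem mem_pow {G : Type*} [Group G] (D : Subgroup G) (x : G) {n : ℕ} (hn : Nat.Coprime (orderOf x) n)
    (h : x ^ n ∈ D) : x ∈ D := by
  obtain ⟨m, hm⟩ := exists_pow_eq_self_of_coprime hn.symm
  rw [← hm]
  exact pow_mem h m

theorem coprime_dihedralSub {L : Type*} [Group L] [Finite L] (s t : L) (hs : s * s = 1) (ht : t ^ 3 = 1)
    (hst : s * t * s = t⁻¹) {n : ℕ} (hn : n.Coprime 6) :
    (Nat.card (dihedralSub s t hs ht hst)).Coprime n := by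
  refine Nat.coprime_of_dvd fun q hq hq1 hq2 => ?_
  haveI := Fact.mk hq
  obtain ⟨g, hg⟩ := exists_prime_orderOf_dvd_card' (G := dihedralSub s t hs ht hst) q hq1
  have h6 : q ∣ 6 := by
    rw [← hg, ← Subgroup.orderOf_coe]
    obtain ⟨i, hi | hi⟩ := g.2
    · refine (orderOf_dvd_of_pow_eq_one ?_).trans (by norm_num : (3 : ℕ) ∣ 6)
      rw [hi, ← pow_mul, mul_comm, pow_mul, ht, one_pow]
    · refine (orderOf_dvd_of_pow_eq_one ?_).trans (by norm_num : (2 : ℕ) ∣ 6)
      have hsi : s⁻¹ = s := inv_eq_of_mul_eq_one_left hs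
      have h1 : s * t ^ i * s = (t ^ i)⁻¹ := by
        calc s * t ^ i * s = s * t ^ i * s⁻¹ := by rw [hsi]
          _ = (s * t * s⁻¹) ^ i := (conj_pow ..).symm
          _ = (t ^ i)⁻¹ := by rw [hsi, hst, inv_pow]
      rw [hi, pow_two, ← mul_assoc, h1, inv_mul_cancel]
  exact hq.one_lt.ne' (Nat.eq_one_of_dvd_coprimes hn hq2 h6)

section

variable {L : Type*} [Group L] [Finite L] {V : Type*} [CommGroup V] [Finite V]
  {p : ℕ} [hp : Fact p.Prime]

theorem abelian_of_faithful (hexp : ∀ v : V, v ^ p = 1) (φ : L →* MulAut V) (hφ : Function.Injective φ)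
    (s t : L) (hs : s * s = 1) (ht : t ^ 3 = 1) (hst : s * t * s = t⁻¹)
    (hvfix : ∀ v, φ s v = v → φ t v = v → v = 1) (hp3 : p ≠ 3)
    (H : Subgroup L) [hHn : H.Normal] (hH6 : (Nat.card H).Coprime 6) (hHs : Group.IsSolvable H)
    (hHfix : ∀ h ∈ H, s * h = h * s → t * h = h * t → h = 1)
    (hirr : ∀ W : Subgroup V, (∀ g : L, ∀ w ∈ W, φ g w ∈ W) → W = ⊥ ∨ W = ⊤)
    (hnil : Group.IsNilpotent (⁅H, H⁆ : Subgroup L)) :
    ∀ a ∈ H, ∀ b ∈ H, a * b = b * a := by
  classical
  rcases subsingleton_or_nontrivial V with hV | hV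
  · intro a _ b _
    exact hφ (MulEquiv.ext fun v => Subsingleton.elim _ _)
  obtain ⟨n, ρ, hn, hρ, hρfix⟩ := HallHigman.exists_rep₂ p hexp φ
  let k := AlgebraicClosure (ZMod p)
  have hρinj : Function.Injective ρ := fun a b h => hφ ((hρ a b).1 h)
  let Γ := dihedralSub s t hs ht hst
  have hsΓ : s ∈ Γ := ⟨0, Or.inr (by rw [pow_zero, mul_one])⟩
  have htΓ : t ∈ Γ := ⟨1, Or.inl (pow_one t).symm⟩
  have hΓN : ∀ {R : Subgroup L}, s ∈ Subgroup.normalizer (R : Set L) → t ∈ Subgroup.normalizer (R : Set L) →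
      Γ ≤ Subgroup.normalizer (R : Set L) := by
    rintro R hsR htR g ⟨i, rfl | rfl⟩
    · exact pow_mem htR i
    · exact mul_mem hsR (pow_mem htR i)
  have hsi : s⁻¹ = s := inv_eq_of_mul_eq_one_left hs
  have hts : t * s = s * t⁻¹ := by rw [← hst, ← mul_assoc, ← mul_assoc, hs, one_mul]
  have hst' : s * t = t⁻¹ * s := by rw [← hst, mul_assoc _ s s, hs, mul_one]
  have hTT : t * t = t⁻¹ := (inv_eq_of_mul_eq_one_left (by rw [← pow_two, ← pow_succ]; exact ht)).symm
  have htTT : ∀ r : L, t * (t * r * t⁻¹) * t⁻¹ = t⁻¹ * r * t := fun r => by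
    calc t * (t * r * t⁻¹) * t⁻¹ = (t * t) * r * (t * t)⁻¹ := by group
      _ = _ := by rw [hTT, inv_inv]
  have htTT' : ∀ r : L, t⁻¹ * (t⁻¹ * r * t) * t = t * r * t⁻¹ := fun r => by
    calc t⁻¹ * (t⁻¹ * r * t) * t = (t * t)⁻¹ * r * (t * t) := by group
      _ = _ := by rw [hTT, inv_inv]
  -- fixed points of `⟨s, t⟩` on sections of `H`
  have lift : ∀ R K : Subgroup L, R ≤ H → K ≤ R → s ∈ Subgroup.normalizer (R : Set L) →
      t ∈ Subgroup.normalizer (R : Set L) → s ∈ Subgroup.normalizer (K : Set L) →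
      t ∈ Subgroup.normalizer (K : Set L) → ∀ r ∈ R, r⁻¹ * (s * r * s⁻¹) ∈ K → r⁻¹ * (t * r * t⁻¹) ∈ K →
      r ∈ K := by
    intro R K hRH hKR hsR htR hsK htK r hr h1 h2
    have hΓK := hΓN hsK htK
    have hR6 : (Nat.card R).Coprime 6 := hH6.coprime_dvd_left (Subgroup.card_dvd_of_le hRH)
    have key : ∀ i : ℕ, r⁻¹ * (t ^ i * r * (t ^ i)⁻¹) ∈ K := by
      intro i
      induction i with
      | zero => simp
      | succ i ih =>
        rw [show r⁻¹ * (t ^ (i + 1) * r * (t ^ (i + 1))⁻¹) =
          (r⁻¹ * (t * r * t⁻¹)) * (t * (r⁻¹ * (t ^ i * r * (t ^ i)⁻¹)) * t⁻¹) by rw [pow_succ']; group]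
        exact mul_mem h2 ((Subgroup.mem_normalizer_iff.1 htK _).1 ih)
    have key2 : ∀ g ∈ Γ, r⁻¹ * (g * r * g⁻¹) ∈ K := by
      rintro g ⟨i, rfl | rfl⟩
      · exact key i
      · rw [show r⁻¹ * (s * t ^ i * r * (s * t ^ i)⁻¹) =
          (r⁻¹ * (s * r * s⁻¹)) * (s * (r⁻¹ * (t ^ i * r * (t ^ i)⁻¹)) * s⁻¹) by group]
        exact mul_mem h1 ((Subgroup.mem_normalizer_iff.1 hsK _).1 (key i))
    obtain ⟨c, hc, hck⟩ := Cfsg.Agent.Solv.exists_centralizing_in_coset Γ R K (hΓN hsR htR)
      (Cfsg.Agent.Solv.inf_eq_bot_of_coprime_card Γ R (coprime_dihedralSub s t hs ht hst hR6))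
      hKR hΓK (coprime_dihedralSub s t hs ht hst (hR6.coprime_dvd_left (Subgroup.card_dvd_of_le hKR)))
      (Or.inr (Cfsg.Agent.Solv.isSolvable_of_le (hKR.trans hRH) hHs)) r hr (fun g hg => by
        rw [show r⁻¹ * g * r * g⁻¹ = r⁻¹ * (g * r * g⁻¹) by group]; exact key2 g hg)
    have hc1 : c = 1 := hHfix c (hRH hc.1) (hc.2 s hsΓ) (hc.2 t htΓ)
    rw [hc1, mul_one] at hck
    simpa using inv_mem hck
  -- invariant subgroups acting on abelian `p'`-subgroups act trivially
  have weights : ∀ M R : Subgroup L, M ≤ H → R ≤ H → s ∈ Subgroup.normalizer (M : Set L) →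
      t ∈ Subgroup.normalizer (M : Set L) → s ∈ Subgroup.normalizer (R : Set L) →
      t ∈ Subgroup.normalizer (R : Set L) → R ≤ Subgroup.normalizer (M : Set L) →
      (∀ a ∈ M, ∀ b ∈ M, a * b = b * a) → ¬ p ∣ Nat.card M →
      (∀ a ∈ R, ∀ b ∈ R, ∀ m ∈ M, ⁅a, b⁆ * m = m * ⁅a, b⁆) →
      ∀ r ∈ R, ∀ m ∈ M, r * m = m * r := by
    intro M R hMH hRH hsM htM hsR htR hRM hMab hMp hRab r hr m hm
    have := weights_fixed ρ M R s t hs ht hst (fun u h1 h2 => ?_) hMab hsM htM hRM hsR htR
      (fun h => hMp ((CharP.cast_eq_zero_iff k p _).1 h))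
      (hH6.coprime_dvd_left (Subgroup.card_dvd_of_le hMH))
      (hH6.coprime_dvd_left (Subgroup.card_dvd_of_le hRH))
      (fun m hm => hHfix m (hMH hm)) (fun a ha b hb m hm => ?_) (fun r hr e1 e2 m hm => ?_) r hr m hm
    · exact mul_inv_eq_iff_eq_mul.1 (hρinj this)
    · exact hρfix s t hvfix u h1 h2
    · calc a * b * m * (a * b)⁻¹ = ⁅a, b⁆ * (b * a * m * (b * a)⁻¹) * ⁅a, b⁆⁻¹ := by
            rw [commutatorElement_def]; group
        _ = b * a * m * (b * a)⁻¹ := by
            rw [hRab a ha b hb _ ((Subgroup.mem_normalizer_iff.1 (hRM (mul_mem hb ha)) m).1 hm)]; group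
    · have hK : r ∈ R ⊓ Subgroup.centralizer (M : Set L) := by
        have hn : ∀ g : L, g ∈ Subgroup.normalizer (R : Set L) → g ∈ Subgroup.normalizer (M : Set L) →
            g ∈ Subgroup.normalizer ((R ⊓ Subgroup.centralizer (M : Set L) : Subgroup L) : Set L) := by
          intro g hgR hgM
          rw [Subgroup.mem_normalizer_iff]
          intro x
          have hcent : x ∈ Subgroup.centralizer (M : Set L) ↔ g * x * g⁻¹ ∈ Subgroup.centralizer (M : Set L) := by
            constructor
            · intro hx y hy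
              have := hx _ ((Subgroup.mem_normalizer_iff''.1 hgM y).1 hy)
              calc y * (g * x * g⁻¹) = g * ((g⁻¹ * y * g) * x) * g⁻¹ := by group
                _ = g * (x * (g⁻¹ * y * g)) * g⁻¹ := by rw [this]
                _ = g * x * g⁻¹ * y := by group
            · intro hx y hy
              have := hx _ ((Subgroup.mem_normalizer_iff.1 hgM y).1 hy)
              calc y * x = g⁻¹ * ((g * y * g⁻¹) * (g * x * g⁻¹)) * g := by group
                _ = g⁻¹ * ((g * x * g⁻¹) * (g * y * g⁻¹)) * g := by rw [this]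
                _ = x * y := by group
          simp only [Subgroup.mem_inf, ← Subgroup.mem_normalizer_iff.1 hgR x, hcent]
        refine lift R _ hRH inf_le_left hsR htR (hn s hsR hsM) (hn t htR htM) r hr
          (Subgroup.mem_inf.2 ⟨mul_mem (inv_mem hr) ((Subgroup.mem_normalizer_iff.1 hsR r).1 hr), fun y hy => ?_⟩)
          (Subgroup.mem_inf.2 ⟨mul_mem (inv_mem hr) ((Subgroup.mem_normalizer_iff.1 htR r).1 hr), fun y hy => ?_⟩)
        · calc y * (r⁻¹ * (s * r * s⁻¹)) = r⁻¹ * (r * y * r⁻¹) * (s * r * s⁻¹) := by group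
            _ = _ := by rw [← e1 y hy]; group
        · calc y * (r⁻¹ * (t * r * t⁻¹)) = r⁻¹ * (r * y * r⁻¹) * (t * r * t⁻¹) := by group
            _ = _ := by rw [← e2 y hy]; group
      rw [← (Subgroup.mem_inf.1 hK).2 m hm, mul_inv_cancel_right]
  -- invariant `q`-subgroups, `q ≠ p`, are abelian
  have qab : ∀ q : ℕ, q.Prime → q ≠ p → ∀ Q : Subgroup L, Q ≤ H → IsPGroup q Q →
      s ∈ Subgroup.normalizer (Q : Set L) → t ∈ Subgroup.normalizer (Q : Set L) →
      ∀ a ∈ Q, ∀ b ∈ Q, a * b = b * a := by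
    intro q hq hqp
    haveI := Fact.mk hq
    have hcop : ∀ Q : Subgroup L, IsPGroup q Q → ¬ p ∣ Nat.card Q := by
      intro Q hQ h
      obtain ⟨e, he⟩ := hQ.exists_card_eq
      rw [he] at h
      exact hqp ((Nat.prime_dvd_prime_iff_eq hp.out hq).1 (hp.out.dvd_of_dvd_pow h)).symm
    suffices key : ∀ m, ∀ Q : Subgroup L, Nat.card Q = m → Q ≤ H → IsPGroup q Q →
        s ∈ Subgroup.normalizer (Q : Set L) → t ∈ Subgroup.normalizer (Q : Set L) →
        ∀ a ∈ Q, ∀ b ∈ Q, a * b = b * a from fun Q => key _ Q rfl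
    intro m
    induction m using Nat.strong_induction_on with
    | _ m ih =>
      rintro Q rfl hQH hQ hsQ htQ
      by_contra hna
      have hprop : ∀ X : Subgroup L, X ≤ Q → X ≠ Q → s ∈ Subgroup.normalizer (X : Set L) →
          t ∈ Subgroup.normalizer (X : Set L) → ∀ a ∈ X, ∀ b ∈ X, a * b = b * a := fun X hX hne =>
        ih _ (lt_of_le_of_ne (Subgroup.card_le_of_le hX) fun e =>
          hne (Subgroup.eq_of_le_of_card_ge hX e.ge)) X rfl (hX.trans hQH) (hQ.to_le hX)
      let M := ⁅Q, Q⁆
      have hMQ : M ≤ Q := Subgroup.commutator_le.2 fun a ha b hb => by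
        rw [commutatorElement_def]; exact mul_mem (mul_mem (mul_mem ha hb) (inv_mem ha)) (inv_mem hb)
      have hnormM : ∀ g ∈ Subgroup.normalizer (Q : Set L), g ∈ Subgroup.normalizer (M : Set L) := by
        intro g hg
        rw [Subgroup.mem_normalizer_iff_map_conj_eq] at hg ⊢
        rw [Subgroup.map_commutator, hg]
      have hMne : M ≠ Q := by
        intro e
        haveI := hQ.isNilpotent
        have h1 : commutator Q = ⊤ := by
          apply Subgroup.map_injective Q.subtype_injective
          rw [commutator_def, Subgroup.map_commutator, ← MonoidHom.range_eq_map, Q.range_subtype]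
          exact e
        rcases subsingleton_or_nontrivial Q with hQs | hQn
        · exact hna fun a ha b hb => congrArg Subtype.val (Subsingleton.elim (⟨a * b, mul_mem ha hb⟩ : Q) ⟨b * a, mul_mem hb ha⟩)
        · exact (Group.IsSolvable.commutator_lt_top_of_nontrivial Q).ne h1
      have hMab := hprop M hMQ hMne (hnormM s hsQ) (hnormM t htQ)
      have hMc : ∀ a ∈ Q, ∀ m ∈ M, a * m = m * a :=
        weights M Q (hMQ.trans hQH) hQH (hnormM s hsQ) (hnormM t htQ) hsQ htQ
          (fun a ha => hnormM a (Subgroup.le_normalizer ha)) hMab (hcop M (hQ.to_le hMQ))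
          fun a ha b hb m hm => hMab _ (Subgroup.commutator_mem_commutator ha hb) m hm
      have hXn : ∀ X : Subgroup L, M ≤ X → X ≤ Q → Q ≤ Subgroup.normalizer (X : Set L) := by
        intro X hMX hXQ a ha
        rw [Subgroup.mem_normalizer_iff]
        intro x
        refine ⟨fun hx => ?_, fun hx => ?_⟩
        · rw [show a * x * a⁻¹ = ⁅a, x⁆ * x by rw [commutatorElement_def]; group]
          exact mul_mem (hMX (Subgroup.commutator_mem_commutator ha (hXQ hx))) hx
        · rw [show x = ⁅a⁻¹, a * x * a⁻¹⁆ * (a * x * a⁻¹) by rw [commutatorElement_def]; group]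
          exact mul_mem (hMX (Subgroup.commutator_mem_commutator (inv_mem ha) (hXQ hx))) hx
      -- the invariant abelian subgroups containing `M` generate an abelian subgroup
      let Xs : Set (Subgroup L) := {X | M ≤ X ∧ X ≤ Q ∧ X ≠ Q ∧ s ∈ Subgroup.normalizer (X : Set L) ∧
        t ∈ Subgroup.normalizer (X : Set L)}
      let D := sSup Xs
      have hD : ∀ a ∈ D, ∀ b ∈ D, a * b = b * a := by
        have hXY : ∀ X ∈ Xs, D ≤ Subgroup.centralizer (X : Set L) := by
          rintro X ⟨hMX, hXQ, hXne, hsX, htX⟩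
          refine sSup_le ?_
          rintro Y ⟨hMY, hYQ, hYne, hsY, htY⟩ y hy x hx
          exact (weights X Y (hXQ.trans hQH) (hYQ.trans hQH) hsX htX hsY htY (hYQ.trans (hXn X hMX hXQ))
            (hprop X hXQ hXne hsX htX) (hcop X (hQ.to_le hXQ))
            (fun a ha b hb m hm => by
              rw [commutatorElement_eq_one_iff_mul_comm.2 (hprop Y hYQ hYne hsY htY a ha b hb), one_mul,
                mul_one]) y hy x hx).symm
        have h1 : D ≤ Subgroup.centralizer (D : Set L) := by
          refine sSup_le fun X hX x hx d hd => ?_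
          exact (hXY X hX hd x hx).symm
        exact fun a ha b hb => (h1 hb a ha)
      have hMs : ∀ X : Subgroup L, s ∈ Subgroup.normalizer (X : Set L) →
          s ∈ Subgroup.normalizer ((X ⊔ M : Subgroup L) : Set L) := fun X hX => by
        have h1 := hnormM s hsQ
        rw [Subgroup.mem_normalizer_iff_map_conj_eq] at hX h1 ⊢
        rw [Subgroup.map_sup, hX, h1]
      have hMt : ∀ X : Subgroup L, t ∈ Subgroup.normalizer (X : Set L) →
          t ∈ Subgroup.normalizer ((X ⊔ M : Subgroup L) : Set L) := fun X hX => by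
        have h1 := hnormM t htQ
        rw [Subgroup.mem_normalizer_iff_map_conj_eq] at hX h1 ⊢
        rw [Subgroup.map_sup, hX, h1]
      have hsup : ∀ X : Subgroup L, (∀ a ∈ X, ∀ b ∈ X, a * b = b * a) → X ≤ Q → X ⊔ M = Q → False := by
        intro X hX hXQ hXM
        have h1 : Q ≤ Subgroup.centralizer (Q : Set L) := by
          conv_lhs => rw [← hXM]
          refine sup_le (fun x hx => ?_) fun x hx y hy => hMc y hy x hx
          intro y hy
          have h2 : Q ≤ Subgroup.centralizer {x} := by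
            conv_lhs => rw [← hXM]
            exact sup_le (fun z hz => Subgroup.mem_centralizer_singleton_iff.2 (hX z hz x hx))
              fun z hz => Subgroup.mem_centralizer_singleton_iff.2 (hMc x (hXQ hx) z hz).symm
          exact Subgroup.mem_centralizer_singleton_iff.1 (h2 hy)
        exact hna fun a ha b hb => h1 hb a ha
      -- elements fixed by `t`
      have hCt : ∀ a ∈ Q, t * a = a * t → a ∈ D := by
        let Ct := Q ⊓ Subgroup.centralizer {t}
        have hCinv : ∀ g ∈ Ct, s * g * s⁻¹ ∈ Ct := by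
          intro g hg
          obtain ⟨hgQ, hgt⟩ := Subgroup.mem_inf.1 hg
          refine Subgroup.mem_inf.2 ⟨(Subgroup.mem_normalizer_iff.1 hsQ g).1 hgQ,
            Subgroup.mem_centralizer_singleton_iff.2 ?_⟩
          rw [Subgroup.mem_centralizer_singleton_iff] at hgt
          have hgt' : g * t⁻¹ = t⁻¹ * g := ((show Commute g t from hgt).inv_right).eq
          calc s * g * s⁻¹ * t = s * (g * t⁻¹) * s := by rw [hsi, mul_assoc _ s t, hst']; group
            _ = s * (t⁻¹ * g) * s := by rw [hgt']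
            _ = t * (s * g * s⁻¹) := by rw [← mul_assoc, ← mul_assoc, ← mul_assoc, hts, hsi]
        have hCs : s ∈ Subgroup.normalizer (Ct : Set L) := by
          rw [Subgroup.mem_normalizer_iff]
          refine fun g => ⟨hCinv g, fun hg => ?_⟩
          have := hCinv _ hg
          rwa [show s * (s * g * s⁻¹) * s⁻¹ = (s * s) * g * (s * s)⁻¹ by group, hs, inv_one, mul_one, one_mul] at this
        have hCtt : t ∈ Subgroup.normalizer (Ct : Set L) := by
          rw [Subgroup.mem_normalizer_iff]
          intro g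
          simp only [Ct, Subgroup.mem_inf, ← Subgroup.mem_normalizer_iff.1 htQ g,
            Subgroup.mem_centralizer_singleton_iff]
          refine and_congr_right fun _ => ⟨fun h => ?_, fun h => ?_⟩
          · rw [← h, mul_inv_cancel_right]
            exact h
          · have h3 := congrArg (fun x => t⁻¹ * x * 1) h
            simp [mul_assoc] at h3
            calc g * t = t * (g * t⁻¹) * t := by rw [← h3]
              _ = t * g := by group
        have hCtab : ∀ a ∈ Ct, ∀ b ∈ Ct, a * b = b * a := by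
          have hinv : ∀ g ∈ Ct, s * g * s⁻¹ = g⁻¹ := by
            let f : Ct → Ct := fun g => ⟨(g : L)⁻¹ * (s * g * s⁻¹), mul_mem (inv_mem g.2) (hCinv g g.2)⟩
            have hf : Function.Injective f := by
              rintro ⟨g, hg⟩ ⟨h, hh⟩ he
              have he' : g⁻¹ * (s * g * s⁻¹) = h⁻¹ * (s * h * s⁻¹) := congrArg Subtype.val he
              have h1 : h * g⁻¹ = 1 := by
                refine hHfix _ (mul_mem (hQH (Subgroup.mem_inf.1 hh).1) (inv_mem (hQH (Subgroup.mem_inf.1 hg).1))) ?_ ?_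
                · have : s * (h * g⁻¹) * s⁻¹ = h * g⁻¹ := by
                    calc s * (h * g⁻¹) * s⁻¹ = h * (h⁻¹ * (s * h * s⁻¹)) * (s * g * s⁻¹)⁻¹ := by group
                      _ = h * g⁻¹ := by rw [← he']; group
                  exact mul_inv_eq_iff_eq_mul.1 this
                · exact (Subgroup.mem_centralizer_singleton_iff.1
                    (Subgroup.mem_inf.1 (mul_mem hh (inv_mem hg))).2).symm
              exact Subtype.ext (mul_inv_eq_one.1 h1).symm
            intro x hx
            obtain ⟨⟨g, hg⟩, hgx⟩ := Finite.surjective_of_injective hf ⟨x, hx⟩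
            have hgx' : g⁻¹ * (s * g * s⁻¹) = x := congrArg Subtype.val hgx
            rw [← hgx']
            calc s * (g⁻¹ * (s * g * s⁻¹)) * s⁻¹ = (s * g * s⁻¹)⁻¹ * ((s * s) * g * (s * s)⁻¹) := by group
              _ = _ := by rw [hs]; group
          intro a ha b hb
          have h := hinv _ (mul_mem ha hb)
          rw [show s * (a * b) * s⁻¹ = (s * a * s⁻¹) * (s * b * s⁻¹) by group, hinv a ha, hinv b hb,
            mul_inv_rev] at h
          have h2 := congrArg (fun x => b * a * x * (a * b)) h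
          simpa [mul_assoc] using h2
        intro a ha hat
        refine le_sSup (a := Ct ⊔ M) (⟨le_sup_right, sup_le inf_le_left hMQ,
          fun e => hsup Ct hCtab inf_le_left e, hMs _ hCs, hMt _ hCtt⟩ : Ct ⊔ M ∈ Xs)
          (Subgroup.mem_sup_left (Subgroup.mem_inf.2 ⟨ha, Subgroup.mem_centralizer_singleton_iff.2 hat.symm⟩))
      -- elements fixed by `s`
      have hCsD : ∀ a ∈ Q, s * a = a * s → a ∈ D := by
        intro a ha has
        obtain ⟨b, hb⟩ : ∃ b, b = t * a * t⁻¹ := ⟨_, rfl⟩
        obtain ⟨c2, hc2⟩ : ∃ c2, c2 = t⁻¹ * a * t := ⟨_, rfl⟩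
        have hbQ : b ∈ Q := hb ▸ (Subgroup.mem_normalizer_iff.1 htQ a).1 ha
        have hc2Q : c2 ∈ Q := hc2 ▸ (Subgroup.mem_normalizer_iff''.1 htQ a).1 ha
        have hsa : s * a * s⁻¹ = a := by rw [has, mul_inv_cancel_right]
        have hsb : s * b * s⁻¹ = c2 := by
          rw [hb, hc2, show s * (t * a * t⁻¹) * s⁻¹ = (s * t) * a * (s * t)⁻¹ by group, hst',
            show t⁻¹ * s * a * (t⁻¹ * s)⁻¹ = t⁻¹ * (s * a * s⁻¹) * t by group, hsa]
        have hsc : s * c2 * s⁻¹ = b := by
          rw [← hsb, show s * (s * b * s⁻¹) * s⁻¹ = (s * s) * b * (s * s)⁻¹ by group, hs, inv_one, mul_one, one_mul]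
        have htb : t * b * t⁻¹ = c2 := by
          rw [hb, hc2]; exact htTT a
        have htc : t * c2 * t⁻¹ = a := by rw [hc2]; group
        let X := Subgroup.closure ({a, b, c2} : Set L) ⊔ M
        have hclQ : Subgroup.closure ({a, b, c2} : Set L) ≤ Q := by
          rw [Subgroup.closure_le]
          rintro x (rfl | rfl | rfl)
          exacts [ha, hbQ, hc2Q]
        have hclinv : ∀ g : L, g * a * g⁻¹ ∈ ({a, b, c2} : Set L) → g * b * g⁻¹ ∈ ({a, b, c2} : Set L) →
            g * c2 * g⁻¹ ∈ ({a, b, c2} : Set L) →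
            g ∈ Subgroup.normalizer ((Subgroup.closure ({a, b, c2} : Set L) : Subgroup L) : Set L) := by
          intro g h1 h2 h3
          rw [Subgroup.mem_normalizer_iff_map_conj_eq]
          refine Subgroup.eq_of_le_of_card_ge ?_ ?_
          · rw [MonoidHom.map_closure, Subgroup.closure_le]
            rintro _ ⟨x, (rfl | rfl | rfl), rfl⟩
            exacts [Subgroup.subset_closure h1, Subgroup.subset_closure h2, Subgroup.subset_closure h3]
          · exact le_of_eq (Nat.card_congr
              (Subgroup.equivMapOfInjective _ (MulAut.conj g).toMonoidHom (MulAut.conj g).injective).toEquiv)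
        have hclX : a ∈ X := Subgroup.mem_sup_left (Subgroup.subset_closure (by simp))
        have hXs : s ∈ Subgroup.normalizer (X : Set L) :=
          hMs _ (hclinv s (by simp [hsa]) (by simp [hsb]) (by simp [hsc]))
        have hXt : t ∈ Subgroup.normalizer (X : Set L) :=
          hMt _ (hclinv t (by simp [← hb]) (by simp [htb]) (by simp [htc]))
        by_cases hXQ : X = Q
        swap
        · exact le_sSup (a := X) (⟨le_sup_right, sup_le hclQ hMQ, hXQ, hXs, hXt⟩ : X ∈ Xs) hclX
        exfalso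
        -- `a b c2` is trivial modulo `M`
        have hQn := hXn M le_rfl hMQ
        have hab : ∀ x ∈ Q, ∀ y ∈ Q, ∀ m ∈ M, (x * m) * y = x * y * m := fun x _ y hy m hm => by
          rw [mul_assoc, ← hMc y hy m hm, ← mul_assoc]
        have hz : a * b * c2 ∈ M := by
          refine lift Q M hQH hMQ hsQ htQ (hnormM s hsQ) (hnormM t htQ) _ (mul_mem (mul_mem ha hbQ) hc2Q) ?_ ?_
          · rw [show s * (a * b * c2) * s⁻¹ = (s * a * s⁻¹) * (s * b * s⁻¹) * (s * c2 * s⁻¹) by group,
              hsa, hsb, hsc, show (a * b * c2)⁻¹ * (a * c2 * b) = ⁅c2⁻¹, b⁻¹⁆ by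
                rw [commutatorElement_def]; group]
            exact Subgroup.commutator_mem_commutator (inv_mem hc2Q) (inv_mem hbQ)
          · rw [show t * (a * b * c2) * t⁻¹ = (t * a * t⁻¹) * (t * b * t⁻¹) * (t * c2 * t⁻¹) by group,
              ← hb, htb, htc, show (a * b * c2)⁻¹ * (b * c2 * a) = ⁅(b * c2)⁻¹, a⁻¹⁆ by
                rw [commutatorElement_def]; group]
            exact Subgroup.commutator_mem_commutator (inv_mem (mul_mem hbQ hc2Q)) (inv_mem ha)
        obtain ⟨z, hzM, hzd⟩ : ∃ z ∈ M, c2 = b⁻¹ * a⁻¹ * z := ⟨_, hz, by group⟩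
        obtain ⟨c, hcd⟩ : ∃ c, c = ⁅a, b⁆ := ⟨_, rfl⟩
        have hcM : c ∈ M := hcd ▸ Subgroup.commutator_mem_commutator ha hbQ
        have hcQ : ∀ x ∈ Q, x * c = c * x := fun x hx => hMc x hx c hcM
        have hgen : Q ≤ Subgroup.closure ({a, b} : Set L) ⊔ M := by
          conv_lhs => rw [← hXQ]
          refine sup_le (Subgroup.closure_le _ |>.2 ?_) le_sup_right
          rintro x (rfl | rfl | rfl)
          · exact Subgroup.mem_sup_left (Subgroup.subset_closure (by simp))
          · exact Subgroup.mem_sup_left (Subgroup.subset_closure (by simp))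
          · rw [hzd]
            exact mul_mem (Subgroup.mem_sup_left (mul_mem (inv_mem (Subgroup.subset_closure (by simp)))
              (inv_mem (Subgroup.subset_closure (by simp))))) (Subgroup.mem_sup_right hzM)
        have hc1 : c ≠ 1 := by
          intro hc
          have hcomm : a * b = b * a := commutatorElement_eq_one_iff_mul_comm.1 (hcd ▸ hc)
          have hxab : ∀ x : L, x * a = a * x → x * b = b * x → (∀ m ∈ M, x * m = m * x) →
              ∀ q ∈ Q, q * x = x * q := by
            intro x h1 h2 h3 q hq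
            refine Subgroup.mem_centralizer_singleton_iff.1
              ((sup_le (Subgroup.closure_le _ |>.2 ?_) fun m hm => ?_ :
                Subgroup.closure ({a, b} : Set L) ⊔ M ≤ Subgroup.centralizer {x}) (hgen hq))
            · rintro y (rfl | rfl)
              · exact Subgroup.mem_centralizer_singleton_iff.2 h1.symm
              · exact Subgroup.mem_centralizer_singleton_iff.2 h2.symm
            · exact Subgroup.mem_centralizer_singleton_iff.2 (h3 m hm).symm
          have hA := hxab a rfl hcomm fun m hm => hMc a ha m hm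
          have hB := hxab b hcomm.symm rfl fun m hm => hMc b hbQ m hm
          exact hna fun x hx y hy => (hxab y (hA y hy) (hB y hy) (fun m hm => hMc y hy m hm) x hx)
        have hsc' : s * c * s⁻¹ = c⁻¹ := by
          have e : ⁅a, c2⁆ * c = 1 := by
            rw [hzd, commutatorElement_def, hcd, commutatorElement_def]
            have hz' : ∀ x ∈ Q, z * x = x * z := fun x hx => (hMc x hx z hzM).symm
            calc a * (b⁻¹ * a⁻¹ * z) * a⁻¹ * (b⁻¹ * a⁻¹ * z)⁻¹ * (a * b * a⁻¹ * b⁻¹)
                = a * b⁻¹ * a⁻¹ * (z * a⁻¹) * z⁻¹ * (a * b) * (a * b * a⁻¹ * b⁻¹) := by group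
              _ = a * b⁻¹ * a⁻¹ * a⁻¹ * (a * b) * (a * b * a⁻¹ * b⁻¹) := by
                  rw [hz' _ (inv_mem ha)]; group
              _ = a * b⁻¹ * (a⁻¹ * (b * (a * b * a⁻¹ * b⁻¹))) := by group
              _ = a * b⁻¹ * (a⁻¹ * ((a * b * a⁻¹ * b⁻¹) * b)) := by
                  rw [show b * (a * b * a⁻¹ * b⁻¹) = (a * b * a⁻¹ * b⁻¹) * b by
                    have := hcQ b hbQ; rwa [hcd, commutatorElement_def] at this]
              _ = 1 := by group
          rw [hcd, commutatorElement_def, show s * (a * b * a⁻¹ * b⁻¹) * s⁻¹ =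
            (s * a * s⁻¹) * (s * b * s⁻¹) * (s * a * s⁻¹)⁻¹ * (s * b * s⁻¹)⁻¹ by group, hsa, hsb,
            ← commutatorElement_def, ← commutatorElement_def, ← hcd]
          exact eq_inv_of_mul_eq_one_left e
        have htc' : t * c = c * t := by
          have e : ⁅b, c2⁆ = c := by
            rw [hzd, commutatorElement_def, hcd, commutatorElement_def]
            have hz' : ∀ x ∈ Q, z * x = x * z := fun x hx => (hMc x hx z hzM).symm
            calc b * (b⁻¹ * a⁻¹ * z) * b⁻¹ * (b⁻¹ * a⁻¹ * z)⁻¹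
                = a⁻¹ * (z * b⁻¹) * z⁻¹ * (a * b) := by group
              _ = a⁻¹ * b⁻¹ * (a * b) := by rw [hz' _ (inv_mem hbQ)]; group
              _ = a⁻¹ * b⁻¹ * ((a * b * a⁻¹ * b⁻¹) * b) * a := by group
              _ = a⁻¹ * b⁻¹ * (b * (a * b * a⁻¹ * b⁻¹)) * a := by
                  rw [show b * (a * b * a⁻¹ * b⁻¹) = (a * b * a⁻¹ * b⁻¹) * b by
                    have := hcQ b hbQ; rwa [hcd, commutatorElement_def] at this]
              _ = a⁻¹ * ((a * b * a⁻¹ * b⁻¹) * a) := by group
              _ = a⁻¹ * (a * (a * b * a⁻¹ * b⁻¹)) := by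
                  rw [show a * (a * b * a⁻¹ * b⁻¹) = (a * b * a⁻¹ * b⁻¹) * a by
                    have := hcQ a ha; rwa [hcd, commutatorElement_def] at this]
              _ = _ := by group
          refine mul_inv_eq_iff_eq_mul.1 ?_
          conv_rhs => rw [← e, commutatorElement_def]
          rw [hcd, commutatorElement_def, show t * (a * b * a⁻¹ * b⁻¹) * t⁻¹ =
            (t * a * t⁻¹) * (t * b * t⁻¹) * (t * a * t⁻¹)⁻¹ * (t * b * t⁻¹)⁻¹ by group, ← hb, htb]
        -- an eigenspace of `c`
        have hqk : (q : k) ≠ 0 := fun h =>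
          hqp ((Nat.prime_dvd_prime_iff_eq hp.out hq).1 ((CharP.cast_eq_zero_iff k p q).1 h)).symm
        obtain ⟨e, he⟩ := hQ.exists_card_eq
        have hcN : c ^ Nat.card Q = 1 :=
          (SubgroupClass.coe_pow (⟨c, hMQ hcM⟩ : Q) _).symm.trans (congrArg Subtype.val pow_card_eq_one')
        have hρc : ρ c ^ Nat.card Q = 1 := by rw [← map_pow, hcN, map_one]
        obtain ⟨n', bas, ev, hev⟩ := HallHigman.exists_eigenBasis (ρ c)
          (by rw [he, Nat.cast_pow]; exact pow_ne_zero _ hqk) hρc
        obtain ⟨i, hi⟩ : ∃ i, ev i ≠ 1 := by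
          by_contra hcon
          push Not at hcon
          refine hc1 (hρinj ?_)
          rw [map_one]
          exact bas.ext fun i => by rw [hev, hcon, one_smul]; rfl
        let E := Module.End.eigenspace (ρ c) (ev i)
        let C := Subgroup.centralizer ({c} : Set L)
        have hE : ∀ g : C, ∀ w ∈ E, (ρ.comp C.subtype) g w ∈ E := by
          rintro ⟨g, hg⟩ w hw
          rw [Module.End.mem_eigenspace_iff] at hw ⊢
          show ρ c (ρ g w) = _
          rw [← Module.End.mul_apply, ← map_mul, ← Subgroup.mem_centralizer_singleton_iff.1 hg, map_mul,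
            Module.End.mul_apply, hw, map_smul]
          rfl
        let σ := HallHigman.resRep (ρ.comp C.subtype) E hE
        have hevN : ev i ^ Nat.card Q = 1 := by
          refine smul_left_injective k (bas.ne_zero i) ?_
          show ev i ^ Nat.card Q • bas i = (1 : k) • bas i
          have hpow : ∀ j : ℕ, (ρ c ^ j) (bas i) = ev i ^ j • bas i := by
            intro j
            induction j with
            | zero => simp
            | succ j ih => rw [pow_succ', Module.End.mul_apply, ih, map_smul, hev, smul_smul, pow_succ]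
          rw [← hpow, hρc, one_smul]
          rfl
        have hodd : Odd (Nat.card Q) :=
          (Nat.coprime_two_right.1 ((hH6.coprime_dvd_left (Subgroup.card_dvd_of_le hQH)).coprime_dvd_right
            (by norm_num)))
        have hEfix : ∀ u : E, σ ⟨t, Subgroup.mem_centralizer_singleton_iff.2 htc'⟩ u = u → u = 0 := by
          rintro ⟨u, hu⟩ hu'
          have htu : ρ t u = u := congrArg Subtype.val hu'
          have h1 : ρ t (ρ s u) = ρ s u := by
            have htu' : ρ t⁻¹ u = u := by
              conv_lhs => rw [← htu, ← Module.End.mul_apply, ← map_mul, inv_mul_cancel, map_one]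
              rfl
            rw [← Module.End.mul_apply, ← map_mul, hts, map_mul, Module.End.mul_apply, htu']
          have h2 : ρ s (ρ s u) = u := by
            rw [← Module.End.mul_apply, ← map_mul, hs, map_one]
            rfl
          have h3 : u + ρ s u = 0 := hρfix s t hvfix _ (by rw [map_add, h2, add_comm]) (by rw [map_add, h1, htu])
          have h4 : ρ c (ρ s u) = (ev i)⁻¹ • ρ s u := by
            rw [Module.End.mem_eigenspace_iff] at hu
            have hinv : ρ c⁻¹ u = (ev i)⁻¹ • u := by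
              have hne : ev i ≠ 0 := fun h0 => by
                rw [h0, zero_pow Nat.card_pos.ne'] at hevN
                exact zero_ne_one hevN
              refine (eq_inv_smul_iff₀ hne).2 ?_
              rw [← map_smul, ← hu, ← Module.End.mul_apply, ← map_mul, inv_mul_cancel, map_one]
              rfl
            rw [← Module.End.mul_apply, ← map_mul, show c * s = s * c⁻¹ by rw [← hsc', hsi, ← mul_assoc, ← mul_assoc, hs, one_mul],
              map_mul, Module.End.mul_apply, hinv, map_smul]
          have h5 : ρ s u = -u := by rw [add_comm] at h3; exact eq_neg_of_add_eq_zero_left h3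
          rw [h5, map_neg, smul_neg, neg_inj, Module.End.mem_eigenspace_iff.1 hu] at h4
          by_contra hu0
          have hu0' : u ≠ 0 := fun h => hu0 (Subtype.ext h)
          have hee : ev i = (ev i)⁻¹ := smul_left_injective k hu0' h4
          refine hi ?_
          obtain ⟨j, hj⟩ := hodd
          have hne : ev i ≠ 0 := fun h0 => by
            rw [h0, zero_pow Nat.card_pos.ne'] at hevN
            exact zero_ne_one hevN
          have hsq : ev i ^ 2 = 1 := by
            rw [pow_two]; nth_rewrite 2 [hee]; exact mul_inv_cancel₀ hne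
          rwa [hj, pow_succ, pow_mul, hsq, one_pow, one_mul] at hevN
        have hQC : Q ≤ C := fun x hx => Subgroup.mem_centralizer_singleton_iff.2 (hcQ x hx)
        have htC : t ∈ C := Subgroup.mem_centralizer_singleton_iff.2 htc'
        by_cases hne : ∃ x ∈ Q.subgroupOf C, σ (⟨t, htC⟩ * x * (⟨t, htC⟩ : C)⁻¹) ≠ σ x
        · have hq3 : q ≠ 3 := fun h => by
            have := Nat.eq_one_of_dvd_coprimes
              ((hH6.coprime_dvd_left (Subgroup.card_dvd_of_le hQH)).coprime_dvd_right (by norm_num : (3 : ℕ) ∣ 6))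
              (show q ∣ Nat.card Q by
                obtain ⟨e', he'⟩ := hQ.exists_card_eq
                rcases Nat.eq_zero_or_pos e' with h0 | h0
                · rw [h0, pow_zero] at he'
                  exact absurd (Subgroup.eq_bot_of_card_eq Q he') fun hbot => hna fun x hx y hy => by
                    rw [hbot, Subgroup.mem_bot] at hx hy; rw [hx, hy]
                · rw [he']; exact dvd_pow_self q h0.ne') (h ▸ dvd_rfl)
            rw [h] at this
            norm_num at this
          have h3k : ((3 : ℕ) : k) ≠ 0 := fun h => by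
            have h1 := (CharP.cast_eq_zero_iff k p 3).1 h
            exact hp3 ((Nat.prime_dvd_prime_iff_eq hp.out Nat.prime_three).1 h1)
          obtain ⟨h2, -⟩ := HallHigman.prime_order (ρ := σ) (Q := Q.subgroupOf C) (q := q)
            (hQ.of_equiv (Subgroup.subgroupOfEquivOfLe hQC).symm) Nat.prime_three hq3 hqk
            (x := (⟨t, htC⟩ : C)) (Subtype.ext (by simpa using ht)) h3k
            (fun x hx => (Subgroup.mem_normalizer_iff.1 htQ _).1 hx) hEfix hne
          subst h2
          rw [he] at hodd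
          rcases Nat.eq_zero_or_pos e with h0 | h0
          · rw [h0, pow_zero] at he
            refine hna fun x hx y hy => ?_
            rw [Subgroup.eq_bot_of_card_eq Q he, Subgroup.mem_bot] at hx hy
            rw [hx, hy]
          · exact (Nat.not_even_iff_odd.2 hodd) (Nat.even_pow.2 ⟨even_two, h0.ne'⟩)
        · push Not at hne
          have hbC := hQC hbQ
          have hab' : σ ⟨b, hbC⟩ = σ ⟨a, hQC ha⟩ := by
            rw [← hne ⟨a, hQC ha⟩ ha]
            congr 1
            exact Subtype.ext hb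
          have hσc : σ (⟨a, hQC ha⟩ * ⟨b, hbC⟩ * (⟨a, hQC ha⟩ : C)⁻¹ * (⟨b, hbC⟩ : C)⁻¹) = 1 := by
            rw [map_mul, map_mul, map_mul, hab', ← map_mul, ← map_mul, mul_inv_cancel_right, ← hab', ← map_mul,
              mul_inv_cancel, map_one]
          refine hi ?_
          have h1 := congrArg (fun f : End k E => ((f ⟨bas i, Module.End.mem_eigenspace_iff.2 (hev i)⟩ : E) : Fin n → k)) hσc
          have h1' : ρ ⁅a, b⁆ (bas i) = bas i := h1
          rw [← hcd, hev] at h1'
          exact smul_left_injective k (bas.ne_zero i) (h1'.trans (one_smul k _).symm)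
      -- everything is in `D`
      have hQD : Q ≤ D := by
        have hDs : ∀ x : L, s * x * s⁻¹ = x → x ∈ Q → x ∈ D := fun x h hx => hCsD x hx (mul_inv_eq_iff_eq_mul.1 h)
        have hMD : M ≤ D := fun m hm =>
          le_sSup (a := M) (⟨le_rfl, hMQ, hMne, hnormM s hsQ, hnormM t htQ⟩ : M ∈ Xs) hm
        have hDinv : ∀ g : L, g ∈ Subgroup.normalizer (Q : Set L) → g ∈ Subgroup.normalizer (M : Set L) →
            (∀ X ∈ Xs, X.map (MulAut.conj g).toMonoidHom ∈ Xs) → ∀ x ∈ D, g * x * g⁻¹ ∈ D := by
          intro g _ _ h x hx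
          have : D.map (MulAut.conj g).toMonoidHom ≤ D := by
            show (sSup Xs).map _ ≤ _
            rw [sSup_eq_iSup, Subgroup.map_iSup]
            refine iSup_le fun X => ?_
            rw [Subgroup.map_iSup]
            exact iSup_le fun hX => le_sSup (h X hX)
          exact this ⟨x, hx, rfl⟩
        have hDt : ∀ x ∈ D, t * x * t⁻¹ ∈ D := by
          refine hDinv t htQ (hnormM t htQ) ?_
          rintro X ⟨hMX, hXQ, hXne, hsX, htX⟩
          rw [show X.map (MulAut.conj t).toMonoidHom = X from (Subgroup.mem_normalizer_iff_map_conj_eq.1 htX)]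
          exact ⟨hMX, hXQ, hXne, hsX, htX⟩
        -- `x · sxs⁻¹ ∈ D` for all `x`
        have h1 : ∀ x ∈ Q, x * (s * x * s⁻¹) ∈ D := by
          intro x hx
          have hx' := (Subgroup.mem_normalizer_iff.1 hsQ x).1 hx
          -- fixed modulo `M`, hence in `C_Q(s) M`
          have hmem := mul_mem hx hx'
          let K := Subgroup.zpowers s
          have hKQ : K ≤ Subgroup.normalizer (Q : Set L) := Subgroup.zpowers_le.2 hsQ
          have hKM : K ≤ Subgroup.normalizer (M : Set L) := Subgroup.zpowers_le.2 (hnormM s hsQ)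
          have hKcop : ∀ N : Subgroup L, N ≤ Q → (Nat.card K).Coprime (Nat.card N) := by
            intro N hN
            rw [Nat.card_zpowers]
            refine Nat.Coprime.coprime_dvd_left (orderOf_dvd_of_pow_eq_one (n := 6) ?_) ?_
            · rw [show (6 : ℕ) = 2 * 3 by rfl, pow_mul, pow_two, hs, one_pow]
            · exact (hH6.coprime_dvd_left (Subgroup.card_dvd_of_le (hN.trans hQH))).symm
          obtain ⟨d, hd, hdM⟩ := Cfsg.Agent.Solv.exists_centralizing_in_coset K Q M hKQ
            (Cfsg.Agent.Solv.inf_eq_bot_of_coprime_card K Q (hKcop Q le_rfl)) hMQ hKM (hKcop M hMQ)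
            (Or.inr (Cfsg.Agent.Solv.isSolvable_of_le (hMQ.trans hQH) hHs)) _ hmem (by
              intro g hg
              have hfix1 : (x * (s * x * s⁻¹))⁻¹ * s * (x * (s * x * s⁻¹)) * s⁻¹ ∈ M := by
                rw [show (x * (s * x * s⁻¹))⁻¹ * s * (x * (s * x * s⁻¹)) * s⁻¹ =
                  (s * x * s⁻¹)⁻¹ * x⁻¹ * (s * x * s⁻¹) * ((s * s) * x * (s * s)⁻¹) by group, hs, inv_one,
                  mul_one, one_mul]
                rw [show (s * x * s⁻¹)⁻¹ * x⁻¹ * (s * x * s⁻¹) * x = ⁅(s * x * s⁻¹)⁻¹, x⁻¹⁆ by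
                  rw [commutatorElement_def]; group]
                exact Subgroup.commutator_mem_commutator (inv_mem hx') (inv_mem hx)
              obtain ⟨j, rfl⟩ := Subgroup.mem_zpowers_iff.1 hg
              have hs2 : s ^ (2 : ℤ) = 1 := by rw [zpow_two, hs]
              rcases Int.even_or_odd j with ⟨l, hl⟩ | ⟨l, hl⟩
              · rw [hl, ← two_mul, zpow_mul, hs2, one_zpow]
                rw [mul_one, inv_one, mul_one, inv_mul_cancel]
                exact M.one_mem
              · rw [hl, zpow_add, zpow_mul, hs2, one_zpow, one_mul, zpow_one]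
                exact hfix1)
          have hdD : d ∈ D := hCsD d (Subgroup.mem_inf.1 hd).1 ((Subgroup.mem_inf.1 hd).2 s (Subgroup.mem_zpowers s))
          rw [show x * (s * x * s⁻¹) = d * ((x * (s * x * s⁻¹))⁻¹ * d)⁻¹ by group]
          exact mul_mem hdD (inv_mem (hMD hdM))
        intro x hx
        obtain ⟨y, hy⟩ : ∃ y, y = t * x * t⁻¹ := ⟨_, rfl⟩
        have hyQ : y ∈ Q := hy ▸ (Subgroup.mem_normalizer_iff.1 htQ x).1 hx
        obtain ⟨y2, hy2⟩ : ∃ y2, y2 = t⁻¹ * x * t := ⟨_, rfl⟩
        have hy2Q : y2 ∈ Q := hy2 ▸ (Subgroup.mem_normalizer_iff''.1 htQ x).1 hx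
        have hmodc : ∀ u ∈ Q, ∀ v ∈ Q, u * v ∈ D → v * u ∈ D := by
          intro u hu v hv h
          rw [show v * u = ⁅v, u⁆ * (u * v) by rw [commutatorElement_def]; group]
          exact mul_mem (hMD (Subgroup.commutator_mem_commutator hv hu)) h
        -- `y ≡ x` modulo `D`
        have h2 : y * x⁻¹ ∈ D := by
          have e2 := hDt _ (h1 y2 hy2Q)
          rw [show t * (y2 * (s * y2 * s⁻¹)) * t⁻¹ = (t * y2 * t⁻¹) * ((t * s) * y2 * (t * s)⁻¹) by group, hts,
            show s * t⁻¹ * y2 * (s * t⁻¹)⁻¹ = s * (t⁻¹ * y2 * t) * s⁻¹ by group] at e2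
          have hinv : t⁻¹ = t * t := inv_eq_of_mul_eq_one_left (by rw [← pow_two, ← pow_succ]; exact ht)
          have hty : t⁻¹ * y2 * t = y := by
            rw [hy2, hy]; exact htTT' x
          rw [hty, show t * y2 * t⁻¹ = x by rw [hy2]; group] at e2
          have e1 := h1 y hyQ
          have h3 := mul_mem e1 (inv_mem e2)
          rwa [show y * (s * y * s⁻¹) * (x * (s * y * s⁻¹))⁻¹ = y * x⁻¹ by group] at h3
        have h2' : y2 * x⁻¹ ∈ D := by
          have := hDt _ h2
          have hinv : t⁻¹ = t * t := inv_eq_of_mul_eq_one_left (by rw [← pow_two, ← pow_succ]; exact ht)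
          rw [show t * (y * x⁻¹) * t⁻¹ = (t * y * t⁻¹) * (t * x * t⁻¹)⁻¹ by group, ← hy,
            show t * y * t⁻¹ = y2 by rw [hy, hy2]; exact htTT x] at this
          have := mul_mem this h2
          rwa [mul_assoc, inv_mul_cancel_left] at this
        -- the norm lies in `C_Q(t) M`
        have h3 : x * y * y2 ∈ D := by
          let K := Subgroup.zpowers t
          have hmem := mul_mem (mul_mem hx hyQ) hy2Q
          have hKcop : ∀ N : Subgroup L, N ≤ Q → (Nat.card K).Coprime (Nat.card N) := by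
            intro N hN
            rw [Nat.card_zpowers]
            refine Nat.Coprime.coprime_dvd_left (orderOf_dvd_of_pow_eq_one (n := 6) ?_) ?_
            · rw [show (6 : ℕ) = 3 * 2 by rfl, pow_mul, ht, one_pow]
            · exact (hH6.coprime_dvd_left (Subgroup.card_dvd_of_le (hN.trans hQH))).symm
          have hty : t * y * t⁻¹ = y2 := by
            rw [hy, hy2]; exact htTT x
          have hfix1 : (x * y * y2)⁻¹ * t * (x * y * y2) * t⁻¹ ∈ M := by
            rw [show (x * y * y2)⁻¹ * t * (x * y * y2) * t⁻¹ =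
              (x * y * y2)⁻¹ * ((t * x * t⁻¹) * (t * y * t⁻¹) * (t * y2 * t⁻¹)) by group, ← hy, hty,
              show t * y2 * t⁻¹ = x by rw [hy2]; group,
              show (x * y * y2)⁻¹ * (y * y2 * x) = ⁅(y * y2)⁻¹, x⁻¹⁆ by rw [commutatorElement_def]; group]
            exact Subgroup.commutator_mem_commutator (inv_mem (mul_mem hyQ hy2Q)) (inv_mem hx)
          obtain ⟨d, hd, hdM⟩ := Cfsg.Agent.Solv.exists_centralizing_in_coset K Q M (Subgroup.zpowers_le.2 htQ)
            (Cfsg.Agent.Solv.inf_eq_bot_of_coprime_card K Q (hKcop Q le_rfl)) hMQ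
            (Subgroup.zpowers_le.2 (hnormM t htQ)) (hKcop M hMQ)
            (Or.inr (Cfsg.Agent.Solv.isSolvable_of_le (hMQ.trans hQH) hHs)) _ hmem (by
              intro g hg
              let Z : Subgroup L :=
                { carrier := {g | g ∈ Subgroup.normalizer (M : Set L) ∧ (x * y * y2)⁻¹ * g * (x * y * y2) * g⁻¹ ∈ M}
                  one_mem' := ⟨one_mem _, by rw [mul_one, inv_one, mul_one, inv_mul_cancel]; exact M.one_mem⟩
                  mul_mem' := fun {g h} hg hh => ⟨mul_mem hg.1 hh.1, by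
                    rw [show (x * y * y2)⁻¹ * (g * h) * (x * y * y2) * (g * h)⁻¹ =
                      ((x * y * y2)⁻¹ * g * (x * y * y2) * g⁻¹) *
                      (g * ((x * y * y2)⁻¹ * h * (x * y * y2) * h⁻¹) * g⁻¹) by group]
                    exact mul_mem hg.2 ((Subgroup.mem_normalizer_iff.1 hg.1 _).1 hh.2)⟩
                  inv_mem' := fun {g} hg => ⟨inv_mem hg.1, by
                    rw [show (x * y * y2)⁻¹ * g⁻¹ * (x * y * y2) * g⁻¹⁻¹ =
                      g⁻¹ * ((x * y * y2)⁻¹ * g * (x * y * y2) * g⁻¹)⁻¹ * g by group]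
                    exact (Subgroup.mem_normalizer_iff''.1 hg.1 _).1 (inv_mem hg.2)⟩ }
              exact ((Subgroup.zpowers_le.2 (show t ∈ Z from ⟨hnormM t htQ, hfix1⟩)) hg).2)
          have hdD : d ∈ D := hCt d (Subgroup.mem_inf.1 hd).1 ((Subgroup.mem_inf.1 hd).2 t (Subgroup.mem_zpowers t))
          rw [show x * y * y2 = d * ((x * y * y2)⁻¹ * d)⁻¹ by group]
          exact mul_mem hdD (inv_mem (hMD hdM))
        -- hence `x ^ 3 ∈ D`
        refine mem_pow D x (n := 3) ?_ ?_
        · refine Nat.Coprime.coprime_dvd_left ?_ ((hH6.coprime_dvd_left (Subgroup.card_dvd_of_le hQH)).coprime_dvd_right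
            (by norm_num : (3 : ℕ) ∣ 6))
          have h := orderOf_dvd_natCard (⟨x, hx⟩ : Q)
          rwa [← Subgroup.orderOf_coe] at h
        have hy3 : x ^ 3 = x * y * y2 * (y2⁻¹ * (y⁻¹ * x) * y2) * (y2⁻¹ * x) := by
          rw [pow_succ, pow_two]; group
        have hconj : ∀ u ∈ Q, ∀ d ∈ D, d ∈ Q → u⁻¹ * d * u ∈ D := by
          intro u hu d hd hdQ
          rw [show u⁻¹ * d * u = ⁅u⁻¹, d⁆ * d by rw [commutatorElement_def]; group]
          exact mul_mem (hMD (Subgroup.commutator_mem_commutator (inv_mem hu) hdQ)) hd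
        rw [hy3]
        refine mul_mem (mul_mem h3 (hconj y2 hy2Q _ ?_ (mul_mem (inv_mem hyQ) hx))) ?_
        · exact hmodc _ hx _ (inv_mem hyQ) (by simpa using inv_mem h2)
        · exact hmodc _ hx _ (inv_mem hy2Q) (by simpa using inv_mem h2')
      exact hna fun a ha b hb => hD a (hQD ha) b (hQD hb)
  -- the derived subgroup is a `p'`-group
  haveI hM0n : (⁅H, H⁆ : Subgroup L).Normal := Subgroup.commutator_normal H H
  have hM0H : ⁅H, H⁆ ≤ H := Subgroup.commutator_le_left H H
  haveI := hnil
  have hM0p : ¬ p ∣ Nat.card (⁅H, H⁆ : Subgroup L) := by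
    intro hdvd
    obtain ⟨P⟩ := Sylow.nonempty (p := p) (G := (⁅H, H⁆ : Subgroup L))
    haveI : (P : Subgroup (⁅H, H⁆ : Subgroup L)).Characteristic :=
      Sylow.characteristic_of_normal P (Sylow.normal_of_normalizerCondition Group.normalizerCondition_of_isNilpotent P)
    have hP0 : ((P : Subgroup _).map (⁅H, H⁆ : Subgroup L).subtype) ≠ ⊥ := by
      rw [Ne, Subgroup.map_eq_bot_iff_of_injective _ (Subgroup.subtype_injective _)]
      exact P.ne_bot_of_dvd_card hdvd
    obtain ⟨P0, hP0d⟩ : ∃ P0, P0 = (P : Subgroup _).map (⁅H, H⁆ : Subgroup L).subtype := ⟨_, rfl⟩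
    have hP0n : P0.Normal := hP0d ▸ ConjAct.normal_of_characteristic_of_normal
    rw [← hP0d] at hP0
    refine hP0 ?_
    let W : Subgroup V :=
      { carrier := {v | ∀ g ∈ P0, φ g v = v}
        one_mem' := fun g _ => map_one _
        mul_mem' := fun {u v} hu hv g hg => by rw [map_mul, hu g hg, hv g hg]
        inv_mem' := fun {u} hu g hg => by rw [map_inv, hu g hg] }
    have hW : ∀ g : L, ∀ w ∈ W, φ g w ∈ W := by
      intro g w hw x hx
      have := hw _ (hP0n.conj_mem x hx g⁻¹)
      rw [inv_inv] at this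
      calc φ x (φ g w) = φ g (φ (g⁻¹ * x * g) w) := by
            rw [← MulAut.mul_apply, ← MulAut.mul_apply, ← map_mul, ← map_mul]; congr 2; group
        _ = φ g w := by rw [this]
    rcases hirr W hW with hbot | htop
    · exfalso
      letI : MulAction P0 V := MulAction.compHom V (φ.comp P0.subtype)
      have hpV : p ∣ Nat.card V := by
        obtain ⟨v, hv⟩ := exists_ne (1 : V)
        rw [← orderOf_eq_prime (hexp v) hv]
        exact orderOf_dvd_natCard v
      obtain ⟨b, hb, hb1⟩ := (show IsPGroup p P0 from hP0d ▸ P.isPGroup'.map _).exists_fixed_point_of_prime_dvd_card_of_fixed_point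
        (α := V) hpV (a := 1) (fun g => map_one (φ (g : L)))
      exact hb1 (Subgroup.mem_bot.1 (hbot ▸ (show b ∈ W from fun g hg => hb ⟨g, hg⟩))).symm
    · rw [eq_bot_iff]
      intro g hg
      exact hφ ((MulEquiv.ext fun v => (htop ▸ Subgroup.mem_top v : v ∈ W) g hg).trans (map_one φ).symm)
  have hM0s : ∀ g : L, g ∈ Subgroup.normalizer ((⁅H, H⁆ : Subgroup L) : Set L) := fun g => by
    rw [Subgroup.normalizer_eq_top]; exact Subgroup.mem_top g
  -- the derived subgroup is abelian
  have hM0ab : ∀ a ∈ ⁅H, H⁆, ∀ b ∈ ⁅H, H⁆, a * b = b * a := by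
    intro a ha b hb
    refine congrArg Subtype.val (comm_of_nilpotent hnil (fun q hq P x hx y hy => Subtype.ext ?_) ⟨a, ha⟩ ⟨b, hb⟩)
    haveI := Fact.mk hq
    haveI : (P : Subgroup (⁅H, H⁆ : Subgroup L)).Characteristic :=
      Sylow.characteristic_of_normal P (Sylow.normal_of_normalizerCondition Group.normalizerCondition_of_isNilpotent P)
    have hn : ((P : Subgroup _).map (⁅H, H⁆ : Subgroup L).subtype).Normal := ConjAct.normal_of_characteristic_of_normal
    have hN : ∀ g : L, g ∈ Subgroup.normalizer (((P : Subgroup _).map (⁅H, H⁆ : Subgroup L).subtype : Subgroup L) : Set L) :=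
      fun g => by rw [Subgroup.normalizer_eq_top]; exact Subgroup.mem_top g
    by_cases hqp : q = p
    · have hone : (P : Subgroup (⁅H, H⁆ : Subgroup L)) = ⊥ := by
        by_contra hne
        obtain ⟨e, he⟩ := P.isPGroup'.exists_card_eq
        rcases Nat.eq_zero_or_pos e with h0 | h0
        · exact hne (Subgroup.eq_bot_of_card_eq _ (by rw [he, h0, pow_zero]))
        · exact hM0p (hqp ▸ ((dvd_pow_self q h0.ne').trans (he ▸ Subgroup.card_subgroup_dvd_card _)))
      rw [hone, Subgroup.mem_bot] at hx hy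
      rw [hx, hy]
    · exact qab q hq hqp _ ((Subgroup.map_subtype_le _).trans hM0H) (P.isPGroup'.map _) (hN s) (hN t)
        x ⟨x, hx, rfl⟩ y ⟨y, hy, rfl⟩
  -- invariant Sylow subgroups of `H`
  have hHn' : Γ ≤ Subgroup.normalizer (H : Set L) := by rw [Subgroup.normalizer_eq_top]; exact le_top
  have hsyl : ∀ q : ℕ, q.Prime → ∃ P : Sylow q H,
      (∀ a ∈ (P : Subgroup H).map H.subtype, ∀ b ∈ (P : Subgroup H).map H.subtype, a * b = b * a) ∧
      s ∈ Subgroup.normalizer (((P : Subgroup H).map H.subtype : Subgroup L) : Set L) ∧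
      t ∈ Subgroup.normalizer (((P : Subgroup H).map H.subtype : Subgroup L) : Set L) := by
    intro q hq
    haveI := Fact.mk hq
    obtain ⟨P, hP⟩ := Cfsg.Agent.Solv.exists_invariant_sylow Γ H hHn' (coprime_dihedralSub s t hs ht hst hH6)
      (Or.inr hHs) q
    refine ⟨P, fun a ha b hb => ?_, hP hsΓ, hP htΓ⟩
    by_cases hqp : q = p
    · have h1 : ⁅a, b⁆ ∈ (P : Subgroup H).map H.subtype ⊓ ⁅H, H⁆ := Subgroup.mem_inf.2
        ⟨by rw [commutatorElement_def]; exact mul_mem (mul_mem (mul_mem ha hb) (inv_mem ha)) (inv_mem hb),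
          Subgroup.commutator_mem_commutator (Subgroup.map_subtype_le _ ha) (Subgroup.map_subtype_le _ hb)⟩
      rw [Cfsg.Agent.Solv.inf_eq_bot_of_coprime_card, Subgroup.mem_bot] at h1
      · exact commutatorElement_eq_one_iff_mul_comm.1 h1
      · obtain ⟨e, he⟩ := (P.isPGroup'.map H.subtype).exists_card_eq
        rw [he, hqp]
        exact Nat.Coprime.pow_left e (hp.out.coprime_iff_not_dvd.2 hM0p)
    · exact qab q hq hqp _ (Subgroup.map_subtype_le _) (P.isPGroup'.map _) (hP hsΓ) (hP htΓ) a ha b hb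
  -- the derived subgroup is central
  have hcent : ∀ r ∈ H, ∀ m ∈ ⁅H, H⁆, r * m = m * r := by
    suffices h : H ≤ Subgroup.centralizer ((⁅H, H⁆ : Subgroup L) : Set L) from
      fun r hr m hm => (h hr m hm).symm
    suffices h : ((Subgroup.centralizer ((⁅H, H⁆ : Subgroup L) : Set L)).subgroupOf H).index = 1 by
      intro x hx
      exact (Subgroup.index_eq_one.1 h ▸ Subgroup.mem_top (⟨x, hx⟩ : H) :
        (⟨x, hx⟩ : H) ∈ (Subgroup.centralizer ((⁅H, H⁆ : Subgroup L) : Set L)).subgroupOf H)
    by_contra hne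
    obtain ⟨q, hq, hd⟩ := Nat.exists_prime_and_dvd hne
    haveI := Fact.mk hq
    obtain ⟨P, hPab, hPs, hPt⟩ := hsyl q hq
    refine P.not_dvd_index (hd.trans (Subgroup.index_dvd_of_le fun x hx m hm => ?_))
    exact (weights _ _ hM0H (Subgroup.map_subtype_le _) (hM0s s) (hM0s t) hPs hPt (fun g _ => hM0s g) hM0ab
      hM0p (fun a ha b hb m hm => by
        rw [commutatorElement_eq_one_iff_mul_comm.2 (hPab a ha b hb), one_mul, mul_one])
      (x : L) ⟨x, hx, rfl⟩ m hm).symm
  -- conclusion
  have hHnil : Group.IsNilpotent H := Cfsg.Agent.Solv.isNilpotent_of_commutator_commutator_eq_bot (by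
    rw [Subgroup.commutator_eq_bot_iff_le_centralizer]
    exact fun m hm r hr => hcent r hr m hm)
  haveI := hHnil
  intro a ha b hb
  refine congrArg Subtype.val (comm_of_nilpotent hHnil (fun q hq P x hx y hy => Subtype.ext ?_) ⟨a, ha⟩ ⟨b, hb⟩)
  haveI := Fact.mk hq
  obtain ⟨P', hP', -⟩ := hsyl q hq
  haveI hPn : (P : Subgroup H).Normal :=
    Sylow.normal_of_normalizerCondition Group.normalizerCondition_of_isNilpotent P
  haveI := Sylow.unique_of_normal P hPn
  rw [Subsingleton.elim P' P] at hP'
  exact hP' x ⟨x, hx, rfl⟩ y ⟨y, hy, rfl⟩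

end

end Cfsg.Agent.Struct.SymThree
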