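import Cfsg.Agent.Lib.Struct.SymSylowTwo

/-!
When is a Sylow 2-subgroup of a symmetric or alternating group contained in a unique maximal subgroup?
-/

set_option autoImplicit false

namespace Cfsg.Agent.Struct.SymTwoMaximal

open Equiv SymSylowTwo MulAction
open scoped Pointwise

/-- All proper overgroups of `R` in `G` lie in one proper subgroup. -/
def Uniq {K : Type*} [Group K] (G R : Subgroup K) : Prop :=
  ∃ M, M < G ∧ ∀ H, R ≤ H → H < G → H ≤ M

theorem existsUnique_iff {K : Type*} [Group K] [Finite K] (R : Subgroup K) (hR : R < ⊤) :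
    (∃! M : Subgroup K, IsCoatom M ∧ R ≤ M) ↔ Uniq ⊤ R := by
  constructor
  · rintro ⟨M, ⟨hM, hRM⟩, hu⟩
    refine ⟨M, hM.lt_top, fun H hRH hH => ?_⟩
    obtain ⟨N, hN, hHN⟩ := (eq_top_or_exists_le_coatom H).resolve_left hH.ne
    rw [← hu N ⟨hN, hRH.trans hHN⟩]
    exact hHN
  · rintro ⟨M, hM, h⟩
    have hRM : R ≤ M := h R le_rfl hR
    have hc : IsCoatom M := ⟨hM.ne, fun H hH => by
      by_contra hne
      exact absurd (h H (hRM.trans hH.le) (lt_top_iff_ne_top.2 hne)) (not_le_of_gt hH)⟩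
    refine ⟨M, ⟨hc, hRM⟩, fun N hN => ?_⟩
    have hle : N ≤ M := h N hN.2 hN.1.lt_top
    by_contra hne
    exact hM.ne (hN.1.2 M (lt_of_le_of_ne hle hne))

theorem uniq_subgroupOf {K : Type*} [Group K] (G : Subgroup K) (R : Subgroup G) :
    Uniq (⊤ : Subgroup G) R ↔ Uniq G (R.map G.subtype) := by
  have hinj : Function.Injective G.subtype := Subtype.val_injective
  have hback : ∀ H, H ≤ G → (H.subgroupOf G).map G.subtype = H := fun H hH => Subgroup.map_subgroupOf_eq_of_le hH
  have hlt : ∀ H : Subgroup G, H < ⊤ → H.map G.subtype < G := fun H hH =>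
    lt_of_le_of_ne (Subgroup.map_subtype_le H) fun h => hH.ne (Subgroup.map_injective hinj (by
      rw [← MonoidHom.range_eq_map, Subgroup.range_subtype]; exact h))
  have hlt' : ∀ H : Subgroup K, H < G → H.subgroupOf G < ⊤ := fun H hH => lt_top_iff_ne_top.2 fun h => by
    rw [Subgroup.subgroupOf_eq_top] at h
    exact (not_le_of_gt hH) h
  constructor
  · rintro ⟨M, hM, h⟩
    refine ⟨M.map G.subtype, hlt M hM, fun H hRH hH => ?_⟩
    rw [← hback H hH.le]
    exact Subgroup.map_mono (h _ (Subgroup.map_le_iff_le_comap.1 hRH) (hlt' H hH))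
  · rintro ⟨M, hM, h⟩
    refine ⟨M.subgroupOf G, hlt' M hM, fun H hRH hH => ?_⟩
    exact Subgroup.map_le_iff_le_comap.1 (h _ (Subgroup.map_mono hRH) (hlt H hH))

/-- A two-group is carried into any subgroup containing a Sylow 2-subgroup. -/
theorem exists_model {α : Type*} [DecidableEq α] [Fintype α] {n : ℕ} (e₀ : α ≃ Fin n) (W : Subgroup (Perm α))
    (hW : 2 ^ n.factorial.factorization 2 ∣ Nat.card W) (R : Subgroup (Perm (Fin n))) (hR : IsPGroup 2 R) :
    ∃ e : α ≃ Fin n, ∀ r ∈ R, ∃ w ∈ W, r = e.permCongr w := by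
  haveI : Fact (Nat.Prime 2) := ⟨Nat.prime_two⟩
  obtain ⟨Q, hQ⟩ := Sylow.exists_subgroup_card_pow_prime 2 hW
  let Q' : Subgroup (Perm (Fin n)) := (Q.map W.subtype).map e₀.permCongrHom.toMonoidHom
  have hc : Nat.card Q' = 2 ^ (Nat.card (Perm (Fin n))).factorization 2 := by
    rw [Subgroup.card_map_of_injective e₀.permCongrHom.injective, Subgroup.card_map_of_injective Subtype.val_injective,
      hQ, Nat.card_perm, Nat.card_fin]
  obtain ⟨P, hP⟩ := hR.exists_le_sylow
  obtain ⟨c, hcP⟩ := MulAction.exists_smul_eq (Perm (Fin n)) (Sylow.ofCard Q' hc) P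
  refine ⟨e₀.trans c, fun r hr => ?_⟩
  have h := hP hr
  rw [← hcP, Sylow.coe_subgroup_smul, Subgroup.mem_smul_pointwise_iff_exists] at h
  obtain ⟨q, hq, rfl⟩ := h
  obtain ⟨w, hw, rfl⟩ := Subgroup.mem_map.1 hq
  obtain ⟨w', -, rfl⟩ := Subgroup.mem_map.1 hw
  refine ⟨w', w'.2, Equiv.ext fun x => ?_⟩
  rfl

theorem card_wreath_top (m : ℕ) :
    2 ^ (2 * m).factorial.factorization 2 ∣ Nat.card (wreath (⊤ : Subgroup (Perm (Fin m)))) := by
  haveI : Fact (Nat.Prime 2) := ⟨Nat.prime_two⟩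
  rw [card_wreath, Subgroup.card_top, Nat.card_perm, Nat.card_fin, Nat.factorization_def _ Nat.prime_two,
    padicValNat_factorial_mul, add_comm, pow_add]
  exact mul_dvd_mul_left _ pow_padicValNat_dvd

theorem card_wreath_opt (m : ℕ) :
    2 ^ (2 * m + 1).factorial.factorization 2 ∣ Nat.card ((wreath (⊤ : Subgroup (Perm (Fin m)))).map opt) := by
  rw [Subgroup.card_map_of_injective opt_injective, Nat.factorial_succ,
    Nat.factorization_mul (by omega) (Nat.factorial_ne_zero _), Finsupp.add_apply,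
    Nat.factorization_eq_zero_of_not_dvd (n := 2 * m + 1) (by omega), zero_add]
  exact card_wreath_top m

theorem card_wreath_two (l : ℕ) :
    2 ^ (4 * l).factorial.factorization 2 ∣ Nat.card (wreath (wreath (⊤ : Subgroup (Perm (Fin l))))) := by
  haveI : Fact (Nat.Prime 2) := ⟨Nat.prime_two⟩
  rw [card_wreath, Nat.card_prod, Nat.card_fin, Nat.card_eq_fintype_card (α := Bool), Fintype.card_bool,
    Nat.factorization_def _ Nat.prime_two, show 4 * l = 2 * (2 * l) by ring, padicValNat_factorial_mul, add_comm,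
    pow_add, mul_comm l 2]
  refine mul_dvd_mul_left _ ?_
  have h := card_wreath_top l
  rwa [Nat.factorization_def _ Nat.prime_two] at h

variable {α : Type*} [DecidableEq α] [Fintype α]

theorem double_mem_alt {a b c d : α} (hab : a ≠ b) (hcd : c ≠ d) : swap a b * swap c d ∈ alternatingGroup α := by
  show Perm.sign (swap a b * swap c d) = 1
  rw [map_mul, Perm.sign_swap hab, Perm.sign_swap hcd]
  rfl

theorem conj_swap (f : Perm α) (a b : α) : f * swap a b * f⁻¹ = swap (f a) (f b) :=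
  (Equiv.swap_apply_apply f a b).symm

theorem exists_third (h : 3 ≤ Fintype.card α) (x y : α) : ∃ z, z ≠ x ∧ z ≠ y := by
  obtain ⟨z, -, hz⟩ := Finset.exists_mem_notMem_of_card_lt_card (s := ({x, y} : Finset α)) (t := Finset.univ) (by
    refine lt_of_le_of_lt Finset.card_le_two ?_
    rw [Finset.card_univ]; omega)
  simp only [Finset.mem_insert, Finset.mem_singleton, not_or] at hz
  exact ⟨z, hz⟩

/-- The two groups considered. -/
def IsBig (G : Subgroup (Perm α)) : Prop := G = alternatingGroup α ∨ G = ⊤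

theorem IsBig.alt_le {G : Subgroup (Perm α)} (hG : IsBig G) : alternatingGroup α ≤ G := by
  rcases hG with rfl | rfl
  exacts [le_rfl, le_top]

theorem stabilizer_maximal {G : Subgroup (Perm α)} (hG : IsBig G) (hα : 5 ≤ Fintype.card α) {O : Set α}
    (h0 : O.Nonempty) (h1 : Oᶜ.Nonempty) (h2 : Nat.card α ≠ 2 * O.ncard) :
    stabilizer (Perm α) O ⊓ G < G ∧
      ∀ M, stabilizer (Perm α) O ⊓ G ≤ M → M < G → M = stabilizer (Perm α) O ⊓ G := by
  rcases hG with rfl | rfl
  · have hc : IsCoatom (stabilizer (alternatingGroup α) O) :=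
      alternatingGroup.isCoatom_stabilizer h0 h1 h2
    have heq : (stabilizer (alternatingGroup α) O).map (alternatingGroup α).subtype =
        stabilizer (Perm α) O ⊓ alternatingGroup α := by
      ext g
      constructor
      · rintro ⟨g', hg', rfl⟩
        exact ⟨hg', g'.2⟩
      · rintro ⟨hg, hgA⟩
        exact ⟨⟨g, hgA⟩, hg, rfl⟩
    rw [← heq]
    refine ⟨lt_of_le_of_ne (Subgroup.map_subtype_le _) fun h => hc.1 (Subgroup.map_injective Subtype.val_injective
      (h.trans (by rw [← MonoidHom.range_eq_map, Subgroup.range_subtype]))), fun M hle hM => ?_⟩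
    have hle' : stabilizer (alternatingGroup α) O ≤ M.subgroupOf (alternatingGroup α) := Subgroup.map_le_iff_le_comap.1 hle
    rcases eq_or_lt_of_le hle' with h | h
    · rw [h, Subgroup.map_subgroupOf_eq_of_le hM.le]
    · exact absurd (Subgroup.subgroupOf_eq_top.1 (hc.2 _ h)) (not_le_of_gt hM)
  · rw [inf_top_eq]
    have hc : IsCoatom (stabilizer (Perm α) O) := Equiv.Perm.isCoatom_stabilizer h0 h1 h2
    exact ⟨hc.lt_top, fun M hle hM => (eq_or_lt_of_le hle).elim Eq.symm fun h => absurd (hc.2 _ h) hM.ne⟩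

/-- The centralizer in `G` of a fixed-point-free involution is transitive. -/
theorem centralizer_transitive (τ : Perm α) (h2 : τ * τ = 1) (hf : ∀ x, τ x ≠ x) (hα : 3 ≤ Fintype.card α) (x y : α) :
    ∃ g ∈ Subgroup.centralizer {τ} ⊓ alternatingGroup α, g x = y := by
  have hττ : ∀ z, τ (τ z) = z := fun z => by rw [← Perm.mul_apply, h2, Perm.one_apply]
  have hτinv : τ⁻¹ = τ := inv_eq_of_mul_eq_one_right h2
  have key : ∀ a b : α, τ * (swap a b * swap (τ a) (τ b)) = (swap a b * swap (τ a) (τ b)) * τ := fun a b => by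
    rw [← mul_inv_eq_iff_eq_mul, show τ * (swap a b * swap (τ a) (τ b)) * τ⁻¹ =
      (τ * swap a b * τ⁻¹) * (τ * swap (τ a) (τ b) * τ⁻¹) by group,
      conj_swap, conj_swap, hττ, hττ]
    rcases eq_or_ne b (τ a) with rfl | hb
    · rw [hττ, swap_comm (τ a) a]
    rcases eq_or_ne a b with rfl | hab
    · simp
    refine (Perm.Disjoint.commute ?_).eq
    intro z
    by_cases h1 : z = τ a
    · right
      subst h1
      exact swap_apply_of_ne_of_ne (hf a) (fun h => hb h.symm)
    · by_cases h2' : z = τ b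
      · right
        subst h2'
        exact swap_apply_of_ne_of_ne (fun h => hb (by rw [← h, hττ])) (hf b)
      · left
        exact swap_apply_of_ne_of_ne h1 h2'
  rcases eq_or_ne y x with rfl | hyx
  · exact ⟨1, one_mem _, rfl⟩
  rcases eq_or_ne y (τ x) with rfl | hy
  · obtain ⟨w, hw1, hw2⟩ := exists_third hα x (τ x)
    refine ⟨swap x (τ x) * swap w (τ w), ⟨?_, double_mem_alt hyx.symm (hf w).symm⟩, ?_⟩
    · have hs : ∀ a, τ * swap a (τ a) = swap a (τ a) * τ := fun a => by
        rw [← mul_inv_eq_iff_eq_mul, conj_swap, hττ, swap_comm]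
      refine Subgroup.mem_centralizer_singleton_iff.2 ?_
      rw [mul_assoc, ← hs w, ← mul_assoc, ← hs x, mul_assoc]
    · rw [Perm.mul_apply, swap_apply_of_ne_of_ne hw1.symm (fun h => hw2 (by rw [h, hττ])), swap_apply_left]
  · refine ⟨swap x y * swap (τ x) (τ y), ⟨?_, double_mem_alt hyx.symm (fun h => hyx (τ.injective h).symm)⟩, ?_⟩
    · exact Subgroup.mem_centralizer_singleton_iff.2 (key x y).symm
    · rw [Perm.mul_apply, swap_apply_of_ne_of_ne (hf x).symm (fun h => hy (by rw [h, hττ])), swap_apply_left]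

theorem centralizer_proper {G : Subgroup (Perm α)} (hG : IsBig G) (τ : Perm α) (hf : ∀ x, τ x ≠ x) [Nonempty α]
    (hα : 4 ≤ Fintype.card α) : Subgroup.centralizer {τ} ⊓ G < G := by
  refine lt_of_le_of_ne inf_le_right fun h => ?_
  obtain ⟨x⟩ := (inferInstance : Nonempty α)
  obtain ⟨z, -, hz⟩ := Finset.exists_mem_notMem_of_card_lt_card (s := ({x, τ x, τ.symm x} : Finset α))
    (t := Finset.univ) (by
      refine lt_of_le_of_lt Finset.card_le_three ?_
      rw [Finset.card_univ]; omega)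
  simp only [Finset.mem_insert, Finset.mem_singleton, not_or] at hz
  obtain ⟨hz1, hz2, hz3⟩ := hz
  have hmem : swap (τ x) z * swap (τ x) x ∈ alternatingGroup α := double_mem_alt (Ne.symm hz2) (hf x)
  have hc : swap (τ x) z * swap (τ x) x ∈ Subgroup.centralizer {τ} ⊓ G := h.symm ▸ hG.alt_le hmem
  have h2 := congrArg (fun p : Perm α => p x) (Subgroup.mem_centralizer_singleton_iff.1 hc.1)
  simp only [Perm.mul_apply, swap_apply_right, swap_apply_left] at h2
  rw [swap_apply_of_ne_of_ne (hf x).symm (Ne.symm hz1)] at h2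
  exact hz3 (by rw [h2, Equiv.symm_apply_apply])

/-- Orbits of a 2-group give two maximal subgroups unless the degree is a power of two or one more. -/
theorem not_uniq_intransitive {G R : Subgroup (Perm α)} (hG : IsBig G) (hR : IsPGroup 2 R) (hRG : R ≤ G)
    (hα : 5 ≤ Fintype.card α) (hpow : ∀ k, Fintype.card α ≠ 2 ^ k) (hpow1 : ∀ k, Fintype.card α ≠ 2 ^ k + 1)
    (hτ : Even (Fintype.card α) → ∃ τ : Perm α, τ * τ = 1 ∧ (∀ x, τ x ≠ x) ∧ R ≤ Subgroup.centralizer {τ}) :
    ¬ Uniq G R := by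
  rintro ⟨M, hMG, hM⟩
  haveI : Fact (Nat.Prime 2) := ⟨Nat.prime_two⟩
  haveI : Nonempty α := Fintype.card_pos_iff.1 (by omega)
  obtain ⟨x⟩ := (inferInstance : Nonempty α)
  have horb : ∀ z : α, ∃ k, (orbit R z).ncard = 2 ^ k := fun z => by
    obtain ⟨k, hk⟩ := hR.card_orbit z
    exact ⟨k, by rw [← Nat.card_coe_set_eq]; exact hk⟩
  have hfix : ∀ z : α, R ≤ stabilizer (Perm α) (orbit R z) := fun z r hr => by
    rw [mem_stabilizer_iff]
    exact MulAction.smul_orbit (⟨r, hr⟩ : R) z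
  obtain ⟨a, ha⟩ := horb x
  have hne : (orbit R x)ᶜ.Nonempty := by
    rw [Set.nonempty_compl]
    intro h
    rw [h, Set.ncard_univ, Nat.card_eq_fintype_card] at ha
    exact hpow a ha
  obtain ⟨y, hy⟩ := hne
  have hy' : y ∉ orbit R x := hy
  have htwo : ∀ z, Nat.card α ≠ 2 * (orbit R z).ncard := fun z h => by
    obtain ⟨k, hk⟩ := horb z
    rw [hk, Nat.card_eq_fintype_card, ← pow_succ'] at h
    exact hpow _ h
  obtain ⟨hlt, hmax⟩ := stabilizer_maximal hG hα (O := orbit R x) ⟨x, mem_orbit_self x⟩ ⟨y, hy⟩ (htwo x)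
  have hMeq : M = stabilizer (Perm α) (orbit R x) ⊓ G := hmax M (hM _ (le_inf (hfix x) hRG) hlt) hMG
  have contra : ∀ H, R ≤ H → H < G → ∀ g ∈ H, ∀ z ∈ orbit R x, g z ∈ orbit R x := by
    intro H hRH hH g hg z hz
    have h1 := hM H hRH hH hg
    rw [hMeq] at h1
    have h2 : g • orbit R x = orbit R x := mem_stabilizer_iff.1 h1.1
    rw [← h2]
    exact Set.smul_mem_smul_set hz
  by_cases h3 : ∃ z, z ∉ orbit R x ∧ z ∉ orbit R y
  · obtain ⟨z, hzx, hzy⟩ := h3
    obtain ⟨hlt', -⟩ := stabilizer_maximal hG hα (O := orbit R y) ⟨y, mem_orbit_self y⟩ ⟨z, hzy⟩ (htwo y)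
    have hxy : x ∉ orbit R y := fun h => hy' (mem_orbit_symm.1 h)
    have hxz : x ≠ z := fun h => hzx (h ▸ mem_orbit_self x)
    -- two further points on the same side of the orbit of `y`
    obtain ⟨u, v, huv, hu, hv, hside⟩ : ∃ u v, u ≠ v ∧ (u ≠ x ∧ u ≠ z) ∧ (v ≠ x ∧ v ≠ z) ∧
        (u ∈ orbit R y ↔ v ∈ orbit R y) := by
      classical
      let T : Finset α := ((Finset.univ.erase x).erase z)
      obtain ⟨u, hu, v, hv, huv, heq⟩ := Finset.exists_ne_map_eq_of_card_lt_of_maps_to (s := T)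
        (t := (Finset.univ : Finset Bool)) (f := fun w => decide (w ∈ orbit R y)) (by
          rw [Finset.card_erase_of_mem (by simp [hxz.symm]), Finset.card_erase_of_mem (Finset.mem_univ _),
            Finset.card_univ, Finset.card_univ, Fintype.card_bool]
          omega) (fun _ _ => Finset.mem_univ _)
      refine ⟨u, v, huv, ?_, ?_, by simpa using heq⟩
      · simp [T] at hu; exact ⟨hu.2, hu.1⟩
      · simp [T] at hv; exact ⟨hv.2, hv.1⟩
    have hg : swap x z * swap u v ∈ stabilizer (Perm α) (orbit R y) ⊓ G := by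
      refine ⟨?_, hG.alt_le (double_mem_alt hxz huv)⟩
      refine mul_mem ?_ ?_
      · exact Equiv.Perm.swap_mem_stabilizer hxy hzy |> fun h => by rwa [stabilizer_compl] at h
      · by_cases hu' : u ∈ orbit R y
        · exact Equiv.Perm.swap_mem_stabilizer hu' (hside.1 hu')
        · exact Equiv.Perm.swap_mem_stabilizer (s := (orbit R y)ᶜ) hu' (fun h => hu' (hside.2 h)) |> fun h => by
            rwa [stabilizer_compl] at h
    have h4 := contra _ (le_inf (hfix y) hRG) hlt' _ hg x (mem_orbit_self x)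
    rw [Perm.mul_apply, swap_apply_of_ne_of_ne hu.1.symm hv.1.symm, swap_apply_left] at h4
    exact hzx h4
  · push Not at h3
    obtain ⟨b, hb⟩ := horb y
    have hcompl : orbit R y = (orbit R x)ᶜ := by
      ext z
      refine ⟨fun h hzx => hy' ?_, h3 z⟩
      rw [← orbit_eq_iff.2 hzx, orbit_eq_iff.2 h]
      exact mem_orbit_self y
    have hsum : Fintype.card α = 2 ^ a + 2 ^ b := by
      rw [← Nat.card_eq_fintype_card, ← Set.ncard_add_ncard_compl (orbit R x), ← hcompl, ha, hb]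
    have heven : Even (Fintype.card α) := by
      rcases Nat.eq_zero_or_pos a with rfl | ha0
      · exact absurd (by rw [hsum, pow_zero, add_comm]) (hpow1 b)
      rcases Nat.eq_zero_or_pos b with rfl | hb0
      · exact absurd (by rw [hsum, pow_zero]) (hpow1 a)
      rw [hsum]
      exact (Nat.even_pow.2 ⟨even_two, ha0.ne'⟩).add (Nat.even_pow.2 ⟨even_two, hb0.ne'⟩)
    obtain ⟨τ, h2, hf, hRτ⟩ := hτ heven
    obtain ⟨g, ⟨hgc, hga⟩, hgxy⟩ := centralizer_transitive τ h2 hf (by omega) x y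
    have h4 := contra _ (le_inf hRτ hRG) (centralizer_proper hG τ hf (by omega)) g ⟨hgc, hG.alt_le hga⟩ x (mem_orbit_self x)
    rw [hgxy] at h4
    exact hy' h4

theorem le_of_three_cycle {G M : Subgroup (Perm α)} (hG : IsBig G) (hprim : IsPreprimitive M α) {c : Perm α}
    (hc : c.IsThreeCycle) (hcM : c ∈ M) (hodd : G = ⊤ → ∃ t ∈ M, t.IsSwap) : G ≤ M := by
  rcases hG with h | h
  · rw [h]
    exact Equiv.Perm.alternatingGroup_le_of_isPreprimitive_of_isThreeCycle_mem hprim hc hcM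
  · obtain ⟨t, ht, hts⟩ := hodd h
    rw [h, Equiv.Perm.subgroup_eq_top_of_isPreprimitive_of_isSwap_mem hprim t hts ht]

/-- Degree divisible by four: pairs inside blocks of four. -/
theorem not_uniq_blocks {G R : Subgroup (Perm α)} (hG : IsBig G) (hRG : R ≤ G) {γ : Type*} (τ : Perm α) (π : α → γ)
    (h2 : τ * τ = 1) (hf : ∀ x, τ x ≠ x) (hα : 6 ≤ Fintype.card α) (hπτ : ∀ x, π (τ x) = π x)
    (hfour : ∀ x, ∃ z w, z ≠ w ∧ (z ≠ x ∧ z ≠ τ x) ∧ (w ≠ x ∧ w ≠ τ x) ∧ π z = π x ∧ π w = π x)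
    (htwo : ∃ x y, π x ≠ π y)
    (hRτ : R ≤ Subgroup.centralizer {τ}) (hRπ : ∀ r ∈ R, ∀ x y, π x = π y ↔ π (r x) = π (r y)) :
    ¬ Uniq G R := by
  rintro ⟨M, hMG, hM⟩
  haveI : Nonempty α := Fintype.card_pos_iff.1 (by omega)
  let B : Subgroup (Perm α) :=
    { carrier := {g | ∀ x y, π x = π y ↔ π (g x) = π (g y)}
      one_mem' := fun _ _ => Iff.rfl
      mul_mem' := fun {g h} hg hh x y => (hh x y).trans (hg (h x) (h y))
      inv_mem' := fun {g} hg x y => by
        have := hg (g⁻¹ x) (g⁻¹ y)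
        rw [← Perm.mul_apply, ← Perm.mul_apply, mul_inv_cancel] at this
        exact this.symm }
  have hswap : ∀ a b, π a = π b → swap a b ∈ B := fun a b hab => by
    have hs : ∀ z, π (swap a b z) = π z := fun z => by
      rw [swap_apply_def]
      split_ifs with h1 h1'
      · rw [h1, hab]
      · rw [h1', hab]
      · rfl
    intro x y
    rw [hs, hs]
  have hBlt : B ⊓ G < G := by
    refine lt_of_le_of_ne inf_le_right fun h => ?_
    obtain ⟨x, y, hxy⟩ := htwo
    obtain ⟨z, w, -, hz, -, hπz, -⟩ := hfour x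
    have hyz : y ≠ z := fun h' => hxy (h' ▸ hπz.symm)
    have hyx : y ≠ x := fun h' => hxy (h' ▸ rfl)
    have hg : swap x y * swap x z ∈ alternatingGroup α := double_mem_alt hyx.symm hz.1.symm
    have hg' : swap x y * swap x z ∈ B := (h.symm ▸ hG.alt_le hg : swap x y * swap x z ∈ B ⊓ G).1
    have h3 := (hg' x z).1 hπz.symm
    rw [Perm.mul_apply, swap_apply_left, swap_apply_of_ne_of_ne hz.1 hyz.symm, Perm.mul_apply, swap_apply_right,
      swap_apply_left] at h3
    exact hxy (hπz.symm.trans h3)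
  have hC : Subgroup.centralizer {τ} ⊓ G ≤ M := hM _ (le_inf hRτ hRG) (centralizer_proper hG τ hf (by omega))
  have hB : B ⊓ G ≤ M := hM _ (le_inf hRπ hRG) hBlt
  obtain ⟨x⟩ := (inferInstance : Nonempty α)
  obtain ⟨z, w, hzw, hz, hw, hπz, hπw⟩ := hfour x
  have hc : (swap (τ x) w * swap (τ x) z).IsThreeCycle :=
    Equiv.Perm.isThreeCycle_swap_mul_swap_same hw.2.symm hz.2.symm hzw.symm
  have hcB : swap (τ x) w * swap (τ x) z ∈ B :=
    mul_mem (hswap _ _ (by rw [hπτ, hπw])) (hswap _ _ (by rw [hπτ, hπz]))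
  have hcM : swap (τ x) w * swap (τ x) z ∈ M := hB ⟨hcB, hG.alt_le hc.mem_alternatingGroup⟩
  haveI : IsPretransitive M α := ⟨fun a b => by
    obtain ⟨g, hg, hgab⟩ := centralizer_transitive τ h2 hf (by omega) a b
    exact ⟨⟨g, hC ⟨hg.1, hG.alt_le hg.2⟩⟩, hgab⟩⟩
  have hττ : ∀ a, τ (τ a) = a := fun a => by rw [← Perm.mul_apply, h2, Perm.one_apply]
  haveI hprim : IsPreprimitive M α := by
    refine IsPreprimitive.of_isTrivialBlock_base x fun {B'} hxB hB' => ?_
    by_cases hsub : B'.Subsingleton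
    · exact Or.inl hsub
    right
    have hinv : ∀ g ∈ M, g x = x → ∀ y ∈ B', g y ∈ B' := fun g hg hgx y hy => by
      have h := hB'.smul_eq_of_mem (g := (⟨g, hg⟩ : M)) hxB (by
        show g x ∈ B'
        rw [hgx]; exact hxB)
      rw [← h]
      exact Set.smul_mem_smul_set hy
    by_cases hout : ∃ y ∈ B', y ≠ x ∧ y ≠ τ x
    · obtain ⟨y, hy, hyx, hyτ⟩ := hout
      refine hB'.eq_univ_of_card_lt ?_
      have hsub' : ({τ x}ᶜ : Set α) ⊆ B' := by
        intro t ht
        have htτ : t ≠ τ x := ht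
        rcases eq_or_ne t x with rfl | htx
        · exact hxB
        rcases eq_or_ne t y with rfl | hty
        · exact hy
        rcases eq_or_ne t (τ y) with rfl | htτy
        · obtain ⟨v, -, hv⟩ := Finset.exists_mem_notMem_of_card_lt_card (s := ({x, τ x, y, τ y} : Finset α))
            (t := Finset.univ) (by
              refine lt_of_le_of_lt Finset.card_le_four ?_
              rw [Finset.card_univ]; omega)
          simp only [Finset.mem_insert, Finset.mem_singleton, not_or] at hv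
          have hgC : swap y (τ y) * swap v (τ v) ∈ Subgroup.centralizer {τ} := by
            have hs : ∀ a, τ * swap a (τ a) = swap a (τ a) * τ := fun a => by
              rw [← mul_inv_eq_iff_eq_mul, conj_swap, hττ, swap_comm]
            refine Subgroup.mem_centralizer_singleton_iff.2 ?_
            rw [mul_assoc, ← hs v, ← mul_assoc, ← hs y, mul_assoc]
          have hgx : (swap y (τ y) * swap v (τ v)) x = x := by
            rw [Perm.mul_apply, swap_apply_of_ne_of_ne (Ne.symm hv.1) (fun h => hv.2.1 (by rw [h, hττ])),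
              swap_apply_of_ne_of_ne hyx.symm htx.symm]
          have h := hinv _ (hC ⟨hgC, hG.alt_le (double_mem_alt (hf y).symm (hf v).symm)⟩) hgx y hy
          rwa [Perm.mul_apply, swap_apply_of_ne_of_ne (Ne.symm hv.2.2.1) (fun h => hv.2.2.2 (by rw [h, hττ])),
            swap_apply_left] at h
        · have hgC : swap y t * swap (τ y) (τ t) ∈ Subgroup.centralizer {τ} := by
            have hd : Commute (swap (τ y) (τ t)) (swap y t) := by
              refine Perm.Disjoint.commute fun u => ?_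
              by_cases h1 : u = τ y
              · right; subst h1; exact swap_apply_of_ne_of_ne (hf y) (Ne.symm htτy)
              · by_cases h2' : u = τ t
                · right; subst h2'; exact swap_apply_of_ne_of_ne (fun h => htτy (by rw [← h, hττ])) (hf t)
                · left; exact swap_apply_of_ne_of_ne h1 h2'
            refine Subgroup.mem_centralizer_singleton_iff.2 ((mul_inv_eq_iff_eq_mul).1 ?_).symm
            rw [show τ * (swap y t * swap (τ y) (τ t)) * τ⁻¹ =
              (τ * swap y t * τ⁻¹) * (τ * swap (τ y) (τ t) * τ⁻¹) by group,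
              conj_swap, conj_swap, hττ, hττ, hd.eq]
          have hgx : (swap y t * swap (τ y) (τ t)) x = x := by
            have e1 : x ≠ τ y := fun h => hyτ (by rw [h, hττ])
            have e2 : x ≠ τ t := fun h => htτ (by rw [h, hττ])
            rw [Perm.mul_apply, swap_apply_of_ne_of_ne e1 e2,
              swap_apply_of_ne_of_ne hyx.symm htx.symm]
          have h := hinv _ (hC ⟨hgC, hG.alt_le (double_mem_alt (Ne.symm hty) (fun h => hty (τ.injective h).symm))⟩) hgx y hy
          rwa [Perm.mul_apply, swap_apply_of_ne_of_ne (hf y).symm (fun h => htτy (by rw [h, hττ])),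
            swap_apply_left] at h
      have h1 := Set.ncard_le_ncard hsub'
      rw [Set.ncard_compl, Set.ncard_singleton, Nat.card_eq_fintype_card] at h1
      rw [Nat.card_eq_fintype_card]
      omega
    · push Not at hout
      obtain ⟨y, hy, hyx⟩ : ∃ y ∈ B', y ≠ x := by
        by_contra h
        push Not at h
        exact hsub fun a ha b hb => (h a ha).trans (h b hb).symm
      have hyτ : y = τ x := hout y hy hyx
      subst hyτ
      have h := hinv _ hcM (by
        rw [Perm.mul_apply, swap_apply_of_ne_of_ne (hf x).symm hz.1.symm, swap_apply_of_ne_of_ne (hf x).symm hw.1.symm])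
        (τ x) hy
      rw [Perm.mul_apply, swap_apply_left, swap_apply_of_ne_of_ne hz.2 hzw] at h
      exact absurd (hout z h hz.1) hz.2
  refine (not_le_of_gt hMG) (le_of_three_cycle hG hprim hc hcM fun hT => ?_)
  exact ⟨swap (τ x) z, hB ⟨hswap _ _ (by rw [hπτ, hπz]), hT ▸ Subgroup.mem_top _⟩, ⟨_, _, hz.2.symm, rfl⟩⟩

/-- Two double transpositions meeting in one point give a three-cycle. -/
theorem three_cycle_of_meet {a a' w q q' v v' : α} (haa : a ≠ a') (haw : a ≠ w) (ha'w : a' ≠ w)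
    (hq : ∀ u ∈ [a, a', w, v, v'], q ≠ u) (hq' : ∀ u ∈ [a, a', w, v, v'], q' ≠ u)
    (hv : ∀ u ∈ [a, a', w], v ≠ u) (hv' : ∀ u ∈ [a, a', w], v' ≠ u) :
    ((swap a a' * swap q q') * (swap a w * swap v v') *
      ((swap a a' * swap q q') * (swap a w * swap v v'))).IsThreeCycle := by
  simp only [List.mem_cons, List.not_mem_nil, or_false, forall_eq_or_imp, forall_eq] at hq hq' hv hv'
  have comm : ∀ {p₁ p₂ r₁ r₂ : α}, p₁ ≠ r₁ → p₁ ≠ r₂ → p₂ ≠ r₁ → p₂ ≠ r₂ → Commute (swap p₁ p₂) (swap r₁ r₂) := by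
    intro p₁ p₂ r₁ r₂ h1 h2 h3 h4
    refine Perm.Disjoint.commute fun u => ?_
    by_cases e1 : u = p₁
    · right; subst e1; exact swap_apply_of_ne_of_ne h1 h2
    · by_cases e2 : u = p₂
      · right; subst e2; exact swap_apply_of_ne_of_ne h3 h4
      · left; exact swap_apply_of_ne_of_ne e1 e2
  set s := swap a a' * swap a w
  set t := swap q q' * swap v v'
  have c1 : Commute (swap q q') (swap a w) := comm hq.1 hq.2.2.1 hq'.1 hq'.2.2.1
  have e : swap a a' * swap q q' * (swap a w * swap v v') = s * t := by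
    rw [mul_assoc, ← mul_assoc (swap q q'), c1.eq]
    simp only [s, t, mul_assoc]
  have c2 : Commute s t := by
    refine Commute.mul_left (Commute.mul_right ?_ ?_) (Commute.mul_right ?_ ?_)
    · exact comm (Ne.symm hq.1) (Ne.symm hq'.1) (Ne.symm hq.2.1) (Ne.symm hq'.2.1)
    · exact comm (Ne.symm hv.1) (Ne.symm hv'.1) (Ne.symm hv.2.1) (Ne.symm hv'.2.1)
    · exact comm (Ne.symm hq.1) (Ne.symm hq'.1) (Ne.symm hq.2.2.1) (Ne.symm hq'.2.2.1)
    · exact comm (Ne.symm hv.1) (Ne.symm hv'.1) (Ne.symm hv.2.2) (Ne.symm hv'.2.2)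
  have c3 : Commute (swap q q') (swap v v') := comm hq.2.2.2.1 hq.2.2.2.2 hq'.2.2.2.1 hq'.2.2.2.2
  have ht : t * t = 1 := by
    rw [show t * t = swap q q' * (swap v v' * swap q q') * swap v v' by simp only [t, mul_assoc], ← c3.eq]
    simp only [mul_assoc, swap_mul_self, mul_one]
  rw [e, mul_assoc s t, ← mul_assoc t s, ← c2.eq, mul_assoc s t t, ht, mul_one]
  exact (Equiv.Perm.isThreeCycle_swap_mul_swap_same haa haw ha'w).isThreeCycle_sq

/-- An overgroup moving the fixed point contains a three-cycle. -/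
theorem exists_three_cycle {H : Subgroup (Perm α)} {x₀ : α} {τ : α → α} (hα : 9 ≤ Fintype.card α)
    (hττ : ∀ x, x ≠ x₀ → τ x ≠ x₀ ∧ τ x ≠ x ∧ τ (τ x) = x)
    (hd : ∀ u r, u ≠ x₀ → r ≠ x₀ → r ≠ u → r ≠ τ u → swap u (τ u) * swap r (τ r) ∈ H)
    {g : Perm α} (hg : g ∈ H) (hgx : g x₀ ≠ x₀) : ∃ c ∈ H, c.IsThreeCycle := by
  classical
  obtain ⟨u, hu⟩ := g.surjective x₀
  have hu0 : u ≠ x₀ := fun h => hgx (by rw [← h]; exact hu.trans h.symm)
  obtain ⟨hu1, hu2, hu3⟩ := hττ u hu0
  obtain ⟨r, -, hr⟩ := Finset.exists_mem_notMem_of_card_lt_card (s := ({x₀, u, τ u} : Finset α)) (t := Finset.univ) (by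
    refine lt_of_le_of_lt Finset.card_le_three ?_
    rw [Finset.card_univ]; omega)
  simp only [Finset.mem_insert, Finset.mem_singleton, not_or] at hr
  obtain ⟨hr1, hr2, hr3⟩ := hττ r hr.1
  set a := g (τ u)
  set b := g r
  set c := g (τ r)
  have hd' : swap x₀ a * swap b c ∈ H := by
    have h := mul_mem (mul_mem hg (hd u r hu0 hr.1 hr.2.1 hr.2.2)) (inv_mem hg)
    rwa [show g * (swap u (τ u) * swap r (τ r)) * g⁻¹ = (g * swap u (τ u) * g⁻¹) * (g * swap r (τ r) * g⁻¹) by group,
      conj_swap, conj_swap, hu] at h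
  have hτr_u : τ r ≠ u := fun h => hr.2.2 (by rw [← h, hr3])
  have hτr_τu : τ r ≠ τ u := fun h => hr.2.1 (by rw [← hr3, h, hu3])
  have ha0 : a ≠ x₀ := fun h => hu2 (g.injective (h.trans hu.symm))
  have hb0 : b ≠ x₀ := fun h => hr.2.1 (g.injective (h.trans hu.symm))
  have hc0 : c ≠ x₀ := fun h => hτr_u (g.injective (h.trans hu.symm))
  have hab : a ≠ b := fun h => hr.2.2 (g.injective h).symm
  have hac : a ≠ c := fun h => hτr_τu (g.injective h).symm
  have hbc : b ≠ c := fun h => hr2 (g.injective h).symm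
  obtain ⟨q, -, hq⟩ := Finset.exists_mem_notMem_of_card_lt_card
    (s := ({x₀, a, τ a, b, τ b, c, τ c} : Finset α)) (t := Finset.univ) (by
      refine lt_of_le_of_lt ?_ (show 7 < Finset.univ.card by rw [Finset.card_univ]; omega)
      refine (Finset.card_insert_le _ _).trans ?_
      refine Nat.succ_le_succ ((Finset.card_insert_le _ _).trans ?_)
      refine Nat.succ_le_succ ((Finset.card_insert_le _ _).trans ?_)
      refine Nat.succ_le_succ ((Finset.card_insert_le _ _).trans ?_)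
      exact Nat.succ_le_succ Finset.card_le_three)
  simp only [Finset.mem_insert, Finset.mem_singleton, not_or] at hq
  obtain ⟨hq0, hqa, hqτa, hqb, hqτb, hqc, hqτc⟩ := hq
  obtain ⟨hq1, hq2, hq3⟩ := hττ q hq0
  have main : ∀ p w v v', p ≠ x₀ → swap p w * swap v v' ∈ H → p ≠ w → τ p ≠ w → τ p ≠ v → τ p ≠ v' →
      v ≠ p → v' ≠ p → v ≠ w → v' ≠ w → (∀ z ∈ [p, τ p, w, v, v'], q ≠ z ∧ τ q ≠ z) → ∃ c ∈ H, c.IsThreeCycle := by
    intro p w v v' hp hmem h1 h2 h3 h4 h5 h6 h7 h8 h9
    obtain ⟨hp1, hp2, hp3⟩ := hττ p hp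
    have hdd := hd p q hp hq0 (h9 p (by simp)).1 (h9 (τ p) (by simp)).1
    refine ⟨_, mul_mem (mul_mem hdd hmem) (mul_mem hdd hmem), three_cycle_of_meet hp2.symm h1 h2
      (fun z hz => (h9 z hz).1) (fun z hz => (h9 z hz).2) ?_ ?_⟩
    · simp [h5, h3.symm, h7]
    · simp [h6, h4.symm, h8]
  have hτq : ∀ z, z ≠ x₀ → q ≠ τ z → τ q ≠ z := fun z hz h h' => h (by rw [← h', hq3])
  obtain ⟨ha1, ha2, ha3⟩ := hττ a ha0
  obtain ⟨hb1, hb2, hb3⟩ := hττ b hb0
  obtain ⟨hc1, hc2, hc3⟩ := hττ c hc0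
  have qa : τ q ≠ a := hτq a ha0 hqτa
  have qb : τ q ≠ b := hτq b hb0 hqτb
  have qc : τ q ≠ c := hτq c hc0 hqτc
  have qτ : ∀ z, z ≠ x₀ → q ≠ z → τ q ≠ τ z := fun z hz h h' => h (by rw [← hq3, h', (hττ z hz).2.2])
  by_cases hab' : τ a = b
  · have e1 : τ c ≠ a := fun h => hbc (by rw [← hab', ← h, hc3])
    have e2 : τ c ≠ b := fun h => hac (by rw [← ha3, hab', ← h, hc3])
    refine main c b x₀ a hc0 ?_ hbc.symm e2 hc1 e1 hc0.symm hac hb0.symm hab ?_
    · have hd2 : swap c b * swap x₀ a = swap x₀ a * swap b c := by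
        rw [swap_comm c b]
        refine (Perm.Disjoint.commute fun z => ?_).eq
        by_cases f1 : z = b
        · right; subst f1; exact swap_apply_of_ne_of_ne hb0 hab.symm
        · by_cases f2 : z = c
          · right; subst f2; exact swap_apply_of_ne_of_ne hc0 hac.symm
          · left; exact swap_apply_of_ne_of_ne f1 f2
      rw [hd2]; exact hd'
    · simp [hq0, hq1, hqa, hqb, hqc, hqτc, qa, qb, qc, qτ c hc0 hqc]
  · by_cases hac' : τ a = c
    · have e1 : τ b ≠ a := fun h => hbc (by rw [← hac', ← h, hb3])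
      have e2 : τ b ≠ c := fun h => hab (by rw [← ha3, hac', ← h, hb3])
      refine main b c x₀ a hb0 ?_ hbc e2 hb1 e1 hb0.symm hab hc0.symm hac ?_
      · have hd2 : swap b c * swap x₀ a = swap x₀ a * swap b c := by
          refine (Perm.Disjoint.commute fun z => ?_).eq
          by_cases f1 : z = b
          · right; subst f1; exact swap_apply_of_ne_of_ne hb0 hab.symm
          · by_cases f2 : z = c
            · right; subst f2; exact swap_apply_of_ne_of_ne hc0 hac.symm
            · left; exact swap_apply_of_ne_of_ne f1 f2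
        rw [hd2]; exact hd'
      · simp [hq0, hq1, hqa, hqb, hqc, hqτb, qa, qb, qc, qτ b hb0 hqb]
    · refine main a x₀ b c ha0 (by rw [swap_comm a x₀]; exact hd') ha0 ha1 hab' hac' hab.symm hac.symm hb0 hc0 ?_
      simp [hq0, hq1, hqa, hqb, hqc, hqτa, qa, qb, qc, qτ a ha0 hqa]

/-- Degree `2^k + 1`: the point stabilizer is the only maximal overgroup. -/
theorem uniq_point {G R : Subgroup (Perm α)} (hG : IsBig G) (hα : 5 ≤ Fintype.card α) (x₀ : α)
    (hfix : ∀ r ∈ R, r x₀ = x₀) (htr : ∀ x y, x ≠ x₀ → y ≠ x₀ → ∃ r ∈ R, r x = y)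
    (hfull : ∀ H, R ≤ H → H ≤ G → IsPretransitive H α → IsPreprimitive H α → ∀ g ∈ H, g x₀ ≠ x₀ → G ≤ H) :
    Uniq G R := by
  obtain ⟨hlt, -⟩ := stabilizer_maximal hG hα (O := ({x₀} : Set α)) ⟨x₀, rfl⟩ (by
    obtain ⟨z, hz, -⟩ := exists_third (by omega) x₀ x₀
    exact ⟨z, hz⟩) (by rw [Set.ncard_singleton, Nat.card_eq_fintype_card]; omega)
  refine ⟨_, hlt, fun H hRH hHG => ?_⟩
  by_cases hmv : ∀ h ∈ H, h x₀ = x₀
  · intro h hh
    refine ⟨?_, hHG.le hh⟩
    show h • ({x₀} : Set α) = {x₀}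
    rw [Set.smul_set_singleton]
    exact congrArg _ (hmv h hh)
  exfalso
  push Not at hmv
  obtain ⟨g, hg, hgx⟩ := hmv
  have hto : ∀ y, ∃ h ∈ H, h x₀ = y := by
    intro y
    rcases eq_or_ne y x₀ with rfl | hy
    · exact ⟨1, one_mem H, rfl⟩
    · obtain ⟨r, hr, hry⟩ := htr _ y hgx hy
      exact ⟨r * g, mul_mem (hRH hr) hg, hry⟩
  haveI htrans : IsPretransitive H α := ⟨fun a b => by
    obtain ⟨h1, hh1, e1⟩ := hto a
    obtain ⟨h2, hh2, e2⟩ := hto b
    refine ⟨⟨h2 * h1⁻¹, mul_mem hh2 (inv_mem hh1)⟩, ?_⟩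
    show (h2 * h1⁻¹) a = b
    rw [← e1, Perm.mul_apply, ← Perm.mul_apply h1⁻¹, inv_mul_cancel, Perm.one_apply, e2]⟩
  have hprim : IsPreprimitive H α := by
    refine IsPreprimitive.of_isTrivialBlock_base x₀ fun {B} hxB hB => ?_
    by_cases hsub : B.Subsingleton
    · exact Or.inl hsub
    obtain ⟨y, hy, hyx⟩ : ∃ y ∈ B, y ≠ x₀ := by
      by_contra h
      push Not at h
      exact hsub fun a ha b hb => (h a ha).trans (h b hb).symm
    right
    refine Set.eq_univ_of_forall fun z => ?_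
    rcases eq_or_ne z x₀ with rfl | hz
    · exact hxB
    obtain ⟨r, hr, hrz⟩ := htr y z hyx hz
    have h := hB.smul_eq_of_mem (g := (⟨r, hRH hr⟩ : H)) hxB (by
      show r x₀ ∈ B
      rw [hfix r hr]; exact hxB)
    rw [← h]
    exact ⟨y, hy, hrz⟩
  exact (not_le_of_gt hHG) (hfull H hRH hHG.le htrans hprim g hg hgx)

end Cfsg.Agent.Struct.SymTwoMaximal
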