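import Cfsg.Agent.Lib.Char.BrauerSuzukiHall
import Cfsg.Agent.Lib.Struct.Frobenius
import Cfsg.Agent.Lib.Solv.Coprime
import Cfsg.Agent.Lib.Perm.Frobenius
import Cfsg.Prelude.Def_OddOrderLocal
import Mathlib.GroupTheory.SemidirectProduct
import Mathlib.GroupTheory.SchurZassenhaus
import Mathlib.GroupTheory.Nilpotent

/-!
A trivial intersection subgroup which is a Hall subgroup of its normaliser and has a complement there.
-/

set_option autoImplicit false

namespace Cfsg.Agent.Struct.TIHall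

open Subgroup Cfsg

universe u

variable {G : Type u} [Group G] [Finite G] {H : Subgroup G}

local notation "NH" => Subgroup.normalizer (H : Set G)

theorem centralizer_le (hTI : IsTISubset (H : Set G)) {x : G} (hx : x ∈ H) (hx1 : x ≠ 1) {y : G}
    (h : y * x = x * y) : y ∈ NH := by
  by_contra hy
  exact hx1 (hTI y hy x hx (by rwa [h, mul_inv_cancel_right]))

theorem mem_normalizer_of_conj (hTI : IsTISubset (H : Set G)) {x : G} (hx : x ∈ H) (hx1 : x ≠ 1) {y : G}
    (h : y * x * y⁻¹ ∈ H) : y ∈ NH := by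
  by_contra hy
  exact hx1 (hTI y hy x hx h)

theorem hall (hTI : IsTISubset (H : Set G)) (hHall : (Nat.card H).Coprime (H.subgroupOf NH).index) :
    (Nat.card H).Coprime H.index := by
  refine Nat.coprime_of_dvd fun r hr h1 h2 => ?_
  haveI := Fact.mk hr
  obtain ⟨S⟩ : Nonempty (Sylow r H) := inferInstance
  set S' := (S : Subgroup H).map H.subtype with hS'
  have hS'H : S' ≤ H := map_subtype_le _
  obtain ⟨n, hn⟩ := S.2.exists_card_eq
  have hcard : Nat.card S' = r ^ n := by rw [hS', card_map_of_injective H.subtype_injective, hn]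
  have hdvd : r ^ (n + 1) ∣ Nat.card G := by
    rw [pow_succ, ← H.card_mul_index]
    exact Nat.mul_dvd_mul (hn ▸ card_subgroup_dvd_card (S : Subgroup H)) h2
  have hq : r ∣ S'.relIndex (normalizer (S' : Set G)) :=
    Sylow.prime_dvd_card_quotient_normalizer hdvd hcard
  have hne : S' ≠ ⊥ := fun e => S.ne_bot_of_dvd_card h1 ((map_eq_bot_iff_of_injective _ H.subtype_injective).1 e)
  have hle : normalizer (S' : Set G) ≤ NH := by
    intro y hy
    obtain ⟨⟨s, hs⟩, hs1⟩ := ne_bot_iff_exists_ne_one.1 hne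
    exact mem_normalizer_of_conj hTI (hS'H hs) (fun e => hs1 (Subtype.ext e)) (hS'H ((mem_normalizer_iff.1 hy s).1 hs))
  have h3 : r ∣ S'.relIndex H * H.relIndex NH := by
    rw [relIndex_mul_relIndex _ _ _ hS'H le_normalizer, ← relIndex_mul_relIndex _ _ _
      (le_normalizer : S' ≤ normalizer (S' : Set G)) hle]
    exact dvd_mul_of_dvd_left hq _
  rcases (Nat.Prime.dvd_mul hr).1 h3 with h | h
  · refine S.not_dvd_index ?_
    rwa [hS', Subgroup.relIndex, subgroupOf, comap_map_eq_self_of_injective H.subtype_injective] at h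
  · exact hr.ne_one (Nat.eq_one_of_dvd_coprimes hHall h1 h)

theorem mem_of_orderOf_dvd (hTI : IsTISubset (H : Set G)) (hHall : (Nat.card H).Coprime (H.subgroupOf NH).index)
    {e : G} (he : e ∈ NH) (hd : orderOf e ∣ Nat.card H) : e ∈ H := by
  haveI : (H.subgroupOf NH).Normal := normal_subgroupOf_of_le_normalizer le_rfl
  have h1 : orderOf (QuotientGroup.mk' (H.subgroupOf NH) ⟨e, he⟩) ∣ Nat.card H :=
    (orderOf_map_dvd _ _).trans (by rwa [Subgroup.orderOf_mk])
  have h2 : orderOf (QuotientGroup.mk' (H.subgroupOf NH) ⟨e, he⟩) ∣ (H.subgroupOf NH).index :=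
    orderOf_dvd_natCard _
  have h3 := orderOf_eq_one_iff.1 (Nat.eq_one_of_dvd_coprimes hHall h1 h2)
  exact mem_subgroupOf.1 ((QuotientGroup.eq_one_iff _).1 h3)

/-- A subgroup of order dividing `|H|` with non-trivial centre is conjugate into `H`. -/
theorem exists_conj_le (hTI : IsTISubset (H : Set G)) (hHall : (Nat.card H).Coprime (H.subgroupOf NH).index)
    (E : Subgroup G) (hE : Nat.card E ∣ Nat.card H) {z : G} (hz : z ∈ E) (hz1 : z ≠ 1)
    (hzc : ∀ e ∈ E, e * z = z * e) : ∃ g : G, ∀ e ∈ E, g * e * g⁻¹ ∈ H := by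
  obtain ⟨r, hr, hrd⟩ := Nat.exists_prime_and_dvd (fun h => hz1 (orderOf_eq_one_iff.1 h))
  haveI := Fact.mk hr
  set w := z ^ (orderOf z / r) with hw
  have hwo : orderOf w = r := orderOf_pow_orderOf_div (orderOf_pos z).ne' hrd
  have hw1 : w ≠ 1 := fun e => hr.ne_one (by rw [← hwo, e, orderOf_one])
  have hrH : r ∣ Nat.card H := (hrd.trans (orderOf_dvd_natCard E hz)).trans hE
  obtain ⟨S⟩ : Nonempty (Sylow r H) := inferInstance
  have hS' : ¬ r ∣ ((S : Subgroup H).map H.subtype).index := by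
    rw [index_map_subtype]
    exact fun h => (hr.dvd_mul.1 h).elim S.not_dvd_index
      fun h => hr.ne_one (Nat.eq_one_of_dvd_coprimes (hall hTI hHall) hrH h)
  let S' : Sylow r G := (S.2.map H.subtype).toSylow hS'
  obtain ⟨T, hT⟩ := (IsPGroup.of_card (G := zpowers w) (p := r) (n := 1)
    (by rw [Nat.card_zpowers, hwo, pow_one])).exists_le_sylow
  obtain ⟨c, hc⟩ := MulAction.exists_smul_eq G T S'
  have hcw : c * w * c⁻¹ ∈ H := by
    have h1 : c * w * c⁻¹ ∈ (S' : Subgroup G) := hc ▸ ⟨w, hT (mem_zpowers w), rfl⟩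
    exact map_subtype_le _ h1
  refine ⟨c, fun e he => mem_of_orderOf_dvd hTI hHall
    (centralizer_le hTI hcw (fun h => hw1 (conj_eq_one_iff.1 h)) ?_) ?_⟩
  · have h2 : Commute e w := (show Commute e z from hzc e he).pow_right _
    calc c * e * c⁻¹ * (c * w * c⁻¹) = c * (e * w) * c⁻¹ := by group
      _ = c * (w * e) * c⁻¹ := by rw [h2.eq]
      _ = _ := by group
  · rw [show c * e * c⁻¹ = MulAut.conj c e from rfl, MulEquiv.orderOf_eq]
    exact (orderOf_dvd_natCard E he).trans hE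

theorem exists_complement_of_local (hTI : IsTISubset (H : Set G))
    (hHall : (Nat.card H).Coprime (H.subgroupOf NH).index)
    (hK : ∃ K : Subgroup ↥NH, K.Normal ∧ K.IsComplement' (H.subgroupOf NH)) :
    ∃ N : Subgroup G, N.Normal ∧ N.IsComplement' H := by
  classical
  obtain ⟨K, hKn, hKc⟩ := hK
  haveI : (H.subgroupOf NH).Normal := normal_subgroupOf_of_le_normalizer le_rfl
  haveI := Fintype.ofFinite G
  refine (Char.HallBS.exists_complement (hall hTI hHall) ?_ ?_).elim fun N hN => ⟨N, hN.1,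
    isComplement'_of_disjoint_and_mul_eq_univ (disjoint_iff.2 hN.2.2)
      (by haveI := hN.1; rw [← normal_mul, hN.2.1, coe_top])⟩
  · intro x hx y hy hxy
    by_cases hx1 : x = 1
    · refine ⟨1, H.one_mem, ?_⟩
      subst hx1
      rw [isConj_one_right] at hxy
      subst hxy; group
    obtain ⟨g, hg⟩ := isConj_iff.1 hxy
    have hgN : g ∈ NH := mem_normalizer_of_conj hTI hx hx1 (hg ▸ hy)
    obtain ⟨⟨⟨k, hk⟩, ⟨h, hh⟩⟩, he⟩ := hKc.2 ⟨g, hgN⟩
    have he' : ((k : G)) * (h : G) = g := congrArg Subtype.val he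
    refine ⟨h, hh, ?_⟩
    have hz : (h : G) * x * (h : G)⁻¹ ∈ H := H.mul_mem (H.mul_mem hh hx) (H.inv_mem hh)
    have hcom := commute_of_normal_of_disjoint K (H.subgroupOf NH) hKn inferInstance hKc.disjoint k
      ⟨_, le_normalizer hz⟩ hk hz
    have hcom' : (k : G) * ((h : G) * x * (h : G)⁻¹) = (h : G) * x * (h : G)⁻¹ * k :=
      congrArg Subtype.val hcom.eq
    rw [← hg, ← he']
    calc (h : G) * x * (h : G)⁻¹ = (k : G) * ((h : G) * x * (h : G)⁻¹) * (k : G)⁻¹ := by rw [hcom']; group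
      _ = _ := by group
  · intro E p hp hel hd
    haveI := Fact.mk hp
    obtain ⟨x, hx, -, k, hk⟩ := hel
    by_cases hbot : E = ⊥
    · exact ⟨1, fun e he => by rw [hbot, mem_bot] at he; subst he; simp⟩
    have hc : ∃ z : E, z ∈ center E ∧ z ≠ 1 := by
      by_cases hx1 : x = 1
      · subst hx1
        rw [zpowers_one_eq_bot, index_bot] at hk
        haveI : Nontrivial E := (nontrivial_iff_ne_bot E).2 hbot
        haveI := (IsPGroup.of_card (G := E) hk).center_nontrivial
        obtain ⟨z, hz⟩ := exists_ne (1 : center E)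
        exact ⟨z, z.2, fun e => hz (Subtype.ext e)⟩
      · exact ⟨x, hx, hx1⟩
    obtain ⟨z, hzc, hz1⟩ := hc
    exact exists_conj_le hTI hHall E hd z.2 (fun e => hz1 (Subtype.ext e))
      fun e he => congrArg Subtype.val (mem_center_iff.1 hzc ⟨e, he⟩)

/-- Counting: a group is not covered by proper TI self-normalising subgroups. -/
theorem conj_complement (hTI : IsTISubset (H : Set G)) (hHall : (Nat.card H).Coprime (H.subgroupOf NH).index)
    (H₁ : Subgroup G) (hcard : Nat.card H₁ = Nat.card H) (hne : H₁ ≠ ⊥) :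
    ∃ g : G, ∀ e ∈ H₁, g * e * g⁻¹ ∈ H := by
  classical
  have hex : ∀ y : H₁, y ≠ 1 → ∃ g : G, g * (y : G) * g⁻¹ ∈ H := fun y hy => by
    obtain ⟨g, hg⟩ := exists_conj_le hTI hHall (zpowers (y : G))
      ((Nat.card_zpowers (y : G)).symm ▸ hcard ▸ orderOf_dvd_natCard H₁ y.2) (mem_zpowers _)
      (fun e => hy (Subtype.ext e)) (fun e he => by
        obtain ⟨i, rfl⟩ := mem_zpowers_iff.1 he
        exact ((Commute.refl (y : G)).zpow_left i).eq)
    exact ⟨g, hg _ (mem_zpowers _)⟩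
  let A : G → Subgroup H₁ := fun g => (H.map (MulAut.conj g⁻¹).toMonoidHom).subgroupOf H₁
  have hA : ∀ g (y : H₁), y ∈ A g ↔ g * (y : G) * g⁻¹ ∈ H := by
    intro g y
    show (y : G) ∈ H.map (MulAut.conj g⁻¹).toMonoidHom ↔ _
    constructor
    · rintro ⟨h, hh, e⟩
      rw [← e]
      show g * (g⁻¹ * h * g⁻¹⁻¹) * g⁻¹ ∈ H
      simpa [mul_assoc] using hh
    · intro h
      exact ⟨_, h, by show g⁻¹ * (g * (y : G) * g⁻¹) * g⁻¹⁻¹ = y; group⟩
  by_contra hno
  simp only [not_exists, not_forall] at hno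
  have htop : ∀ g, A g ≠ ⊤ := fun g h => by
    obtain ⟨e, he, hne⟩ := hno g
    exact hne ((hA g ⟨e, he⟩).1 (h ▸ mem_top _))
  -- conjugating elements of one trivial intersection subgroup
  have hsame : ∀ g g' : G, ∀ x : H₁, x ≠ 1 → x ∈ A g → x ∈ A g' → A g = A g' := by
    intro g g' x hx h h'
    rw [hA] at h h'
    have hn : g' * g⁻¹ ∈ NH := mem_normalizer_of_conj hTI h (fun e => hx (Subtype.ext (conj_eq_one_iff.1 e))) (by
      rw [show g' * g⁻¹ * (g * (x : G) * g⁻¹) * (g' * g⁻¹)⁻¹ = g' * (x : G) * g'⁻¹ by group]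
      exact h')
    ext y
    rw [hA, hA, mem_normalizer_iff.1 hn, show g' * g⁻¹ * (g * (y : G) * g⁻¹) * (g' * g⁻¹)⁻¹ = g' * (y : G) * g'⁻¹ by group]
  have hconj : ∀ (g : G) (c y : H₁), y ∈ A g → c * y * c⁻¹ ∈ A (g * (c : G)⁻¹) := by
    intro g c y hy
    rw [hA] at hy ⊢
    rw [show g * (c : G)⁻¹ * ((c * y * c⁻¹ : H₁) : G) * (g * (c : G)⁻¹)⁻¹ = g * (y : G) * g⁻¹ by
      simp [mul_assoc]]
    exact hy
  have hFrob : ∀ g, A g ≠ ⊥ → IsFrobeniusComplement (A g) := by
    intro g hg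
    refine ⟨hg, htop g, fun c hc => (eq_bot_iff_forall _).2 fun x hx => ?_⟩
    by_contra hx1
    obtain ⟨y, hy, hyx⟩ := hx.2
    have hyx' : c * y * c⁻¹ = x := hyx
    have hAA := hsame g (g * (c : G)⁻¹) x hx1 hx.1 (hyx' ▸ hconj g c y hy)
    apply hc
    rw [hA]
    have hxA : x ∈ A (g * (c : G)⁻¹) := hAA ▸ hx.1
    rw [hA] at hxA
    have hxg := (hA g x).1 hx.1
    have hn : g * (c : G) * g⁻¹ ∈ NH := by
      have h4 : g * (c : G)⁻¹ * g⁻¹ ∈ NH := mem_normalizer_of_conj hTI hxg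
        (fun e => hx1 (Subtype.ext (conj_eq_one_iff.1 e))) (by
          rw [show g * (c : G)⁻¹ * g⁻¹ * (g * (x : G) * g⁻¹) * (g * (c : G)⁻¹ * g⁻¹)⁻¹ =
            g * (c : G)⁻¹ * (x : G) * (g * (c : G)⁻¹)⁻¹ by group]
          exact hxA)
      have h5 := inv_mem h4
      rwa [show (g * (c : G)⁻¹ * g⁻¹)⁻¹ = g * (c : G) * g⁻¹ by group] at h5
    refine mem_of_orderOf_dvd hTI hHall hn ?_
    rw [show g * (c : G) * g⁻¹ = MulAut.conj g (c : G) from rfl, MulEquiv.orderOf_eq]
    exact hcard ▸ orderOf_dvd_natCard H₁ c.2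
  obtain ⟨⟨a, ha⟩, ha1⟩ := ne_bot_iff_exists_ne_one.1 hne
  obtain ⟨g, hg⟩ := hex ⟨a, ha⟩ ha1
  have hAg : A g ≠ ⊥ := fun h => ha1 ((eq_bot_iff_forall _).1 h _ ((hA g ⟨a, ha⟩).2 hg))
  have hF := hFrob g hAg
  have hk := Frobenius.card_kernel hF
  have hidx : 2 ≤ (A g).index := by
    have h1 : (A g).index ≠ 1 := fun h => htop g (index_eq_one.1 h)
    have h2 : (A g).index ≠ 0 := index_ne_zero_of_finite
    omega
  obtain ⟨b, hb, hb1⟩ : ∃ b ∈ frobeniusKernel (A g), b ≠ 1 := by
    by_contra h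
    simp only [not_exists, not_and, not_not] at h
    have : Nat.card (frobeniusKernel (A g)) ≤ 1 :=
      Nat.card_mono (t := ({1} : Set H₁)) (Set.finite_singleton _) h |>.trans (by simp)
    omega
  obtain ⟨g', hg'⟩ := hex b hb1
  have hAg' : A g' ≠ ⊥ := fun h => hb1 ((eq_bot_iff_forall _).1 h _ ((hA g' b).2 hg'))
  have hF' := hFrob g' hAg'
  have hk' := Frobenius.card_kernel hF'
  -- the conjugates of the second lie in the kernel of the first
  have hsub : ∀ x : H₁, x ∉ frobeniusKernel (A g') → x ∈ frobeniusKernel (A g) := by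
    intro x hx
    obtain ⟨hx1, c, hc⟩ := Frobenius.notMem_kernel.1 hx
    by_contra hxk
    obtain ⟨-, d, hd⟩ := Frobenius.notMem_kernel.1 hxk
    have h1 := hconj g' c _ hc
    have h2 := hconj g d _ hd
    rw [show c * (c⁻¹ * x * c) * c⁻¹ = x by group] at h1
    rw [show d * (d⁻¹ * x * d) * d⁻¹ = x by group] at h2
    have heq := hsame _ _ x hx1 h1 h2
    have h3 := hconj g' c b ((hA g' b).2 hg')
    rw [heq] at h3
    have h4 := hconj _ d⁻¹ _ h3
    rw [show g * (d : G)⁻¹ * ((d⁻¹ : H₁) : G)⁻¹ = g by simp] at h4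
    obtain hb' | hb' := hb
    · exact hb1 hb'
    · exact hb' (c⁻¹ * d) (Frobenius.mem_conj_smul.2 (by
        rw [show (c⁻¹ * d)⁻¹ * b * (c⁻¹ * d) = d⁻¹ * (c * b * c⁻¹) * d⁻¹⁻¹ by group]
        exact h4))
  have hle : (frobeniusKernel (A g'))ᶜ.ncard ≤ ((frobeniusKernel (A g)) \ {1}).ncard :=
    Set.ncard_le_ncard (fun x hx => ⟨hsub x hx, fun h => hx (Or.inl h)⟩) (Set.toFinite _)
  rw [Set.ncard_compl, Set.ncard_diff_singleton_of_mem (show (1 : H₁) ∈ frobeniusKernel (A g) from Or.inl rfl),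
    ← Nat.card_coe_set_eq, ← Nat.card_coe_set_eq, hk, hk'] at hle
  have e1 := (A g).card_mul_index
  have e2 := (A g').card_mul_index
  have c1 : 2 ≤ Nat.card (A g) := (one_lt_card_iff_ne_bot _).2 hAg
  have c2 : 2 ≤ Nat.card (A g') := (one_lt_card_iff_ne_bot _).2 hAg'
  have d1 := Nat.mul_le_mul_right (A g).index c1
  have d2 := Nat.mul_le_mul_right (A g').index c2
  omega

/-- The converse direction. -/
theorem exists_local_complement (hK : ∃ N : Subgroup G, N.Normal ∧ N.IsComplement' H) :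
    ∃ K : Subgroup ↥NH, K.Normal ∧ K.IsComplement' (H.subgroupOf NH) := by
  obtain ⟨N, hN, hc⟩ := hK
  haveI := hN
  refine ⟨N.subgroupOf NH, inferInstance, isComplement'_of_disjoint_and_mul_eq_univ ?_ ?_⟩
  · rw [disjoint_iff, eq_bot_iff]
    intro x hx
    have h1 : (x : G) ∈ N ⊓ H := ⟨hx.1, hx.2⟩
    rw [hc.disjoint.eq_bot, mem_bot] at h1
    exact mem_bot.2 (Subtype.ext h1)
  · rw [Set.eq_univ_iff_forall]
    intro x
    obtain ⟨⟨⟨n, hn⟩, ⟨h, hh⟩⟩, he⟩ := hc.2 (x : G)
    have hnN : n ∈ NH := by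
      rw [eq_mul_inv_of_mul_eq (show n * h = x from he)]
      exact mul_mem x.2 (inv_mem (le_normalizer hh))
    exact ⟨⟨n, hnN⟩, hn, ⟨h, le_normalizer hh⟩, hh, Subtype.ext he⟩

theorem exists_frobenius_of_fpf_action {V A : Type u} [Group V] [Finite V] [Nontrivial V] [Group A]
    [Finite A] [Nontrivial A] (φ : A →* MulAut V)
    (hfpf : ∀ (h : A) (n : V), φ h n = n → h = 1 ∨ n = 1) :
    ∃ (L : Type u) (_ : Group L) (_ : Finite L) (C : Subgroup L),
      Cfsg.IsFrobeniusComplement C ∧ Nonempty (A ≃* C) := by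
  have : Finite (V ⋊[φ] A) := Finite.of_equiv _ SemidirectProduct.equivProd.symm
  refine ⟨V ⋊[φ] A, inferInstance, this, (SemidirectProduct.inr : A →* V ⋊[φ] A).range, ?_,
    ⟨MonoidHom.ofInjective SemidirectProduct.inr_injective⟩⟩
  haveI : (SemidirectProduct.inl : V →* V ⋊[φ] A).range.Normal := by
    rw [SemidirectProduct.range_inl_eq_ker_rightHom]; infer_instance
  refine (Agent.Perm.isFrobeniusComplement_of_fpf (SemidirectProduct.inl : V →* V ⋊[φ] A).range _ ?_ ?_ ?_ ?_).1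
  · rw [eq_top_iff]
    intro x _
    rw [← SemidirectProduct.inl_left_mul_inr_right x]
    exact mul_mem_sup ⟨_, rfl⟩ ⟨_, rfl⟩
  · intro h
    obtain ⟨n, hn⟩ := exists_ne (1 : V)
    exact hn (SemidirectProduct.inl_injective ((eq_bot_iff_forall _).1 h _ ⟨n, rfl⟩ |>.trans (map_one _).symm))
  · intro h
    obtain ⟨n, hn⟩ := exists_ne (1 : A)
    exact hn (SemidirectProduct.inr_injective ((eq_bot_iff_forall _).1 h _ ⟨n, rfl⟩ |>.trans (map_one _).symm))
  · rintro _ ⟨h, rfl⟩ _ ⟨n, rfl⟩ hc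
    have : φ h n = n := by
      have := congrArg SemidirectProduct.left hc.eq
      simpa using this
    rcases hfpf h n this with e | e
    · exact Or.inl (by rw [e, map_one])
    · exact Or.inr (by rw [e, map_one])

theorem exists_frobenius_iso (hTI : IsTISubset (H : Set G))
    (hHall : (Nat.card H).Coprime (H.subgroupOf NH).index) (hnorm : ¬ H.Normal)
    {N : Subgroup G} [N.Normal] (hc : N.IsComplement' H) :
    ∃ (F : Type u) (_ : Group F) (_ : Finite F) (C : Subgroup F),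
      Cfsg.IsFrobeniusComplement C ∧ Nonempty (H ≃* C) := by
  classical
  have hHbot : H ≠ ⊥ := fun e => hnorm (e ▸ inferInstance)
  haveI : Nontrivial H := (nontrivial_iff_ne_bot H).2 hHbot
  have hidx : N.index = Nat.card H := hc.symm.index_eq_card
  have hcop : (Nat.card H).Coprime (Nat.card N) := by
    rw [← hc.index_eq_card]; exact hall hTI hHall
  set Kn := N ⊓ NH with hKn
  have hcomm : ∀ k ∈ Kn, ∀ h ∈ H, k * h = h * k := by
    intro k hk h hh
    have h1 : k * h * k⁻¹ * h⁻¹ ∈ N ⊓ H := by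
      constructor
      · have := N.mul_mem hk.1 ((inferInstance : N.Normal).conj_mem _ (N.inv_mem hk.1) h)
        rwa [show k * (h * k⁻¹ * h⁻¹) = k * h * k⁻¹ * h⁻¹ by group] at this
      · exact H.mul_mem ((mem_normalizer_iff.1 hk.2 h).1 hh) (H.inv_mem hh)
    rw [hc.disjoint.eq_bot, mem_bot, mul_inv_eq_one, mul_inv_eq_iff_eq_mul] at h1
    exact h1
  have hKne : Kn.relIndex N ≠ 1 := by
    intro h
    apply hnorm
    have h1 : N ≤ NH := (relIndex_eq_one.1 h).trans inf_le_right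
    have h2 : (⊤ : Subgroup G) ≤ NH := hc.sup_eq_top ▸ sup_le h1 le_normalizer
    exact normalizer_eq_top_iff.1 (top_le_iff.1 h2)
  obtain ⟨q, hq, hqd⟩ := Nat.exists_prime_and_dvd hKne
  haveI := Fact.mk hq
  obtain ⟨P⟩ : Nonempty (Sylow q N) := inferInstance
  set P' := (P : Subgroup N).map N.subtype with hP'
  set M := normalizer (P' : Set G) with hM
  have hsup : M ⊔ N = ⊤ := Sylow.normalizer_sup_eq_top P
  haveI : (N.subgroupOf M).Normal := inferInstance
  have hMidx : (N.subgroupOf M).index = Nat.card H := by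
    rw [← hidx, ← relIndex_top_right N, ← hsup, relIndex_sup_right, Subgroup.relIndex]
  obtain ⟨H₀, hH₀⟩ := exists_left_complement'_of_coprime (N := N.subgroupOf M) (by
    rw [hMidx, ← card_map_of_injective M.subtype_injective, subgroupOf_map_subtype]
    exact (hcop.coprime_dvd_right (card_dvd_of_le inf_le_left)).symm)
  set H₁ := H₀.map M.subtype with hH₁
  have hH₁c : Nat.card H₁ = Nat.card H := by
    rw [hH₁, card_map_of_injective M.subtype_injective, ← hH₀.index_eq_card, hMidx]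
  obtain ⟨g, hg⟩ := conj_complement hTI hHall H₁ hH₁c
    (fun e => hHbot (card_eq_one.1 (by rw [← hH₁c, e, card_bot])))
  have hgeq : H₁.map (MulAut.conj g).toMonoidHom = H := by
    refine eq_of_le_of_card_ge (by rintro _ ⟨e, he, rfl⟩; exact hg e he) ?_
    rw [card_map_of_injective (MulEquiv.injective _), hH₁c]
  set R := P'.map (MulAut.conj g).toMonoidHom with hR
  have hRN : R ≤ N := by
    rintro _ ⟨e, he, rfl⟩
    exact (inferInstance : N.Normal).conj_mem _ (map_subtype_le _ he) g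
  have hHR : H ≤ normalizer (R : Set G) := by
    rw [← hgeq, hR]
    exact (map_mono (map_subtype_le H₀)).trans (le_normalizer_map _)
  have hRp : IsPGroup q R := (P.2.map _).map _
  have hRK : ¬ R ≤ Kn := by
    intro h
    have h1 : Nat.card P * q ∣ Nat.card P * (P : Subgroup N).index := by
      rw [(P : Subgroup N).card_mul_index, ← (show Nat.card Kn * Kn.relIndex N = Nat.card N from ?_)]
      · refine Nat.mul_dvd_mul ?_ hqd
        have h2 : Nat.card R = Nat.card P := by
          rw [hR, card_map_of_injective (MulEquiv.injective _), hP', card_map_of_injective N.subtype_injective]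
        exact h2 ▸ card_dvd_of_le h
      · rw [← relIndex_bot_left, relIndex_mul_relIndex _ _ _ bot_le inf_le_left, relIndex_bot_left]
    exact P.not_dvd_index (Nat.dvd_of_mul_dvd_mul_left Nat.card_pos h1)
  set P1 := R ⊓ Kn with hP1
  have hP1c : ∀ p ∈ P1, ∀ h ∈ H, p * h = h * p := fun p hp h hh => hcomm p hp.2 h hh
  set Q := R ⊓ normalizer (P1 : Set G) with hQ
  have hP1Q : P1 ≤ Q := le_inf inf_le_left le_normalizer
  have hQP1 : ¬ Q ≤ P1 := by
    intro h
    haveI := hRp.isNilpotent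
    have hne : P1.subgroupOf R ≠ ⊤ := fun e =>
      hRK ((subgroupOf_eq_top.1 e).trans inf_le_right)
    obtain ⟨x, hx1, hx2⟩ := SetLike.exists_of_lt
      (normalizerCondition_of_isNilpotent _ (lt_top_iff_ne_top.2 hne))
    refine hx2 (h ⟨x.2, mem_normalizer_iff.2 fun y => ⟨fun hy => ?_, fun hy => ?_⟩⟩)
    · exact (mem_normalizer_iff.1 hx1 ⟨y, hy.1⟩).1 hy
    · have hy' : y ∈ R := by
        have := R.mul_mem (R.mul_mem (R.inv_mem x.2) hy.1) x.2
        simpa [mul_assoc] using this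
      exact (mem_normalizer_iff.1 hx1 ⟨y, hy'⟩).2 hy
  haveI : (P1.subgroupOf Q).Normal := normal_subgroupOf_of_le_normalizer inf_le_right
  have hHP1 : H ≤ normalizer (P1 : Set G) := fun h hh => by
    rw [mem_normalizer_iff]
    exact fun y => ⟨fun hy => by rwa [← hP1c y hy h hh, mul_inv_cancel_right], fun hy => by
      have e : h * y * h⁻¹ = y := mul_left_cancel (a := h) (by
        rw [← hP1c _ hy h hh, inv_mul_cancel_right])
      rwa [e] at hy⟩
  have hHQ : ∀ h ∈ H, ∀ y ∈ Q, h * y * h⁻¹ ∈ Q := fun h hh y hy =>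
    ⟨(mem_normalizer_iff.1 (hHR hh) y).1 hy.1,
      (normalizer _).mul_mem ((normalizer _).mul_mem (hHP1 hh) hy.2) ((normalizer _).inv_mem (hHP1 hh))⟩
  have hHQ' : H ≤ normalizer (Q : Set G) := fun h hh => mem_normalizer_iff.2 fun y =>
    ⟨hHQ h hh y, fun hy => by simpa [mul_assoc] using hHQ h⁻¹ (inv_mem hh) _ hy⟩
  let e : H → MulAut Q := fun h =>
    { toFun := fun y => ⟨(h : G) * y * (h : G)⁻¹, hHQ h h.2 y y.2⟩
      invFun := fun y => ⟨(h : G)⁻¹ * y * (h : G)⁻¹⁻¹, hHQ _ (inv_mem h.2) y y.2⟩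
      left_inv := fun y => Subtype.ext (by simp [mul_assoc])
      right_inv := fun y => Subtype.ext (by simp [mul_assoc])
      map_mul' := fun y z => Subtype.ext (by simp [mul_assoc]) }
  have he : ∀ h : H, (P1.subgroupOf Q).map (e h).toMonoidHom = P1.subgroupOf Q := by
    intro h
    refine eq_of_le_of_card_ge ?_ (card_map_of_injective (e h).injective).ge
    rintro _ ⟨y, hy, rfl⟩
    exact (mem_normalizer_iff.1 (hHP1 h.2) _).1 hy
  let φ : H →* MulAut (Q ⧸ P1.subgroupOf Q) :=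
    MonoidHom.mk' (fun h => QuotientGroup.congr _ _ (e h) (he h)) (by
      intro a b
      refine MulEquiv.ext fun v => ?_
      induction v using QuotientGroup.induction_on with
      | _ y =>
        exact congrArg QuotientGroup.mk (Subtype.ext (by
          show ((a : G) * b) * y * ((a : G) * b)⁻¹ = (a : G) * ((b : G) * y * (b : G)⁻¹) * (a : G)⁻¹
          group)))
  haveI : Nontrivial (Q ⧸ P1.subgroupOf Q) :=
    QuotientGroup.nontrivial_iff.2 fun e => hQP1 (subgroupOf_eq_top.1 e)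
  refine exists_frobenius_of_fpf_action φ fun h v hv => or_iff_not_imp_left.2 fun h1 => ?_
  induction v using QuotientGroup.induction_on with
  | _ y =>
    rw [QuotientGroup.eq_one_iff, mem_subgroupOf]
    have hv' : (QuotientGroup.mk (e h y) : Q ⧸ P1.subgroupOf Q) = QuotientGroup.mk y := hv
    rw [QuotientGroup.eq_iff_div_mem, mem_subgroupOf, div_eq_mul_inv] at hv'
    have hv'' : (h : G) * y * (h : G)⁻¹ * (y : G)⁻¹ ∈ P1 := hv'
    have hQn : Q ≤ N := inf_le_left.trans hRN
    obtain ⟨c, hc1, hc2⟩ := Solv.exists_centralizer_lift (zpowers (h : G)) Q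
      (zpowers_le.2 (hHQ' h.2))
      ((hcop.coprime_dvd_left (card_dvd_of_le (zpowers_le.2 h.2))).coprime_dvd_right (card_dvd_of_le hQn))
      (Or.inl inferInstance) P1 hP1Q inf_le_right (zpowers_le.2 (hHP1 h.2)) y y.2 (fun a ha => by
        refine Subgroup.closure_induction (p := fun a _ => a * (y : G) * a⁻¹ * (y : G)⁻¹ ∈ P1)
          ?_ ?_ ?_ ?_ (zpowers_eq_closure (h : G) ▸ ha)
        · rintro _ rfl; exact hv''
        · simp
        · intro a b ha hb hpa hpb
          have ha' : a ∈ normalizer (P1 : Set G) := zpowers_le.2 (hHP1 h.2) (zpowers_eq_closure (h : G) ▸ ha)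
          have := P1.mul_mem ((mem_normalizer_iff.1 ha' _).1 hpb) hpa
          simpa [mul_assoc] using this
        · intro a ha hpa
          have ha' : a ∈ normalizer (P1 : Set G) := zpowers_le.2 (hHP1 h.2) (zpowers_eq_closure (h : G) ▸ ha)
          have := (mem_normalizer_iff.1 (inv_mem ha') _).1 (P1.inv_mem hpa)
          simpa [mul_assoc] using this)
    have hcK : c ∈ P1 := by
      refine ⟨(hc1.1).1, hQn hc1.1, centralizer_le hTI h.2 (fun e => h1 (Subtype.ext e)) ?_⟩
      exact (mem_centralizer_iff.1 hc1.2 _ (mem_zpowers _)).symm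
    have := P1.mul_mem hcK (P1.inv_mem hc2)
    simpa using this

end Cfsg.Agent.Struct.TIHall
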