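import Mathlib

/-!
A square matrix over a field is similar to its transpose.
-/

set_option autoImplicit false
set_option linter.style.haveILetI false
set_option maxHeartbeats 1000000

namespace Cfsg.Agent.Struct.TransposeConj

open Polynomial Module DirectSum

universe u v

variable {F : Type u} [Field F]

/-- A functional on `F[X]` modulo a polynomial whose kernel contains no nonzero ideal. -/
theorem exists_functional {g : F[X]} (hg : g ≠ 0) :
    ∃ l : F[X] →ₗ[F] F, (∀ P, g ∣ P → l P = 0) ∧ ∀ P, ¬ g ∣ P → ∃ R, l (P * R) ≠ 0 := by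
  set g' := g * C g.leadingCoeff⁻¹
  have hm : g'.Monic := monic_mul_leadingCoeff_inv hg
  have hass : ∀ P, g ∣ P ↔ g' ∣ P := fun P => (IsUnit.mul_right_dvd (isUnit_C.2 (isUnit_iff_ne_zero.2 (inv_ne_zero (leadingCoeff_ne_zero.2 hg))))).symm
  refine ⟨(lcoeff F (g'.natDegree - 1)).comp (modByMonicHom g'), fun P hP => ?_, fun P hP => ?_⟩
  · show (P %ₘ g').coeff _ = 0
    rw [(modByMonic_eq_zero_iff_dvd hm).2 ((hass P).1 hP), coeff_zero]
  · set r := P %ₘ g'
    have hr0 : r ≠ 0 := fun e => hP ((hass P).2 ((modByMonic_eq_zero_iff_dvd hm).1 e))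
    have hd : r.natDegree < g'.natDegree := by
      refine natDegree_modByMonic_lt P hm fun e => ?_
      exact hP ((hass P).2 (e ▸ one_dvd P))
    refine ⟨X ^ (g'.natDegree - 1 - r.natDegree), ?_⟩
    show ((P * X ^ (g'.natDegree - 1 - r.natDegree)) %ₘ g').coeff _ ≠ 0
    have h1 : (P * X ^ (g'.natDegree - 1 - r.natDegree)) %ₘ g' = r * X ^ (g'.natDegree - 1 - r.natDegree) := by
      have h2 : (r * X ^ (g'.natDegree - 1 - r.natDegree)).degree < g'.degree := by
        rw [degree_eq_natDegree (mul_ne_zero hr0 (pow_ne_zero _ X_ne_zero)), degree_eq_natDegree hm.ne_zero,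
          natDegree_mul_X_pow _ hr0]
        exact_mod_cast (show r.natDegree + (g'.natDegree - 1 - r.natDegree) < g'.natDegree by omega)
      refine (div_modByMonic_unique (f := P * X ^ (g'.natDegree - 1 - r.natDegree))
        (P /ₘ g' * X ^ (g'.natDegree - 1 - r.natDegree)) _ hm ⟨?_, h2⟩).2
      conv_rhs => rw [← modByMonic_add_div P g']
      ring
    rw [h1]
    have h3 : g'.natDegree - 1 = r.natDegree + (g'.natDegree - 1 - r.natDegree) := by omega
    conv => lhs; arg 2; rw [h3]
    rw [coeff_mul_X_pow]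
    exact leadingCoeff_ne_zero.2 hr0

/-- There is a non-degenerate bilinear form for which `T` is self-adjoint. -/
theorem exists_form {V : Type v} [AddCommGroup V] [Module F V] [FiniteDimensional F V] (T : Module.End F V) :
    ∃ B : V →ₗ[F] V →ₗ[F] F, Function.Injective B ∧ ∀ x y, B (T x) y = B x (T y) := by
  classical
  obtain ⟨ι, hι, p, hp, k, ⟨e⟩⟩ := Module.equiv_directSum_of_isTorsion (Module.AEval.isTorsion_of_finiteDimensional F V T)
  haveI := hι
  choose l hl0 hl using fun i => exists_functional (F := F) (pow_ne_zero (k i) (hp i).ne_zero)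
  let lq : ∀ i, (F[X] ⧸ Ideal.span {p i ^ k i}) →ₗ[F] F := fun i =>
    Submodule.liftQ ((Ideal.span {p i ^ k i}).restrictScalars F) (l i) fun P hP => hl0 i P (Ideal.mem_span_singleton.1 hP)
  have hlq : ∀ i P, lq i (Ideal.Quotient.mk _ P) = l i P := fun i P => rfl
  let comp : ∀ i, V → F[X] ⧸ Ideal.span {p i ^ k i} := fun i x => e (Module.AEval.of F V T x) i
  have hadd : ∀ i x y, comp i (x + y) = comp i x + comp i y := fun i x y => by simp [comp]
  have hsmul : ∀ i (c : F) x, comp i (c • x) = (C c : F[X]) • comp i x := fun i c x => by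
    show e (Module.AEval.of F V T (c • x)) i = _
    rw [map_smul, ← Module.AEval.C_smul (a := T), map_smul]
    rfl
  have hX : ∀ i x, comp i (T x) = (X : F[X]) • comp i x := fun i x => by
    show e (Module.AEval.of F V T (T x)) i = _
    rw [show T x = T • x from rfl, ← Module.AEval.X_smul_of, map_smul]
    rfl
  have hCq : ∀ i (c : F) (a : F[X] ⧸ Ideal.span {p i ^ k i}), lq i ((C c : F[X]) • a) = c * lq i a := fun i c a => by
    obtain ⟨P, rfl⟩ := Ideal.Quotient.mk_surjective a
    rw [show (C c : F[X]) • Ideal.Quotient.mk (Ideal.span {p i ^ k i}) P = Ideal.Quotient.mk _ (C c * P) from rfl,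
      hlq, hlq, ← smul_eq_C_mul, map_smul, smul_eq_mul]
  let B : V →ₗ[F] V →ₗ[F] F := LinearMap.mk₂ F (fun x y => ∑ i, lq i (comp i x * comp i y))
    (fun x x' y => by simp only [hadd, add_mul, map_add, Finset.sum_add_distrib])
    (fun c x y => by simp only [hsmul, smul_mul_assoc, hCq, smul_eq_mul, Finset.mul_sum])
    (fun x y y' => by simp only [hadd, mul_add, map_add, Finset.sum_add_distrib])
    (fun c x y => by simp only [hsmul, mul_smul_comm, hCq, smul_eq_mul, Finset.mul_sum])
  refine ⟨B, (injective_iff_map_eq_zero B).2 fun x hx => ?_, fun x y => ?_⟩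
  · have h0 : ∀ i, comp i x = 0 := fun i => by
      obtain ⟨P, hP⟩ := Ideal.Quotient.mk_surjective (comp i x)
      rw [← hP, Ideal.Quotient.eq_zero_iff_dvd]
      by_contra hd
      obtain ⟨R, hR⟩ := hl i P hd
      refine hR ?_
      let w : (⨁ i : ι, F[X] ⧸ Ideal.span {p i ^ k i}) := DirectSum.lof F[X] ι _ i (Ideal.Quotient.mk _ R)
      let y : V := (Module.AEval.of F V T).symm (e.symm w)
      have hy : ∀ j, comp j y = w j := fun j => by simp [comp, y]
      have h := LinearMap.congr_fun hx y
      simp only [B, LinearMap.mk₂_apply, LinearMap.zero_apply, hy] at h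
      rw [Finset.sum_eq_single i] at h
      · rw [← hP, show w i = Ideal.Quotient.mk _ R from DirectSum.lof_apply _ _ _, ← map_mul, hlq] at h
        exact h
      · intro j _ hj
        rw [show w j = 0 from DirectSum.of_eq_of_ne _ _ _ hj, mul_zero, map_zero]
      · simp
    apply (Module.AEval.of F V T).injective
    apply e.injective
    ext i
    simp only [map_zero]
    exact (h0 i).trans (by simp)
  · simp only [B, LinearMap.mk₂_apply, hX, smul_mul_assoc, mul_smul_comm]

/-- A square matrix over a field is similar to its transpose. -/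
theorem exists_conj_transpose {n : Type*} [Fintype n] [DecidableEq n] (A : Matrix n n F) :
    ∃ P : GL n F, (P : Matrix n n F) * A = A.transpose * P := by
  obtain ⟨B, hB, hBT⟩ := exists_form (Matrix.toLin' A)
  set S := LinearMap.toMatrix₂' F B
  have hrow : ∀ x y, B x y = x ⬝ᵥ S.mulVec y := fun x y => by
    conv_lhs => rw [← Matrix.toLinearMap₂'_toMatrix' (R := F) B]
    rw [Matrix.toLinearMap₂'_apply']
  have hS : S.det ≠ 0 := fun h0 => by
    obtain ⟨v, hv, hv0⟩ := Matrix.exists_vecMul_eq_zero_iff.2 h0
    refine hv ((injective_iff_map_eq_zero B).1 hB v (LinearMap.ext fun y => ?_))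
    rw [hrow, Matrix.dotProduct_mulVec, hv0, zero_dotProduct, LinearMap.zero_apply]
  refine ⟨Matrix.GeneralLinearGroup.mkOfDetNeZero S hS, ?_⟩
  show S * A = A.transpose * S
  apply Matrix.ext
  intro i j
  have h := hBT (Pi.single i 1) (Pi.single j 1)
  simp only [Matrix.toLin'_apply, hrow, Matrix.mulVec_mulVec, Matrix.mulVec_single_one, single_one_dotProduct, Matrix.col_apply] at h
  simp only [Matrix.mul_apply, Matrix.mulVec, dotProduct, Matrix.col_apply, Matrix.transpose_apply] at h ⊢
  exact h.symm

end Cfsg.Agent.Struct.TransposeConj
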