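import Mathlib
import Cfsg.Agent.Lib.Classical.SquareZero
import Cfsg.Prelude.Def_ClassicalGeometry

/-!
Conjugacy and number of transvection matrices.
-/

set_option autoImplicit false
set_option linter.style.haveILetI false

namespace Cfsg.Agent.Struct.TransvectionGL

open Matrix Module

variable {F : Type*} [Field F] {n : ℕ}

/-- Any two transvections are conjugate by a matrix of determinant `d` times a fixed one. -/
theorem exists_conj (s t : Matrix (Fin n) (Fin n) F) (hs : Cfsg.IsTransvection s) (ht : Cfsg.IsTransvection t) :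
    ∃ g : GL (Fin n) F, (g : Matrix (Fin n) (Fin n) F) * s = t * g ∧
      (3 ≤ n → ∀ d : F, d ≠ 0 → ∃ D : GL (Fin n) F, (D : Matrix (Fin n) (Fin n) F).det = d ∧
        (D : Matrix (Fin n) (Fin n) F) * t = t * D) := by
  classical
  set Ns : Module.End F (Fin n → F) := Matrix.toLin' (s - 1) with hNs
  set Nt : Module.End F (Fin n → F) := Matrix.toLin' (t - 1) with hNt
  have sq : ∀ u : Matrix (Fin n) (Fin n) F, (u - 1) * (u - 1) = 0 → ∀ v,
      Matrix.toLin' (u - 1) (Matrix.toLin' (u - 1) v) = 0 := fun u h v => by
    rw [← LinearMap.comp_apply, ← Matrix.toLin'_mul, h, map_zero, LinearMap.zero_apply]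
  obtain ⟨k, b, hb1, hb2, hb3⟩ := Classical.SquareZero.exists_basis Ns (sq s hs.2)
  obtain ⟨k', c, hc1, hc2, hc3⟩ := Classical.SquareZero.exists_basis Nt (sq t ht.2)
  have hr : finrank F (LinearMap.range Ns) = 1 := hs.1
  have hr' : finrank F (LinearMap.range Nt) = 1 := ht.1
  have hk : k + 2 = n ∧ k' + 2 = n := by
    have h1 := finrank_eq_card_basis b
    have h2 := finrank_eq_card_basis c
    simp only [Module.finrank_fin_fun, Fintype.card_sum, Fintype.card_fin, hr, hr'] at h1 h2
    omega
  obtain rfl : k' = k := by omega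
  let e := b.equiv c ((Equiv.sumCongr (Equiv.sumCongr (finCongr (hr.trans hr'.symm)) (finCongr (hr.trans hr'.symm))) (Equiv.refl _)))
  let g : GL (Fin n) F := ⟨LinearMap.toMatrix' e.toLinearMap, LinearMap.toMatrix' e.symm.toLinearMap,
    by rw [← LinearMap.toMatrix'_comp]; simp [LinearMap.toMatrix'_id],
    by rw [← LinearMap.toMatrix'_comp]; simp [LinearMap.toMatrix'_id]⟩
  have he : e.toLinearMap ∘ₗ Ns = Nt ∘ₗ e.toLinearMap := by
    refine b.ext fun i => ?_
    simp only [LinearMap.comp_apply, LinearEquiv.coe_coe]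
    rcases i with ((i | i) | j)
    · simp [e, hb1, hc1]
    · simp [e, hb2, hc2]
    · simp [e, hb3, hc3]
  refine ⟨g, ?_, fun h3 d hd => ?_⟩
  · have h := congrArg LinearMap.toMatrix' he
    rw [LinearMap.toMatrix'_comp, LinearMap.toMatrix'_comp, hNs, hNt, LinearMap.toMatrix'_toLin',
      LinearMap.toMatrix'_toLin', mul_sub, mul_one, sub_mul, one_mul] at h
    exact sub_left_injective h
  · obtain ⟨j₀⟩ : Nonempty (Fin k') := ⟨⟨0, by omega⟩⟩
    let w : (Fin (finrank F (LinearMap.range Nt)) ⊕ Fin (finrank F (LinearMap.range Nt))) ⊕ Fin k' → F :=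
      Function.update (fun _ => 1) (Sum.inr j₀) d
    let L := Matrix.toLin c c (Matrix.diagonal w)
    have hdet : (LinearMap.toMatrix' L).det = d := by
      rw [LinearMap.det_toMatrix', LinearMap.det_toLin, Matrix.det_diagonal, Fintype.prod_eq_single (Sum.inr j₀)]
      · simp [w]
      · intro i hi; simp [w, Function.update_of_ne hi]
    have hL : ∀ i, L (c i) = w i • c i := fun i => by
      show Matrix.toLin c c (Matrix.diagonal w) (c i) = _
      rw [Matrix.toLin_self, Finset.sum_eq_single i]
      · simp
      · intro j _ hj; simp [Matrix.diagonal_apply_ne _ hj]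
      · simp
    have hLc : L ∘ₗ Nt = Nt ∘ₗ L := by
      refine c.ext fun i => ?_
      rw [LinearMap.comp_apply, LinearMap.comp_apply, hL, map_smul]
      rcases i with ((i | i) | j)
      · rw [hc1, hL]
        simp [w]
      · rw [hc2, map_zero, smul_zero]
      · rw [hc3, map_zero, smul_zero]
    refine ⟨GeneralLinearGroup.mkOfDetNeZero (LinearMap.toMatrix' L) (hdet.symm ▸ hd), hdet, ?_⟩
    have h := congrArg LinearMap.toMatrix' hLc
    rw [LinearMap.toMatrix'_comp, LinearMap.toMatrix'_comp, hNt, LinearMap.toMatrix'_toLin',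
      mul_sub, mul_one, sub_mul, one_mul] at h
    exact sub_left_injective h

variable [Fintype F]

/-- The number of transvection matrices. -/
theorem card_transvection (hn : 2 ≤ n) :
    Nat.card {t : Matrix (Fin n) (Fin n) F // Cfsg.IsTransvection t} * (Fintype.card F - 1) =
      (Fintype.card F ^ n - 1) * (Fintype.card F ^ (n - 1) - 1) := by
  classical
  let A := {a : Fin n → F // a ≠ 0}
  let B : A → Type _ := fun a => {b : Fin n → F // b ≠ 0 ∧ b ⬝ᵥ (a : Fin n → F) = 0}
  have hB : ∀ a : A, Nat.card (B a) = Fintype.card F ^ (n - 1) - 1 := by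
    intro a
    let φ : (Fin n → F) →ₗ[F] F :=
      { toFun := fun b => b ⬝ᵥ (a : Fin n → F)
        map_add' := fun x y => add_dotProduct x y _
        map_smul' := fun c x => smul_dotProduct c x _ }
    have hφ : φ ≠ 0 := fun e => a.2 (funext fun i => by
      have := LinearMap.congr_fun e (Pi.single i 1)
      simpa [φ] using this)
    have hd : finrank F (LinearMap.ker φ) = n - 1 := by
      have h := LinearMap.finrank_range_add_finrank_ker φ
      rw [Module.finrank_fin_fun] at h
      have : finrank F (LinearMap.range φ) = 1 := by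
        refine le_antisymm ((Submodule.finrank_le _).trans (Module.finrank_self F).le) ?_
        rw [Nat.one_le_iff_ne_zero, Ne, Submodule.finrank_eq_zero, LinearMap.range_eq_bot]
        exact hφ
      omega
    have e : B a ≃ {b : LinearMap.ker φ // b ≠ 0} :=
      { toFun := fun b => ⟨⟨b.1, b.2.2⟩, fun h => b.2.1 (congrArg Subtype.val h)⟩
        invFun := fun b => ⟨b.1.1, fun h => b.2 (Subtype.ext h), b.1.2⟩
        left_inv := fun b => rfl
        right_inv := fun b => rfl }
    rw [Nat.card_congr e, Nat.card_eq_fintype_card, Fintype.card_subtype_compl, Fintype.card_subtype_eq,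
      Module.card_eq_pow_finrank (K := F), hd]
  have hA : Nat.card A = Fintype.card F ^ n - 1 := by
    rw [Nat.card_eq_fintype_card, Fintype.card_subtype_compl, Fintype.card_subtype_eq, Fintype.card_fun, Fintype.card_fin]
  let f : (Σ a : A, B a) → {t : Matrix (Fin n) (Fin n) F // Cfsg.IsTransvection t} := fun p =>
    ⟨1 + vecMulVec (p.1 : Fin n → F) p.2.1, by
      refine ⟨?_, ?_⟩
      · rw [add_sub_cancel_left]
        refine le_antisymm (Matrix.rank_vecMulVec_le _ _) (Nat.one_le_iff_ne_zero.2 fun h => ?_)
        rw [Matrix.rank, Submodule.finrank_eq_zero, LinearMap.range_eq_bot] at h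
        obtain ⟨j, hj⟩ := Function.ne_iff.1 p.2.2.1
        obtain ⟨i, hi⟩ := Function.ne_iff.1 p.1.2
        have := congrFun (LinearMap.congr_fun h (Pi.single j 1)) i
        simp [vecMulVec_apply] at this
        rcases this with h' | h'
        · exact hi h'
        · exact hj h'
      · rw [add_sub_cancel_left, vecMulVec_mul_vecMulVec, p.2.2.2]
        simp⟩
  have hfib : ∀ t, Nat.card {p : Σ a : A, B a // f p = t} = Fintype.card F - 1 := by
    rintro ⟨t, ht⟩
    obtain ⟨⟨a, ha⟩, ha0, hspan⟩ := (finrank_eq_one_iff' (K := F) (V := LinearMap.range (t - 1).mulVecLin)).1 ht.1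
    have ha' : a ≠ 0 := fun e => ha0 (Subtype.ext e)
    choose cf hcf using fun w : LinearMap.range (t - 1).mulVecLin => hspan w
    let b : Fin n → F := fun j => cf ⟨(t - 1).mulVecLin (Pi.single j 1), LinearMap.mem_range_self _ _⟩
    have hN : t - 1 = vecMulVec a b := by
      ext i j
      have h := congrFun (congrArg Subtype.val (hcf ⟨(t - 1).mulVecLin (Pi.single j 1), LinearMap.mem_range_self _ _⟩)) i
      simp only [SetLike.val_smul, Pi.smul_apply, smul_eq_mul, Matrix.mulVecLin_apply, Matrix.mulVec_single_one,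
        Matrix.col_apply] at h
      rw [vecMulVec_apply, mul_comm]
      simp only [b, Matrix.mulVecLin_apply, Matrix.mulVec_single_one]
      exact h.symm
    have hb0 : b ≠ 0 := fun e => by
      have h := ht.1
      rw [hN, e, vecMulVec_zero, Matrix.rank_zero] at h
      omega
    have hba : b ⬝ᵥ a = 0 := by
      have h := ht.2
      rw [hN, vecMulVec_mul_vecMulVec] at h
      obtain ⟨i, hi⟩ := Function.ne_iff.1 ha'
      obtain ⟨j, hj⟩ := Function.ne_iff.1 hb0
      have := congrFun (congrFun h i) j
      simp [vecMulVec_apply] at this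
      rcases this with h' | h' | h'
      all_goals first | exact h' | exact absurd h' hi | exact absurd h' hj
    let g : Fˣ → {p : Σ a : A, B a // f p = ⟨t, ht⟩} := fun u =>
      ⟨⟨⟨(u : F) • a, smul_ne_zero u.ne_zero ha'⟩, ⟨(↑u⁻¹ : F) • b, smul_ne_zero (Units.ne_zero _) hb0,
        by rw [smul_dotProduct, dotProduct_smul, hba, smul_zero, smul_zero]⟩⟩, Subtype.ext (by
          show 1 + vecMulVec ((u : F) • a) ((↑u⁻¹ : F) • b) = t
          rw [smul_vecMulVec, vecMulVec_smul, smul_smul, Units.mul_inv, one_smul, ← hN, add_sub_cancel])⟩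
    have hg : Function.Bijective g := by
      refine ⟨fun u v h => ?_, ?_⟩
      · have h' : (u : F) • a = (v : F) • a := congrArg (fun p => ((p.1.1 : A) : Fin n → F)) h
        exact Units.ext (smul_left_injective F ha' h')
      · rintro ⟨⟨⟨a₁, ha₁⟩, ⟨b₁, hb₁, hab₁⟩⟩, hp⟩
        have hp' : vecMulVec a₁ b₁ = vecMulVec a b := by
          rw [← hN]; rw [eq_sub_iff_add_eq, add_comm]; exact congrArg Subtype.val hp
        obtain ⟨j, hj⟩ := Function.ne_iff.1 hb₁
        have hlam : a₁ = (b j / b₁ j) • a := funext fun i => by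
          have := congrFun (congrFun hp' i) j
          simp [vecMulVec_apply] at this hj ⊢
          field_simp
          linear_combination this
        have hl0 : b j / b₁ j ≠ 0 := fun e => ha₁ (by rw [hlam, e, zero_smul])
        have hb1' : b₁ = (b j / b₁ j)⁻¹ • b := funext fun l => by
          obtain ⟨i, hi⟩ := Function.ne_iff.1 ha'
          have h1 := congrFun (congrFun hp' i) l
          rw [hlam] at h1
          generalize b j / b₁ j = lam at h1 hl0 ⊢
          simp [vecMulVec_apply] at h1 ⊢
          field_simp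
          have h2 : a i * (lam * b₁ l - b l) = 0 := by linear_combination h1
          exact sub_eq_zero.1 ((mul_eq_zero.1 h2).resolve_left hi) |> fun e => by linear_combination e
        refine ⟨Units.mk0 _ hl0, Subtype.ext ?_⟩
        simp only [g]
        subst hlam
        congr 1
        exact Subtype.ext (by simp only [Units.val_inv_eq_inv_val, Units.val_mk0]; exact hb1'.symm)
    rw [← Nat.card_eq_of_bijective g hg, Nat.card_units, Nat.card_eq_fintype_card]
  have h := Nat.card_congr (Equiv.sigmaFiberEquiv f)
  rw [Nat.card_sigma, Finset.sum_congr rfl fun t _ => hfib t, Finset.sum_const, Finset.card_univ, smul_eq_mul,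
    ← Nat.card_eq_fintype_card (α := {t : Matrix (Fin n) (Fin n) F // Cfsg.IsTransvection t}), Nat.card_sigma,
    Finset.sum_congr rfl fun a _ => hB a, Finset.sum_const, Finset.card_univ, smul_eq_mul,
    ← Nat.card_eq_fintype_card (α := A), hA] at h
  exact h

end Cfsg.Agent.Struct.TransvectionGL
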