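import Mathlib
import Cfsg.Prelude.Def_CaseTheorems
import Cfsg.Prelude.Def_OddOrderLocal
import Cfsg.Agent.Lib.Struct.GeomSum
import Cfsg.Agent.Lib.Local.PGroup

/-!
A finite 2-group of sectional rank at most two is metacyclic.
-/

set_option autoImplicit false
set_option linter.unusedSectionVars false
set_option linter.style.haveILetI false

namespace Cfsg.Agent.Struct.TwoMeta

open Subgroup
open scoped commutatorElement
open Cfsg.Agent.Struct.GeomSum (T T_mul T_succ')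

variable {P : Type*} [Group P]

/-- All elementary abelian sections `H / K` have order at most four. -/
def SmallSections (P : Type*) [Group P] : Prop :=
  ∀ H K : Subgroup P, K ≤ H → H ≤ normalizer (K : Set P) → (∀ h ∈ H, h ^ 2 ∈ K) → K.relIndex H ≤ 4

theorem smallSections_of_rank (hr : Cfsg.SectionalPRankLE 2 2 P) : SmallSections P := by
  intro H K hKH hHN hsq
  haveI hn : (K.subgroupOf H).Normal := (normal_subgroupOf_iff_le_normalizer hKH).2 hHN
  have hexp : ∀ q : H ⧸ K.subgroupOf H, q ^ 2 = 1 := by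
    intro q
    induction q using QuotientGroup.induction_on with
    | H h =>
      rw [← QuotientGroup.mk_pow, QuotientGroup.eq_one_iff, mem_subgroupOf, coe_pow]
      exact hsq h h.2
  have hc : IsMulCommutative (⊤ : Subgroup (H ⧸ K.subgroupOf H)) := by
    refine ⟨⟨fun a b => Subtype.ext ?_⟩⟩
    have hinv : ∀ q : H ⧸ K.subgroupOf H, q⁻¹ = q := fun q => inv_eq_of_mul_eq_one_right (by rw [← pow_two]; exact hexp q)
    show (a : H ⧸ K.subgroupOf H) * b = b * a
    calc (a : H ⧸ K.subgroupOf H) * b = ((a : H ⧸ K.subgroupOf H) * b)⁻¹ := (hinv _).symm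
      _ = b * a := by rw [mul_inv_rev, hinv, hinv]
  have h4 := hr H (K.subgroupOf H) ⊤ hc fun a _ => hexp a
  rw [card_top] at h4
  rw [relIndex, index_eq_card]
  simpa using h4

theorem SmallSections.quotient (h : SmallSections P) (N : Subgroup P) [N.Normal] : SmallSections (P ⧸ N) := by
  intro H K hKH hHN hsq
  have hmap : (H.comap (QuotientGroup.mk' N)).map (QuotientGroup.mk' N) = H :=
    map_comap_eq_self_of_surjective (QuotientGroup.mk'_surjective N) H
  have h1 := h (H.comap (QuotientGroup.mk' N)) (K.comap (QuotientGroup.mk' N)) (comap_mono hKH)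
    ((comap_mono hHN).trans (le_normalizer_comap _)) fun g hg => by
      rw [mem_comap, map_pow]; exact hsq _ hg
  rwa [relIndex_comap, hmap] at h1

/-- A subgroup of a finite group from a multiplicatively closed set. -/
def ofMulClosed [Finite P] (S : Set P) (h1 : (1 : P) ∈ S) (hmul : ∀ a ∈ S, ∀ b ∈ S, a * b ∈ S) : Subgroup P where
  carrier := S
  one_mem' := h1
  mul_mem' := fun {a b} ha hb => hmul a ha b hb
  inv_mem' := fun {a} ha => by
    have hpow : ∀ k : ℕ, a ^ k ∈ S := by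
      intro k
      induction k with
      | zero => simpa using h1
      | succ k ih => rw [pow_succ]; exact hmul _ ih _ ha
    have e : a⁻¹ = a ^ (orderOf a - 1) := by
      have hp := orderOf_pos a
      apply inv_eq_of_mul_eq_one_right
      rw [← pow_succ', Nat.sub_add_cancel hp, pow_orderOf_eq_one]
    rw [e]; exact hpow _

theorem conj_pow_zpow {c y : P} {R : ℤ} (hy : y * c * y⁻¹ = c ^ R) (k : ℕ) (i : ℤ) :
    y ^ k * c ^ i = c ^ (i * R ^ k) * y ^ k := by
  induction k with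
  | zero => simp
  | succ k ih =>
    have h1 : ∀ j : ℤ, y * c ^ j = c ^ (j * R) * y := by
      intro j
      rw [← mul_inv_eq_iff_eq_mul, ← conj_zpow, hy, ← zpow_mul, mul_comm R j]
    calc y ^ (k + 1) * c ^ i = y * (y ^ k * c ^ i) := by rw [pow_succ', mul_assoc]
      _ = y * c ^ (i * R ^ k) * y ^ k := by rw [ih, mul_assoc]
      _ = c ^ (i * R ^ k * R) * y * y ^ k := by rw [h1]
      _ = c ^ (i * R ^ (k + 1)) * y ^ (k + 1) := by rw [mul_assoc i (R ^ k) R, ← pow_succ, mul_assoc, ← pow_succ']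

theorem mul_pow_conj {c y : P} {R : ℤ} (hy : y * c * y⁻¹ = c ^ R) (i : ℤ) (q : ℕ) :
    (c ^ i * y) ^ q = c ^ (i * T R q) * y ^ q := by
  induction q with
  | zero => simp [T]
  | succ q ih =>
    have h1 : y * c ^ (i * T R q) = c ^ (i * T R q * R) * y := by simpa using conj_pow_zpow hy 1 (i * T R q)
    rw [pow_succ', ih, mul_assoc, ← mul_assoc y, h1, ← mul_assoc, ← mul_assoc, ← zpow_add, mul_assoc, ← pow_succ']
    congr 2
    rw [T_succ']; ring

theorem T_two_pow {R : ℤ} (hR : (4 : ℤ) ∣ R - 1) (m : ℕ) : ∃ u : ℤ, T R (2 ^ m) = 2 ^ m * (2 * u + 1) := by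
  induction m with
  | zero => exact ⟨0, by simp [T]⟩
  | succ m ih =>
    obtain ⟨u, hu⟩ := ih
    obtain ⟨v, hv⟩ := (hR.trans (by simpa using sub_dvd_pow_sub_pow R 1 (2 ^ m)) : (4 : ℤ) ∣ R ^ (2 ^ m) - 1)
    have h2 : T (R ^ (2 ^ m)) 2 = 2 * (2 * v + 1) := by
      simp only [T, Finset.sum_range_succ, Finset.sum_range_zero, pow_zero, pow_one]
      linarith
    exact ⟨2 * u * v + u + v, by rw [pow_succ, T_mul, hu, h2]; ring⟩

theorem exists_inv_mod (u : ℤ) (n : ℕ) : ∃ v : ℤ, ((2 : ℤ) ^ n) ∣ (2 * u + 1) * v - 1 := by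
  have h : IsCoprime (2 * u + 1) ((2 : ℤ) ^ n) := IsCoprime.pow_right ⟨1, -u, by ring⟩
  obtain ⟨v, w, hvw⟩ := h
  exact ⟨v, -w, by linear_combination hvw⟩

/-- Metacyclicity from a generating pair whose first member's powers contain the derived group. -/
theorem metacyclic_of_pair [Finite P] (y u : P) (hgen : closure ({y, u} : Set P) = ⊤)
    (hc : commutator P ≤ zpowers y) : Cfsg.IsMetacyclic P := by
  haveI hn : (zpowers y).Normal := ⟨fun g hg x => by
    have h1 : x * g * x⁻¹ * g⁻¹ ∈ zpowers y := hc (by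
      rw [_root_.commutator_def]; exact commutator_mem_commutator (mem_top x) (mem_top g))
    have := mul_mem h1 hg
    rwa [inv_mul_cancel_right] at this⟩
  refine ⟨zpowers y, hn, isCyclic_zpowers y, ⟨⟨(u : P ⧸ zpowers y), fun q => ?_⟩⟩⟩
  induction q using QuotientGroup.induction_on with
  | H g =>
    have hle : closure ({y, u} : Set P) ≤ (zpowers (u : P ⧸ zpowers y)).comap (QuotientGroup.mk' (zpowers y)) := by
      rw [closure_le]
      rintro x (rfl | rfl)
      · show (QuotientGroup.mk' (zpowers x)) x ∈ zpowers (u : P ⧸ zpowers x)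
        rw [QuotientGroup.mk'_apply, (QuotientGroup.eq_one_iff x).2 (mem_zpowers x)]
        exact one_mem _
      · exact mem_zpowers _
    exact hle (by rw [hgen]; exact mem_top g)

/-- A section of rank three. -/
theorem not_smallSections [Finite P] {a z y : P} {R : ℤ} (hzc : ∀ g : P, z * g = g * z) (hz : z ^ 2 = 1)
    (hR : Odd R) (hy : y * a * y⁻¹ = a ^ R)
    (hpar : ∀ (i i' : ℤ) (e e' k k' : ℕ), a ^ i * z ^ e * y ^ k = a ^ i' * z ^ e' * y ^ k' →
      i % 2 = i' % 2 ∧ e % 2 = e' % 2 ∧ k % 2 = k' % 2)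
    (hS : SmallSections P) : False := by
  have hze : ∀ (e : ℕ) (g : P), z ^ e * g = g * z ^ e := fun e g =>
    ((Commute.pow_left (hzc g : Commute z g)) e).eq
  have hprod : ∀ (i i' : ℤ) (e e' k k' : ℕ), a ^ i * z ^ e * y ^ k * (a ^ i' * z ^ e' * y ^ k') =
      a ^ (i + i' * R ^ k) * z ^ (e + e') * y ^ (k + k') := by
    intro i i' e e' k k'
    calc a ^ i * z ^ e * y ^ k * (a ^ i' * z ^ e' * y ^ k')
        = a ^ i * z ^ e * (y ^ k * a ^ i') * z ^ e' * y ^ k' := by simp only [mul_assoc]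
      _ = a ^ i * (z ^ e * a ^ (i' * R ^ k)) * (y ^ k * z ^ e') * y ^ k' := by
        rw [conj_pow_zpow hy]; simp only [mul_assoc]
      _ = a ^ (i + i' * R ^ k) * z ^ (e + e') * y ^ (k + k') := by
        rw [hze e, ← hze e', zpow_add, pow_add, pow_add]; simp only [mul_assoc]
  let H : Subgroup P := ofMulClosed {g | ∃ (i : ℤ) (e k : ℕ), g = a ^ i * z ^ e * y ^ k} ⟨0, 0, 0, by simp⟩
    (by rintro g ⟨i, e, k, rfl⟩ h ⟨i', e', k', rfl⟩; exact ⟨_, _, _, hprod i i' e e' k k'⟩)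
  have hz2 : ∀ e : ℕ, z ^ (2 * e) = 1 := fun e => by rw [pow_mul, hz, one_pow]
  let K : Subgroup P := ofMulClosed {g | ∃ (i : ℤ) (k : ℕ), g = a ^ (2 * i) * y ^ (2 * k)} ⟨0, 0, by simp⟩
    (by
      rintro g ⟨i, k, rfl⟩ h ⟨i', k', rfl⟩
      refine ⟨i + i' * R ^ (2 * k), k + k', ?_⟩
      have := hprod (2 * i) (2 * i') 0 0 (2 * k) (2 * k')
      simp only [pow_zero, mul_one, add_zero] at this
      rw [this]
      congr 2 <;> ring)
  have hKH : K ≤ H := by
    rintro g ⟨i, k, rfl⟩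
    exact ⟨2 * i, 0, 2 * k, by simp⟩
  have hsq : ∀ h ∈ H, h ^ 2 ∈ K := by
    rintro h ⟨i, e, k, rfl⟩
    obtain ⟨w, hw⟩ := (hR.pow : Odd (R ^ k))
    refine ⟨i * (w + 1), k, ?_⟩
    rw [pow_two, hprod, ← two_mul, ← two_mul, hz2, mul_one]
    congr 2
    rw [hw]; ring
  have hconj : ∀ g ∈ H, ∀ n ∈ (K : Set P), g * n * g⁻¹ ∈ (K : Set P) := by
    rintro g ⟨i, e, k, rfl⟩ n ⟨j, l, rfl⟩
    obtain ⟨w, hw⟩ := (hR.pow : Odd (R ^ (2 * l)))
    refine ⟨j * R ^ k - i * w, l, ?_⟩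
    rw [mul_inv_eq_iff_eq_mul]
    have h1 := hprod i (2 * j) e 0 k (2 * l)
    have h2 := hprod (2 * (j * R ^ k - i * w)) i 0 e (2 * l) k
    simp only [pow_zero, mul_one, add_zero, zero_add] at h1 h2
    rw [h1, h2, add_comm k (2 * l)]
    congr 3
    rw [hw]; ring
  have hHN : H ≤ normalizer (K : Set P) := fun g hg => mem_normalizer_fintype (hconj g hg)
  haveI : (K.subgroupOf H).Normal := (normal_subgroupOf_iff_le_normalizer hKH).2 hHN
  let f : Fin 2 × Fin 2 × Fin 2 → H ⧸ K.subgroupOf H := fun t =>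
    ((⟨a ^ ((t.1 : ℕ) : ℤ) * z ^ (t.2.1 : ℕ) * y ^ (t.2.2 : ℕ), _, _, _, rfl⟩ : H) : H ⧸ K.subgroupOf H)
  have hf : Function.Injective f := by
    intro s t hst
    have h1 := (QuotientGroup.eq (s := K.subgroupOf H)).1 hst
    rw [mem_subgroupOf] at h1
    obtain ⟨j, l, hjl⟩ := h1
    rw [coe_mul, coe_inv, inv_mul_eq_iff_eq_mul] at hjl
    have h2 := hprod ((s.1 : ℕ) : ℤ) (2 * j) (s.2.1 : ℕ) 0 (s.2.2 : ℕ) (2 * l)
    simp only [pow_zero, mul_one, add_zero] at h2
    simp only at hjl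
    rw [h2] at hjl
    obtain ⟨e1, e2, e3⟩ := hpar _ _ _ _ _ _ hjl
    obtain ⟨w, hw⟩ := (hR.pow : Odd (R ^ ((s.2.2 : ℕ))))
    rw [hw] at e1
    have hs1 := s.1.isLt
    have ht1 := t.1.isLt
    refine Prod.ext (Fin.ext ?_) (Prod.ext (Fin.ext ?_) (Fin.ext ?_))
    · have : ((t.1 : ℕ) : ℤ) % 2 = ((s.1 : ℕ) : ℤ) % 2 := by
        rw [e1, show ((s.1 : ℕ) : ℤ) + 2 * j * (2 * w + 1) = ((s.1 : ℕ) : ℤ) + 2 * (j * (2 * w + 1)) by ring,
          Int.add_mul_emod_self_left]
      omega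
    · have := s.2.1.isLt; have := t.2.1.isLt; omega
    · have := s.2.2.isLt; have := t.2.2.isLt; omega
  have h8 := Nat.card_le_card_of_injective f hf
  have h4 := hS H K hKH hHN hsq
  rw [relIndex, index_eq_card] at h4
  simp at h8
  omega

/-- Abelian case. -/
theorem metacyclic_comm [Finite P] (hP : IsPGroup 2 P) (hS : SmallSections P)
    (hc : ∀ a b : P, a * b = b * a) : Cfsg.IsMetacyclic P := by
  letI : CommGroup P := { (inferInstance : Group P) with mul_comm := hc }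
  let S : Subgroup P := (powMonoidHom 2 : P →* P).range
  have h4 := hS ⊤ S le_top (by rw [normalizer_eq_top_iff.2 inferInstance]) fun h _ => ⟨h, rfl⟩
  rw [relIndex_top_right, index_eq_card] at h4
  have hexp : ∀ q : P ⧸ S, q ^ 2 = 1 := by
    intro q
    induction q using QuotientGroup.induction_on with
    | H g => rw [← QuotientGroup.mk_pow, QuotientGroup.eq_one_iff]; exact ⟨g, rfl⟩
  obtain ⟨x, u, hxu⟩ : ∃ x u : P ⧸ S, closure ({x, u} : Set (P ⧸ S)) = ⊤ := by
    by_cases h : ∀ q : P ⧸ S, q = 1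
    · exact ⟨1, 1, eq_top_iff.2 fun q _ => by rw [h q]; exact one_mem _⟩
    push Not at h
    obtain ⟨x, hx⟩ := h
    by_cases h' : zpowers x = ⊤
    · exact ⟨x, x, eq_top_iff.2 (h' ▸ (zpowers_le.2 (subset_closure (Set.mem_insert x _))))⟩
    obtain ⟨u, -, hu⟩ := SetLike.exists_of_lt (lt_top_iff_ne_top.2 h')
    refine ⟨x, u, ?_⟩
    by_contra hne
    have hlt : zpowers x < closure ({x, u} : Set (P ⧸ S)) :=
      lt_of_le_of_ne (zpowers_le.2 (subset_closure (by simp))) fun e => hu (e ▸ subset_closure (by simp))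
    have hc1 : Nat.card (zpowers x) = 2 := by
      rw [Nat.card_zpowers, orderOf_eq_prime (hexp x) hx]
    obtain ⟨a, ha⟩ := card_dvd_of_le hlt.le
    have h3 : Nat.card (closure ({x, u} : Set (P ⧸ S))) ≠ 2 := fun e =>
      hlt.ne (eq_of_le_of_card_ge hlt.le (by omega))
    obtain ⟨b, hb⟩ := card_subgroup_dvd_card (closure ({x, u} : Set (P ⧸ S)))
    have hpos : 0 < Nat.card (P ⧸ S) := Nat.card_pos
    have hne' : Nat.card (closure ({x, u} : Set (P ⧸ S))) ≠ Nat.card (P ⧸ S) := fun e =>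
      hne (eq_top_of_card_eq _ e)
    have hb2 : 2 ≤ b := by
      rcases b with _ | _ | b <;> simp_all
    have ha2 : 2 ≤ a := by
      rcases a with _ | _ | a <;> simp_all
    have := Nat.mul_le_mul ha2 hb2
    nlinarith
  induction x using QuotientGroup.induction_on with
  | H x =>
  induction u using QuotientGroup.induction_on with
  | H u =>
  have hgen : closure ({x, u} : Set P) = ⊤ := by
    set K := closure ({x, u} : Set P)
    have hsqK : ∀ g : P, ∃ k ∈ K, ∃ w : P, g = k * w ^ 2 := by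
      intro g
      have h1 : (g : P ⧸ S) ∈ K.map (QuotientGroup.mk' S) := by
        rw [MonoidHom.map_closure, Set.image_pair]
        simp [hxu]
      obtain ⟨k, hk, hke⟩ := mem_map.1 h1
      obtain ⟨w, hw⟩ := (QuotientGroup.eq.1 hke : k⁻¹ * g ∈ S)
      refine ⟨k, hk, w, ?_⟩
      simp only [powMonoidHom_apply] at hw
      rw [hw, mul_inv_cancel_left]
    have hiter : ∀ j : ℕ, ∀ g : P, ∃ k ∈ K, ∃ w : P, g = k * w ^ (2 ^ j) := by
      intro j
      induction j with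
      | zero => exact fun g => ⟨1, one_mem _, g, by simp⟩
      | succ j ih =>
        intro g
        obtain ⟨k, hk, w, rfl⟩ := ih g
        obtain ⟨k', hk', w', rfl⟩ := hsqK w
        refine ⟨k * k' ^ (2 ^ j), mul_mem hk (pow_mem hk' _), w', ?_⟩
        rw [mul_pow, ← pow_mul, ← pow_succ', mul_assoc]
    rw [eq_top_iff]
    intro g _
    obtain ⟨j, hj⟩ := IsPGroup.iff_card.1 hP
    obtain ⟨k, hk, w, rfl⟩ := hiter j g
    rw [← hj, pow_card_eq_one', mul_one]
    exact hk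
  refine metacyclic_of_pair x u hgen ?_
  rw [_root_.commutator_def, commutator_le]
  intro g _ h _
  rw [commutatorElement_def, hc g h, mul_inv_cancel_right, mul_inv_cancel]
  exact one_mem _

theorem metacyclic_aux : ∀ (n : ℕ) (P : Type*) [Group P] [Finite P], Nat.card P = n → IsPGroup 2 P →
    SmallSections P → Cfsg.IsMetacyclic P := by
  intro n
  induction n using Nat.strong_induction_on with
  | _ n ih =>
  intro P _ _ hcard hP hS
  by_cases hc : ∀ a b : P, a * b = b * a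
  · exact metacyclic_comm hP hS hc
  have hD : commutator P ≠ ⊥ := fun e => hc fun a b => by
    have h1 : ⁅a, b⁆ ∈ commutator P := by
      rw [_root_.commutator_def]; exact commutator_mem_commutator (mem_top a) (mem_top b)
    rw [e, mem_bot] at h1
    exact commutatorElement_eq_one_iff_mul_comm.1 h1
  obtain ⟨k, hk⟩ := IsPGroup.iff_card.1 (hP.to_subgroup (commutator P ⊓ center P))
  have hne : commutator P ⊓ center P ≠ ⊥ := Local.inf_center_ne_bot hP _ hD
  have h2 : 2 ∣ Nat.card (commutator P ⊓ center P : Subgroup P) := by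
    rcases k with _ | k
    · exact absurd (eq_bot_of_card_eq _ (by simpa using hk)) hne
    · exact hk ▸ dvd_pow_self 2 k.succ_ne_zero
  obtain ⟨⟨z, hzD, hzZ⟩, hzo⟩ := exists_prime_orderOf_dvd_card' 2 h2
  rw [← Subgroup.orderOf_coe] at hzo
  have hzc : ∀ g : P, z * g = g * z := fun g => (mem_center_iff.1 hzZ g).symm
  have hz : z ^ 2 = 1 := hzo ▸ pow_orderOf_eq_one z
  have hz1 : z ≠ 1 := fun e => by simp [e] at hzo
  haveI hNn : (zpowers z).Normal := ⟨fun g hg x => by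
    have : g ∈ center P := (zpowers_le.2 hzZ) hg
    rwa [mem_center_iff.1 this x, mul_inv_cancel_right]⟩
  have hlt : Nat.card (P ⧸ zpowers z) < n := by
    have := card_eq_card_quotient_mul_card_subgroup (zpowers z)
    rw [Nat.card_zpowers, hzo, hcard] at this
    have := Nat.card_pos (α := P ⧸ zpowers z)
    omega
  obtain ⟨C, hCn, hCc, hQc⟩ := ih _ hlt (P ⧸ zpowers z) rfl (hP.to_quotient _) (hS.quotient _)
  haveI := hCn
  let A : Subgroup P := C.comap (QuotientGroup.mk' (zpowers z))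
  haveI hAn : A.Normal := hCn.comap _
  obtain ⟨c, hcgen⟩ := hCc.exists_generator
  obtain ⟨a, ha⟩ := QuotientGroup.mk'_surjective (zpowers z) (c : P ⧸ zpowers z)
  have haA : a ∈ A := by show QuotientGroup.mk' _ a ∈ C; rw [ha]; exact c.2
  have hze : ∀ (e : ℕ) (g : P), z ^ e * g = g * z ^ e := fun e g =>
    ((Commute.pow_left (hzc g : Commute z g)) e).eq
  have hzpar : ∀ e : ℕ, z ^ e = z ^ (e % 2) := fun e => by
    conv_lhs => rw [← Nat.div_add_mod e 2, pow_add, pow_mul, hz, one_pow, one_mul]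
  have hA : ∀ g ∈ A, ∃ (i : ℤ) (e : ℕ), g = a ^ i * z ^ e := by
    intro g hg
    obtain ⟨i, hi⟩ := mem_zpowers_iff.1 (hcgen ⟨QuotientGroup.mk' _ g, hg⟩)
    have h1 : QuotientGroup.mk' (zpowers z) (a ^ i) = QuotientGroup.mk' (zpowers z) g := by
      rw [map_zpow, ha, ← coe_zpow, hi]
    obtain ⟨e, he⟩ := (Submonoid.mem_powers_iff _ _).1 (mem_powers_iff_mem_zpowers.2 (QuotientGroup.eq.1 h1))
    exact ⟨i, e, by rw [he, mul_inv_cancel_left]⟩
  -- a generator of the cyclic quotient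
  obtain ⟨q, hq⟩ := hQc.exists_generator
  obtain ⟨qx, rfl⟩ := QuotientGroup.mk'_surjective C q
  obtain ⟨x, rfl⟩ := QuotientGroup.mk'_surjective (zpowers z) qx
  have hmemA : ∀ g : P, g ∈ A ↔ QuotientGroup.mk' C (QuotientGroup.mk' (zpowers z) g) = 1 := fun g =>
    (QuotientGroup.eq_one_iff (N := C) (QuotientGroup.mk' (zpowers z) g)).symm
  have hP' : ∀ g : P, ∃ (i : ℤ) (e k : ℕ), g = a ^ i * z ^ e * x ^ k := by
    intro g
    obtain ⟨k, hk⟩ := (Submonoid.mem_powers_iff _ _).1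
      (mem_powers_iff_mem_zpowers.2 (hq (QuotientGroup.mk' C (QuotientGroup.mk' (zpowers z) g))))
    have h1 : g * (x ^ k)⁻¹ ∈ A := by
      rw [hmemA, map_mul, map_mul, map_inv, map_inv, map_pow, map_pow, hk, mul_inv_cancel]
    obtain ⟨i, e, hie⟩ := hA _ h1
    exact ⟨i, e, k, by rw [← hie, inv_mul_cancel_right]⟩
  by_cases hzA : z ∈ zpowers a
  · have hA' : A = zpowers a := le_antisymm (fun g hg => by
      obtain ⟨i, e, rfl⟩ := hA g hg
      exact mul_mem (zpow_mem (mem_zpowers a) _) (pow_mem hzA _)) (zpowers_le.2 haA)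
    haveI : (zpowers a).Normal := hA' ▸ hAn
    refine ⟨zpowers a, inferInstance, isCyclic_zpowers a, ⟨⟨(x : P ⧸ zpowers a), fun q => ?_⟩⟩⟩
    induction q using QuotientGroup.induction_on with
    | H g =>
      obtain ⟨i, e, k, rfl⟩ := hP' g
      refine ⟨(k : ℤ), ?_⟩
      show (x : P ⧸ zpowers a) ^ (k : ℤ) = _
      rw [zpow_natCast, ← QuotientGroup.mk_pow, QuotientGroup.mk_mul,
        (QuotientGroup.eq_one_iff _).2 (mul_mem (zpow_mem (mem_zpowers a) i) (pow_mem hzA e)), one_mul]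
  have hzero : ∀ (i : ℤ) (e : ℕ), a ^ i * z ^ e = 1 → a ^ i = 1 ∧ e % 2 = 0 := by
    intro i e h
    rw [hzpar e] at h
    rcases Nat.mod_two_eq_zero_or_one e with h0 | h0
    · rw [h0, pow_zero, mul_one] at h; exact ⟨h, h0⟩
    · rw [h0, pow_one] at h
      exact absurd (eq_inv_of_mul_eq_one_right h ▸ inv_mem (zpow_mem (mem_zpowers a) i)) hzA
  -- the action of x
  obtain ⟨r, e0, hr0⟩ := hA _ (hAn.conj_mem a haA x)
  have he0 : e0 % 2 = 1 := by
    rcases Nat.mod_two_eq_zero_or_one e0 with h0 | h0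
    swap
    · exact h0
    exfalso
    rw [hzpar e0, h0, pow_zero, mul_one] at hr0
    have hx : x ∈ normalizer (zpowers a : Set P) := mem_normalizer_fintype fun g hg => by
      obtain ⟨i, rfl⟩ := mem_zpowers_iff.1 hg
      rw [← conj_zpow, hr0, ← zpow_mul]; exact zpow_mem (mem_zpowers a) _
    have hn : (zpowers a).Normal := normalizer_eq_top_iff.1 (eq_top_iff.2 fun g _ => by
      obtain ⟨i, e, k, rfl⟩ := hP' g
      refine mul_mem (mul_mem (le_normalizer (zpow_mem (mem_zpowers a) i)) (pow_mem ?_ e)) (pow_mem hx k)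
      exact (center_le_normalizer (zpowers a)) hzZ)
    haveI := hn
    have hle : commutator P ≤ zpowers a := by
      rw [_root_.commutator_def, commutator_le]
      intro g _ h _
      have key : ∀ g : P, ∃ e k : ℕ, (g : P ⧸ zpowers a) = (z : P ⧸ zpowers a) ^ e * (x : P ⧸ zpowers a) ^ k := by
        intro g
        obtain ⟨i, e, k, rfl⟩ := hP' g
        exact ⟨e, k, by rw [QuotientGroup.mk_mul, QuotientGroup.mk_mul, QuotientGroup.mk_pow, QuotientGroup.mk_pow,
          (QuotientGroup.eq_one_iff _).2 (zpow_mem (mem_zpowers a) i), one_mul]⟩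
      obtain ⟨e, k, he⟩ := key g
      obtain ⟨e', k', he'⟩ := key h
      rw [← QuotientGroup.eq_one_iff, commutatorElement_def, QuotientGroup.mk_mul, QuotientGroup.mk_mul,
        QuotientGroup.mk_mul, QuotientGroup.mk_inv, QuotientGroup.mk_inv]
      have hcomm : Commute (z : P ⧸ zpowers a) (x : P ⧸ zpowers a) := by
        show (z : P ⧸ zpowers a) * x = x * z
        rw [← QuotientGroup.mk_mul, ← QuotientGroup.mk_mul, hzc x]
      have : Commute (g : P ⧸ zpowers a) (h : P ⧸ zpowers a) := by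
        rw [he, he']
        exact (((Commute.refl (z : P ⧸ zpowers a)).pow_pow e e').mul_right (hcomm.pow_pow e k')).mul_left
          (((hcomm.symm).pow_pow k e').mul_right ((Commute.refl (x : P ⧸ zpowers a)).pow_pow k k'))
      rw [this.eq, mul_inv_cancel_right, mul_inv_cancel]
    exact hzA (hle hzD)
  rw [hzpar e0, he0, pow_one] at hr0
  obtain ⟨nn, hnn⟩ : ∃ nn, orderOf a = 2 ^ nn := hP.exists_orderOf_eq_pow a
  have ha1 : a ≠ 1 := by
    rintro rfl
    rw [one_zpow, one_mul, mul_one, mul_inv_cancel] at hr0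
    exact hz1 hr0.symm
  obtain ⟨n', rfl⟩ : ∃ n', nn = n' + 1 := Nat.exists_eq_succ_of_ne_zero fun e =>
    ha1 (orderOf_eq_one_iff.1 (by rw [hnn, e, pow_zero]))
  have hord : ∀ i : ℤ, a ^ i = 1 ↔ (2 : ℤ) ^ (n' + 1) ∣ i := fun i => by
    rw [← orderOf_dvd_iff_zpow_eq_one, hnn]; norm_num
  have hone : ∀ i : ℤ, a ^ i = 1 → (2 : ℤ) ∣ i := fun i h => (dvd_pow_self 2 n'.succ_ne_zero).trans ((hord i).1 h)
  have hinj : ∀ i j : ℤ, (2 : ℤ) ^ (n' + 1) ∣ i - j → a ^ i = a ^ j := fun i j h => by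
    rw [← mul_inv_eq_one, ← zpow_sub]; exact (hord _).2 h
  have hr : Odd r := by
    rcases Int.even_or_odd r with ⟨r', hr'⟩ | h
    swap
    · exact h
    exfalso
    have h1 : (x * a * x⁻¹) ^ ((2 : ℤ) ^ n') = a ^ (r * 2 ^ n') * z ^ (2 ^ n') := by
      rw [hr0, (show Commute (a ^ r) z from (hzc _).symm).mul_zpow, ← zpow_mul]
      congr 1
      rw [show ((2 : ℤ) ^ n') = ((2 ^ n' : ℕ) : ℤ) by simp, zpow_natCast]
    have h2 : a ^ (r * 2 ^ n') = 1 := (hord _).2 ⟨r', by rw [hr']; ring⟩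
    rw [conj_zpow, h2, one_mul] at h1
    have h3 : a ^ ((2 : ℤ) ^ n') * (z ^ (2 ^ n'))⁻¹ = 1 := by
      rw [mul_inv_eq_one]
      have := congrArg (fun w => x⁻¹ * w * x) h1
      rwa [show x⁻¹ * (x * a ^ ((2 : ℤ) ^ n') * x⁻¹) * x = a ^ ((2 : ℤ) ^ n') by group, mul_assoc,
        hze, inv_mul_cancel_left] at this
    have h4 : a ^ ((2 : ℤ) ^ n') * z ^ (2 ^ n') = 1 := by
      have hinv : (z ^ (2 ^ n'))⁻¹ = z ^ (2 ^ n') := inv_eq_of_mul_eq_one_right (by
        rw [← pow_add, ← two_mul, pow_mul, hz, one_pow])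
      rwa [hinv] at h3
    have h5 := (hord _).1 (hzero _ _ h4).1
    have h6 := Int.le_of_dvd (by positivity) h5
    have : (2 : ℤ) ^ n' < 2 ^ (n' + 1) := by
      rw [pow_succ]
      have : (0 : ℤ) < 2 ^ n' := by positivity
      omega
    omega
  obtain ⟨r', hr'⟩ := hr
  have hxa : ∀ i : ℤ, x * a ^ i = a ^ (r * i) * z ^ i * x := fun i => by
    rw [← mul_inv_eq_iff_eq_mul, ← conj_zpow, hr0, (show Commute (a ^ r) z from (hzc _).symm).mul_zpow, ← zpow_mul]
  have hzev : ∀ i : ℤ, (2 : ℤ) ∣ i → z ^ i = 1 := fun i hi => by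
    obtain ⟨j, rfl⟩ := hi
    rw [zpow_mul, show z ^ (2 : ℤ) = z ^ 2 from zpow_natCast z 2, hz, one_zpow]
  have hzodd : ∀ i : ℤ, z ^ (2 * i + 1) = z := fun i => by
    rw [zpow_add, hzev _ (dvd_mul_right 2 i), one_mul, zpow_one]
  set d : P := a ^ (r - 1) * z with hd
  have hzd : ∀ g : P, Commute z g := fun g => hzc g
  have hxd : x * d * x⁻¹ = d ^ r := by
    rw [hd, mul_inv_eq_iff_eq_mul, ← mul_assoc, hxa, hzev (r - 1) ⟨r', by omega⟩, mul_one, mul_assoc,
      ← (hzd x).eq, ← mul_assoc, (show Commute (a ^ (r - 1)) z from (hzc _).symm).mul_zpow, ← zpow_mul]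
    have : z ^ r = z := by rw [hr', hzodd]
    rw [this, mul_comm (r - 1) r]
  have hcomm' : commutator P ≤ zpowers d := by
    have hnorm : (zpowers d).Normal := normalizer_eq_top_iff.1 (eq_top_iff.2 fun g _ => by
      obtain ⟨i, e, k, rfl⟩ := hP' g
      refine mul_mem (mul_mem ?_ (pow_mem ((center_le_normalizer (zpowers d)) hzZ) e)) (pow_mem ?_ k)
      · refine mem_normalizer_fintype fun w hw => ?_
        obtain ⟨j, rfl⟩ := mem_zpowers_iff.1 hw
        have hcd : Commute (a ^ i) d :=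
          (((Commute.refl a).zpow_zpow i (r - 1))).mul_right (hzd _).symm
        rw [(hcd.zpow_right j).eq, mul_inv_cancel_right]
        exact zpow_mem (mem_zpowers d) j
      · refine mem_normalizer_fintype fun w hw => ?_
        obtain ⟨j, rfl⟩ := mem_zpowers_iff.1 hw
        rw [← conj_zpow, hxd, ← zpow_mul]
        exact zpow_mem (mem_zpowers d) _)
    haveI := hnorm
    let π := QuotientGroup.mk' (zpowers d)
    have hd1 : π (a ^ (r - 1)) * π z = 1 := by
      rw [← map_mul]; exact (QuotientGroup.eq_one_iff _).2 (mem_zpowers d)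
    have hax : Commute (π a) (π x) := by
      have h1 : π x * π a * (π x)⁻¹ = π a := by
        rw [← map_inv, ← map_mul, ← map_mul, hr0, map_mul, map_zpow]
        rw [map_zpow] at hd1
        calc π a ^ r * π z = π a * (π a ^ (r - 1) * π z) := by rw [← mul_assoc, ← zpow_one_add, add_sub_cancel]
          _ = π a := by rw [hd1, mul_one]
      exact ((mul_inv_eq_iff_eq_mul).1 h1).symm
    have hzπ : ∀ g : P, Commute (π z) (π g) := fun g => (hzd g).map π
    rw [_root_.commutator_def, commutator_le]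
    intro g _ h _
    obtain ⟨i, e, k, rfl⟩ := hP' g
    obtain ⟨i', e', k', rfl⟩ := hP' h
    rw [← QuotientGroup.eq_one_iff]
    show π ⁅_, _⁆ = 1
    rw [map_commutatorElement, commutatorElement_eq_one_iff_commute, map_mul, map_mul, map_mul, map_mul,
      map_zpow, map_zpow, map_pow, map_pow, map_pow, map_pow]
    have hA1 : Commute (π a ^ i) (π a ^ i' * π z ^ e' * π x ^ k') :=
      ((((Commute.refl (π a)).zpow_zpow i i')).mul_right (((hzπ a).symm.zpow_left i).pow_right e')).mul_right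
        ((hax.zpow_left i).pow_right k')
    have hZ1 : Commute (π z ^ e) (π a ^ i' * π z ^ e' * π x ^ k') :=
      (((hzπ a).zpow_right i').pow_left e |>.mul_right ((Commute.refl (π z)).pow_pow e e')).mul_right
        ((hzπ x).pow_pow e k')
    have hX1 : Commute (π x ^ k) (π a ^ i' * π z ^ e' * π x ^ k') :=
      ((((hax.symm).zpow_right i').pow_left k).mul_right ((hzπ x).symm.pow_pow k e')).mul_right
        ((Commute.refl (π x)).pow_pow k k')
    exact (hA1.mul_left hZ1).mul_left hX1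
  -- it suffices to exhibit a suitable pair
  have finish : ∀ y u : P, d ∈ zpowers y → a ∈ closure ({y, u} : Set P) → x ∈ closure ({y, u} : Set P) →
      Cfsg.IsMetacyclic P := by
    intro y u hdy ha hx
    refine metacyclic_of_pair y u ?_ (hcomm'.trans (zpowers_le.2 hdy))
    rw [eq_top_iff]
    intro g _
    obtain ⟨i, e, k, rfl⟩ := hP' g
    have hzmem : z ∈ closure ({y, u} : Set P) := by
      have hdm : d ∈ closure ({y, u} : Set P) := (zpowers_le.2 (subset_closure (Set.mem_insert y _))) hdy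
      have hze' : z = (a ^ (r - 1))⁻¹ * d := by rw [hd, inv_mul_cancel_left]
      rw [hze']
      exact mul_mem (inv_mem (zpow_mem ha _)) hdm
    exact mul_mem (mul_mem (zpow_mem ha _) (pow_mem hzmem _)) (pow_mem hx _)
  -- the order of x modulo A
  obtain ⟨M, hM⟩ : ∃ M, orderOf (QuotientGroup.mk' C (QuotientGroup.mk' (zpowers z) x)) = 2 ^ M :=
    ((hP.to_quotient _).to_quotient C).exists_orderOf_eq_pow _
  have hxA : ∀ k : ℕ, x ^ k ∈ A ↔ 2 ^ M ∣ k := fun k => by
    rw [hmemA, map_pow, map_pow, ← orderOf_dvd_iff_pow_eq_one, hM]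
  obtain ⟨s, f, hs⟩ := hA _ ((hxA (2 ^ M)).2 dvd_rfl)
  rcases Nat.eq_zero_or_pos M with hM0 | hMpos
  · exfalso
    rw [hM0, pow_zero, pow_one] at hs
    have h1 : x * a * x⁻¹ = a := by
      rw [hs, mul_inv_eq_iff_eq_mul, mul_assoc, hze, ← mul_assoc, ← mul_assoc, ((Commute.refl a).zpow_left s).eq]
    have h2 : a ^ (r - 1) * z ^ 1 = 1 := by
      rw [pow_one, zpow_sub, zpow_one, mul_assoc, ← hzc, ← mul_assoc, ← hr0, h1, mul_inv_cancel]
    exact absurd (hzero _ _ h2).2 (by norm_num)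
  obtain ⟨M', rfl⟩ : ∃ M', M = M' + 1 := ⟨M - 1, by omega⟩
  have hsfix : a ^ ((r - 1) * s) * z ^ s = 1 := by
    have h1 : x * (a ^ s * z ^ f) * x⁻¹ = a ^ s * z ^ f := by
      rw [← hs, mul_inv_eq_iff_eq_mul, ← pow_succ', ← pow_succ]
    rw [← mul_assoc, hxa, mul_assoc (a ^ (r * s) * z ^ s) x, ← hze, ← mul_assoc, mul_inv_eq_iff_eq_mul, mul_assoc,
      mul_assoc, mul_assoc (a ^ s)] at h1
    have h2 : a ^ (r * s) * z ^ s = a ^ s := mul_right_cancel (b := z ^ f * x) (by simpa only [mul_assoc] using h1)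
    rw [sub_mul, one_mul, zpow_sub, mul_assoc, ← ((hzd (a ^ s)⁻¹).zpow_left s).eq, ← mul_assoc, h2, mul_inv_cancel]
  have hs2 : (2 : ℤ) ∣ s := by
    rcases Int.even_or_odd s with h | ⟨s', hs'⟩
    · exact h.two_dvd
    exfalso
    have h1 : a ^ ((r - 1) * s) * z ^ 1 = 1 := by
      rw [pow_one]
      have : z ^ s = z := by rw [hs', hzodd]
      rw [← this]; exact hsfix
    exact absurd (hzero _ _ h1).2 (by norm_num)
  have hsfix' : (2 : ℤ) ^ (n' + 1) ∣ (r - 1) * s := (hord _).1 (by simpa [hzev s hs2] using hsfix)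
  -- unique expressions
  have huniq : ∀ (i i' : ℤ) (e e' k k' : ℕ), a ^ i * z ^ e * x ^ k = a ^ i' * z ^ e' * x ^ k' →
      ∃ t : ℤ, (k : ℤ) - k' = 2 ^ (M' + 1) * t ∧ (2 : ℤ) ^ (n' + 1) ∣ i - i' + s * t ∧
        (2 : ℤ) ∣ (e : ℤ) - e' + f * t := by
    suffices H : ∀ (i i' : ℤ) (e e' k k' : ℕ), k' ≤ k → a ^ i * z ^ e * x ^ k = a ^ i' * z ^ e' * x ^ k' →
        ∃ t : ℤ, (k : ℤ) - k' = 2 ^ (M' + 1) * t ∧ (2 : ℤ) ^ (n' + 1) ∣ i - i' + s * t ∧
          (2 : ℤ) ∣ (e : ℤ) - e' + f * t by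
      intro i i' e e' k k' h
      rcases le_total k' k with hle | hle
      · exact H _ _ _ _ _ _ hle h
      · obtain ⟨t, h1, ⟨w2, h2⟩, ⟨w3, h3⟩⟩ := H _ _ _ _ _ _ hle h.symm
        exact ⟨-t, by linear_combination -h1, ⟨-w2, by linear_combination -h2⟩, ⟨-w3, by linear_combination -h3⟩⟩
    intro i i' e e' k k' hle h
    obtain ⟨j, rfl⟩ := Nat.exists_eq_add_of_le hle
    rw [add_comm k' j, pow_add, ← mul_assoc] at h
    have h1 : a ^ i * z ^ e * x ^ j = a ^ i' * z ^ e' := mul_right_cancel h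
    have hj : x ^ j ∈ A := by
      have hzA' : z ∈ A := by
        show QuotientGroup.mk' _ z ∈ C
        rw [QuotientGroup.mk'_apply, (QuotientGroup.eq_one_iff z).2 (mem_zpowers z)]; exact one_mem _
      rw [← mul_right_inj (a ^ i * z ^ e)⁻¹, inv_mul_cancel_left] at h1
      rw [h1]
      exact mul_mem (inv_mem (mul_mem (zpow_mem haA _) (pow_mem hzA' _))) (mul_mem (zpow_mem haA _) (pow_mem hzA' _))
    obtain ⟨t, rfl⟩ := (hxA j).1 hj
    rw [pow_mul, hs, ((hzd (a ^ s)).pow_left f).symm.mul_pow, ← pow_mul, ← mul_assoc, mul_assoc (a ^ i), hze,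
      ← mul_assoc, mul_assoc, ← pow_add, ← zpow_natCast (a ^ s) t, ← zpow_mul, ← zpow_add] at h1
    have h2 : a ^ (i + s * t - i') * z ^ (e + f * t + e') = 1 := by
      have hinv : z ^ e' * z ^ e' = 1 := by rw [← pow_add, ← two_mul, pow_mul, hz, one_pow]
      rw [zpow_sub, pow_add _ (e + f * t), mul_assoc, ← mul_assoc (a ^ i')⁻¹, ← hze (e + f * t), mul_assoc,
        ← mul_assoc, h1, mul_assoc, ← mul_assoc (z ^ e'), hze e', mul_assoc, hinv, mul_one, mul_inv_cancel]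
    obtain ⟨h3, h4⟩ := hzero _ _ h2
    refine ⟨(t : ℤ), by push_cast; ring, by convert (hord _).1 h3 using 1; ring, ?_⟩
    have : ((e + f * t + e' : ℕ) : ℤ) % 2 = 0 := by exact_mod_cast h4
    push_cast at this
    omega
  rcases Nat.eq_zero_or_pos M' with rfl | hM'
  · -- x² in A
    rw [show (2 : ℕ) ^ (0 + 1) = 2 from rfl] at hs
    have hyy : ∀ i : ℤ, (a ^ i * x) ^ 2 = a ^ (i * (1 + r) + s) * z ^ (i + f) := fun i => by
      rw [pow_two, mul_assoc, ← mul_assoc x, hxa, mul_assoc _ x x, ← pow_two, hs, zpow_add _ _ s, zpow_add _ i,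
        zpow_natCast]
      rw [mul_add, mul_one, zpow_add, mul_comm i r]
      simp only [mul_assoc]
      rw [← mul_assoc (z ^ i) (a ^ s), ((hzd (a ^ s)).zpow_left i).eq, mul_assoc]
    have hgoal : ∀ i : ℤ, (2 : ℤ) ^ (n' + 1) ∣ i * (1 + r) + s - (r - 1) → ¬ (2 : ℤ) ∣ i + f →
        Cfsg.IsMetacyclic P := by
      intro i h1 h2
      refine finish (a ^ i * x) a ?_ (subset_closure (by simp)) ?_
      · refine mem_zpowers_iff.2 ⟨2, ?_⟩
        obtain ⟨j, hj⟩ : ∃ j, i + f = 2 * j + 1 := ⟨(i + f) / 2, by omega⟩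
        rw [show (a ^ i * x) ^ (2 : ℤ) = (a ^ i * x) ^ 2 from zpow_natCast _ 2, hyy, hinj _ _ h1, hj, hzodd]
      · have h3 : (a ^ i)⁻¹ * (a ^ i * x) ∈ closure ({a ^ i * x, a} : Set P) :=
          mul_mem (inv_mem (zpow_mem (subset_closure (by simp)) _)) (subset_closure (by simp))
        rwa [inv_mul_cancel_left] at h3
    obtain ⟨i0, hi0⟩ : ∃ i0 : ℤ, (2 : ℤ) ∣ i0 + f := ⟨-(f : ℤ), 0, by ring⟩
    obtain ⟨s', hs'⟩ := hs2
    rcases Nat.eq_zero_or_pos n' with rfl | hn'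
    · exact hgoal (i0 + 1) ⟨(i0 + 1) * (r' + 1) + s' - r', by rw [hr', hs']; ring⟩ (by omega)
    have h4n : (4 : ℤ) ∣ 2 ^ (n' + 1) := by
      rw [show (4 : ℤ) = 2 ^ 2 by norm_num]; exact pow_dvd_pow 2 (by omega)
    have ht : ¬ (4 : ℤ) ∣ i0 * (1 + r) + s := by
      intro ht
      refine not_smallSections (a := a ^ (2 : ℤ)) (z := z) (y := a ^ i0 * x) (R := r) hzc hz ⟨r', hr'⟩ ?_ ?_ hS
      · rw [mul_inv_eq_iff_eq_mul, mul_assoc, hxa, hzev 2 dvd_rfl, mul_one, ← mul_assoc, ← zpow_add, ← mul_assoc,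
          ← zpow_mul, ← zpow_add]
        ring_nf
      · intro i i' e e' k k' h
        have hy2 : (a ^ i0 * x) ^ 2 = a ^ (i0 * (1 + r) + s) := by rw [hyy, hzev _ hi0, mul_one]
        have key : ∀ k : ℕ, (a ^ i0 * x) ^ k =
            a ^ ((i0 * (1 + r) + s) * (k / 2 : ℕ) + i0 * (k % 2 : ℕ)) * x ^ (k % 2) := by
          intro k
          conv_lhs => rw [← Nat.div_add_mod k 2, pow_add, pow_mul, hy2, ← zpow_natCast (a ^ _), ← zpow_mul]
          rcases Nat.mod_two_eq_zero_or_one k with h0 | h0 <;> rw [h0]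
          · simp
          · rw [pow_one, ← mul_assoc, ← zpow_add]; simp
        rw [← zpow_mul, ← zpow_mul, key, key, ← mul_assoc, ← mul_assoc, mul_assoc (a ^ (2 * i)), hze e, ← mul_assoc,
          ← zpow_add, mul_assoc (a ^ (2 * i')), hze e', ← mul_assoc, ← zpow_add] at h
        obtain ⟨t, h1, h2, h3⟩ := huniq _ _ _ _ _ _ h
        norm_num at h1
        have ht0 : t = 0 := by omega
        subst ht0
        simp only [mul_zero, add_zero] at h2 h3
        have hk : k % 2 = k' % 2 := by omega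
        refine ⟨?_, by omega, hk⟩
        obtain ⟨w, hw⟩ := ht
        rw [hw, hk] at h2
        have h5 : (4 : ℤ) ∣ 2 * i - 2 * i' := by
          obtain ⟨u, hu⟩ := h4n.trans h2
          exact ⟨u - w * ((k / 2 : ℕ) : ℤ) + w * ((k' / 2 : ℕ) : ℤ), by linear_combination hu⟩
        omega
    obtain ⟨t', ht'⟩ : (2 : ℤ) ∣ i0 * (1 + r) + s := ⟨i0 * (r' + 1) + s', by rw [hr', hs']; ring⟩
    rcases Int.even_or_odd r' with ⟨b, hb⟩ | ⟨b, hb⟩
    · -- r ≡ 1 mod 4
      obtain ⟨v, hv⟩ := exists_inv_mod b (n' + 1)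
      have hto : (2 : ℤ) ∣ t' + (r' + 1) - r' := by omega
      obtain ⟨D, hD⟩ := hto
      refine hgoal (i0 + 1 + 2 * (-D * v)) ?_ (by omega)
      obtain ⟨w, hw⟩ := hv
      refine ⟨-4 * D * w, ?_⟩
      subst hb
      linear_combination ht' + 2 * hD - 4 * D * hw +
        (1 - 2 * D * v) * hr' - hr'
    · -- r ≡ 3 mod 4
      refine hgoal (i0 + 1) ?_ (by omega)
      have hn1 : n' = 1 := by
        by_contra hne
        have h8 : (8 : ℤ) ∣ (r - 1) * s := by
          refine dvd_trans ?_ hsfix'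
          rw [show (8 : ℤ) = 2 ^ 3 by norm_num]; exact pow_dvd_pow 2 (by omega)
        obtain ⟨w, hw⟩ := h8
        have hs'odd : ¬ (2 : ℤ) ∣ s' := by
          rintro ⟨s'', rfl⟩
          exact ht ⟨i0 * (b + 1) + s'', by rw [hr', hb, hs']; ring⟩
        obtain ⟨s'', hs''⟩ : ∃ s'', s' = 2 * s'' + 1 := ⟨s' / 2, by omega⟩
        rw [hr', hb, hs', hs''] at hw
        ring_nf at hw
        omega
      subst hn1
      norm_num
      have : i0 * (1 + r) = 4 * (i0 * (b + 1)) := by rw [hr', hb]; ring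
      have : (i0 + 1) * (1 + r) = 4 * ((i0 + 1) * (b + 1)) := by rw [hr', hb]; ring
      omega
  -- x² not in A
  have hf1 : ¬ (2 : ℤ) ∣ f := by
    intro hf2
    refine not_smallSections (a := a) (z := z) (y := x ^ 2) (R := r ^ 2) hzc hz (Odd.pow ⟨r', hr'⟩) ?_ ?_ hS
    · rw [mul_inv_eq_iff_eq_mul, pow_two, mul_assoc]
      conv_lhs => rw [← zpow_one a, hxa, zpow_one, mul_one, ← mul_assoc, ← mul_assoc, hxa,
        mul_assoc (a ^ (r * r) * z ^ r) x z, ← (hzd x).eq]
      rw [show z ^ r = z by rw [hr', hzodd], pow_two]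
      simp only [← mul_assoc]
      rw [mul_assoc _ z z, show z * z = 1 by rw [← pow_two, hz], mul_one]
    · intro i i' e e' k k' h
      rw [← pow_mul, ← pow_mul] at h
      obtain ⟨t, h1, h2, h3⟩ := huniq _ _ _ _ _ _ h
      push_cast at h1
      rw [pow_succ, show (2 : ℤ) ^ M' * 2 * t = 2 * (2 ^ M' * t) by ring] at h1
      obtain ⟨u, hu⟩ : (2 : ℤ) ∣ 2 ^ M' * t := dvd_mul_of_dvd_left (dvd_pow_self 2 (by omega)) t
      rw [hu] at h1
      obtain ⟨u2, hu2⟩ := dvd_trans (dvd_pow_self (2 : ℤ) n'.succ_ne_zero) h2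
      obtain ⟨s', hs'⟩ := hs2
      obtain ⟨u3, hu3⟩ := h3
      obtain ⟨f', hf'⟩ := hf2
      rw [hf', mul_assoc] at hu3
      rw [hs', mul_assoc] at hu2
      omega
  have hzf : z ^ (f : ℕ) = z := by
    rw [hzpar f, show f % 2 = 1 by omega, pow_one]
  rw [hzf] at hs
  obtain ⟨s', hs'⟩ := hs2
  by_cases hdiv : (2 : ℤ) ^ (M' + 1) ∣ r - 1 - s
  · rcases Int.even_or_odd r' with ⟨b, hb⟩ | ⟨b, hb⟩
    · -- r ≡ 1 mod 4, j = 0
      obtain ⟨u, hu⟩ := T_two_pow (R := r ^ 2) ⟨4 * b * b + 2 * b, by rw [hr', hb]; ring⟩ M'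
      obtain ⟨q, hq'⟩ := hdiv
      obtain ⟨v, hv⟩ := exists_inv_mod (b * (2 * u + 1) * 2 / 2 + u) (n' + 1)
      refine finish (a ^ (q * v) * x) a (mem_zpowers_iff.2 ⟨((2 ^ (M' + 1) : ℕ) : ℤ), ?_⟩) (subset_closure (by simp)) ?_
      swap
      · have h3 : (a ^ (q * v))⁻¹ * (a ^ (q * v) * x) ∈ closure ({a ^ (q * v) * x, a} : Set P) :=
          mul_mem (inv_mem (zpow_mem (subset_closure (by simp)) _)) (subset_closure (by simp))
        rwa [inv_mul_cancel_left] at h3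
      set i := q * v
      set c := a ^ (i * (1 + r)) * z ^ i with hc'
      have hx2c : x ^ 2 * c * (x ^ 2)⁻¹ = c ^ (r ^ 2) := by
        rw [mul_inv_eq_iff_eq_mul, hc', (show Commute (a ^ (i * (1 + r))) (z ^ i) from
          (((hzd (a ^ (i * (1 + r)))).zpow_left i)).symm).mul_zpow, ← zpow_mul, ← zpow_mul, pow_two x,
          mul_assoc x x, ← mul_assoc x (a ^ _), hxa, ← mul_assoc x]
        simp only [← mul_assoc]
        rw [hxa, hzev (i * (1 + r)) ⟨i * (r' + 1), by rw [hr']; ring⟩,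
          hzev (r * i * (1 + r)) ⟨r * i * (r' + 1), by rw [hr']; ring⟩]
        simp only [mul_one, mul_assoc]
        congr 1
        · ring_nf
        rw [← ((hzd x).zpow_left i).eq, ← mul_assoc x (z ^ i), ← ((hzd x).zpow_left i).eq, mul_assoc]
        congr 1
        have hri : i * r ^ 2 = 2 * (2 * r' * r' * i + 2 * r' * i) + i := by rw [hr']; ring
        rw [hri, zpow_add, hzev _ (dvd_mul_right 2 _), one_mul]
      have hsq : (a ^ i * x) ^ 2 = c * x ^ 2 := by
        rw [hc', pow_two, pow_two, mul_assoc, ← mul_assoc x, hxa, mul_comm r i, mul_add, mul_one, zpow_add]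
        simp only [mul_assoc]
      rw [zpow_natCast, pow_succ', pow_mul, hsq, show c * x ^ 2 = c ^ (1 : ℤ) * x ^ 2 by rw [zpow_one],
        mul_pow_conj hx2c 1, ← pow_mul, ← pow_succ', hs, one_mul, hu, hc',
        (show Commute (a ^ (i * (1 + r))) (z ^ i) from (((hzd (a ^ (i * (1 + r)))).zpow_left i)).symm).mul_zpow,
        ← zpow_mul, ← zpow_mul]
      have he : (2 : ℤ) ∣ i * (2 ^ M' * (2 * u + 1)) :=
        dvd_mul_of_dvd_right (dvd_mul_of_dvd_left (dvd_pow_self 2 (by omega)) _) _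
      rw [hzev _ he, mul_one, ← mul_assoc, ← zpow_add, hd]
      congr 1
      apply hinj
      obtain ⟨w, hw⟩ := hv
      refine ⟨2 ^ (M' + 1) * q * w, ?_⟩
      rw [Int.mul_ediv_cancel _ (by norm_num : (2 : ℤ) ≠ 0)] at hw
      rw [hr', hb] at hq' ⊢
      linear_combination (-1 : ℤ) * hq' + 2 ^ (M' + 1) * q * hw
    · -- r ≡ 3 mod 4, so a has order at most 4
      refine finish x a (mem_zpowers_iff.2 ⟨((2 ^ (M' + 1) : ℕ) : ℤ), ?_⟩) (subset_closure (by simp))
        (subset_closure (by simp))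
      rw [zpow_natCast, hs, hd]
      congr 1
      apply hinj
      obtain ⟨q, hq'⟩ := hdiv
      obtain ⟨w0, hw0⟩ : (2 : ℤ) ∣ 2 ^ M' := dvd_pow_self 2 (by omega)
      rw [pow_succ, hw0] at hq'
      rcases Nat.lt_or_ge n' 2 with hn' | hn'
      · have : n' = 0 ∨ n' = 1 := by omega
        rcases this with rfl | rfl <;> norm_num
        · omega
        · rw [hr', hb, show (2 : ℤ) * w0 * 2 * q = 4 * (w0 * q) by ring] at hq'
          rw [hr', hb]
          omega
      exfalso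
      obtain ⟨w, hw⟩ : (8 : ℤ) ∣ (r - 1) * s := by
        refine dvd_trans ?_ hsfix'
        rw [show (8 : ℤ) = 2 ^ 3 by norm_num]; exact pow_dvd_pow 2 (by omega)
      rw [hr', hb, hs', show (2 : ℤ) * w0 * 2 * q = 4 * (w0 * q) by ring] at hq'
      obtain ⟨s'', hs''⟩ : ∃ s'', s' = 2 * s'' + 1 := ⟨s' / 2, by omega⟩
      rw [hr', hb, hs', hs''] at hw
      ring_nf at hw
      omega
  -- j ≥ 1
  obtain ⟨τ, o, hτ, ho, hτM⟩ : ∃ (τ : ℕ) (o : ℤ), r - 1 - s = 2 ^ τ * (2 * o + 1) ∧ 1 ≤ τ ∧ τ ≤ M' := by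
    have hex : ∀ k : ℕ, ¬ (2 : ℤ) ^ k ∣ r - 1 - s → ∃ (τ : ℕ) (o : ℤ), τ < k ∧ r - 1 - s = 2 ^ τ * (2 * o + 1) := by
      intro k
      induction k with
      | zero => intro h; simp at h
      | succ k ihk =>
        intro h
        by_cases h' : (2 : ℤ) ^ k ∣ r - 1 - s
        · obtain ⟨w, hw⟩ := h'
          rcases Int.even_or_odd w with ⟨v, hv⟩ | ⟨v, hv⟩
          · exact absurd ⟨v, by rw [hw, hv, pow_succ]; ring⟩ h
          · exact ⟨k, v, by omega, by rw [hw, hv]⟩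
        · obtain ⟨τ, o, h1, h2⟩ := ihk h'
          exact ⟨τ, o, by omega, h2⟩
    obtain ⟨τ, o, h1, h2⟩ := hex (M' + 1) hdiv
    refine ⟨τ, o, h2, ?_, by omega⟩
    by_contra h3
    obtain rfl : τ = 0 := by omega
    rw [pow_zero, one_mul] at h2
    omega
  obtain ⟨j, hj⟩ : ∃ j, M' + 1 = (j + 1) + τ := ⟨M' - τ, by omega⟩
  obtain ⟨u, hu⟩ := T_two_pow (R := r ^ (2 ^ (j + 1))) (by
    rw [pow_succ', pow_mul]
    refine dvd_trans (⟨r' * r' + r', by rw [hr']; ring⟩ : (4 : ℤ) ∣ r ^ 2 - 1) ?_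
    simpa using sub_dvd_pow_sub_pow (r ^ 2) 1 (2 ^ j)) τ
  have hx2 : x ^ 2 * a * (x ^ 2)⁻¹ = a ^ (r ^ 2) := by
    rw [mul_inv_eq_iff_eq_mul, pow_two, mul_assoc]
    conv_lhs => rw [← zpow_one a, hxa, zpow_one, mul_one, ← mul_assoc, ← mul_assoc, hxa,
      mul_assoc (a ^ (r * r) * z ^ r) x z, ← (hzd x).eq]
    rw [show z ^ r = z by rw [hr', hzodd], pow_two]
    simp only [← mul_assoc]
    rw [mul_assoc _ z z, show z * z = 1 by rw [← pow_two, hz], mul_one]
  have hxj : x ^ (2 ^ (j + 1)) * a * (x ^ (2 ^ (j + 1)))⁻¹ = a ^ (r ^ (2 ^ (j + 1))) := by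
    rw [mul_inv_eq_iff_eq_mul, pow_succ', pow_mul]
    have := conj_pow_zpow hx2 (2 ^ j) 1
    rw [zpow_one, one_mul] at this
    rw [this, ← pow_mul, ← pow_mul]
  obtain ⟨v, hv⟩ := exists_inv_mod u (n' + 1)
  have hvodd : ¬ (2 : ℤ) ∣ v := by
    rintro ⟨v', rfl⟩
    obtain ⟨w, hw⟩ := dvd_trans (dvd_pow_self (2 : ℤ) n'.succ_ne_zero) hv
    rw [show (2 * u + 1) * (2 * v') = 2 * ((2 * u + 1) * v') by ring] at hw
    omega
  set i := (2 * o + 1) * v
  have hiodd : ∃ i', i = 2 * i' + 1 := by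
    obtain ⟨v', hv'⟩ : ∃ v', v = 2 * v' + 1 := ⟨v / 2, by omega⟩
    exact ⟨2 * o * v' + o + v', by simp only [i, hv']; ring⟩
  refine finish (a ^ i * x ^ (2 ^ (j + 1))) x (mem_zpowers_iff.2 ⟨((2 ^ τ : ℕ) : ℤ), ?_⟩) ?_ (subset_closure (by simp))
  · rw [zpow_natCast, mul_pow_conj hxj, ← pow_mul, ← pow_add, ← hj, hs, ← mul_assoc, ← zpow_add, hu, hd]
    congr 1
    apply hinj
    obtain ⟨w, hw⟩ := hv
    exact ⟨2 ^ τ * (2 * o + 1) * w, by simp only [i]; linear_combination -hτ + 2 ^ τ * (2 * o + 1) * hw⟩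
  · set W := closure ({a ^ i * x ^ (2 ^ (j + 1)), x} : Set P)
    have hai : a ^ i ∈ W := by
      have h1 : a ^ i = (a ^ i * x ^ (2 ^ (j + 1))) * (x ^ (2 ^ (j + 1)))⁻¹ := by group
      rw [h1]
      exact mul_mem (subset_closure (by simp)) (inv_mem (pow_mem (subset_closure (by simp)) _))
    obtain ⟨i', hi'⟩ := hiodd
    obtain ⟨v2, w2, hw2⟩ : ∃ v2 w2 : ℤ, i * v2 - 1 = 2 ^ (n' + 1) * w2 := by
      obtain ⟨v2, w2, h⟩ := exists_inv_mod i' (n' + 1)
      exact ⟨v2, w2, by rw [hi']; exact h⟩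
    have : a = (a ^ i) ^ v2 := by rw [← zpow_mul, ← hinj 1 (i * v2) ⟨-w2, by linear_combination -hw2⟩, zpow_one]
    rw [this]
    exact zpow_mem hai _

theorem metacyclic [Finite P] (hP : IsPGroup 2 P) (hr : Cfsg.SectionalPRankLE 2 2 P) : Cfsg.IsMetacyclic P :=
  metacyclic_aux _ P rfl hP (smallSections_of_rank hr)

end Cfsg.Agent.Struct.TwoMeta
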