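import Mathlib
import Cfsg.Agent.Lib.Struct.PByCyclic
import Cfsg.Agent.Lib.Struct.TwoMetacyclic

/-!
Groups whose 2-by-cyclic subgroups are cyclic, dihedral or `A₄`.
-/

set_option autoImplicit false
set_option linter.style.haveILetI false
set_option linter.unusedSectionVars false

namespace Cfsg.Agent.Struct.TwoByCyclic

open Subgroup DihedralGroup
open scoped commutatorElement IsMulCommutative
open Cfsg.Agent.Struct.GeomSum (T T_sub_self)

/-- An element of odd order normalizing a cyclic 2-subgroup centralizes it. -/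
theorem commute_cyclic {H : Type*} [Group H] {a y : H} {k m : ℕ} (ha : orderOf a = 2 ^ k) (hy : y ^ m = 1)
    (hm : Odd m) (hn : y * a * y⁻¹ ∈ zpowers a) : Commute y a := by
  obtain ⟨t, ht⟩ := mem_zpowers_iff.1 hn
  rcases Nat.eq_zero_or_pos k with rfl | hk
  · rw [orderOf_eq_one_iff.1 (by simpa using ha : orderOf a = 1)]; exact Commute.one_right y
  have h1 := TwoMeta.conj_pow_zpow ht.symm m 1
  rw [hy, one_mul, mul_one, zpow_one, one_mul] at h1
  have h2 : (2 : ℤ) ^ k ∣ t ^ m - 1 := by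
    have : a ^ (t ^ m - 1) = 1 := by rw [zpow_sub, zpow_one, ← h1, mul_inv_cancel]
    rw [← orderOf_dvd_iff_zpow_eq_one, ha] at this
    exact_mod_cast this
  have htodd : (2 : ℤ) ∣ t - 1 := by
    obtain ⟨u, hu⟩ := (dvd_pow_self (2 : ℤ) hk.ne').trans h2
    rcases Int.even_or_odd t with ⟨t', ht'⟩ | ⟨t', ht'⟩
    · exfalso
      have h3 : (2 : ℤ) ∣ t ^ m := dvd_pow ⟨t', by omega⟩ (by obtain ⟨w, rfl⟩ := hm; omega)
      omega
    · exact ⟨t', by omega⟩
  have hT : IsCoprime ((2 : ℤ) ^ k) (T t m) := by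
    refine IsCoprime.pow_left ?_
    obtain ⟨u, hu⟩ := T_sub_self (p := 2) htodd m
    obtain ⟨w, rfl⟩ := hm
    exact ⟨-(u + w), 1, by push_cast at hu; linear_combination hu⟩
  have hfac : t ^ m - 1 = (t - 1) * T t m := by
    rw [T, mul_comm]; exact (geom_sum_mul t m).symm
  rw [hfac] at h2
  have h3 := hT.dvd_of_dvd_mul_right h2
  show y * a = a * y
  rw [← mul_inv_eq_iff_eq_mul, ← ht]
  calc a ^ t = a ^ (t - 1) * a := by rw [zpow_sub, zpow_one, inv_mul_cancel_right]
    _ = a := by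
      rw [orderOf_dvd_iff_zpow_eq_one.1 (by rw [ha]; exact_mod_cast h3), one_mul]

/-- The four-group generated by two commuting involutions. -/
theorem exists_four {G : Type*} [Group G] [Finite G] {z s : G} (hz : z * z = 1) (hs : s * s = 1) (hzs : z * s = s * z)
    (hz1 : z ≠ 1) (hs1 : s ≠ 1) (hne : z ≠ s) :
    ∃ K : Subgroup G, z ∈ K ∧ s ∈ K ∧ (∀ P : Subgroup G, z ∈ P → s ∈ P → K ≤ P) ∧ Nat.card K = 4 ∧
      ∀ k ∈ K, k ^ 2 = 1 := by
  have hzz : ∀ g, z * (z * g) = g := fun g => by rw [← mul_assoc, hz, one_mul]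
  have hss : ∀ g, s * (s * g) = g := fun g => by rw [← mul_assoc, hs, one_mul]
  have hsz : ∀ g, s * (z * g) = z * (s * g) := fun g => by rw [← mul_assoc, ← hzs, mul_assoc]
  let K := TwoMeta.ofMulClosed ({1, z, s, z * s} : Set G) (by simp) (by
    rintro a (rfl | rfl | rfl | rfl) b (rfl | rfl | rfl | rfl) <;>
      simp [mul_assoc, hz, hs, ← hzs, hzz, hss, hsz])
  refine ⟨K, by simp [K, TwoMeta.ofMulClosed], by simp [K, TwoMeta.ofMulClosed], fun P h1 h2 g hg => ?_, ?_, ?_⟩
  · rcases hg with rfl | rfl | rfl | rfl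
    exacts [one_mem P, h1, h2, mul_mem h1 h2]
  · show Nat.card ({1, z, s, z * s} : Set G) = 4
    have e1 : (1 : G) ≠ z * s := fun h => hne (by
      have := congrArg (fun g => z * g) h; simpa [hzz] using this)
    have e2 : z ≠ z * s := fun h => hs1 (by simpa using h)
    have e3 : s ≠ z * s := fun h => hz1 (by simpa using h)
    rw [Nat.card_coe_set_eq, Set.ncard_insert_of_notMem (by simp [Ne.symm hz1, Ne.symm hs1, e1]),
      Set.ncard_insert_of_notMem (by simp [hne, e2]), Set.ncard_pair e3]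
  · rintro k (rfl | rfl | rfl | rfl) <;> simp [pow_two, mul_assoc, hz, hs, hsz, hzz]

variable {G : Type*} [Group G] [Finite G]

/-- The hypothesis on 2-by-cyclic subgroups. -/
def Hyp (G : Type*) [Group G] : Prop :=
  ∀ H : Subgroup G, (∀ S : Sylow 2 ↥H, (S : Subgroup ↥H).Normal) →
    (∀ (S : Sylow 2 ↥H) [(S : Subgroup ↥H).Normal], IsCyclic (↥H ⧸ (S : Subgroup ↥H))) →
    IsCyclic H ∨ (∃ n : ℕ, Nonempty (H ≃* DihedralGroup (2 ^ n))) ∨ Nonempty (H ≃* alternatingGroup (Fin 4))

theorem Hyp.apply (hG : Hyp G) {S : Subgroup G} (hS : IsPGroup 2 S) {x : G}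
    (hx : x ∈ normalizer (S : Set G)) :
    IsCyclic (zpowers x ⊔ S : Subgroup G) ∨
      (∃ n : ℕ, Nonempty ((zpowers x ⊔ S : Subgroup G) ≃* DihedralGroup (2 ^ n))) ∨
      Nonempty ((zpowers x ⊔ S : Subgroup G) ≃* alternatingGroup (Fin 4)) := by
  haveI : Fact (Nat.Prime 2) := ⟨Nat.prime_two⟩
  set H := zpowers x ⊔ S with hH
  have hle : H ≤ normalizer (S : Set G) := sup_le (zpowers_le.2 hx) le_normalizer
  haveI hn : (S.subgroupOf H).Normal := (normal_subgroupOf_iff_le_normalizer le_sup_right).2 hle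
  let xH : H := ⟨x, mem_sup_left (mem_zpowers x)⟩
  have hgen : ∀ g : H, ∃ k : ℤ, ∃ s ∈ S.subgroupOf H, g = xH ^ k * s := by
    intro g
    have h1 : (g : G) ∈ ((zpowers x ⊔ S : Subgroup G) : Set G) := g.2
    rw [coe_mul_of_left_le_normalizer_right _ _ (zpowers_le.2 hx)] at h1
    obtain ⟨y, hy, s, hs, hys⟩ := h1
    obtain ⟨k, rfl⟩ := mem_zpowers_iff.1 hy
    exact ⟨k, ⟨s, mem_sup_right hs⟩, hs, Subtype.ext hys.symm⟩
  haveI : (S.comap H.subtype).Normal := hn
  have hle' : ∀ T : Sylow 2 H, S.subgroupOf H ≤ T := fun T =>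
    (hS.comap_of_injective H.subtype H.subtype_injective).le_sylow_of_normal T
  refine hG H (fun T => ?_) (fun T _ => ?_)
  · refine ⟨fun t ht g => ?_⟩
    have hcomm : ⁅g, t⁆ ∈ S.subgroupOf H := by
      rw [← QuotientGroup.eq_one_iff]
      show QuotientGroup.mk' (S.subgroupOf H) ⁅g, t⁆ = 1
      have hpw : ∀ g : H, ∃ k : ℤ, QuotientGroup.mk' (S.subgroupOf H) g = QuotientGroup.mk' (S.subgroupOf H) xH ^ k := by
        intro g
        obtain ⟨k, s, hs, rfl⟩ := hgen g
        exact ⟨k, by rw [map_mul, map_zpow, QuotientGroup.mk'_apply _ s, (QuotientGroup.eq_one_iff s).2 hs, mul_one]⟩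
      obtain ⟨k, hk⟩ := hpw g
      obtain ⟨l, hl⟩ := hpw t
      rw [map_commutatorElement, hk, hl]
      exact commutatorElement_eq_one_iff_commute.2 ((Commute.refl _).zpow_zpow k l)
    have := mul_mem (hle' T hcomm) ht
    rwa [commutatorElement_def, inv_mul_cancel_right] at this
  · refine ⟨⟨(xH : H ⧸ (T : Subgroup H)), fun q => ?_⟩⟩
    induction q using QuotientGroup.induction_on with
    | H g =>
      obtain ⟨k, s, hs, rfl⟩ := hgen g
      refine ⟨k, ?_⟩
      show (xH : H ⧸ (T : Subgroup H)) ^ k = _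
      rw [QuotientGroup.mk_mul, (QuotientGroup.eq_one_iff s).2 (hle' T hs), mul_one, QuotientGroup.mk_zpow]

theorem forward (hG : Hyp G) (P : Sylow 2 G) :
    IsCyclic P ∨
      ((∃ n : ℕ, 1 ≤ n ∧ Nonempty ((P : Subgroup G) ≃* DihedralGroup (2 ^ n))) ∧
        ∀ K : Subgroup G, K ≤ P → Nat.card K = 4 → (∀ k ∈ K, k ^ 2 = 1) → centralizer (K : Set G) = K) := by
  haveI : Fact (Nat.Prime 2) := ⟨Nat.prime_two⟩
  by_cases hc : IsCyclic P
  · exact Or.inl hc
  refine Or.inr ⟨?_, fun K _ hK4 hK2 => ?_⟩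
  · have h := hG.apply P.isPGroup' (x := 1) (one_mem _)
    rw [zpowers_one_eq_bot, bot_sup_eq] at h
    rcases h with h | ⟨n, ⟨e⟩⟩ | ⟨⟨e⟩⟩
    · exact absurd h hc
    · rcases Nat.eq_zero_or_pos n with rfl | hn
      · exfalso
        apply hc
        exact isCyclic_of_prime_card (p := 2) (by rw [Nat.card_congr e.toEquiv, DihedralGroup.nat_card]; rfl)
      · exact ⟨n, hn, ⟨e⟩⟩
    · exfalso
      obtain ⟨k, hk⟩ := IsPGroup.iff_card.1 P.isPGroup'
      have hc := Nat.card_congr e.toEquiv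
      rw [hk, nat_card_alternatingGroup, Nat.card_fin] at hc
      have h3 : 3 ∣ 2 ^ k := hc ▸ ⟨4, by decide⟩
      exact absurd ((Nat.prime_dvd_prime_iff_eq Nat.prime_three Nat.prime_two).1 (Nat.prime_three.dvd_of_dvd_pow h3)) (by decide)
  have hKab : ∀ a ∈ K, ∀ b ∈ K, a * b = b * a := by
    intro a ha b hb
    have hinv : ∀ g ∈ K, g⁻¹ = g := fun g hg => inv_eq_of_mul_eq_one_right (by rw [← pow_two]; exact hK2 g hg)
    calc a * b = (a * b)⁻¹ := (hinv _ (mul_mem ha hb)).symm
      _ = b * a := by rw [mul_inv_rev, hinv a ha, hinv b hb]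
  refine le_antisymm (fun c hc' => ?_) fun a ha => mem_centralizer_iff.2 fun b hb => hKab b hb a ha
  by_contra hcK
  have hKp : IsPGroup 2 K := IsPGroup.of_card (n := 2) (by rw [hK4]; rfl)
  set H := zpowers c ⊔ K with hH
  have hHab : ∀ a b : H, a * b = b * a := by
    have hle : H ≤ centralizer (H : Set G) := by
      have hgen : ∀ a ∈ ({c} ∪ (K : Set G)), ∀ b ∈ ({c} ∪ (K : Set G)), a * b = b * a := by
        rintro a (rfl | ha) b (rfl | hb)
        · rfl
        · exact (mem_centralizer_iff.1 hc' b hb).symm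
        · exact mem_centralizer_iff.1 hc' a ha
        · exact hKab a ha b hb
      have : H = closure ({c} ∪ (K : Set G)) := by rw [Subgroup.closure_union, ← zpowers_eq_closure, closure_eq]
      rw [this, centralizer_closure, closure_le]
      intro a ha
      exact mem_centralizer_iff.2 fun b hb => hgen b hb a ha
    exact fun a b => Subtype.ext (mem_centralizer_iff.1 (hle b.2) a a.2)
  have hKlt : Nat.card H ≠ 4 := by
    intro h4
    exact hcK ((eq_of_le_of_card_ge (le_sup_right : K ≤ H) (by rw [h4, hK4])).symm ▸ mem_sup_left (mem_zpowers c))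
  have hKH : Nat.card K ≤ Nat.card H := card_le_of_le le_sup_right
  rcases hG.apply hKp (x := c) (Subgroup.centralizer_le_normalizer _ hc') with h | ⟨n, ⟨e⟩⟩ | ⟨⟨e⟩⟩
  · haveI : IsCyclic H := h
    haveI hKc : IsCyclic K := isCyclic_of_injective (inclusion (le_sup_right : K ≤ H)) (inclusion_injective _)
    obtain ⟨g, hg⟩ := hKc.exists_generator
    have h1 := orderOf_eq_card_of_forall_mem_zpowers hg
    rw [hK4, ← Subgroup.orderOf_coe] at h1
    have h2 := orderOf_dvd_of_pow_eq_one (hK2 g g.2)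
    rw [h1] at h2
    exact absurd (Nat.le_of_dvd two_pos h2) (by norm_num)
  · rcases Nat.lt_or_ge n 2 with hn | hn
    · have hc := Nat.card_congr e.toEquiv
      rw [DihedralGroup.nat_card] at hc
      have hcc : Nat.card (zpowers c ⊔ K : Subgroup G) = 2 * 2 ^ n := hc
      have : Nat.card H = 2 * 2 ^ n := hc
      have : 2 ^ n ≤ 2 := by
        calc 2 ^ n ≤ 2 ^ 1 := Nat.pow_le_pow_right two_pos (by omega)
          _ = 2 := by norm_num
      omega
    · have h1 := congrArg e (hHab (e.symm (r 1)) (e.symm (sr 0)))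
      simp only [map_mul, MulEquiv.apply_symm_apply, r_mul_sr, sr_mul_r, sr.injEq, zero_sub, zero_add] at h1
      have h2 : ((2 : ℕ) : ZMod (2 ^ n)) = 0 := by push_cast; linear_combination -h1
      rw [ZMod.natCast_eq_zero_iff] at h2
      have h3 := Nat.le_of_dvd two_pos h2
      have : 2 ^ 2 ≤ 2 ^ n := Nat.pow_le_pow_right two_pos hn
      omega
  · have h1 : ∀ a b : alternatingGroup (Fin 4), a * b = b * a := fun a b => by
      have := congrArg e (hHab (e.symm a) (e.symm b))
      simpa using this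
    exact absurd h1 (by decide)

theorem backward (P : Sylow 2 G)
    (h : IsCyclic P ∨
      ((∃ n : ℕ, 1 ≤ n ∧ Nonempty ((P : Subgroup G) ≃* DihedralGroup (2 ^ n))) ∧
        ∀ K : Subgroup G, K ≤ P → Nat.card K = 4 → (∀ k ∈ K, k ^ 2 = 1) → centralizer (K : Set G) = K)) :
    Hyp G := by
  classical
  haveI : Fact (Nat.Prime 2) := ⟨Nat.prime_two⟩
  intro H hn hcyc
  obtain ⟨S⟩ : Nonempty (Sylow 2 H) := inferInstance
  haveI := hn S
  haveI := hcyc S
  obtain ⟨P', hP'⟩ := (S.isPGroup'.map H.subtype).exists_le_sylow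
  obtain ⟨g, hg⟩ := MulAction.exists_smul_eq G P P'
  let φ : H →* G := (MulAut.conj g⁻¹).toMonoidHom.comp H.subtype
  have hφ : Function.Injective φ := (MulAut.conj g⁻¹).injective.comp H.subtype_injective
  have hSP : ∀ s ∈ (S : Subgroup H), φ s ∈ (P : Subgroup G) := by
    intro s hs
    have h1 : (s : G) ∈ (P' : Subgroup G) := hP' (mem_map_of_mem _ hs)
    rw [← hg, Sylow.coe_subgroup_smul, mem_pointwise_smul_iff_inv_smul_mem, ← map_inv] at h1
    exact h1
  let f : (S : Subgroup H) →* (P : Subgroup G) :=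
    (φ.comp (S : Subgroup H).subtype).codRestrict _ fun s => hSP s s.2
  have hf : Function.Injective f := fun a b hab => Subtype.ext (hφ (congrArg Subtype.val hab))
  -- an element of odd order generating the quotient
  obtain ⟨y0, hy0⟩ := QuotientGroup.mk_surjective (IsCyclic.exists_generator (α := H ⧸ (S : Subgroup H))).choose
  have hygen0 := (IsCyclic.exists_generator (α := H ⧸ (S : Subgroup H))).choose_spec
  rw [← hy0] at hygen0
  obtain ⟨v, m, hm, hvm⟩ := Nat.exists_eq_pow_mul_and_not_dvd (orderOf_pos y0).ne' 2 (by norm_num)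
  set y := y0 ^ (2 ^ v) with hy
  have hym : y ^ m = 1 := by rw [hy, ← pow_mul, ← hvm, pow_orderOf_eq_one]
  have hmodd : Odd m := Nat.not_even_iff_odd.1 fun hev => hm (even_iff_two_dvd.1 hev)
  have hygen : ∀ q : H ⧸ (S : Subgroup H), q ∈ zpowers (y : H ⧸ (S : Subgroup H)) := by
    have hcop : (orderOf (y0 : H ⧸ (S : Subgroup H))).Coprime (2 ^ v) := by
      rw [orderOf_eq_card_of_forall_mem_zpowers hygen0, ← index_eq_card]
      exact Nat.Coprime.pow_right _ ((Nat.prime_two.coprime_iff_not_dvd.2 S.not_dvd_index).symm)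
    obtain ⟨c, hc⟩ := exists_pow_eq_self_of_coprime hcop.symm
    intro q
    obtain ⟨i, rfl⟩ := mem_zpowers_iff.1 (hygen0 q)
    refine mem_zpowers_iff.2 ⟨c * i, ?_⟩
    rw [hy, QuotientGroup.mk_pow, zpow_mul, zpow_natCast, hc]
  have hgenH : ∀ g : H, ∃ i : ℤ, ∃ s ∈ (S : Subgroup H), g = y ^ i * s := by
    intro g
    obtain ⟨i, hi⟩ := mem_zpowers_iff.1 (hygen g)
    rw [← QuotientGroup.mk_zpow, QuotientGroup.eq] at hi
    exact ⟨i, _, hi, (mul_inv_cancel_left _ _).symm⟩
  by_cases hScyc : IsCyclic (S : Subgroup H)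
  · left
    obtain ⟨s, hs⟩ := hScyc.exists_generator
    obtain ⟨k, hk⟩ := S.isPGroup'.exists_orderOf_eq_pow s
    rw [← Subgroup.orderOf_coe] at hk
    have hys : Commute y (s : H) := commute_cyclic hk hym hmodd (by
      obtain ⟨i, hi⟩ := mem_zpowers_iff.1 (hs ⟨_, (hn S).conj_mem _ s.2 y⟩)
      exact mem_zpowers_iff.2 ⟨i, by rw [← coe_zpow, hi]⟩)
    refine isCyclic_of_orderOf_eq_card (y * (s : H)) ?_
    have hcop : (orderOf y).Coprime (orderOf (s : H)) := by
      rw [hk]
      exact (Nat.Coprime.pow_right k (Nat.coprime_two_right.2 hmodd)).coprime_dvd_left (orderOf_dvd_of_pow_eq_one hym)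
    refine le_antisymm orderOf_le_card ?_
    rw [hys.orderOf_mul_eq_mul_orderOf_of_coprime hcop, ← (S : Subgroup H).card_mul_index,
      Subgroup.orderOf_coe, orderOf_eq_card_of_forall_mem_zpowers hs, mul_comm (orderOf y), index_eq_card,
      ← orderOf_eq_card_of_forall_mem_zpowers hygen]
    exact Nat.mul_le_mul_left _ (Nat.le_of_dvd (orderOf_pos y) (orderOf_map_dvd (QuotientGroup.mk' (S : Subgroup H)) y))
  rcases h with h | ⟨⟨n, hn1, ⟨e⟩⟩, hK⟩
  · haveI := h
    exact absurd (isCyclic_of_injective f hf) hScyc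
  let ψ : (S : Subgroup H) →* DihedralGroup (2 ^ n) := e.toMonoidHom.comp f
  have hψ : Function.Injective ψ := e.injective.comp hf
  let R : Subgroup (S : Subgroup H) := (zpowers (r 1 : DihedralGroup (2 ^ n))).comap ψ
  have hRc : IsCyclic R := isCyclic_of_injective
    ((ψ.comp R.subtype).codRestrict (zpowers (r 1 : DihedralGroup (2 ^ n))) fun x => x.2)
    fun a b hab => Subtype.ext (hψ (congrArg Subtype.val hab))
  have hrot : ∀ i : ZMod (2 ^ n), (r i : DihedralGroup (2 ^ n)) ∈ zpowers (r 1) := fun i =>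
    mem_zpowers_iff.2 ⟨i.val, by rw [zpow_natCast, r_one_pow, ZMod.natCast_zmod_val]⟩
  have hnrot : ∀ x : (S : Subgroup H), x ∉ R → ∃ i, ψ x = sr i := fun x hx => by
    rcases hh : ψ x with i | i
    · exact absurd (show ψ x ∈ zpowers (r 1) by rw [hh]; exact hrot i) hx
    · exact ⟨i, rfl⟩
  have hrotR : ∀ x : (S : Subgroup H), x ∈ R → ∃ i, ψ x = r i := fun x hx => by
    obtain ⟨i, hi⟩ := mem_zpowers_iff.1 (hx : ψ x ∈ zpowers (r 1))
    exact ⟨_, by rw [← hi, r_one_zpow]⟩
  obtain ⟨a', ha'⟩ := hRc.exists_generator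
  set a : (S : Subgroup H) := a'.1 with ha_def
  have haR : a ∈ R := a'.2
  have hRa : ∀ x ∈ R, x ∈ zpowers a := fun x hx => by
    obtain ⟨i, hi⟩ := mem_zpowers_iff.1 (ha' ⟨x, hx⟩)
    exact mem_zpowers_iff.2 ⟨i, by rw [ha_def, ← coe_zpow, hi]⟩
  obtain ⟨s0, hs0⟩ : ∃ s0, s0 ∉ R := by
    by_contra hcon
    push Not at hcon
    exact hScyc ⟨⟨a, fun x => hRa x (hcon x)⟩⟩
  obtain ⟨i0, hi0⟩ := hnrot s0 hs0
  obtain ⟨ja, hja⟩ := hrotR a haR
  have hinv : s0 * a * s0⁻¹ = a⁻¹ := hψ (by
    rw [map_mul, map_mul, map_inv, map_inv, hi0, hja, sr_mul_r, inv_sr, sr_mul_sr, inv_r]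
    congr 1; ring)
  have hs02 : s0 * s0 = 1 := hψ (by rw [map_mul, map_one, hi0, sr_mul_sr, sub_self]; rfl)
  have hcover : ∀ x : (S : Subgroup H), x ∈ zpowers a ∨ ∃ i : ℤ, x = s0 * a ^ i := by
    intro x
    by_cases hx : x ∈ R
    · exact Or.inl (hRa x hx)
    obtain ⟨j, hj⟩ := hnrot x hx
    have h1 : s0⁻¹ * x ∈ R := by
      show ψ (s0⁻¹ * x) ∈ zpowers (r 1)
      rw [map_mul, map_inv, hi0, hj, inv_sr, sr_mul_sr]
      exact hrot _
    obtain ⟨i, hi⟩ := mem_zpowers_iff.1 (hRa _ h1)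
    exact Or.inr ⟨i, by rw [hi, mul_inv_cancel_left]⟩
  obtain ⟨k, hk⟩ := S.isPGroup'.exists_orderOf_eq_pow a
  have hk1 : k ≠ 0 := by
    rintro rfl
    have ha1 : a = 1 := orderOf_eq_one_iff.1 (by simpa using hk)
    refine hScyc ⟨⟨s0, fun x => ?_⟩⟩
    rcases hcover x with hx | ⟨i, rfl⟩
    · rw [ha1, zpowers_one_eq_bot, mem_bot] at hx; rw [hx]; exact Subgroup.one_mem (Subgroup.zpowers s0)
    · rw [ha1, one_zpow, mul_one]; exact mem_zpowers s0
  have hs0a : s0 ∉ zpowers a := fun h => hs0 ((zpowers_le.2 haR) h)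
  have hcardS : Nat.card (S : Subgroup H) ≤ 2 * 2 ^ k := by
    let F : Bool × zpowers a → (S : Subgroup H) := fun t => if t.1 then s0 * t.2 else t.2
    have hF : Function.Surjective F := fun x => by
      rcases hcover x with hx | ⟨i, rfl⟩
      · exact ⟨(false, ⟨x, hx⟩), rfl⟩
      · exact ⟨(true, ⟨a ^ i, zpow_mem (mem_zpowers a) i⟩), rfl⟩
    refine (Nat.card_le_card_of_surjective F hF).trans ?_
    rw [Nat.card_prod, Nat.card_zpowers, hk, Nat.card_eq_fintype_card, Fintype.card_bool]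
  -- elements centralizing the standard four-group are trivial
  have hfix : ∀ w : H, Odd (orderOf w) → Commute w (a : H) → Commute w (s0 : H) → w = 1 := by
    intro w hw hwa hws
    obtain ⟨k', rfl⟩ := Nat.exists_eq_succ_of_ne_zero hk1
    set zz : (S : Subgroup H) := a ^ (2 ^ k') with hzz
    have hz2 : zz * zz = 1 := by rw [hzz, ← pow_add, ← two_mul, ← pow_succ', ← hk, pow_orderOf_eq_one]
    have hz1 : zz ≠ 1 := fun h => by
      have := orderOf_dvd_of_pow_eq_one h
      rw [hk] at this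
      exact absurd (Nat.le_of_dvd (by positivity) this) (not_le.2 (Nat.pow_lt_pow_right one_lt_two (Nat.lt_succ_self _)))
    have hzs : zz * s0 = s0 * zz := by
      have h1 : s0 * zz * s0⁻¹ = zz⁻¹ := by rw [hzz, ← conj_pow, hinv, inv_pow]
      rw [inv_eq_of_mul_eq_one_right hz2] at h1
      exact ((mul_inv_eq_iff_eq_mul).1 h1).symm
    have hne : zz ≠ s0 := fun h => hs0a (h ▸ pow_mem (mem_zpowers a) _)
    let ι : (S : Subgroup H) →* G := φ.comp (S : Subgroup H).subtype
    have hι : Function.Injective ι := hφ.comp (S : Subgroup H).subtype_injective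
    obtain ⟨K, hKz, hKs, hKle, hK4, hK2⟩ := exists_four (z := ι zz) (s := ι s0)
      (by rw [← map_mul, hz2, map_one]) (by rw [← map_mul, hs02, map_one]) (by rw [← map_mul, ← map_mul, hzs])
      ((map_ne_one_iff ι hι).2 hz1) ((map_ne_one_iff ι hι).2 fun h => hs0 (h.symm ▸ R.one_mem)) (hι.ne hne)
    have hwK : φ w ∈ centralizer (K : Set G) := by
      refine mem_centralizer_iff.2 fun b hb => ?_
      have hle : K ≤ centralizer ({φ w} : Set G) := hKle _
        (mem_centralizer_singleton_iff.2 (by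
          show φ (zz : H) * φ w = φ w * φ (zz : H)
          rw [hzz, coe_pow]; exact ((hwa.pow_right _).map φ).eq.symm))
        (mem_centralizer_singleton_iff.2 ((hws.map φ).eq.symm))
      exact mem_centralizer_singleton_iff.1 (hle hb)
    rw [hK K (hKle _ (hSP _ zz.2) (hSP _ s0.2)) hK4 hK2] at hwK
    have h2 := orderOf_dvd_of_pow_eq_one (hK2 _ hwK)
    rw [orderOf_injective φ hφ] at h2
    rcases (Nat.dvd_prime Nat.prime_two).1 h2 with h | h
    · exact orderOf_eq_one_iff.1 h
    · rw [h] at hw; exact absurd hw (by decide)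
  have hdih : y = 1 → ∃ n : ℕ, Nonempty (H ≃* DihedralGroup (2 ^ n)) := by
    intro hy1
    have hall : ∀ g : H, g ∈ (S : Subgroup H) := fun g => by
      obtain ⟨i, s, hs, rfl⟩ := hgenH g
      rw [hy1, one_zpow, one_mul]; exact hs
    haveI : NeZero (2 ^ k) := ⟨by positivity⟩
    obtain ⟨e'⟩ := PByCyclic.dihedral_of_inverts a s0 hk hs02 hinv hs0a hcardS
    exact ⟨k, ⟨(((MulEquiv.subgroupCongr (eq_top_iff.2 fun g _ => hall g : (S : Subgroup H) = ⊤)).trans
      Subgroup.topEquiv)).symm.trans e'⟩⟩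
  rcases Nat.lt_or_ge k 2 with hk2 | hk2
  swap
  · -- large dihedral groups have no automorphisms of odd order
    refine Or.inr (Or.inl (hdih (hfix y ((hmodd.of_dvd_nat (orderOf_dvd_of_pow_eq_one hym))) ?_ ?_)))
    all_goals
      have hya : Commute y (a : H) := by
        refine commute_cyclic (k := k) (by rw [Subgroup.orderOf_coe, hk]) hym hmodd ?_
        have hyS : y * (a : H) * y⁻¹ ∈ (S : Subgroup H) := (hn S).conj_mem _ a.2 y
        have h1 : (⟨_, hyS⟩ : (S : Subgroup H)) ∈ zpowers a := by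
          rcases hcover ⟨_, hyS⟩ with h | ⟨i, hi⟩
          · exact h
          exfalso
          have h2 : (⟨_, hyS⟩ : (S : Subgroup H)) * ⟨_, hyS⟩ = 1 := by
            have h4 : s0 * a ^ i * s0⁻¹ = (a ^ i)⁻¹ := by rw [← conj_zpow, hinv, inv_zpow]
            have h5 : s0⁻¹ = s0 := inv_eq_of_mul_eq_one_right hs02
            rw [h5] at h4
            rw [hi, ← mul_assoc, h4, inv_mul_cancel]
          have h3 := congrArg Subtype.val h2
          simp only [coe_mul, coe_one] at h3
          rw [conj_mul, conj_eq_one_iff, ← pow_two, ← orderOf_dvd_iff_pow_eq_one, Subgroup.orderOf_coe, hk] at h3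
          have := Nat.le_of_dvd two_pos h3
          have : 2 ^ 2 ≤ 2 ^ k := Nat.pow_le_pow_right two_pos hk2
          omega
        obtain ⟨i, hi⟩ := mem_zpowers_iff.1 h1
        exact mem_zpowers_iff.2 ⟨i, by rw [← coe_zpow, hi]⟩
    · exact hya
    · have hyS : y * (s0 : H) * y⁻¹ ∈ (S : Subgroup H) := (hn S).conj_mem _ s0.2 y
      rcases hcover ⟨_, hyS⟩ with h | ⟨i, hi⟩
      · exfalso
        obtain ⟨i, hi⟩ := mem_zpowers_iff.1 h
        have h1 : y * (s0 : H) * y⁻¹ = y * ((a : H) ^ i) * y⁻¹ := by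
          rw [(hya.zpow_right i).eq, mul_inv_cancel_right, ← coe_zpow, hi]
        exact hs0a ⟨i, Subtype.ext (by rw [coe_zpow]; exact (mul_left_cancel (mul_right_cancel h1)).symm)⟩
      have h1 : y * (s0 : H) * y⁻¹ = (s0 : H) * (a : H) ^ i := by
        rw [← coe_zpow, ← coe_mul, ← hi]
      have h2 : ∀ j : ℕ, y ^ j * (s0 : H) * (y ^ j)⁻¹ = (s0 : H) * (a : H) ^ (i * j) := by
        intro j
        induction j with
        | zero => simp
        | succ j ih =>
          rw [pow_succ', mul_inv_rev, show y * y ^ j * (s0 : H) * ((y ^ j)⁻¹ * y⁻¹) = y * (y ^ j * (s0 : H) * (y ^ j)⁻¹) * y⁻¹ by group,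
            ih, ← conj_mul, h1, (hya.zpow_right _).eq, mul_inv_cancel_right, mul_assoc, ← zpow_add]
          congr 2
          push_cast; ring
      have h3 := h2 m
      rw [hym, one_mul, inv_one, mul_one, left_eq_mul, ← coe_zpow, OneMemClass.coe_eq_one,
        ← orderOf_dvd_iff_zpow_eq_one, hk] at h3
      have hco : IsCoprime ((2 ^ k : ℕ) : ℤ) (m : ℤ) :=
        Int.isCoprime_iff_nat_coprime.2 (by simpa using Nat.Coprime.pow_left k (Nat.coprime_two_left.2 hmodd))
      have h4 := hco.dvd_of_dvd_mul_right h3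
      rw [orderOf_dvd_iff_zpow_eq_one.1 (by rw [Subgroup.orderOf_coe, hk]; exact h4), mul_one] at h1
      exact mul_inv_eq_iff_eq_mul.1 h1
  -- the four-group
  obtain rfl : k = 1 := by omega
  have hy3 : y ^ 3 = 1 := by
    let F : H →* Equiv.Perm (S : Subgroup H) :=
      (MulAut.toPerm (M := (S : Subgroup H))).comp (MulAut.conjNormal (H := (S : Subgroup H)))
    have hS4 : Nat.card (S : Subgroup H) ≤ 4 := by simpa using hcardS
    have h1 : (F y) ^ (Nat.gcd (Nat.card (Equiv.Perm (S : Subgroup H))) m) = 1 :=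
      pow_gcd_eq_one.2 ⟨pow_card_eq_one', by rw [← map_pow, hym, map_one]⟩
    have h3 : Nat.gcd (Nat.card (Equiv.Perm (S : Subgroup H))) m ∣ 3 := by
      rw [Nat.card_perm]
      have h4 : (Nat.card (S : Subgroup H)).factorial ∣ Nat.factorial 4 := Nat.factorial_dvd_factorial hS4
      have h5 : Nat.gcd (Nat.card (S : Subgroup H)).factorial m ∣ 2 ^ 3 * 3 :=
        (Nat.gcd_dvd_left _ _).trans (h4.trans (by decide))
      refine Nat.Coprime.dvd_of_dvd_mul_left ?_ h5
      exact Nat.Coprime.pow_right _ ((Nat.coprime_two_right.2 hmodd).coprime_dvd_left (Nat.gcd_dvd_right _ _))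
    obtain ⟨c, hc⟩ := h3
    have h6 : F (y ^ 3) = 1 := by rw [map_pow, hc, pow_mul, h1, one_pow]
    have hco : ∀ x : (S : Subgroup H), Commute (y ^ 3) (x : H) := fun x => by
      have h7 := congrArg Subtype.val (Equiv.ext_iff.1 h6 x)
      exact mul_inv_eq_iff_eq_mul.1 (show y ^ 3 * (x : H) * (y ^ 3)⁻¹ = x from h7)
    refine hfix _ ?_ (hco a) (hco s0)
    exact hmodd.of_dvd_nat ((orderOf_pow_dvd 3).trans (orderOf_dvd_of_pow_eq_one hym))
  by_cases hy1 : y = 1
  · exact Or.inr (Or.inl (hdih hy1))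
  refine Or.inr (Or.inr ?_)
  haveI : Fact (Nat.Prime 3) := ⟨Nat.prime_three⟩
  have hyo : orderOf y = 3 := orderOf_eq_prime hy3 hy1
  have hyS : y ∉ (S : Subgroup H) := fun h => by
    obtain ⟨j, hj⟩ := S.isPGroup'.exists_orderOf_eq_pow ⟨y, h⟩
    rw [Subgroup.orderOf_mk, hyo] at hj
    rcases j with _ | j
    · simp at hj
    · rw [pow_succ'] at hj; omega
  have hidx : (S : Subgroup H).index = 3 := by
    rw [index_eq_card, ← orderOf_eq_card_of_forall_mem_zpowers hygen]
    refine orderOf_eq_prime (by rw [← QuotientGroup.mk_pow, hy3]; rfl) fun h => hyS ((QuotientGroup.eq_one_iff y).1 h)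
  have hS4 : Nat.card (S : Subgroup H) = 4 := by
    obtain ⟨j, hj⟩ := IsPGroup.iff_card.1 S.isPGroup'
    have h2 : j ≥ 2 := by
      by_contra hlt
      have : j = 0 ∨ j = 1 := by omega
      rcases this with rfl | rfl
      · exact hScyc (haveI : Subsingleton (S : Subgroup H) := (Nat.card_eq_one_iff_unique.1 (by simpa using hj)).1; inferInstance)
      · exact hScyc (isCyclic_of_prime_card (p := 2) (by simpa using hj))
    have h4 : 2 ^ 2 ≤ 2 ^ j := Nat.pow_le_pow_right two_pos h2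
    have h5 : Nat.card (S : Subgroup H) ≤ 4 := by simpa using hcardS
    omega
  have hH12 : Nat.card H = 12 := by rw [← (S : Subgroup H).card_mul_index, hS4, hidx]
  have hYidx : (zpowers y).index = 4 := by
    have := (zpowers y).card_mul_index
    rw [Nat.card_zpowers, hyo, hH12] at this
    omega
  haveI : Fintype (H ⧸ zpowers y) := Fintype.ofFinite _
  let A : H →* Equiv.Perm (H ⧸ zpowers y) := MulAction.toPermHom H (H ⧸ zpowers y)
  have hAker : A.ker = ⊥ := by
    rw [← Subgroup.normalCore_eq_ker]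
    by_contra hne
    have hle := (zpowers y).normalCore_le
    obtain ⟨w, hw, hw1⟩ : ∃ w ∈ (zpowers y).normalCore, w ≠ 1 := by
      by_contra hcon
      push Not at hcon
      exact hne ((Subgroup.eq_bot_iff_forall _).2 hcon)
    have hwo : orderOf w = 3 := by
      have h1 : orderOf w ∣ 3 := by
        have h0 : orderOf w ∣ Nat.card (zpowers y) := Subgroup.orderOf_dvd_natCard _ (hle hw)
        rwa [Nat.card_zpowers, hyo] at h0
      rcases (Nat.dvd_prime Nat.prime_three).1 h1 with h | h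
      · exact absurd (orderOf_eq_one_iff.1 h) hw1
      · exact h
    have hdisj : (zpowers y).normalCore ⊓ (S : Subgroup H) = ⊥ := by
      refine (Subgroup.eq_bot_iff_forall _).2 fun u hu => ?_
      have h1 : orderOf u ∣ 3 := by
        have h0 : orderOf u ∣ Nat.card (zpowers y) := Subgroup.orderOf_dvd_natCard _ (hle hu.1)
        rwa [Nat.card_zpowers, hyo] at h0
      have h2 : orderOf u ∣ 4 := by
        have h0 : orderOf u ∣ Nat.card (S : Subgroup H) := Subgroup.orderOf_dvd_natCard _ hu.2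
        rwa [hS4] at h0
      exact orderOf_eq_one_iff.1 (Nat.dvd_one.1 ((Nat.dvd_gcd h1 h2).trans (by norm_num)))
    have hcomm : ∀ x : (S : Subgroup H), Commute w (x : H) := fun x =>
      Subgroup.commute_of_normal_of_disjoint _ _ (normalCore_normal _) inferInstance (disjoint_iff.2 hdisj) w x hw x.2
    exact hw1 (hfix w (by rw [hwo]; decide) (hcomm a) (hcomm s0))
  have hQ : Fintype.card (H ⧸ zpowers y) = 4 := by rw [← Nat.card_eq_fintype_card, ← index_eq_card, hYidx]
  let B : H →* Equiv.Perm (Fin 4) := (Equiv.permCongrHom (Fintype.equivFinOfCardEq hQ)).toMonoidHom.comp A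
  have hB : Function.Injective B := (Equiv.permCongrHom _).injective.comp ((MonoidHom.ker_eq_bot_iff A).1 hAker)
  have hrange : B.range = alternatingGroup (Fin 4) := by
    refine Equiv.Perm.eq_alternatingGroup_of_index_eq_two ?_
    have h1 := B.range.card_mul_index
    rw [← Nat.card_congr (MonoidHom.ofInjective hB).toEquiv, hH12, Nat.card_perm, Nat.card_fin] at h1
    have : (4 : ℕ).factorial = 24 := rfl
    omega
  exact ⟨(MonoidHom.ofInjective hB).trans (MulEquiv.subgroupCongr hrange)⟩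

end Cfsg.Agent.Struct.TwoByCyclic
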