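import Mathlib
import Cfsg.Agent.Lib.Struct.FpfComplement
import Cfsg.Agent.Lib.Struct.FrobeniusConj
import Cfsg.Agent.Lib.Struct.UniqueOrderP
import Cfsg.Agent.Lib.Solv.FpfNilpotent

/-!
# Element orders `p * q` and Frobenius groups, tools for two-step Frobenius groups
-/

set_option autoImplicit false
set_option linter.style.haveILetI false
set_option linter.unusedSectionVars false

namespace Cfsg.Agent.Struct.TwoFrobenius

open Subgroup Cfsg Cfsg.Agent.Struct.Frobenius

variable {G : Type*} [Group G] [Finite G]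

theorem exists_orderOf_mul {x y : G} {p q : ℕ} (hp : p.Prime) (hq : q.Prime) (hne : p ≠ q)
    (hx : orderOf x = p) (hy : orderOf y = q) (hc : x * y = y * x) : ∃ g : G, orderOf g = p * q :=
  ⟨x * y, by rw [(show Commute x y from hc).orderOf_mul_eq_mul_orderOf_of_coprime
    (by rw [hx, hy]; exact (Nat.coprime_primes hp hq).2 hne), hx, hy]⟩

theorem exists_orderOf_of_dvd {x y : G} {p q : ℕ} (hp : p.Prime) (hq : q.Prime) (hne : p ≠ q)
    (hx : p ∣ orderOf x) (hy : q ∣ orderOf y) (hc : x * y = y * x) : ∃ g : G, orderOf g = p * q :=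
  exists_orderOf_mul hp hq hne (orderOf_pow_orderOf_div (orderOf_pos x).ne' hx)
    (orderOf_pow_orderOf_div (orderOf_pos y).ne' hy) ((show Commute x y from hc).pow_pow _ _).eq

theorem exists_of_map {H : Type*} [Group H] (f : G →* H) (hf : Function.Surjective f) {n : ℕ}
    (h : ∃ X : H, orderOf X = n) : ∃ g : G, orderOf g = n := by
  obtain ⟨X, hX⟩ := h
  obtain ⟨g, rfl⟩ := hf X
  exact ⟨g ^ (orderOf g / n), orderOf_pow_orderOf_div (orderOf_pos g).ne' (hX ▸ orderOf_map_dvd f g)⟩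

theorem exists_prime_pow {g : G} (hg : g ≠ 1) : ∃ (k p : ℕ), p.Prime ∧ orderOf (g ^ k) = p := by
  obtain ⟨p, hp, hd⟩ := Nat.exists_prime_and_dvd (fun h => hg (orderOf_eq_one_iff.1 h))
  exact ⟨_, p, hp, orderOf_pow_orderOf_div (orderOf_pos g).ne' hd⟩

theorem kernel_eq {K H : Subgroup G} [K.Normal] (hc : IsComplement' K H)
    (hH : IsFrobeniusComplement H) : frobeniusKernel H = (K : Set G) := by
  have hsub : (K : Set G) ⊆ frobeniusKernel H := by
    intro x hx
    by_contra hxk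
    obtain ⟨hx1, g, hg⟩ := notMem_kernel.1 hxk
    have h1 : g⁻¹ * x * g = 1 := Subgroup.disjoint_def.1 hc.disjoint
      (by simpa using Subgroup.Normal.conj_mem ‹K.Normal› x hx g⁻¹) hg
    exact hx1 (by
      calc x = g * (g⁻¹ * x * g) * g⁻¹ := by group
        _ = 1 := by rw [h1]; group)
  refine (Set.eq_of_subset_of_ncard_le hsub ?_ (Set.toFinite _)).symm
  rw [← Nat.card_coe_set_eq, ← Nat.card_coe_set_eq, card_kernel hH]
  refine le_of_eq (Nat.eq_of_mul_eq_mul_right (Nat.card_pos (α := H)) ?_)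
  rw [H.index_mul_card, ← hc.card_mul_card]
  rfl

/-- A normal subgroup whose primes never pair with the primes of its index is a Frobenius kernel. -/
theorem exists_complement_of_no_pair (K : Subgroup G) [K.Normal] (hKb : K ≠ ⊥) (hKt : K ≠ ⊤)
    (hno : ∀ p q : ℕ, p.Prime → q.Prime → p ∣ Nat.card K → q ∣ K.index →
      p ≠ q ∧ ¬ ∃ g : G, orderOf g = p * q) :
    ∃ C : Subgroup G, IsFrobeniusComplement C ∧ frobeniusKernel C = (K : Set G) := by
  have hcop : (Nat.card K).Coprime K.index := by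
    by_contra hc
    obtain ⟨r, hr, hr1, hr2⟩ := Nat.Prime.not_coprime_iff_dvd.1 hc
    exact (hno r r hr hr hr1 hr2).1 rfl
  obtain ⟨C, hC⟩ := exists_right_complement'_of_coprime hcop
  have hCi : Nat.card C = K.index := hC.symm.index_eq_card.symm
  have hCb : C ≠ ⊥ := fun h => hKt (by
    rw [h, card_bot] at hCi
    exact index_eq_one.1 hCi.symm)
  have hfrob := isFrobeniusComplement_of_fpf' hC hKb hCb (fun c hc hc1 => by
    rw [eq_bot_iff_forall]
    rintro v ⟨hv, hvc⟩
    by_contra hv1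
    obtain ⟨p, hp, hpd⟩ := Nat.exists_prime_and_dvd (fun h => hv1 (orderOf_eq_one_iff.1 h))
    obtain ⟨q, hq, hqd⟩ := Nat.exists_prime_and_dvd (fun h => hc1 (orderOf_eq_one_iff.1 h))
    have h := hno p q hp hq (hpd.trans (Subgroup.orderOf_dvd_natCard K hv))
      (hCi ▸ hqd.trans (Subgroup.orderOf_dvd_natCard C hc))
    exact h.2 (exists_orderOf_of_dvd hp hq h.1 hpd hqd (mem_centralizer_singleton_iff.1 hvc)))
  exact ⟨C, hfrob, kernel_eq hC hfrob⟩

theorem isNilpotent_of_fpf_element (L : Subgroup G) [L.Normal] {y : G} {p : ℕ} (hp : p.Prime)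
    (hy : y ^ p = 1) (hfpf : ∀ v ∈ L, v * y = y * v → v = 1) : Group.IsNilpotent L := by
  refine Cfsg.Agent.Solv.isNilpotent_of_fpf (φ := (MulAut.conjNormal y : MulAut L)) ?_ hp ?_
  · intro v hv
    have h : y * (v : G) * y⁻¹ = v := congrArg Subtype.val hv
    exact Subtype.ext (hfpf v v.2 (mul_inv_eq_iff_eq_mul.1 h).symm)
  · intro v
    have h : ∀ k, (⇑(MulAut.conjNormal y : MulAut L))^[k] v = (MulAut.conjNormal (y ^ k) : MulAut L) v := by
      intro k
      induction k with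
      | zero => simp
      | succ k ih => rw [Function.iterate_succ_apply', ih, pow_succ', map_mul]; rfl
    exact (h p).trans (by rw [hy, map_one]; rfl)

/-- In a fixed point free group commuting elements of order `p` generate the same subgroup. -/
theorem commute_unique {A K : Subgroup G} (hK : K ≠ ⊥) (hAK : A ≤ normalizer (K : Set G))
    (hcop : (Nat.card A).Coprime (Nat.card K)) (hfpf : ∀ a ∈ A, a ≠ 1 → K ⊓ centralizer {a} = ⊥)
    {p : ℕ} (hp : p.Prime) {a b : A} (ha : orderOf a = p) (hb : b ^ p = 1) (hc : Commute a b) :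
    b ∈ zpowers a := by
  haveI := Fact.mk hp
  set B : Subgroup G := (closure ({a, b} : Set A)).map A.subtype with hB
  have hBA : B ≤ A := map_subtype_le _
  haveI hcomm := isMulCommutative_closure (k := ({a, b} : Set A)) (by
    rintro _ (rfl | rfl) _ (rfl | rfl)
    · rfl
    · exact hc.eq
    · exact hc.eq.symm
    · rfl)
  haveI : IsMulCommutative B := by rw [hB]; infer_instance
  have hsol : Group.IsSolvable B := Group.isSolvable_of_comm fun u v => mul_comm' u v
  obtain ⟨V, hVK, hV, hVc, hBV⟩ := exists_invariant_abelian hK (hBA.trans hAK)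
    (hcop.coprime_dvd_left (card_dvd_of_le hBA)) (Or.inl hsol)
  have haB : (a : G) ∈ B := ⟨a, subset_closure (Set.mem_insert _ _), rfl⟩
  have hbB : (b : G) ∈ B := ⟨b, subset_closure (Set.mem_insert_of_mem _ rfl), rfl⟩
  have h := unique_order_prime (A := B) hV hBV (fun c hc' hc1 => eq_bot_iff.2
      ((inf_le_inf_right _ hVK).trans (hfpf c (hBA hc') hc1).le))
    (a := ⟨(a : G), haB⟩) (b := ⟨(b : G), hbB⟩) (p := p)
    (by rw [Subgroup.orderOf_mk, Subgroup.orderOf_coe, ha])
    (Subtype.ext (by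
      show (b : G) ^ p = 1
      rw [← Subgroup.coe_pow, hb]; rfl))
    (Subtype.ext (congrArg Subtype.val hc.eq :))
  obtain ⟨i, hi⟩ := h
  exact ⟨i, Subtype.ext (by simpa using congrArg Subtype.val hi)⟩

/-- In a nilpotent group where commuting elements of order `p` generate one subgroup, there is
only one subgroup of order `p`. -/
theorem unique_of_nilpotent {B : Type*} [Group B] [Finite B] (hB : Group.IsNilpotent B)
    (hu : ∀ p : ℕ, p.Prime → ∀ a b : B, orderOf a = p → b ^ p = 1 → Commute a b → b ∈ zpowers a)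
    {p : ℕ} (hp : p.Prime) {x y : B} (hx : orderOf x = p) (hy : y ^ p = 1) : y ∈ zpowers x := by
  haveI := Fact.mk hp
  obtain ⟨P⟩ := Sylow.nonempty (p := p) (G := B)
  haveI hPn : (P : Subgroup B).Normal :=
    ((Group.isNilpotent_of_finite_tfae (G := B)).out 0 3 rfl rfl).1 hB p inferInstance P
  have hmem : ∀ w : B, w ^ p = 1 → w ∈ (P : Subgroup B) := by
    intro w hw
    have hwp : IsPGroup p (zpowers w) := by
      rcases (Nat.dvd_prime hp).1 (orderOf_dvd_of_pow_eq_one hw) with h1 | h1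
      · exact IsPGroup.of_card (n := 0) (by rw [Nat.card_zpowers, h1, pow_zero])
      · exact IsPGroup.of_card (n := 1) (by rw [Nat.card_zpowers, h1, pow_one])
    exact ((P.is_maximal' (P.isPGroup'.to_sup_of_normal_left' hwp
      (by rw [normalizer_eq_top]; exact le_top)) le_sup_left).le (mem_sup_right (mem_zpowers w)))
  have hxP := hmem x (hx ▸ pow_orderOf_eq_one x)
  haveI : Nontrivial (P : Subgroup B) := ⟨⟨x, hxP⟩, 1, fun h => by
    rw [Subtype.ext_iff] at h
    change x = 1 at h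
    rw [h, orderOf_one] at hx
    exact hp.one_lt.ne hx⟩
  haveI := P.isPGroup'.center_nontrivial
  obtain ⟨e, he⟩ := IsPGroup.iff_card.1 (P.isPGroup'.to_subgroup (center (P : Subgroup B)))
  have he0 : e ≠ 0 := by
    rintro rfl
    exact (Finite.one_lt_card (α := center (P : Subgroup B))).ne' (by rw [he, pow_zero])
  obtain ⟨z, hz⟩ := exists_prime_orderOf_dvd_card' (G := center (P : Subgroup B)) p
    (he ▸ dvd_pow_self p he0)
  rw [← Subgroup.orderOf_coe, ← Subgroup.orderOf_coe] at hz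
  have hzc : ∀ w ∈ (P : Subgroup B), Commute ((z : (P : Subgroup B)) : B) w := fun w hw =>
    (congrArg Subtype.val (mem_center_iff.1 z.2 ⟨w, hw⟩)).symm
  have h1 := hu p hp _ x hz (hx ▸ pow_orderOf_eq_one x) (hzc x hxP)
  have h2 := hu p hp _ y hz hy (hzc y (hmem y hy))
  have h3 : zpowers x = zpowers ((z : (P : Subgroup B)) : B) :=
    eq_of_le_of_card_ge (zpowers_le.2 h1) (by rw [Nat.card_zpowers, Nat.card_zpowers, hx, hz])
  rwa [h3]

theorem isCyclic_of_unique {B : Type*} [Group B] [Finite B] (hB : Group.IsNilpotent B)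
    (hodd : ¬ 2 ∣ Nat.card B)
    (hu : ∀ p : ℕ, p.Prime → ∀ x y : B, orderOf x = p → y ^ p = 1 → y ∈ zpowers x) : IsCyclic B := by
  haveI := hB
  haveI : IsZGroup B := ⟨fun p hp P => by
    haveI := Fact.mk hp
    rcases Cfsg.Agent.Struct.cyclic_or_quaternion P.isPGroup' (fun x y hx hy => by
      obtain ⟨i, hi⟩ := hu p hp (x : B) (y : B) (by rw [Subgroup.orderOf_coe, hx])
        (by rw [← Subgroup.coe_pow, hy]; rfl)
      exact ⟨i, Subtype.ext (by simpa using hi)⟩) with h | ⟨rfl, n, hn, ⟨e⟩⟩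
    · exact h
    · exfalso
      haveI : NeZero (2 ^ n) := ⟨pow_ne_zero _ two_ne_zero⟩
      refine hodd (dvd_trans ?_ (card_subgroup_dvd_card (P : Subgroup B)))
      rw [Nat.card_congr e.toEquiv, Nat.card_eq_fintype_card, QuaternionGroup.card]
      exact dvd_mul_of_dvd_left (by norm_num) _⟩
  infer_instance

/-- The automorphisms of a normal cyclic subgroup commute. -/
theorem commutator_le_centralizer_of_cyclic (L : Subgroup G) [L.Normal] [IsCyclic L] (a b : G) :
    a * b * a⁻¹ * b⁻¹ ∈ centralizer (L : Set G) := by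
  obtain ⟨g, hg⟩ := IsCyclic.exists_generator (α := L)
  have hgen : ∀ v ∈ L, ∃ i : ℤ, (g : G) ^ i = v := fun v hv => by
    obtain ⟨i, hi⟩ := hg ⟨v, hv⟩
    exact ⟨i, by simpa using congrArg Subtype.val hi⟩
  have hswap : ∀ c d : G, ∀ v ∈ L, c * d * v * d⁻¹ * c⁻¹ = d * c * v * c⁻¹ * d⁻¹ := by
    intro c d v hv
    obtain ⟨i, hi⟩ := hgen _ (Subgroup.Normal.conj_mem ‹L.Normal› _ g.2 c)
    obtain ⟨j, hj⟩ := hgen _ (Subgroup.Normal.conj_mem ‹L.Normal› _ g.2 d)
    obtain ⟨l, rfl⟩ := hgen v hv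
    have hc : ∀ k : ℤ, c * (g : G) ^ k * c⁻¹ = (g : G) ^ (i * k) := fun k => by
      rw [← conj_zpow, ← hi, ← zpow_mul]
    have hd : ∀ k : ℤ, d * (g : G) ^ k * d⁻¹ = (g : G) ^ (j * k) := fun k => by
      rw [← conj_zpow, ← hj, ← zpow_mul]
    rw [show c * d * (g : G) ^ l * d⁻¹ * c⁻¹ = c * (d * (g : G) ^ l * d⁻¹) * c⁻¹ by group,
      show d * c * (g : G) ^ l * c⁻¹ * d⁻¹ = d * (c * (g : G) ^ l * c⁻¹) * d⁻¹ by group,
      hd, hc, hc, hd, mul_left_comm]
  refine mem_centralizer_iff.2 fun v hv => ?_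
  symm
  calc a * b * a⁻¹ * b⁻¹ * v
      = a * b * (a⁻¹ * b⁻¹ * v * b⁻¹⁻¹ * a⁻¹⁻¹) * (a⁻¹ * b⁻¹) := by group
    _ = a * b * (b⁻¹ * a⁻¹ * v * a⁻¹⁻¹ * b⁻¹⁻¹) * (a⁻¹ * b⁻¹) := by rw [hswap a⁻¹ b⁻¹ v hv]
    _ = v * (a * b * a⁻¹ * b⁻¹) := by group

end Cfsg.Agent.Struct.TwoFrobenius
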