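import Mathlib
import Cfsg.Agent.Lib.Solv.Coprime
import Cfsg.Agent.Lib.Solv.Basic
import Cfsg.Agent.Lib.Local.CoprimeGeneration
import Cfsg.Agent.Lib.Solv.FpfNilpotent

/-!
Ward's theorem: a finite solvable group with an elementary abelian group of order `p²` of
automorphisms without common fixed points is nilpotent-by-nilpotent.

The proof is elementary: on a module the averaging identity shows that the centralizers in `Q` of
the elements moving a chosen subgroup of `Z(Q)` act trivially, so a whole `R`-orbit of complements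
meets one stabilizer.
-/

set_option autoImplicit false

namespace Cfsg.Agent.Struct.Ward

open Subgroup
open scoped commutatorElement Pointwise

theorem pow_inj_of_coprime {M : Type*} [Group M] [Finite M] {n : ℕ} (h : (Nat.card M).Coprime n)
    {u v : M} (e : u ^ n = v ^ n) : u = v :=
  (powCoprime h).injective e

theorem exists_fixed {P W : Type*} [Group P] [Group W] [Finite W] {p : ℕ} [Fact p.Prime]
    (hP : IsPGroup p P) (ψ : P →* MulAut W) (hd : p ∣ Nat.card W) :
    ∃ w : W, w ≠ 1 ∧ ∀ x, ψ x w = w := by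
  classical
  letI : MulAction P W :=
    { smul := fun x w => ψ x w
      one_smul := fun w => by show ψ 1 w = w; rw [map_one]; rfl
      mul_smul := fun x y w => by show ψ (x * y) w = ψ x (ψ y w); rw [map_mul]; rfl }
  have h1 : (1 : W) ∈ MulAction.fixedPoints P W := fun x => map_one (ψ x)
  have h := hP.card_modEq_card_fixedPoints W
  have h2 : p ∣ Nat.card (MulAction.fixedPoints P W) :=
    (Nat.modEq_zero_iff_dvd).1 (h.symm.trans ((Nat.modEq_zero_iff_dvd).2 hd))
  have : Nonempty (MulAction.fixedPoints P W) := ⟨⟨1, h1⟩⟩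
  have h3 := Nat.le_of_dvd Nat.card_pos h2
  have : Nontrivial (MulAction.fixedPoints P W) :=
    Finite.one_lt_card_iff_nontrivial.1 ((Fact.out : p.Prime).one_lt.trans_le h3)
  obtain ⟨⟨w, hw⟩, hne⟩ := exists_ne (⟨1, h1⟩ : MulAction.fixedPoints P W)
  exact ⟨w, fun e => hne (Subtype.ext e), hw⟩

section Module

variable {Γ : Type*} [Group Γ] [Finite Γ] {V : Type*} [CommGroup V] [Finite V] (φ : Γ →* MulAut V)

theorem act_mul (g h : Γ) (v : V) : φ (g * h) v = φ g (φ h v) := by rw [map_mul]; rfl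

/-- Vectors fixed by `H` and killed by the norm over `Z`. -/
def U (Z H : Subgroup Γ) [Fintype Z] (v : V) : Prop :=
  (∀ h ∈ H, φ h v = v) ∧ ∏ z : Z, φ z v = 1

/-- Elements normalizing `Z` and acting trivially on `Z / H`. -/
def stab (Z H : Subgroup Γ) : Subgroup Γ where
  carrier := {g | g ∈ normalizer (Z : Set Γ) ∧ ∀ z ∈ Z, g * z * g⁻¹ * z⁻¹ ∈ H}
  one_mem' := ⟨one_mem _, fun z _ => by simp [H.one_mem]⟩
  mul_mem' := by
    rintro g h ⟨hgn, hg⟩ ⟨hhn, hh⟩
    refine ⟨mul_mem hgn hhn, fun z hz => ?_⟩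
    have hz' : h * z * h⁻¹ ∈ Z := (mem_normalizer_iff.1 hhn z).1 hz
    have e : g * h * z * (g * h)⁻¹ * z⁻¹ =
        (g * (h * z * h⁻¹) * g⁻¹ * (h * z * h⁻¹)⁻¹) * (h * z * h⁻¹ * z⁻¹) := by group
    rw [e]
    exact mul_mem (hg _ hz') (hh z hz)
  inv_mem' := by
    rintro g ⟨hgn, hg⟩
    refine ⟨inv_mem hgn, fun z hz => ?_⟩
    have hz' : g⁻¹ * z * g ∈ Z := (mem_normalizer_iff''.1 hgn z).1 hz
    have e : g⁻¹ * z * g⁻¹⁻¹ * z⁻¹ =
        (g * (g⁻¹ * z * g) * g⁻¹ * (g⁻¹ * z * g)⁻¹)⁻¹ := by group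
    rw [e]
    exact inv_mem (hg _ hz')

variable {φ}

theorem U_act {Z H : Subgroup Γ} [Fintype Z] (hH : H ≤ Z) {g : Γ} (hg : g ∈ stab Z H) {v : V}
    (hv : U φ Z H v) : U φ Z H (φ g v) := by
  classical
  refine ⟨fun h hh => ?_, ?_⟩
  · have h1 : g⁻¹ * h * g ∈ H := by
      have h2 := (inv_mem hg : g⁻¹ ∈ stab Z H).2 h (hH hh)
      have e : g⁻¹ * h * g = (g⁻¹ * h * g⁻¹⁻¹ * h⁻¹) * h := by group
      rw [e]; exact mul_mem h2 hh
    rw [← act_mul, show h * g = g * (g⁻¹ * h * g) by group, act_mul, hv.1 _ h1]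
  · let e : Z → Z := fun z => ⟨g⁻¹ * z * g, (mem_normalizer_iff''.1 hg.1 z).1 z.2⟩
    have he : Function.Bijective e := Finite.injective_iff_bijective.1 fun a b hab => by
      have := congrArg Subtype.val hab
      simpa [e] using this
    calc ∏ z : Z, φ z (φ g v) = ∏ z : Z, φ g (φ (e z) v) := by
          refine Finset.prod_congr rfl fun z _ => ?_
          rw [← act_mul, ← act_mul]
          congr 2
          simp [e, mul_assoc]
      _ = φ g (∏ z : Z, φ (e z) v) := (map_prod (φ g) _ _).symm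
      _ = φ g (∏ z : Z, φ z v) := by rw [he.prod_comp (fun z : Z => φ z v)]
      _ = 1 := by rw [hv.2, map_one]

/-- The data: an abelian central subgroup `Z` of `Q`, and `H` maximal with more fixed points. -/
structure Setup (φ : Γ →* MulAut V) (q : ℕ) (Q Z H : Subgroup Γ) : Prop where
  pgroup : IsPGroup q Q
  zle : Z ≤ Q
  central : ∀ z ∈ Z, ∀ y ∈ Q, z * y = y * z
  hle : H ≤ Z
  moved : ∃ v : V, (∀ h ∈ H, φ h v = v) ∧ ∃ z ∈ Z, φ z v ≠ v
  maximal : ∀ M : Subgroup Γ, H ≤ M → M ≤ Z → ¬ M ≤ H →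
    ∀ v : V, (∀ m ∈ M, φ m v = v) → ∀ z ∈ Z, φ z v = v
  copV : (Nat.card V).Coprime (Nat.card Q)

variable {q : ℕ} {Q Z H : Subgroup Γ}

theorem Setup.le_stab (S : Setup φ q Q Z H) : Q ≤ stab Z H := by
  intro y hy
  refine ⟨?_, fun z hz => ?_⟩
  · refine mem_normalizer_iff.2 fun z => ⟨fun hz => ?_, fun hz => ?_⟩
    · rw [← S.central z hz y hy, mul_inv_cancel_right]; exact hz
    · have := S.central _ hz y hy
      have e : y * z * y⁻¹ = z := mul_left_cancel (a := y) (this.symm.trans (by group))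
      rwa [e] at hz
  · rw [← S.central z hz y hy, mul_inv_cancel_right, mul_inv_cancel]; exact H.one_mem

theorem Setup.copZ (S : Setup φ q Q Z H) {K : Subgroup Γ} (hK : K ≤ Z) :
    (Nat.card V).Coprime (Nat.card K) :=
  S.copV.coprime_dvd_right (card_dvd_of_le (hK.trans S.zle))

/-- The elements of `Q` that fix every vector of `U`. -/
def fixU (φ : Γ →* MulAut V) (Q Z H : Subgroup Γ) [Fintype Z] : Subgroup Γ where
  carrier := {y | y ∈ Q ∧ ∀ v, U φ Z H v → φ y v = v}
  one_mem' := ⟨Q.one_mem, fun v _ => by rw [map_one]; rfl⟩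
  mul_mem' := by
    rintro a b ⟨ha, ha'⟩ ⟨hb, hb'⟩
    exact ⟨Q.mul_mem ha hb, fun v hv => by rw [act_mul, hb' v hv, ha' v hv]⟩
  inv_mem' := by
    rintro a ⟨ha, ha'⟩
    refine ⟨Q.inv_mem ha, fun v hv => ?_⟩
    conv_lhs => rw [← ha' v hv]
    rw [← act_mul, inv_mul_cancel, map_one]; rfl

/-- The norm over `Z` kills nothing but the trivial vector. -/
theorem Setup.not_le_fixU [Fintype Z] (S : Setup φ q Q Z H) : ¬ Q ≤ fixU φ Q Z H := by
  intro hQ
  obtain ⟨v, hv, z0, hz0, hne⟩ := S.moved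
  have hfixN : ∀ (w : V) (z : Γ), z ∈ Z → φ z (∏ y : Z, φ y w) = ∏ y : Z, φ y w := by
    intro w z hz
    rw [map_prod]
    exact Fintype.prod_equiv (Equiv.mulLeft (⟨z, hz⟩ : Z)) _ _ fun y => (act_mul φ z y w).symm
  set N := ∏ y : Z, φ y v with hN
  have hc := S.copZ (K := Z) le_rfl
  have hU : U φ Z H (v ^ Nat.card Z * N⁻¹) := by
    refine ⟨fun h hh => ?_, ?_⟩
    · rw [map_mul, map_pow, map_inv, hv h hh, hfixN v h (S.hle hh)]
    · simp only [map_mul, map_pow, map_inv]
      rw [Finset.prod_mul_distrib, Finset.prod_pow, ← hN, Finset.prod_inv_distrib,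
        Finset.prod_congr rfl (fun (z : Z) _ => hfixN v z z.2), Finset.prod_const, Finset.card_univ,
        Nat.card_eq_fintype_card, mul_inv_cancel]
  have h0 := hU.2
  rw [Finset.prod_congr rfl (fun (z : Z) _ => (hQ (S.zle z.2)).2 _ hU), Finset.prod_const,
    Finset.card_univ, ← Nat.card_eq_fintype_card] at h0
  have h1 : v ^ Nat.card Z * N⁻¹ = 1 := pow_inj_of_coprime hc (h0.trans (one_pow _).symm)
  apply hne
  have h2 := hfixN v z0 hz0
  rw [← hN, ← mul_inv_eq_one.1 h1, map_pow] at h2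
  exact pow_inj_of_coprime hc h2

theorem pow_conj_of_commute {c z w : Γ} (hcw : Commute c w) (h : c * z * c⁻¹ = w * z) :
    ∀ n : ℕ, c ^ n * z * (c ^ n)⁻¹ = w ^ n * z := by
  intro n
  induction n with
  | zero => simp
  | succ k ih =>
    calc c ^ (k + 1) * z * (c ^ (k + 1))⁻¹ = c * (c ^ k * z * (c ^ k)⁻¹) * c⁻¹ := by
          rw [pow_succ']; group
      _ = (c * w ^ k) * z * c⁻¹ := by rw [ih]; group
      _ = (w ^ k * c) * z * c⁻¹ := by rw [(hcw.pow_right k).eq]
      _ = w ^ k * (c * z * c⁻¹) := by group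
      _ = w ^ (k + 1) * z := by rw [h, pow_succ]; group

/-- An element moving `Z / H` makes its centralizer in `Q` trivial on `U`. -/
theorem Setup.fix_of_not_stab [Fintype Z] (S : Setup φ q Q Z H) {p : ℕ} [Fact p.Prime]
    (hpQ : (Nat.card Q).Coprime p) {c : Γ} (hcp : c ^ p = 1)
    (hcZ : c ∈ normalizer (Z : Set Γ)) (hc : c ∉ stab Z H)
    (Hc : ∀ y ∈ Q, c * y = y * c → ∀ v, φ c v = v → φ y v = v)
    {y : Γ} (hy : y ∈ Q) (hcy : c * y = y * c) : y ∈ fixU φ Q Z H := by
  classical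
  have hp : p.Prime := Fact.out
  have hcomm : ∀ z ∈ Z, ∀ z' ∈ Z, z * z' = z' * z := fun z hz z' hz' =>
    S.central z hz z' (S.zle hz')
  have hcZ' : ∀ z ∈ Z, c * z * c⁻¹ ∈ Z := fun z hz => (mem_normalizer_iff.1 hcZ z).1 hz
  let W : Subgroup Γ :=
    { carrier := {w | ∃ z ∈ Z, w = c * z * c⁻¹ * z⁻¹}
      one_mem' := ⟨1, Z.one_mem, by simp⟩
      mul_mem' := by
        rintro _ _ ⟨a, ha, rfl⟩ ⟨b, hb, rfl⟩
        refine ⟨a * b, Z.mul_mem ha hb, ?_⟩
        have h2 : Commute a⁻¹ (c * b * c⁻¹ * b⁻¹) :=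
          hcomm _ (inv_mem ha) _ (mul_mem (hcZ' b hb) (inv_mem hb))
        calc c * a * c⁻¹ * a⁻¹ * (c * b * c⁻¹ * b⁻¹)
            = c * a * c⁻¹ * (a⁻¹ * (c * b * c⁻¹ * b⁻¹)) := by group
          _ = c * a * c⁻¹ * (c * b * c⁻¹ * b⁻¹ * a⁻¹) := by rw [h2.eq]
          _ = c * (a * b) * c⁻¹ * (a * b)⁻¹ := by group
      inv_mem' := by
        rintro _ ⟨a, ha, rfl⟩
        refine ⟨a⁻¹, Z.inv_mem ha, ?_⟩
        have h2 : Commute a (c * a⁻¹ * c⁻¹) := hcomm _ ha _ (hcZ' _ (inv_mem ha))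
        calc (c * a * c⁻¹ * a⁻¹)⁻¹ = a * (c * a⁻¹ * c⁻¹) := by group
          _ = c * a⁻¹ * c⁻¹ * a⁻¹⁻¹ := by rw [h2.eq, inv_inv] }
  haveI : Fintype W := Fintype.ofFinite W
  have hWZ : W ≤ Z := by rintro _ ⟨z, hz, rfl⟩; exact mul_mem (hcZ' z hz) (inv_mem hz)
  have hWH : ¬ W ≤ H := fun h => hc ⟨hcZ, fun z hz => h ⟨z, hz, rfl⟩⟩
  have hcW : ∀ w ∈ W, c * w * c⁻¹ ∈ W := by
    rintro _ ⟨z, hz, rfl⟩
    exact ⟨c * z * c⁻¹, hcZ' z hz, by group⟩
  have hcWn : ∀ (i : ℕ), ∀ w ∈ W, c ^ i * w * (c ^ i)⁻¹ ∈ W := by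
    intro i
    induction i with
    | zero => simp
    | succ k ih =>
      intro w hw
      have e : c ^ (k + 1) * w * (c ^ (k + 1))⁻¹ = c * (c ^ k * w * (c ^ k)⁻¹) * c⁻¹ := by
        rw [pow_succ']; group
      rw [e]; exact hcW _ (ih w hw)
  -- no nontrivial element of W commutes with c
  have hWc : ∀ w ∈ W, c * w = w * c → w = 1 := by
    rintro w ⟨z, hz, hwz⟩ hcw
    have h1 := pow_conj_of_commute (z := z) hcw (by rw [hwz]; group) p
    rw [hcp, one_mul, inv_one, mul_one, eq_comm, mul_eq_right] at h1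
    have hwQ : w ∈ Q := S.zle (hWZ ⟨z, hz, hwz⟩)
    have h2 : (⟨w, hwQ⟩ : Q) ^ p = (1 : Q) ^ p := Subtype.ext (by simpa using h1)
    exact congrArg Subtype.val (pow_inj_of_coprime hpQ h2)
  have hcW' := S.copZ hWZ
  -- the norm over W kills U
  have hkill : ∀ v, U φ Z H v → ∏ w : W, φ w v = 1 := by
    intro v hv
    set x := ∏ w : W, φ w v with hx
    have hfW : ∀ m ∈ W, φ m x = x := by
      intro m hm
      rw [hx, map_prod]
      exact Fintype.prod_equiv (Equiv.mulLeft (⟨m, hm⟩ : W)) _ _ fun w => (act_mul φ m w v).symm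
    have hfH : ∀ m ∈ H, φ m x = x := by
      intro m hm
      rw [hx, map_prod]
      refine Finset.prod_congr rfl fun w _ => ?_
      rw [← act_mul, hcomm m (S.hle hm) w (hWZ w.2), act_mul, hv.1 m hm]
    have hfix : ∀ z ∈ Z, φ z x = x := by
      refine S.maximal (H ⊔ W) le_sup_left (sup_le S.hle hWZ)
        (fun h => hWH (le_sup_right.trans h)) x ?_
      let F : Subgroup Γ :=
        { carrier := {m | φ m x = x}
          one_mem' := by show φ 1 x = x; rw [map_one]; rfl
          mul_mem' := fun {a b} ha hb => by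
            show φ (a * b) x = x
            rw [act_mul, show φ b x = x from hb]; exact ha
          inv_mem' := fun {a} ha => by
            show φ a⁻¹ x = x
            conv_lhs => rw [← (show φ a x = x from ha)]
            rw [← act_mul, inv_mul_cancel, map_one]; rfl }
      exact fun m hm => (sup_le (a := H) (b := W) (c := F) hfH hfW) hm
    have h1 : ∏ z : Z, φ z x = 1 := by
      simp only [hx, map_prod]
      rw [Finset.prod_comm]
      refine Finset.prod_eq_one fun w _ => ?_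
      calc ∏ z : Z, φ z (φ w v) = φ w (∏ z : Z, φ z v) := by
            rw [map_prod]
            refine Finset.prod_congr rfl fun z _ => ?_
            rw [← act_mul, ← act_mul, hcomm z z.2 w (hWZ w.2)]
        _ = 1 := by rw [hv.2, map_one]
    rw [Finset.prod_congr rfl (fun (z : Z) _ => hfix z z.2), Finset.prod_const, Finset.card_univ,
      ← Nat.card_eq_fintype_card] at h1
    exact pow_inj_of_coprime (S.copZ (K := Z) le_rfl) (h1.trans (one_pow _).symm)
  have hyw : ∀ w ∈ W, y * w = w * y := fun w hw => (S.central w (hWZ hw) y hy).symm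
  refine ⟨hy, fun v hv => pow_inj_of_coprime hcW' ?_⟩
  -- v ^ |W| is a product of translates of c-fixed vectors
  let N : V → V := fun u => ∏ i ∈ Finset.range p, φ (c ^ i) u
  have hNfix : ∀ u, φ c (N u) = N u := by
    intro u
    simp only [N, map_prod, ← act_mul, ← pow_succ']
    obtain ⟨k, hk⟩ : ∃ k, p = k + 1 := ⟨p - 1, by have := hp.pos; omega⟩
    rw [hk] at hcp ⊢
    rw [Finset.prod_range_succ, Finset.prod_range_succ', hcp, pow_zero]
  have key : v ^ Nat.card W = ∏ w : W, φ w (N (φ (w : Γ)⁻¹ v)) := by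
    simp only [N, map_prod, ← act_mul]
    rw [Finset.prod_comm, ← Finset.mul_prod_erase _ _ (Finset.mem_range.2 hp.pos),
      Finset.prod_eq_one (s := (Finset.range p).erase 0) (fun i hi => ?_), mul_one]
    · simp [Finset.card_univ, ← Nat.card_eq_fintype_card]
    · rw [Finset.mem_erase, Finset.mem_range] at hi
      let f : W → W := fun w =>
        ⟨w * (c ^ i * (w : Γ)⁻¹ * (c ^ i)⁻¹), mul_mem w.2 (hcWn i _ (inv_mem w.2))⟩
      have hf : Function.Bijective f := Finite.injective_iff_bijective.1 fun a b hab => by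
        have h1 : (a : Γ) * (c ^ i * (a : Γ)⁻¹ * (c ^ i)⁻¹) =
            b * (c ^ i * (b : Γ)⁻¹ * (c ^ i)⁻¹) := congrArg Subtype.val hab
        have h2 : c ^ i * ((b : Γ)⁻¹ * a) = ((b : Γ)⁻¹ * a) * c ^ i := by
          calc c ^ i * ((b : Γ)⁻¹ * a)
              = (b : Γ)⁻¹ * (b * (c ^ i * (b : Γ)⁻¹ * (c ^ i)⁻¹)) * c ^ i * a := by group
            _ = (b : Γ)⁻¹ * (a * (c ^ i * (a : Γ)⁻¹ * (c ^ i)⁻¹)) * c ^ i * a := by rw [h1]
            _ = ((b : Γ)⁻¹ * a) * c ^ i := by group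
        have hco : (orderOf c).Coprime i := by
          have hd := orderOf_dvd_of_pow_eq_one hcp
          refine Nat.Coprime.coprime_dvd_left hd ((Nat.Prime.coprime_iff_not_dvd hp).2 fun h => ?_)
          have := Nat.le_of_dvd (Nat.pos_of_ne_zero hi.1) h
          omega
        obtain ⟨j, hj⟩ := exists_pow_eq_self_of_coprime hco.symm
        have h3 : c * ((b : Γ)⁻¹ * a) = ((b : Γ)⁻¹ * a) * c := by
          have h4 := ((show Commute (c ^ i) ((b : Γ)⁻¹ * a) from h2).pow_left j).eq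
          rwa [hj] at h4
        exact Subtype.ext (inv_mul_eq_one.1 (hWc _ (mul_mem (inv_mem b.2) a.2) h3)).symm
      calc ∏ w : W, φ (w * (c ^ i * (w : Γ)⁻¹)) v = ∏ w : W, φ (f w) (φ (c ^ i) v) := by
            refine Finset.prod_congr rfl fun w _ => ?_
            rw [← act_mul]; congr 2
            simp [f, mul_assoc]
        _ = ∏ w : W, φ w (φ (c ^ i) v) := hf.prod_comp (fun w : W => φ w (φ (c ^ i) v))
        _ = φ (c ^ i) (∏ w : W, φ w v) := by
            rw [map_prod]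
            let g : W → W := fun w => ⟨c ^ i * w * (c ^ i)⁻¹, hcWn i w w.2⟩
            have hg : Function.Bijective g := Finite.injective_iff_bijective.1 fun a b hab => by
              have h1 := congrArg Subtype.val hab
              simpa [g] using h1
            rw [← hg.prod_comp (fun w : W => φ w (φ (c ^ i) v))]
            refine Finset.prod_congr rfl fun w _ => ?_
            rw [← act_mul, ← act_mul]; congr 2
            simp [g]
        _ = 1 := by rw [hkill v hv, map_one]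
  calc (φ y v) ^ Nat.card W = φ y (v ^ Nat.card W) := (map_pow (φ y) v _).symm
    _ = ∏ w : W, φ y (φ w (N (φ (w : Γ)⁻¹ v))) := by rw [key, map_prod]
    _ = v ^ Nat.card W := by
        rw [key]
        refine Finset.prod_congr rfl fun w _ => ?_
        rw [← act_mul, hyw w w.2, act_mul, Hc y hy hcy _ (hNfix _)]

/-- Elements of `stab` acting trivially on `Q` modulo the kernel on `U`. -/
def triv (φ : Γ →* MulAut V) (Q Z H : Subgroup Γ) [Fintype Z] (hH : H ≤ Z) : Subgroup Γ where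
  carrier := {g | g ∈ stab Z H ∧ g ∈ normalizer (Q : Set Γ) ∧
    ∀ y ∈ Q, ∀ v, U φ Z H v → φ (g * y * g⁻¹) v = φ y v}
  one_mem' := ⟨one_mem _, one_mem _, fun y _ v _ => by simp⟩
  mul_mem' := by
    rintro g h ⟨hg1, hg2, hg3⟩ ⟨hh1, hh2, hh3⟩
    refine ⟨mul_mem hg1 hh1, mul_mem hg2 hh2, fun y hy v hv => ?_⟩
    rw [show g * h * y * (g * h)⁻¹ = g * (h * y * h⁻¹) * g⁻¹ by group,
      hg3 _ ((mem_normalizer_iff.1 hh2 y).1 hy) v hv, hh3 y hy v hv]
  inv_mem' := by
    rintro g ⟨hg1, hg2, hg3⟩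
    refine ⟨inv_mem hg1, inv_mem hg2, fun y hy v hv => ?_⟩
    have h := hg3 _ ((mem_normalizer_iff''.1 hg2 y).1 hy) v hv
    rw [show g * (g⁻¹ * y * g) * g⁻¹ = y by group] at h
    rw [inv_inv, h]

theorem Setup.commutator_mem [Fintype Z] (S : Setup φ q Q Z H) {y g : Γ} (hy : y ∈ Q)
    (hg : g ∈ triv φ Q Z H S.hle) : ⁅y, g⁆ ∈ fixU φ Q Z H := by
  have hgy : g * y⁻¹ * g⁻¹ ∈ Q := (mem_normalizer_iff.1 hg.2.1 _).1 (Q.inv_mem hy)
  refine ⟨by rw [commutatorElement_def,
    show y * g * y⁻¹ * g⁻¹ = y * (g * y⁻¹ * g⁻¹) by group]; exact Q.mul_mem hy hgy, fun v hv => ?_⟩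
  rw [commutatorElement_def, show y * g * y⁻¹ * g⁻¹ = y * (g * y⁻¹ * g⁻¹) by group, act_mul,
    hg.2.2 _ (Q.inv_mem hy) v hv, ← act_mul, mul_inv_cancel, map_one]
  rfl

/-- Each noncyclic elementary group of order `p²` without fixed points meets `triv`. -/
theorem Setup.exists_triv [Fintype Z] (S : Setup φ q Q Z H) {p : ℕ} [Fact p.Prime] (A : Subgroup Γ)
    [IsMulCommutative A] (hexp : ∀ x ∈ A, x ^ p = 1) (hcard : Nat.card A = p ^ 2)
    (hAQ : A ≤ normalizer (Q : Set Γ)) (hAZ : A ≤ normalizer (Z : Set Γ))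
    (hcop : (Nat.card Q).Coprime p)
    (hfix : ∀ z ∈ Z, (∀ c ∈ A, c * z = z * c) → z = 1)
    (hH : ∀ c ∈ A, c ≠ 1 → ∀ y ∈ Q, c * y = y * c → ∀ v, φ c v = v → φ y v = v) :
    ∃ c ∈ A, c ≠ 1 ∧ c ∈ triv φ Q Z H S.hle := by
  classical
  have hp : p.Prime := Fact.out
  have hcyc : ¬ IsCyclic A := by
    intro hc
    obtain ⟨g, hg⟩ := hc.exists_ofOrder_eq_natCard
    have h1 : orderOf g ∣ p := orderOf_dvd_of_pow_eq_one (Subtype.ext (hexp g g.2))
    rw [hg, hcard] at h1
    have := Nat.le_of_dvd hp.pos h1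
    have := hp.two_le
    nlinarith
  have hcopA : (Nat.card A).Coprime (Nat.card Q) := by rw [hcard]; exact hcop.symm.pow_left 2
  -- A does not act trivially on Z / H
  have hAS : ¬ A ≤ stab Z H := by
    intro hAS
    haveI : IsMulCommutative Z :=
      ⟨⟨fun a b => Subtype.ext (S.central a a.2 b (S.zle b.2))⟩⟩
    have hsol : Group.IsSolvable Z := Group.isSolvable_of_comm fun a b => mul_comm' a b
    have hsup := Cfsg.Agent.Solv.commutator_sup_centralizer A Z hAZ
      (hcopA.coprime_dvd_right (card_dvd_of_le S.zle)) (Or.inr hsol)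
    have hbot : Z ⊓ centralizer (A : Set Γ) = ⊥ :=
      (eq_bot_iff_forall _).2 fun z hz => hfix z hz.1 fun c hc => mem_centralizer_iff.1 hz.2 c hc
    rw [hbot, sup_bot_eq] at hsup
    have hle : Z ≤ H := by
      rw [← hsup, commutator_le]
      intro z hz c hc
      have h1 := (hAS hc).2 z hz
      have e : ⁅z, c⁆ = (c * z * c⁻¹ * z⁻¹)⁻¹ := by rw [commutatorElement_def]; group
      rw [e]; exact inv_mem h1
    obtain ⟨v, hv, z, hz, hne⟩ := S.moved
    exact hne (hv z (hle hz))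
  by_cases h0 : ∀ c ∈ A, c ≠ 1 → c ∉ stab Z H
  · refine absurd ?_ S.not_le_fixU
    refine Cfsg.Agent.Local.CoprimeGen.le_of_centralizers A Q _ hcyc hAQ hcopA fun c hc hc1 => ?_
    rintro y ⟨hy, hyc⟩
    exact S.fix_of_not_stab hcop (hexp c hc) (hAZ hc) (h0 c hc hc1) (hH c hc hc1) hy
      (mem_centralizer_singleton_iff.1 hyc).symm
  · push Not at h0
    obtain ⟨c0, hc0, hc01, hc0S⟩ := h0
    refine ⟨c0, hc0, hc01, hc0S, hAQ hc0, ?_⟩
    have huniq : ∀ c ∈ A, c ∈ stab Z H → c ∈ zpowers c0 := by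
      intro c hc hcS
      by_contra hcc
      refine hAS ?_
      have hle : zpowers c0 ≤ A ⊓ stab Z H := zpowers_le.2 ⟨hc0, hc0S⟩
      obtain ⟨k, hk, hd⟩ := (Nat.dvd_prime_pow hp).1
        (hcard ▸ card_dvd_of_le (inf_le_left : A ⊓ stab Z H ≤ A))
      have hlt : p < Nat.card (A ⊓ stab Z H : Subgroup Γ) := by
        have ho : orderOf c0 = p := orderOf_eq_prime (hexp c0 hc0) hc01
        by_contra hle'
        push Not at hle'
        have := eq_of_le_of_card_ge hle (by rw [Nat.card_zpowers, ho]; exact hle')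
        exact hcc (this ▸ (⟨hc, hcS⟩ : c ∈ A ⊓ stab Z H))
      have hk2 : k = 2 := by
        rcases k with _ | _ | k
        · rw [hd, pow_zero] at hlt; have := hp.two_le; omega
        · rw [hd, pow_one] at hlt; omega
        · omega
      have := eq_of_le_of_card_ge (inf_le_left : A ⊓ stab Z H ≤ A) (by rw [hd, hk2, hcard])
      exact this ▸ inf_le_right
    let K0 : Subgroup Γ :=
      { carrier := {y | y ∈ Q ∧ ∀ v, U φ Z H v → φ (c0 * y * c0⁻¹) v = φ y v}
        one_mem' := ⟨Q.one_mem, fun v _ => by simp⟩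
        mul_mem' := by
          rintro a b ⟨ha, ha'⟩ ⟨hb, hb'⟩
          refine ⟨Q.mul_mem ha hb, fun v hv => ?_⟩
          rw [show c0 * (a * b) * c0⁻¹ = c0 * a * c0⁻¹ * (c0 * b * c0⁻¹) by group, act_mul,
            hb' v hv, ha' _ (U_act S.hle (S.le_stab hb) hv), ← act_mul]
        inv_mem' := by
          rintro a ⟨ha, ha'⟩
          refine ⟨Q.inv_mem ha, fun v hv => ?_⟩
          have h := ha' _ (U_act S.hle (S.le_stab (Q.inv_mem ha)) hv)
          rw [← act_mul φ a a⁻¹, mul_inv_cancel, map_one] at h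
          conv_lhs => rw [show v = (1 : MulAut V) v from rfl, ← h]
          rw [← act_mul, show c0 * a⁻¹ * c0⁻¹ * (c0 * a * c0⁻¹) = 1 by group, map_one]
          rfl }
    intro y hy
    suffices hle : Q ≤ K0 from (hle hy).2
    refine Cfsg.Agent.Local.CoprimeGen.le_of_centralizers A Q _ hcyc hAQ hcopA fun c hc hc1 => ?_
    rintro x ⟨hx, hxc⟩
    have hcx : c * x = x * c := (mem_centralizer_singleton_iff.1 hxc).symm
    refine ⟨hx, fun v hv => ?_⟩
    by_cases hcS : c ∈ stab Z H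
    · have ho : orderOf c0 = p := orderOf_eq_prime (hexp c0 hc0) hc01
      have hz : zpowers c = zpowers c0 :=
        eq_of_le_of_card_ge (zpowers_le.2 (huniq c hc hcS))
          (by rw [Nat.card_zpowers, Nat.card_zpowers, ho, orderOf_eq_prime (hexp c hc) hc1])
      obtain ⟨k, hk⟩ := mem_zpowers_iff.1 (hz ▸ mem_zpowers c0 : c0 ∈ zpowers c)
      have h1 : Commute c0 x := hk ▸ (show Commute c x from hcx).zpow_left k
      rw [h1.eq, mul_inv_cancel_right]
    · have hf : ∀ {y : Γ}, y ∈ Q → c * y = y * c → y ∈ fixU φ Q Z H :=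
        S.fix_of_not_stab hcop (hexp c hc) (hAZ hc) hcS (hH c hc hc1)
      have hx' : c0 * x * c0⁻¹ ∈ Q := (mem_normalizer_iff.1 (hAQ hc0) x).1 hx
      have hcc0 : Commute c c0 :=
        congrArg Subtype.val (mul_comm' (⟨c, hc⟩ : A) ⟨c0, hc0⟩)
      have hcx' : c * (c0 * x * c0⁻¹) = c0 * x * c0⁻¹ * c :=
        ((hcc0.mul_right (show Commute c x from hcx)).mul_right hcc0.inv_right).eq
      rw [(hf hx hcx).2 v hv, (hf hx' hcx').2 v hv]

omit [Finite V] in
theorem exists_setup [Finite V] {Q : Subgroup Γ} {q : ℕ} [Fact q.Prime] (hQ : IsPGroup q Q) (hne : Q ≠ ⊥)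
    (hcV : (Nat.card V).Coprime (Nat.card Q)) (hf : ∀ y ∈ Q, φ y = 1 → y = 1) :
    ∃ Z H : Subgroup Γ, Setup φ q Q Z H ∧
      ∀ g ∈ normalizer (Q : Set Γ), g ∈ normalizer (Z : Set Γ) := by
  classical
  set Z := Q ⊓ centralizer (Q : Set Γ) with hZ
  have hn : ∀ g ∈ normalizer (Q : Set Γ), g ∈ normalizer (Z : Set Γ) := by
    intro g hg
    have hgQ := mem_normalizer_iff.1 hg
    refine mem_normalizer_iff.2 fun z => ⟨fun hz => ?_, fun hz => ?_⟩
    · refine ⟨(hgQ z).1 hz.1, mem_centralizer_iff.2 fun y hy => ?_⟩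
      have h := mem_centralizer_iff.1 hz.2 (g⁻¹ * y * g)
        ((hgQ _).2 (by rw [show g * (g⁻¹ * y * g) * g⁻¹ = y by group]; exact hy))
      calc y * (g * z * g⁻¹) = g * (g⁻¹ * y * g * z) * g⁻¹ := by group
        _ = g * (z * (g⁻¹ * y * g)) * g⁻¹ := by rw [h]
        _ = g * z * g⁻¹ * y := by group
    · refine ⟨(hgQ z).2 hz.1, mem_centralizer_iff.2 fun y hy => ?_⟩
      have h := mem_centralizer_iff.1 hz.2 _ ((hgQ y).1 hy)
      calc y * z = g⁻¹ * (g * y * g⁻¹ * (g * z * g⁻¹)) * g := by group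
        _ = g⁻¹ * (g * z * g⁻¹ * (g * y * g⁻¹)) * g := by rw [h]
        _ = z * y := by group
  have hZne : ∃ z ∈ Z, z ≠ 1 := by
    haveI : Nontrivial Q := (nontrivial_iff_ne_bot Q).2 hne
    haveI := hQ.center_nontrivial
    obtain ⟨⟨⟨z, hzQ⟩, hz⟩, hz1⟩ := exists_ne (1 : Subgroup.center Q)
    refine ⟨z, ⟨hzQ, mem_centralizer_iff.2 fun y hy =>
      congrArg Subtype.val (Subgroup.mem_center_iff.1 hz ⟨y, hy⟩)⟩, fun h => hz1 ?_⟩
    exact Subtype.ext (Subtype.ext h)
  let P : Subgroup Γ → Prop :=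
    fun M => M ≤ Z ∧ ∃ v : V, (∀ h ∈ M, φ h v = v) ∧ ∃ z ∈ Z, φ z v ≠ v
  have hP : P ⊥ := by
    refine ⟨bot_le, ?_⟩
    obtain ⟨z, hz, hz1⟩ := hZne
    have h : φ z ≠ 1 := fun h => hz1 (hf z hz.1 h)
    obtain ⟨v, hv⟩ : ∃ v, φ z v ≠ v := by
      by_contra hcon
      push Not at hcon
      exact h (MulEquiv.ext hcon)
    exact ⟨v, fun h hh => by rw [mem_bot.1 hh, map_one]; rfl, z, hz, hv⟩
  obtain ⟨H, hH⟩ := (Set.toFinite {M | P M}).exists_maximal ⟨⊥, hP⟩
  refine ⟨Z, H, ⟨hQ, inf_le_left, fun z hz y hy => (mem_centralizer_iff.1 hz.2 y hy).symm,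
    hH.1.1, hH.1.2, fun M hHM hMZ hM v hv z hz => ?_, hcV⟩, hn⟩
  by_contra hne'
  exact hM (hH.2 (⟨hMZ, v, hv, z, hz, hne'⟩ : P M) hHM)

/-- The configuration `V`, `Q`, `R`, `A` of Ward's theorem is impossible. -/
theorem module_core {p q : ℕ} [Fact p.Prime] [Fact q.Prime] (A Q R : Subgroup Γ)
    [IsMulCommutative A] (hexp : ∀ x ∈ A, x ^ p = 1) (hcard : Nat.card A = p ^ 2)
    (hAQ : A ≤ normalizer (Q : Set Γ)) (hAR : A ≤ normalizer (R : Set Γ))
    (hRQ : R ≤ normalizer (Q : Set Γ)) (hQp : IsPGroup q Q)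
    (hqV : (Nat.card V).Coprime (Nat.card Q)) (hcQ : (Nat.card Q).Coprime p)
    (hcR : (Nat.card R).Coprime p)
    (hfix : ∀ y ∈ Q, (∀ c ∈ A, c * y = y * c) → y = 1)
    (hfixR : ∀ y ∈ R, (∀ c ∈ A, c * y = y * c) → y = 1)
    {a : Γ} (ha : a ∈ A) (ha1 : a ≠ 1) (haR : ∀ r ∈ R, a * r = r * a)
    (hQa : Q ≤ ⁅Q, zpowers a⁆) (hQR : Q ≤ ⁅Q, R⁆)
    (H : ∀ c ∈ A, c ≠ 1 → ∀ y ∈ Q, c * y = y * c → ∀ v, φ c v = v → φ y v = v)
    (hf : ∀ y ∈ Q, φ y = 1 → y = 1) : Q = ⊥ := by
  classical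
  by_contra hne
  obtain ⟨Z, H0, S, hZn⟩ := exists_setup (φ := φ) hQp hne hqV hf
  haveI : Fintype Z := Fintype.ofFinite Z
  have hp : p.Prime := Fact.out
  set T := triv φ Q Z H0 S.hle with hT
  have hcomm : ∀ x ∈ A, ∀ y ∈ A, x * y = y * x := fun x hx y hy =>
    congrArg Subtype.val (mul_comm' (⟨x, hx⟩ : A) ⟨y, hy⟩)
  have hord : ∀ x ∈ A, x ≠ 1 → orderOf x = p := fun x hx h1 => orderOf_eq_prime (hexp x hx) h1
  have haT : a ∉ T := by
    intro h
    refine S.not_le_fixU (hQa.trans (commutator_le.2 fun y hy g hg => S.commutator_mem hy ?_))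
    exact (zpowers_le.2 h) hg
  have hRT : ¬ R ≤ T := fun h =>
    S.not_le_fixU (hQR.trans (commutator_le.2 fun y hy g hg => S.commutator_mem hy (h hg)))
  -- every conjugate of A by an element of R meets T outside the trivial subgroup
  have hconj : ∀ r ∈ R, ∃ c ∈ A, c ≠ 1 ∧ r * c * r⁻¹ ∈ T := by
    intro r hr
    set A' := A.map (MulAut.conj r).toMonoidHom with hA'
    have hmem : ∀ x, x ∈ A' ↔ ∃ c ∈ A, r * c * r⁻¹ = x := fun x => by
      simp [hA', MulAut.conj_apply]
    haveI : IsMulCommutative A' := ⟨⟨fun x y => by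
      obtain ⟨c, hc, hx⟩ := (hmem x).1 x.2
      obtain ⟨d, hd, hy⟩ := (hmem y).1 y.2
      apply Subtype.ext
      show (x : Γ) * y = y * x
      rw [← hx, ← hy]
      calc r * c * r⁻¹ * (r * d * r⁻¹) = r * (c * d) * r⁻¹ := by group
        _ = r * (d * c) * r⁻¹ := by rw [hcomm c hc d hd]
        _ = r * d * r⁻¹ * (r * c * r⁻¹) := by group⟩⟩
    have hnQ : A' ≤ normalizer (Q : Set Γ) := by
      intro x hx
      obtain ⟨c, hc, rfl⟩ := (hmem x).1 hx
      exact mul_mem (mul_mem (hRQ hr) (hAQ hc)) (inv_mem (hRQ hr))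
    obtain ⟨x, hx, hx1, hxT⟩ := S.exists_triv A' (fun x hx => by
        obtain ⟨c, hc, rfl⟩ := (hmem x).1 hx
        rw [conj_pow, hexp c hc]; group)
      (by rw [hA', card_map_of_injective (MulEquiv.injective _), hcard]) hnQ
      (fun x hx => hZn x (hnQ hx)) hcQ
      (fun z hz hc => by
        have h := hfix (r⁻¹ * z * r)
          ((mem_normalizer_iff''.1 (hRQ hr) z).1 (S.zle hz)) (fun c hc' => by
            have h1 := hc _ ((hmem _).2 ⟨c, hc', rfl⟩)
            calc c * (r⁻¹ * z * r) = r⁻¹ * (r * c * r⁻¹ * z) * r := by group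
              _ = r⁻¹ * (z * (r * c * r⁻¹)) * r := by rw [h1]
              _ = r⁻¹ * z * r * c := by group)
        calc z = r * (r⁻¹ * z * r) * r⁻¹ := by group
          _ = 1 := by rw [h]; group)
      (fun x hx hx1 y hy hxy v hv => by
        obtain ⟨c, hc, rfl⟩ := (hmem x).1 hx
        have hc1 : c ≠ 1 := fun e => hx1 (by rw [e]; group)
        have h1 := H c hc hc1 (r⁻¹ * y * r) ((mem_normalizer_iff''.1 (hRQ hr) y).1 hy) (by
          calc c * (r⁻¹ * y * r) = r⁻¹ * (r * c * r⁻¹ * y) * r := by group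
            _ = r⁻¹ * (y * (r * c * r⁻¹)) * r := by rw [hxy]
            _ = r⁻¹ * y * r * c := by group) (φ r⁻¹ v) (by
          rw [← act_mul, show c * r⁻¹ = r⁻¹ * (r * c * r⁻¹) by group, act_mul, hv])
        rw [← act_mul, show r⁻¹ * y * r * r⁻¹ = r⁻¹ * y by group, act_mul] at h1
        exact (φ r⁻¹).injective h1)
    obtain ⟨c, hc, rfl⟩ := (hmem x).1 hx
    exact ⟨c, hc, fun e => hx1 (by rw [e]; group), hxT⟩
  obtain ⟨b, hb, hb1, hbT⟩ := hconj 1 R.one_mem
  rw [one_mul, inv_one, mul_one] at hbT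
  have hab : b ∉ zpowers a := by
    intro h
    have e : zpowers b = zpowers a := eq_of_le_of_card_ge (zpowers_le.2 h)
      (by rw [Nat.card_zpowers, Nat.card_zpowers, hord a ha ha1, hord b hb hb1])
    exact haT ((zpowers_le.2 hbT) (e ▸ mem_zpowers a))
  have hgen : zpowers a ⊔ zpowers b = A := by
    have hle : zpowers a ⊔ zpowers b ≤ A := sup_le (zpowers_le.2 ha) (zpowers_le.2 hb)
    refine eq_of_le_of_card_ge hle ?_
    obtain ⟨k, hk, hd⟩ := (Nat.dvd_prime_pow hp).1 (hcard ▸ card_dvd_of_le hle)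
    have hlt : p < Nat.card (zpowers a ⊔ zpowers b : Subgroup Γ) := by
      by_contra h
      push Not at h
      have := eq_of_le_of_card_ge (le_sup_left : zpowers a ≤ zpowers a ⊔ zpowers b)
        (by rw [Nat.card_zpowers, hord a ha ha1]; exact h)
      exact hab (this ▸ mem_sup_right (mem_zpowers b))
    rw [hd, hcard]
    rcases k with _ | _ | k
    · rw [hd, pow_zero] at hlt; have := hp.two_le; omega
    · rw [hd, pow_one] at hlt; omega
    · exact Nat.pow_le_pow_right hp.pos (by omega)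
  have hsplit : ∀ c ∈ A, ∃ i j : ℤ, c = a ^ i * b ^ j := by
    let M : Subgroup Γ :=
      { carrier := {c | ∃ i j : ℤ, c = a ^ i * b ^ j}
        one_mem' := ⟨0, 0, by simp⟩
        mul_mem' := by
          rintro _ _ ⟨i, j, rfl⟩ ⟨i', j', rfl⟩
          refine ⟨i + i', j + j', ?_⟩
          have h := ((show Commute b a from hcomm b hb a ha).zpow_zpow j i').eq
          calc a ^ i * b ^ j * (a ^ i' * b ^ j') = a ^ i * (b ^ j * a ^ i') * b ^ j' := by group
            _ = a ^ i * (a ^ i' * b ^ j) * b ^ j' := by rw [h]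
            _ = a ^ (i + i') * b ^ (j + j') := by group
        inv_mem' := by
          rintro _ ⟨i, j, rfl⟩
          refine ⟨-i, -j, ?_⟩
          rw [mul_inv_rev, zpow_neg, zpow_neg]
          exact ((show Commute b a from hcomm b hb a ha).zpow_zpow j i).inv_inv.eq }
    intro c hc
    rw [← hgen] at hc
    exact (sup_le (a := zpowers a) (b := zpowers b) (c := M) (zpowers_le.2 ⟨1, 0, by simp⟩)
      (zpowers_le.2 ⟨0, 1, by simp⟩)) hc
  apply hRT
  intro s hs
  -- the map r ↦ r b r⁻¹ b⁻¹ is onto R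
  have hbR : ∀ r ∈ R, b * r * b⁻¹ ∈ R := fun r hr => (mem_normalizer_iff.1 (hAR hb) r).1 hr
  let f : R → R := fun r => ⟨r * (b * (r : Γ)⁻¹ * b⁻¹), mul_mem r.2 (hbR _ (inv_mem r.2))⟩
  have hf' : Function.Bijective f := Finite.injective_iff_bijective.1 fun x y hxy => by
    have h1 : (x : Γ) * (b * (x : Γ)⁻¹ * b⁻¹) = y * (b * (y : Γ)⁻¹ * b⁻¹) :=
      congrArg Subtype.val hxy
    have h2 : b * ((y : Γ)⁻¹ * x) = ((y : Γ)⁻¹ * x) * b := by
      calc b * ((y : Γ)⁻¹ * x) = (y : Γ)⁻¹ * (y * (b * (y : Γ)⁻¹ * b⁻¹)) * b * x := by group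
        _ = (y : Γ)⁻¹ * (x * (b * (x : Γ)⁻¹ * b⁻¹)) * b * x := by rw [h1]
        _ = ((y : Γ)⁻¹ * x) * b := by group
    have hm : (y : Γ)⁻¹ * x ∈ R := mul_mem (inv_mem y.2) x.2
    refine Subtype.ext (inv_mul_eq_one.1 (hfixR _ hm fun c hc => ?_)).symm
    obtain ⟨i, j, rfl⟩ := hsplit c hc
    exact (((show Commute a _ from haR _ hm).zpow_left i).mul_left
      ((show Commute b _ from h2).zpow_left j)).eq
  obtain ⟨⟨r, hr⟩, hr'⟩ := hf'.2 ⟨s, hs⟩
  have hs' : s = r * (b * r⁻¹ * b⁻¹) := (congrArg Subtype.val hr').symm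
  obtain ⟨c, hc, hc1, hcT⟩ := hconj r hr
  obtain ⟨i, j, hcij⟩ := hsplit c hc
  -- some power of the conjugate is r aᵏ b r⁻¹
  have hbj : b ^ j ≠ 1 := by
    intro h
    rw [h, mul_one] at hcij
    have e : r * c * r⁻¹ = c := by
      rw [hcij, ← ((show Commute a r from haR r hr).zpow_left i).eq, mul_inv_cancel_right]
    rw [e] at hcT
    have e' : zpowers c = zpowers a := eq_of_le_of_card_ge
      (zpowers_le.2 (hcij ▸ zpow_mem (mem_zpowers a) i))
      (by rw [Nat.card_zpowers, Nat.card_zpowers, hord a ha ha1, hord c hc hc1])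
    exact haT ((zpowers_le.2 hcT) (e' ▸ mem_zpowers a))
  obtain ⟨m, hm⟩ : ∃ m : ℤ, (b ^ j) ^ m = b := by
    have e : zpowers (b ^ j) = zpowers b := eq_of_le_of_card_ge
      (zpowers_le.2 (zpow_mem (mem_zpowers b) j))
      (by rw [Nat.card_zpowers, Nat.card_zpowers, hord b hb hb1, hord _ (zpow_mem hb j) hbj])
    exact mem_zpowers_iff.1 (e.symm ▸ mem_zpowers b)
  have hk : (r * a ^ (i * m) * b * r⁻¹) ∈ T := by
    have h1 : c ^ m = a ^ (i * m) * b := by
      rw [hcij, ((show Commute a b from hcomm a ha b hb).zpow_zpow i j).mul_zpow, hm, zpow_mul]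
    have h2 := zpow_mem hcT m
    rw [conj_zpow, h1, ← mul_assoc] at h2
    exact h2
  have hsa : Commute (a ^ (i * m)) s := ((show Commute a s from haR s hs).zpow_left _)
  have hsT : a ^ (i * m) * s ∈ T := by
    have h1 := mul_mem hk (inv_mem hbT)
    have e : r * a ^ (i * m) * b * r⁻¹ * b⁻¹ = a ^ (i * m) * s := by
      rw [← ((show Commute a r from haR r hr).zpow_left (i * m)).eq, hs']
      group
    rwa [e] at h1
  have hap : (a ^ (i * m)) ^ p = 1 := hexp _ (zpow_mem ha _)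
  have hsp : s ^ p ∈ T := by
    have h1 := pow_mem hsT p
    rwa [hsa.mul_pow, hap, one_mul] at h1
  obtain ⟨k, hk'⟩ := exists_pow_eq_self_of_coprime (x := s) (n := p)
    ((hcR.coprime_dvd_left (Subgroup.orderOf_dvd_natCard _ hs)).symm)
  exact hk' ▸ pow_mem hsp k

end Module

universe u

/-- A solvable group is nilpotent when, for all primes `q ≠ r`, its `r`-elements centralize
`O_q`. -/
theorem isNilpotent_of_centralizes_pCore {G : Type u} [Group G] [Finite G] [Group.IsSolvable G]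
    (h : ∀ q r : ℕ, q.Prime → r.Prime → q ≠ r → ∀ x : G, (∃ k, orderOf x = r ^ k) →
      ∀ z ∈ Cfsg.pCore q G, x * z = z * x) : Group.IsNilpotent G := by
  classical
  refine ((Group.isNilpotent_of_finite_tfae (G := G)).out 0 3 rfl rfl).mpr ?_
  intro r hr P
  haveI : Fact r.Prime := hr
  have hr' : r.Prime := hr.out
  -- it is enough that every Sylow subgroup normalizes P
  refine normalizer_eq_top_iff.1 (index_eq_one.1 ?_)
  by_contra hne
  obtain ⟨t, ht, hd⟩ := Nat.exists_prime_and_dvd hne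
  haveI : Fact t.Prime := ⟨ht⟩
  rcases eq_or_ne t r with rfl | htr
  · exact P.not_dvd_index (hd.trans (index_dvd_of_le le_normalizer))
  obtain ⟨T⟩ := Sylow.nonempty (p := t) (G := G)
  refine T.not_dvd_index (hd.trans (index_dvd_of_le fun y hy => ?_))
  have hyo : ∃ k, orderOf y = t ^ k := by
    obtain ⟨k, hk⟩ := IsPGroup.iff_orderOf.1 T.isPGroup' ⟨y, hy⟩
    exact ⟨k, by rw [← hk, Subgroup.orderOf_mk]⟩
  have hstep : ∀ x ∈ (P : Subgroup G), y * x * y⁻¹ ∈ (P : Subgroup G) := by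
    intro x hx
    have hxo : ∃ k, orderOf x = r ^ k := by
      obtain ⟨k, hk⟩ := IsPGroup.iff_orderOf.1 P.isPGroup' ⟨x, hx⟩
      exact ⟨k, by rw [← hk, Subgroup.orderOf_mk]⟩
    have hwo : ∃ k, orderOf (y * x * y⁻¹) = r ^ k := by
      obtain ⟨k, hk⟩ := hxo
      exact ⟨k, by rw [← hk]; exact MulEquiv.orderOf_eq (MulAut.conj y) x⟩
    set w := y * x * y⁻¹ with hw
    set O := Cfsg.pCore r G
    set M : Subgroup G := Cfsg.pPrimeCore r G ⊓ Cfsg.fittingSubgroup G
    have hxz : ∀ q : ℕ, q.Prime → ∀ v ∈ Cfsg.pCore q G, w * x⁻¹ * v = v * (w * x⁻¹) := by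
      intro q hq v hv
      rcases eq_or_ne q r with rfl | hqr
      · -- y centralizes O_r, and x normalizes it
        have hy' : ∀ u ∈ Cfsg.pCore q G, y * u = u * y := h q t hq ht htr.symm y hyo
        have hn : (Cfsg.pCore q G).Normal := (by haveI := Cfsg.Agent.Solv.pCore_characteristic q G; infer_instance)
        have h1 : x⁻¹ * v * x ∈ Cfsg.pCore q G := by simpa using hn.conj_mem v hv x⁻¹
        have hyv : y⁻¹ * v = v * y⁻¹ := ((show Commute y v from hy' v hv).inv_left).eq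
        have hyu : y⁻¹ * (x⁻¹ * v * x) = x⁻¹ * v * x * y⁻¹ :=
          ((show Commute y _ from hy' _ h1).inv_left).eq
        calc w * x⁻¹ * v = y * x * (y⁻¹ * (x⁻¹ * v * x)) * x⁻¹ := by rw [hw]; group
          _ = y * x * (x⁻¹ * v * x * y⁻¹) * x⁻¹ := by rw [hyu]
          _ = y * v * (x * y⁻¹ * x⁻¹) := by group
          _ = v * y * (x * y⁻¹ * x⁻¹) := by rw [hy' v hv]
          _ = v * (w * x⁻¹) := by rw [hw]; group
      · exact (((show Commute w v from h q r hq hr' hqr w hwo v hv)).mul_left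
          (show Commute x v from h q r hq hr' hqr x hxo v hv).inv_left).eq
    have hzC : w * x⁻¹ ∈ centralizer (Cfsg.fittingSubgroup G : Set G) := by
      rw [mem_centralizer_iff]
      intro v hv
      have hle : Cfsg.fittingSubgroup G ≤ centralizer ({w * x⁻¹} : Set G) := by
        rw [Cfsg.Agent.Solv.fittingSubgroup_eq_iSup_pCore]
        exact iSup_le fun q u hu => mem_centralizer_singleton_iff.2 (hxz q q.2 u hu).symm
      exact mem_centralizer_singleton_iff.1 (hle hv)
    have hzF := Cfsg.Agent.Solv.centralizer_fittingSubgroup_le hzC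
    haveI : (Cfsg.pCore r G).Normal := (by haveI := Cfsg.Agent.Solv.pCore_characteristic r G; infer_instance)
    let K : Subgroup G := ⨆ q : {q : Nat.Primes // (q : ℕ) ≠ r}, Cfsg.pCore (q : Nat.Primes) G
    have hFle : Cfsg.fittingSubgroup G ≤ O ⊔ K := by
      rw [Cfsg.Agent.Solv.fittingSubgroup_eq_iSup_pCore]
      refine iSup_le fun q => ?_
      rcases eq_or_ne (q : ℕ) r with e | e
      · rw [e]; exact le_sup_left
      · exact le_sup_of_le_right (le_iSup (fun q : {q : Nat.Primes // (q : ℕ) ≠ r} =>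
          Cfsg.pCore (q : Nat.Primes) G) ⟨q, e⟩)
    obtain ⟨u, hu, m, hm, hum⟩ := mem_sup_of_normal_left.1 (hFle hzF)
    have hKx : ∀ e : G, (∃ k, orderOf e = r ^ k) → Commute e m := by
      intro e he
      have hle : K ≤ centralizer ({e} : Set G) := iSup_le fun q v hv =>
        mem_centralizer_singleton_iff.2 (h _ r q.1.2 hr' q.2 e he v hv).symm
      exact (mem_centralizer_singleton_iff.1 (hle hm)).symm
    have hKr : (orderOf m).Coprime r := by
      have hle : K ≤ Cfsg.pPrimeCore r G := iSup_le fun q => by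
        haveI : Fact ((q : Nat.Primes) : ℕ).Prime := ⟨q.1.2⟩
        haveI : (Cfsg.pCore (q : Nat.Primes) G).Normal :=
          (by haveI := Cfsg.Agent.Solv.pCore_characteristic ((q : Nat.Primes) : ℕ) G; infer_instance)
        refine Cfsg.Agent.Solv.le_pPrimeCore ?_
        obtain ⟨j, hj⟩ := (IsPGroup.iff_card (p := ((q : Nat.Primes) : ℕ))).1
          (Cfsg.Agent.Solv.isPGroup_pCore _ G)
        rw [hj]
        exact ((Nat.coprime_primes q.1.2 hr').2 q.2).pow_left j
      exact (Cfsg.Agent.Solv.card_pPrimeCore_coprime r G).coprime_dvd_left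
        (Subgroup.orderOf_dvd_natCard _ (hle hm))
    have huP : u ∈ (P : Subgroup G) := Cfsg.Agent.Solv.pCore_le_sylow P hu
    have huo : ∃ k, orderOf u = r ^ k := by
      obtain ⟨k, hk⟩ := IsPGroup.iff_orderOf.1 P.isPGroup' ⟨u, huP⟩
      exact ⟨k, by rw [← hk, Subgroup.orderOf_mk]⟩
    have huxo : ∃ k, orderOf (u * x) = r ^ k := by
      obtain ⟨k, hk⟩ := IsPGroup.iff_orderOf.1 P.isPGroup'
        ⟨u * x, (P : Subgroup G).mul_mem huP hx⟩
      exact ⟨k, by rw [← hk, Subgroup.orderOf_mk]⟩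
    have hwm : w = m * (u * x) := by
      calc w = w * x⁻¹ * x := by group
        _ = u * m * x := by rw [hum]
        _ = m * (u * x) := by rw [(hKx u huo).eq, mul_assoc]
    have hm1 : m = 1 := by
      obtain ⟨i, hi⟩ := hwo
      obtain ⟨j, hj⟩ := huxo
      have he : m = w * (u * x)⁻¹ := by rw [hwm]; group
      have hc : Commute w (u * x)⁻¹ := by
        refine Commute.inv_right ?_
        rw [hwm]
        exact ((hKx _ ⟨j, hj⟩).symm).mul_left (Commute.refl _)
      have hd : orderOf m ∣ r ^ (i + j) := by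
        rw [he, orderOf_dvd_iff_pow_eq_one, hc.mul_pow, pow_add]
        rw [orderOf_dvd_iff_pow_eq_one.1 (hi ▸ dvd_mul_right (r ^ i) (r ^ j)), one_mul, inv_pow,
          orderOf_dvd_iff_pow_eq_one.1 (hj ▸ dvd_mul_left (r ^ j) (r ^ i)), inv_one]
      exact orderOf_eq_one_iff.1 (Nat.eq_one_of_dvd_coprimes (hKr.pow_right (i + j)) dvd_rfl hd)
    rw [hwm, hm1, one_mul]
    exact (P : Subgroup G).mul_mem huP hx
  rw [mem_normalizer_iff_map_conj_eq]
  refine eq_of_le_of_card_ge (map_le_iff_le_comap.2 fun x hx => hstep x hx) ?_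
  rw [card_map_of_injective (MulEquiv.injective _)]

/-- Centralizers of nontrivial elements of `A` are nilpotent. -/
theorem nilpotent_centralizer {Γ : Type u} [Group Γ] [Finite Γ] {p : ℕ} [Fact p.Prime]
    (G A : Subgroup Γ) [G.Normal] [IsMulCommutative A] (hexp : ∀ x ∈ A, x ^ p = 1)
    (hcard : Nat.card A = p ^ 2) (hfix : ∀ y ∈ G, (∀ c ∈ A, c * y = y * c) → y = 1)
    {c b : Γ} (hc : c ∈ A) (hc1 : c ≠ 1) (hb : b ∈ A) (hbc : b ∉ zpowers c) :
    Group.IsNilpotent ↥(G ⊓ centralizer ({c} : Set Γ)) := by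
  classical
  have hp : p.Prime := Fact.out
  have hcomm : ∀ x ∈ A, ∀ y ∈ A, x * y = y * x := fun x hx y hy =>
    congrArg Subtype.val (mul_comm' (⟨x, hx⟩ : A) ⟨y, hy⟩)
  set L := G ⊓ centralizer ({c} : Set Γ) with hL
  have hbn : b ∈ normalizer (L : Set Γ) := by
    rw [mem_normalizer_iff_map_conj_eq]
    refine eq_of_le_of_card_ge (map_le_iff_le_comap.2 fun x hx => ?_)
      (by rw [card_map_of_injective (MulEquiv.injective _)])
    refine ⟨(inferInstance : G.Normal).conj_mem x hx.1 b, mem_centralizer_singleton_iff.2 ?_⟩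
    have hx2 := mem_centralizer_singleton_iff.1 hx.2
    have hcb := hcomm c hc b hb
    show b * x * b⁻¹ * c = c * (b * x * b⁻¹)
    exact (((show Commute b c from hcb.symm).mul_left (show Commute x c from hx2)).mul_left
      (show Commute b c from hcb.symm).inv_left).eq
  let β : L ≃* L := (Cfsg.Agent.Solv.conjHom (zpowers b) L (zpowers_le.2 hbn))
    ⟨b, mem_zpowers b⟩
  have hβ : ∀ x : L, ((β x : L) : Γ) = b * x * b⁻¹ := fun x => rfl
  refine Cfsg.Agent.Solv.isNilpotent_of_fpf (φ := β) (fun x hx => ?_) hp (fun x => ?_)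
  · have h1 : b * (x : Γ) = x * b := by
      calc b * (x : Γ) = b * x * b⁻¹ * b := by group
        _ = x * b := by rw [← hβ, show β x = x from hx]
    refine Subtype.ext (hfix _ x.2.1 fun d hd => ?_)
    have hgen : zpowers c ⊔ zpowers b = A := by
      have hle : zpowers c ⊔ zpowers b ≤ A := sup_le (zpowers_le.2 hc) (zpowers_le.2 hb)
      refine eq_of_le_of_card_ge hle ?_
      obtain ⟨k, hk, hd⟩ := (Nat.dvd_prime_pow hp).1 (hcard ▸ card_dvd_of_le hle)
      have hlt : p < Nat.card (zpowers c ⊔ zpowers b : Subgroup Γ) := by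
        by_contra h
        push Not at h
        have := eq_of_le_of_card_ge (le_sup_left : zpowers c ≤ zpowers c ⊔ zpowers b)
          (by rw [Nat.card_zpowers, orderOf_eq_prime (hexp c hc) hc1]; exact h)
        exact hbc (this ▸ mem_sup_right (mem_zpowers b))
      rw [hd, hcard]
      rcases k with _ | _ | k
      · rw [hd, pow_zero] at hlt; have := hp.two_le; omega
      · rw [hd, pow_one] at hlt; omega
      · exact Nat.pow_le_pow_right hp.pos (by omega)
    have hle : A ≤ centralizer ({(x : Γ)} : Set Γ) := hgen ▸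
      sup_le (zpowers_le.2 (mem_centralizer_singleton_iff.2
          (mem_centralizer_singleton_iff.1 x.2.2).symm))
        (zpowers_le.2 (mem_centralizer_singleton_iff.2 h1))
    exact mem_centralizer_singleton_iff.1 (hle hd)
  · have key : ∀ n : ℕ, ((β^[n] x : L) : Γ) = b ^ n * x * (b ^ n)⁻¹ := by
      intro n
      induction n with
      | zero => simp
      | succ m ih => rw [Function.iterate_succ_apply', hβ, ih, pow_succ']; group
    apply Subtype.ext
    rw [key, hexp b hb]; group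

/-- Ward's theorem for an irreducible faithful action. -/
theorem action_nilpotent {Γ : Type u} [Group Γ] [Finite Γ] {V : Type*} [CommGroup V] [Finite V]
    (φ : Γ →* MulAut V) {p s : ℕ} [Fact p.Prime] [Fact s.Prime] (hV : IsPGroup s V)
    (G A : Subgroup Γ) [G.Normal] [IsMulCommutative A] (hexp : ∀ x ∈ A, x ^ p = 1)
    (hcard : Nat.card A = p ^ 2) (hcG : (Nat.card G).Coprime p)
    (hfix : ∀ y ∈ G, (∀ c ∈ A, c * y = y * c) → y = 1) (hsol : Group.IsSolvable G)
    (hf : ∀ y ∈ G, φ y = 1 → y = 1)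
    (hirr : ∀ K : Subgroup Γ, K.Normal → K ≤ G → IsPGroup s K → K = ⊥)
    (H : ∀ c ∈ A, c ≠ 1 → ∀ y ∈ G, (orderOf y).Coprime s → c * y = y * c →
      ∀ v, φ c v = v → φ y v = v) :
    Group.IsNilpotent G := by
  classical
  have hp : p.Prime := Fact.out
  have hcomm : ∀ x ∈ A, ∀ y ∈ A, x * y = y * x := fun x hx y hy =>
    congrArg Subtype.val (mul_comm' (⟨x, hx⟩ : A) ⟨y, hy⟩)
  have hcyc : ¬ IsCyclic A := by
    intro hc
    obtain ⟨g, hg⟩ := hc.exists_ofOrder_eq_natCard
    have h1 : orderOf g ∣ p := orderOf_dvd_of_pow_eq_one (Subtype.ext (hexp g g.2))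
    rw [hg, hcard] at h1
    have := Nat.le_of_dvd hp.pos h1
    have := hp.two_le
    nlinarith
  -- fixed subgroups of nontrivial elements of A are nilpotent
  have hnil : ∀ c ∈ A, c ≠ 1 → Group.IsNilpotent ↥(G ⊓ centralizer ({c} : Set Γ)) := by
    intro c hc hc1
    obtain ⟨b, hb, hbc⟩ : ∃ b ∈ A, b ∉ zpowers c := by
      by_contra hcon
      push Not at hcon
      have h1 := card_le_of_le (show A ≤ zpowers c from hcon)
      rw [Nat.card_zpowers, orderOf_eq_prime (hexp c hc) hc1, hcard] at h1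
      have := hp.two_le
      nlinarith
    exact nilpotent_centralizer G A hexp hcard hfix hc hc1 hb hbc
  by_contra hG
  -- a prime r element not centralizing O_q
  obtain ⟨q, r, hq, hr, hqr, x, ⟨k, hk⟩, z, hz, hxz⟩ : ∃ q r : ℕ, q.Prime ∧ r.Prime ∧ q ≠ r ∧
      ∃ x : G, (∃ k, orderOf x = r ^ k) ∧ ∃ z ∈ Cfsg.pCore q G, x * z ≠ z * x := by
    by_contra hcon
    push Not at hcon
    exact hG (isNilpotent_of_centralizes_pCore (fun q r hq hr hqr x hx => hcon q r hq hr hqr x hx))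
  haveI : Fact q.Prime := ⟨hq⟩
  haveI : Fact r.Prime := ⟨hr⟩
  haveI : (Cfsg.pCore q G).Characteristic := Cfsg.Agent.Solv.pCore_characteristic q G
  set Oq := (Cfsg.pCore q G).map G.subtype with hOq
  haveI hOn : Oq.Normal := ConjAct.normal_of_characteristic_of_normal
  have hOp : IsPGroup q Oq := (Cfsg.Agent.Solv.isPGroup_pCore q G).map _
  have hOG : Oq ≤ G := map_subtype_le _
  have hqs : q ≠ s := by
    rintro rfl
    have h := hirr Oq hOn hOG hOp
    rw [hOq, map_eq_bot_iff_of_injective _ G.subtype_injective] at h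
    rw [h, mem_bot] at hz
    exact hxz (by rw [hz]; simp)
  have hcA : (Nat.card A).Coprime (Nat.card G) := by rw [hcard]; exact hcG.symm.pow_left 2
  have hAn : A ≤ normalizer (G : Set Γ) := by rw [normalizer_eq_top (H := G)]; exact le_top
  obtain ⟨R0, hR0⟩ := Cfsg.Agent.Solv.exists_invariant_sylow A G hAn hcA
    (Or.inr hsol) r
  set R0' := (R0 : Subgroup G).map G.subtype with hR0'
  have hAOc : A ≤ normalizer ((centralizer (Oq : Set Γ)) : Set Γ) := by
    rw [normalizer_eq_top]; exact le_top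
  have hR0c : ¬ R0' ≤ centralizer (Oq : Set Γ) := by
    intro hle
    obtain ⟨P, hP⟩ := (IsPGroup.of_card (p := r) (G := zpowers x) (n := k)
      (by rw [Nat.card_zpowers, hk])).exists_le_sylow
    obtain ⟨g, hg⟩ := MulAction.exists_smul_eq G R0 P
    have hxP : x ∈ (P : Subgroup G) := hP (mem_zpowers x)
    rw [← hg, Sylow.coe_subgroup_smul, mem_pointwise_smul_iff_inv_smul_mem] at hxP
    have hx' : g⁻¹ * x * g ∈ (R0 : Subgroup G) := by simpa [MulAut.smul_def] using hxP
    have h1 : (g : Γ)⁻¹ * x * g ∈ centralizer (Oq : Set Γ) :=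
      hle ⟨_, hx', by simp⟩
    have h2 : (x : Γ) ∈ centralizer (Oq : Set Γ) := by
      have h3 := (inferInstance : (centralizer (Oq : Set Γ)).Normal).conj_mem _ h1 g
      rwa [show (g : Γ) * ((g : Γ)⁻¹ * x * g) * (g : Γ)⁻¹ = x by group] at h3
    have h4 := mem_centralizer_iff.1 h2 (z : Γ) ⟨z, hz, rfl⟩
    exact hxz (Subtype.ext h4.symm)
  have hR0G : R0' ≤ G := map_subtype_le _
  obtain ⟨a, ha, ha1, hR⟩ : ∃ a ∈ A, a ≠ 1 ∧
      ¬ R0' ⊓ centralizer ({a} : Set Γ) ≤ centralizer (Oq : Set Γ) := by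
    by_contra hcon
    push Not at hcon
    exact hR0c (Cfsg.Agent.Local.CoprimeGen.le_of_centralizers A R0' _ hcyc hR0
      (hcA.coprime_dvd_right (card_dvd_of_le hR0G)) hcon)
  set R := R0' ⊓ centralizer ({a} : Set Γ) with hRdef
  have hRG : R ≤ G := inf_le_left.trans hR0G
  have hRp : IsPGroup r R := (R0.isPGroup'.map G.subtype).to_le inf_le_left
  have haR : ∀ t ∈ R, a * t = t * a := fun t ht => (mem_centralizer_singleton_iff.1 ht.2).symm
  set Q := ⁅Oq, R⁆ with hQdef
  have hQO : Q ≤ Oq := commutator_le_left _ _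
  have hQG : Q ≤ G := hQO.trans hOG
  have hQne : Q ≠ ⊥ := by
    rw [hQdef, Ne, commutator_comm, commutator_eq_bot_iff_le_centralizer]
    exact hR
  have hQp : IsPGroup q Q := hOp.to_le hQO
  have hAR : A ≤ normalizer (R : Set Γ) := by
    intro c hc
    refine mem_normalizer_iff.2 fun t => ?_
    have hc' := mem_normalizer_iff.1 (hR0 hc) t
    have hca : Commute c a := hcomm c hc a ha
    constructor
    · rintro ⟨h1, h2⟩
      exact ⟨hc'.1 h1, mem_centralizer_singleton_iff.2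
        ((hca.mul_left (show Commute t a from mem_centralizer_singleton_iff.1 h2)).mul_left
          hca.inv_left).eq⟩
    · rintro ⟨h1, h2⟩
      refine ⟨hc'.2 h1, mem_centralizer_singleton_iff.2 ?_⟩
      have h3 : Commute (c⁻¹ * (c * t * c⁻¹) * c) a :=
        ((hca.inv_left.mul_left (show Commute _ a from mem_centralizer_singleton_iff.1 h2))).mul_left hca
      rwa [show c⁻¹ * (c * t * c⁻¹) * c = t by group] at h3
  have hOtop : ∀ g : Γ, g ∈ normalizer (Oq : Set Γ) := fun g => by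
    rw [normalizer_eq_top (H := Oq)]; exact mem_top g
  have hRQ : R ≤ normalizer (Q : Set Γ) := normalizer_commutator_ge_right _ _
  have hAQ : A ≤ normalizer (Q : Set Γ) := by
    intro c hc
    rw [mem_normalizer_iff_map_conj_eq, hQdef, map_commutator,
      mem_normalizer_iff_map_conj_eq.1 (hOtop c), mem_normalizer_iff_map_conj_eq.1 (hAR hc)]
  have hRsol : Group.IsSolvable R := by
    haveI := hRp.isNilpotent; infer_instance
  have hQR : Q ≤ ⁅Q, R⁆ := le_of_eq (Cfsg.Agent.Solv.commutator_commutator_eq R Oq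
    (fun t _ => hOtop t) (by
      obtain ⟨i, hi⟩ := (IsPGroup.iff_card (p := r)).1 hRp
      obtain ⟨j, hj⟩ := (IsPGroup.iff_card (p := q)).1 hOp
      rw [hi, hj]
      exact (((Nat.coprime_primes hr hq).2 hqr.symm).pow_left i).pow_right j) (Or.inl hRsol)).symm
  have hcQ : (Nat.card Q).Coprime p := hcG.coprime_dvd_left (card_dvd_of_le hQG)
  have hcR : (Nat.card R).Coprime p := hcG.coprime_dvd_left (card_dvd_of_le hRG)
  have hQs : (Nat.card Q).Coprime s := by
    obtain ⟨j, hj⟩ := (IsPGroup.iff_card (p := q)).1 hQp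
    rw [hj]; exact ((Nat.coprime_primes hq Fact.out).2 hqs).pow_left j
  have hcV : (Nat.card V).Coprime (Nat.card Q) := by
    obtain ⟨j, hj⟩ := (IsPGroup.iff_card (p := s)).1 hV
    rw [hj]; exact hQs.symm.pow_left j
  -- Q = [Q, a]
  have hQa : Q ≤ ⁅Q, zpowers a⁆ := by
    have hzn : zpowers a ≤ normalizer (Q : Set Γ) := zpowers_le.2 (hAQ ha)
    have hzc : (Nat.card (zpowers a)).Coprime (Nat.card Q) :=
      (hcA.coprime_dvd_left (card_dvd_of_le (zpowers_le.2 ha))).coprime_dvd_right (card_dvd_of_le hQG)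
    have hzs : Group.IsSolvable (zpowers a) := Group.isSolvable_of_comm fun u v => mul_comm' u v
    refine hQR.trans (commutator_le.2 fun y hy t ht => ?_)
    obtain ⟨u, hu, w, hw, rfl⟩ :=
      Cfsg.Agent.Solv.exists_commutator_mul_centralizer (zpowers a) Q hzn hzc (Or.inl hzs) hy
    have hwa : a * w = w * a := mem_centralizer_iff.1 hw.2 a (mem_zpowers a)
    have hwt : w * t = t * w := by
      haveI := hnil a ha ha1
      have h1 : w ∈ G ⊓ centralizer ({a} : Set Γ) :=
        ⟨hQG hw.1, mem_centralizer_singleton_iff.2 hwa.symm⟩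
      have h2 : t ∈ G ⊓ centralizer ({a} : Set Γ) := ⟨hRG ht, ht.2⟩
      refine congrArg Subtype.val (Cfsg.Agent.Solv.commute_of_coprime_orderOf_of_isNilpotent
        (hnil a ha ha1) (x := ⟨w, h1⟩) (g := ⟨t, h2⟩) ?_).eq
      rw [Subgroup.orderOf_mk, Subgroup.orderOf_mk]
      obtain ⟨i, hi⟩ := IsPGroup.iff_orderOf.1 hQp ⟨w, hw.1⟩
      obtain ⟨j, hj⟩ := IsPGroup.iff_orderOf.1 hRp ⟨t, ht⟩
      rw [Subgroup.orderOf_mk] at hi hj
      rw [hi, hj]
      exact (((Nat.coprime_primes hq hr).2 hqr).pow_left i).pow_right j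
    have e : ⁅u * w, t⁆ = u * (t * u⁻¹ * t⁻¹) := by
      rw [commutatorElement_def]
      calc u * w * t * (u * w)⁻¹ * t⁻¹ = u * (w * t) * w⁻¹ * u⁻¹ * t⁻¹ := by group
        _ = u * (t * w) * w⁻¹ * u⁻¹ * t⁻¹ := by rw [hwt]
        _ = u * (t * u⁻¹ * t⁻¹) := by group
    have htn : t ∈ normalizer ((⁅Q, zpowers a⁆ : Subgroup Γ) : Set Γ) := by
      rw [mem_normalizer_iff_map_conj_eq, map_commutator,
        mem_normalizer_iff_map_conj_eq.1 (hRQ ht), MonoidHom.map_zpowers]
      show ⁅Q, zpowers (t * a * t⁻¹)⁆ = _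
      rw [← haR t ht, mul_inv_cancel_right]
    rw [e]
    exact mul_mem hu ((mem_normalizer_iff.1 htn _).1 (inv_mem hu))
  refine hQne (module_core (φ := φ) A Q R hexp hcard hAQ hAR hRQ hQp hcV hcQ hcR
    (fun y hy => hfix y (hQG hy)) (fun y hy => hfix y (hRG hy)) ha ha1 haR hQa hQR
    (fun c hc hc1 y hy => H c hc hc1 y (hQG hy) ?_) (fun y hy => hf y (hQG hy)))
  exact hQs.coprime_dvd_left (Subgroup.orderOf_dvd_natCard _ hy)

/-- Ward's theorem inside an ambient group. -/
theorem exists_nilpotent_residual {p : ℕ} [Fact p.Prime] : ∀ (n : ℕ) (Γ : Type u) [Group Γ]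
    [Finite Γ] (G A : Subgroup Γ) [G.Normal] [IsMulCommutative A], Nat.card G ≤ n →
    (∀ x ∈ A, x ^ p = 1) → Nat.card A = p ^ 2 → (Nat.card G).Coprime p →
    (∀ y ∈ G, (∀ c ∈ A, c * y = y * c) → y = 1) → Group.IsSolvable G →
    ∃ k, Group.IsNilpotent ↥(G.lowerCentralSeries k) := by
  intro n
  induction n with
  | zero =>
    intro Γ _ _ G A _ _ hn
    have := Nat.card_pos (α := G)
    omega
  | succ n ih =>
  intro Γ _ _ G A _ _ hn hexp hcard hcG hfix hsol
  classical
  by_cases hG : G = ⊥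
  · refine ⟨0, ?_⟩
    rw [Subgroup.lowerCentralSeries_zero, hG]
    infer_instance
  have hp : p.Prime := Fact.out
  obtain ⟨V, hVn, hVG, hVne, hVmin⟩ := Cfsg.Agent.Solv.exists_minimal_normal_le (N := G) hG
  haveI := hVn
  haveI : Group.IsSolvable V := Cfsg.Agent.Solv.isSolvable_of_le hVG hsol
  obtain ⟨hVc, s, hs, hVs⟩ := Cfsg.Agent.Solv.minimal_normal_elementary V hVne hVmin
  haveI := hVc
  haveI : Fact s.Prime := ⟨hs⟩
  have hVp : IsPGroup s V := fun v => ⟨1, Subtype.ext (by simpa using hVs v v.2)⟩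
  have hcA : (Nat.card A).Coprime (Nat.card G) := by rw [hcard]; exact hcG.symm.pow_left 2
  have hAn : A ≤ normalizer (G : Set Γ) := by rw [normalizer_eq_top (H := G)]; exact le_top
  -- passing to quotients by normal subgroups inside G
  have quo : ∀ (M : Subgroup Γ) (_ : M.Normal), M ≤ G →
      (∀ x ∈ A.map (QuotientGroup.mk' M), x ^ p = 1) ∧
      Nat.card (A.map (QuotientGroup.mk' M)) = p ^ 2 ∧
      (Nat.card (G.map (QuotientGroup.mk' M))).Coprime p ∧
      (∀ y ∈ G.map (QuotientGroup.mk' M), (∀ c ∈ A.map (QuotientGroup.mk' M), c * y = y * c) → y = 1) ∧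
      Group.IsSolvable ↥(G.map (QuotientGroup.mk' M)) := by
    intro M hM hMG
    refine ⟨?_, ?_, hcG.coprime_dvd_left (card_map_dvd _ _), ?_, ?_⟩
    · rintro _ ⟨x, hx, rfl⟩
      rw [← map_pow, hexp x hx, map_one]
    · rw [← hcard]
      have hinj : Function.Injective ((QuotientGroup.mk' M).subgroupMap A) := by
        rw [← MonoidHom.ker_eq_bot_iff, eq_bot_iff_forall]
        intro x hx
        have h1 : (x : Γ) ∈ M :=
          (QuotientGroup.eq_one_iff _).1 (congrArg Subtype.val (MonoidHom.mem_ker.1 hx))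
        have h2 : (x : Γ) ∈ A ⊓ M := ⟨x.2, h1⟩
        rw [Cfsg.Agent.Solv.inf_eq_bot_of_coprime_card A M
          (hcA.coprime_dvd_right (card_dvd_of_le hMG)), mem_bot] at h2
        exact Subtype.ext h2
      exact (Nat.card_congr (Equiv.ofBijective _
        ⟨hinj, MonoidHom.subgroupMap_surjective _ A⟩)).symm
    · rintro _ ⟨g, hg, rfl⟩ hc
      obtain ⟨c, hcc, hcM⟩ := Cfsg.Agent.Solv.exists_centralizer_lift A G hAn hcA (Or.inr hsol) M
        hMG (by rw [normalizer_eq_top (H := M)]; exact le_top)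
        (by rw [normalizer_eq_top (H := M)]; exact le_top) g hg (fun a ha => by
          have h1 := hc _ ⟨a, ha, rfl⟩
          rw [← (QuotientGroup.eq_one_iff (N := M) _)]
          show QuotientGroup.mk' M (a * g * a⁻¹ * g⁻¹) = 1
          rw [map_mul, map_mul, map_mul, map_inv, map_inv, h1]
          group)
      have := hfix c hcc.1 (fun a ha => mem_centralizer_iff.1 hcc.2 a ha)
      rw [this, mul_one, inv_mem_iff] at hcM
      exact (QuotientGroup.eq_one_iff g).2 hcM
    · haveI := hsol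
      exact Group.isSolvable_of_surjective (MonoidHom.subgroupMap_surjective (QuotientGroup.mk' M) G)
  -- induction in Γ / V
  obtain ⟨k1, hk1⟩ : ∃ k, Group.IsNilpotent
      ↥((G.map (QuotientGroup.mk' V)).lowerCentralSeries k) := by
    obtain ⟨q1, q2, q3, q4, q5⟩ := quo V hVn hVG
    haveI : (G.map (QuotientGroup.mk' V)).Normal :=
      (inferInstance : G.Normal).map _ (QuotientGroup.mk'_surjective V)
    haveI : IsMulCommutative (A.map (QuotientGroup.mk' V)) := inferInstance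
    refine ih (Γ ⧸ V) _ _ ?_ q1 q2 q3 q4 q5
    have h1 : Nat.card (G.map (QuotientGroup.mk' V)) * Nat.card V = Nat.card G := by
      have h := ((QuotientGroup.mk' V).comp G.subtype).ker.card_mul_index
      rw [Subgroup.index_ker, MonoidHom.range_comp, range_subtype, ← MonoidHom.comap_ker,
        QuotientGroup.ker_mk', ← subgroupOf, Cfsg.Agent.Solv.card_subgroupOf hVG] at h
      rw [mul_comm]; exact h
    have hV2 : 2 ≤ Nat.card V := (one_lt_card_iff_ne_bot V).2 hVne
    nlinarith [Nat.card_pos (α := (G.map (QuotientGroup.mk' V)))]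
  -- the action on V
  set N := G ⊓ centralizer (V : Set Γ) with hN
  haveI hNn : N.Normal := inferInstance
  have hNker : N ≤ (MulAut.conjNormal (H := V)).ker := by
    intro g hg
    refine MonoidHom.mem_ker.2 (MulEquiv.ext fun v => Subtype.ext ?_)
    rw [MulAut.conjNormal_apply, ← mem_centralizer_iff.1 hg.2 v v.2, mul_inv_cancel_right]
    rfl
  obtain ⟨k2, hk2⟩ : ∃ k, G.lowerCentralSeries k ≤ N := by
    obtain ⟨q1, q2, q3, q4, q5⟩ := quo N hNn inf_le_left
    haveI : (G.map (QuotientGroup.mk' N)).Normal :=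
      (inferInstance : G.Normal).map _ (QuotientGroup.mk'_surjective N)
    letI : CommGroup V := { (inferInstance : Group V) with mul_comm := fun a b => mul_comm' a b }
    set ψ : Γ ⧸ N →* MulAut V := QuotientGroup.lift N (MulAut.conjNormal (H := V)) hNker with hψ
    have hψ' : ∀ g : Γ, ∀ v : V, ((ψ (QuotientGroup.mk' N g) v : V) : Γ) = g * v * g⁻¹ :=
      fun g v => by rw [hψ]; rfl
    have hfaith : ∀ y ∈ G.map (QuotientGroup.mk' N), ψ y = 1 → y = 1 := by
      rintro _ ⟨g, hg, rfl⟩ h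
      refine (QuotientGroup.eq_one_iff g).2 ⟨hg, mem_centralizer_iff.2 fun v hv => ?_⟩
      have h1 := hψ' g ⟨v, hv⟩
      rw [h] at h1
      calc v * g = g * v * g⁻¹ * g := by rw [← h1]; rfl
        _ = g * v := by group
    have hnil := action_nilpotent ψ hVp (G.map (QuotientGroup.mk' N)) (A.map (QuotientGroup.mk' N))
      q1 q2 q3 q4 q5 hfaith ?_ ?_
    · obtain ⟨k, hk⟩ := (isNilpotent_iff_lowerCentralSeries (S := G.map (QuotientGroup.mk' N))).1 hnil
      rw [← map_lowerCentralSeries, Subgroup.map_eq_bot_iff, QuotientGroup.ker_mk'] at hk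
      exact ⟨k, hk⟩
    · -- normal s-subgroups act trivially on the irreducible V
      intro K hK hKG hKs
      obtain ⟨w, hw1, hw⟩ := exists_fixed hKs (ψ.comp K.subtype) (by
        obtain ⟨j, hj⟩ := (IsPGroup.iff_card (p := s)).1 hVp
        rw [hj]
        refine dvd_pow_self s fun h0 => ?_
        rw [h0, pow_zero] at hj
        exact hVne (eq_bot_of_card_eq _ hj))
      let F : Subgroup Γ :=
        { carrier := {v | ∃ hv : v ∈ V, ∀ x ∈ K, ψ x ⟨v, hv⟩ = ⟨v, hv⟩}
          one_mem' := ⟨V.one_mem, fun x _ => map_one (ψ x)⟩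
          mul_mem' := by
            rintro a b ⟨ha, ha'⟩ ⟨hb, hb'⟩
            refine ⟨V.mul_mem ha hb, fun x hx => ?_⟩
            show ψ x (⟨a, ha⟩ * ⟨b, hb⟩) = _
            rw [map_mul, ha' x hx, hb' x hx]; rfl
          inv_mem' := by
            rintro a ⟨ha, ha'⟩
            refine ⟨V.inv_mem ha, fun x hx => ?_⟩
            show ψ x (⟨a, ha⟩⁻¹ : V) = _
            rw [map_inv, ha' x hx]; rfl }
      have hFn : F.Normal := ⟨by
        rintro v ⟨hv, hv'⟩ g
        refine ⟨hVn.conj_mem v hv g, fun x hx => ?_⟩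
        set gb := QuotientGroup.mk' N g with hgb
        have e : (⟨g * v * g⁻¹, hVn.conj_mem v hv g⟩ : V) = ψ gb ⟨v, hv⟩ := Subtype.ext (hψ' g ⟨v, hv⟩).symm
        rw [e, ← act_mul, show x * gb = gb * (gb⁻¹ * x * gb) by group, act_mul,
          hv' _ (by simpa using hK.conj_mem x hx gb⁻¹)]⟩
      rcases hVmin F hFn (fun v hv => hv.1) with h | h
      · exact absurd (Subtype.ext (mem_bot.1 (h ▸ (⟨w.2, fun x hx => hw ⟨x, hx⟩⟩ : (w : Γ) ∈ F)))) hw1
      · rw [eq_bot_iff]
        intro x hx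
        refine mem_bot.2 (hfaith x (hKG hx) (MulEquiv.ext fun v => ?_))
        obtain ⟨hv, hv'⟩ := (h.symm ▸ v.2 : (v : Γ) ∈ F)
        exact hv' x hx
    · rintro _ ⟨c, hc, rfl⟩ hc1 _ ⟨g, hg, rfl⟩ hgo hcg v hv
      have hc1' : c ≠ 1 := fun e => hc1 (by rw [e, map_one])
      obtain ⟨b, hb, hbc⟩ : ∃ b ∈ A, b ∉ zpowers c := by
        by_contra hcon
        push Not at hcon
        have h1 := card_le_of_le (show A ≤ zpowers c from hcon)
        rw [Nat.card_zpowers, orderOf_eq_prime (hexp c hc) hc1', hcard] at h1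
        have := hp.two_le
        nlinarith
      -- lift to the centralizer of c
      obtain ⟨d, hd, hdN⟩ := Cfsg.Agent.Solv.exists_centralizer_lift (zpowers c) G
        ((zpowers_le.2 hc).trans hAn) (hcA.coprime_dvd_left (card_dvd_of_le (zpowers_le.2 hc)))
        (Or.inr hsol) N inf_le_left (by rw [normalizer_eq_top (H := N)]; exact le_top)
        (by rw [normalizer_eq_top (H := N)]; exact le_top) g hg (fun a ha => by
          obtain ⟨i, rfl⟩ := mem_zpowers_iff.1 ha
          rw [← (QuotientGroup.eq_one_iff (N := N) _)]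
          show QuotientGroup.mk' N _ = 1
          rw [map_mul, map_mul, map_mul, map_inv, map_inv, map_zpow,
            ((show Commute (QuotientGroup.mk' N c) (QuotientGroup.mk' N g) from hcg).zpow_left i).eq]
          group)
      have hdg : QuotientGroup.mk' N d = QuotientGroup.mk' N g :=
        ((QuotientGroup.eq (s := N)).2 hdN).symm
      have hvc : c * (v : Γ) = v * c := by
        have h1 := hψ' c v
        rw [hv] at h1
        calc c * (v : Γ) = c * v * c⁻¹ * c := by group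
          _ = v * c := by rw [← h1]
      have hdc : d * c = c * d := (mem_centralizer_iff.1 hd.2 c (mem_zpowers c)).symm
      -- the s'-part of d commutes with v
      obtain ⟨e, m, hm, hdm⟩ : ∃ e m, ¬ s ∣ m ∧ orderOf d = s ^ e * m :=
        Nat.exists_eq_pow_mul_and_not_dvd (orderOf_pos d).ne' s hs.ne_one
      have hcom : d ^ (s ^ e) * v = v * d ^ (s ^ e) := by
        have h1 : d ^ (s ^ e) ∈ G ⊓ centralizer ({c} : Set Γ) :=
          ⟨pow_mem hd.1 _, pow_mem (mem_centralizer_singleton_iff.2 hdc) _⟩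
        have h2 : (v : Γ) ∈ G ⊓ centralizer ({c} : Set Γ) :=
          ⟨hVG v.2, mem_centralizer_singleton_iff.2 hvc.symm⟩
        have hnilc : Group.IsNilpotent ↥(G ⊓ centralizer ({c} : Set Γ)) :=
          nilpotent_centralizer G A hexp hcard hfix hc hc1' hb hbc
        refine congrArg Subtype.val (Cfsg.Agent.Solv.commute_of_coprime_orderOf_of_isNilpotent
          hnilc (x := ⟨_, h1⟩) (g := ⟨_, h2⟩) ?_).eq
        rw [Subgroup.orderOf_mk, Subgroup.orderOf_mk,
          orderOf_pow_of_dvd (pow_ne_zero _ hs.ne_zero) (hdm ▸ dvd_mul_right _ m), hdm,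
          Nat.mul_div_cancel_left _ (pow_pos hs.pos e)]
        exact ((hs.coprime_iff_not_dvd).2 hm).symm.coprime_dvd_right
          (orderOf_dvd_of_pow_eq_one (hVs v v.2))
      let St : Subgroup (Γ ⧸ N) :=
        { carrier := {y | ψ y v = v}
          one_mem' := by show ψ 1 v = v; rw [map_one]; rfl
          mul_mem' := fun {a b} ha hb => by
            show ψ (a * b) v = v
            rw [act_mul, show ψ b v = v from hb]; exact ha
          inv_mem' := fun {a} ha => by
            show ψ a⁻¹ v = v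
            conv_lhs => rw [← (show ψ a v = v from ha)]
            rw [← act_mul, inv_mul_cancel, map_one]; rfl }
      have hpow : (QuotientGroup.mk' N g) ^ (s ^ e) ∈ St := by
        show ψ _ v = v
        apply Subtype.ext
        rw [← hdg, ← map_pow, hψ', hcom, mul_inv_cancel_right]
      obtain ⟨j, hj⟩ := exists_pow_eq_self_of_coprime (x := QuotientGroup.mk' N g) (n := s ^ e)
        ((hgo.pow_right e).symm)
      exact hj ▸ pow_mem hpow j
  -- the residual centralizes V, so it is nilpotent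
  set k := max k1 k2
  refine ⟨k, ?_⟩
  set L := G.lowerCentralSeries k
  have hLN : L ≤ N := (Subgroup.lowerCentralSeries_antitone G (le_max_right k1 k2)).trans hk2
  have hL1 : L.map (QuotientGroup.mk' V) ≤ (G.map (QuotientGroup.mk' V)).lowerCentralSeries k1 := by
    rw [← map_lowerCentralSeries]
    exact map_mono (Subgroup.lowerCentralSeries_antitone G (le_max_left k1 k2))
  let f : L →* ↥((G.map (QuotientGroup.mk' V)).lowerCentralSeries k1) :=
    ((QuotientGroup.mk' V).comp L.subtype).codRestrict _ fun x => hL1 ⟨x, x.2, rfl⟩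
  haveI := hk1
  refine Subgroup.isNilpotent_of_ker_le_center f (fun x hx => ?_)
  · rw [Subgroup.mem_center_iff]
    intro y
    have hxV : (x : Γ) ∈ V :=
      (QuotientGroup.eq_one_iff _).1 (congrArg Subtype.val (MonoidHom.mem_ker.1 hx))
    exact Subtype.ext (mem_centralizer_iff.1 (hLN y.2).2 x hxV).symm

end Cfsg.Agent.Struct.Ward
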